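import Cfsg.Agent.PF.Grid

/-!
# Linear characters, annihilators
-/

set_option autoImplicit false
set_option linter.unusedSectionVars false

namespace Cfsg.Agent.PF

open Cfsg Cfsg.Agent.Char Cfsg.Agent.GT
open scoped ComplexConjugate

universe u v

variable {W : Type u} [Group W]

/-- a linear character as a complex valued function -/
abbrev lc (ω : W →* ℂˣ) : W → ℂ := fun w => (ω w : ℂ)

theorem lmul_one (a : W →* ℂˣ) : a * 1 = a := mul_one a

theorem lone_mul (a : W →* ℂˣ) : 1 * a = a := one_mul a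

theorem lmul_assoc (a b c : W →* ℂˣ) : a * b * c = a * (b * c) := mul_assoc a b c

theorem lmul_comm (a b : W →* ℂˣ) : a * b = b * a := mul_comm a b

theorem lmul_inv_cancel (a : W →* ℂˣ) : a * a⁻¹ = 1 := mul_inv_cancel a

theorem linv_mul_cancel (a : W →* ℂˣ) : a⁻¹ * a = 1 := inv_mul_cancel a

theorem linv_inv (a : W →* ℂˣ) : a⁻¹⁻¹ = a := inv_inv a

theorem linv_one : (1 : W →* ℂˣ)⁻¹ = 1 := @inv_one (W →* ℂˣ) _

theorem lmul_inv (a b : W →* ℂˣ) : (a * b)⁻¹ = a⁻¹ * b⁻¹ := mul_inv a b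

theorem linv_eq_one {a : W →* ℂˣ} : a⁻¹ = 1 ↔ a = 1 := @inv_eq_one (W →* ℂˣ) _ a

theorem linv_inj {a b : W →* ℂˣ} : a⁻¹ = b⁻¹ ↔ a = b := @inv_inj (W →* ℂˣ) _ a b

theorem lmul_left_cancel {a b c : W →* ℂˣ} : a * b = a * c ↔ b = c := mul_right_inj a

theorem lmul_right_cancel {a b c : W →* ℂˣ} : b * a = c * a ↔ b = c := mul_left_inj a

theorem lmul_inv_cancel_right (a b : W →* ℂˣ) : a * b * b⁻¹ = a := mul_inv_cancel_right a b

theorem linv_mul_cancel_right (a b : W →* ℂˣ) : a * b⁻¹ * b = a := inv_mul_cancel_right a b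

theorem lc_mul (ω ω' : W →* ℂˣ) : lc (ω * ω') = lc ω * lc ω' := by
  funext w; simp [lc]

theorem lc_one : lc (1 : W →* ℂˣ) = fun _ => 1 := by funext w; simp [lc]

theorem lc_apply_one (ω : W →* ℂˣ) : lc ω 1 = 1 := by simp [lc]

theorem lc_irr (ω : W →* ℂˣ) : IsIrrCharacter W (lc ω) := isIrrCharacter_unitsHom ω

theorem lc_virt (ω : W →* ℂˣ) : IsGeneralizedCharacter W (lc ω) := (lc_irr ω).virt

theorem lc_class (ω : W →* ℂˣ) : IsClassFunction W (lc ω) := (lc_irr ω).isClassFunction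

theorem lc_injective : Function.Injective (lc : (W →* ℂˣ) → W → ℂ) := by
  intro a b h
  ext w
  exact congrFun h w

theorem lc_inv [Finite W] (ω : W →* ℂˣ) : lc ω⁻¹ = conjFun (lc ω) := by
  funext w; exact (conj_unitsHom ω w).symm

instance finite_linChar [Finite W] : Finite (W →* ℂˣ) := by
  have := finite_irrCharacter (G := W)
  exact Finite.of_injective (fun ω => (⟨lc ω, lc_irr ω⟩ : IrrCharacter W))
    (fun a b h => lc_injective (congrArg Subtype.val h))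

theorem ci_lc [Fintype W] (ω ω' : W →* ℂˣ) [Decidable (ω = ω')] :
    ⟪lc ω, lc ω'⟫ = if ω = ω' then 1 else 0 := by
  split_ifs with h
  · rw [h, (lc_irr ω').ci_self]
  · exact (lc_irr ω).ci_of_ne (lc_irr ω') (fun e => h (lc_injective e))

theorem ci_lc_of_ne [Fintype W] {ω ω' : W →* ℂˣ} (h : ω ≠ ω') : ⟪lc ω, lc ω'⟫ = 0 := by
  classical rw [ci_lc, if_neg h]

theorem ci_lc_self [Fintype W] (ω : W →* ℂˣ) : ⟪lc ω, lc ω⟫ = 1 := (lc_irr ω).ci_self

/-- the Galois conjugate of a linear character -/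
def lcMap (σ : ℂ →+* ℂ) (ω : W →* ℂˣ) : W →* ℂˣ := (Units.map (σ : ℂ →* ℂ)).comp ω

theorem lc_lcMap (σ : ℂ →+* ℂ) (ω : W →* ℂˣ) : lc (lcMap σ ω) = fun w => σ (lc ω w) := rfl

/-- the linear characters trivial on `N` -/
def Ann (N : Subgroup W) : Subgroup (W →* ℂˣ) where
  carrier := {ω | ∀ w ∈ N, ω w = 1}
  one_mem' _ _ := rfl
  mul_mem' {a b} ha hb w hw := by rw [MonoidHom.mul_apply, ha w hw, hb w hw, one_mul]
  inv_mem' {a} ha w hw := by rw [MonoidHom.inv_apply, ha w hw, inv_one]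

theorem mem_Ann {N : Subgroup W} {ω : W →* ℂˣ} : ω ∈ Ann N ↔ ∀ w ∈ N, ω w = 1 := Iff.rfl

theorem mem_Ann_iff_le_ker {N : Subgroup W} {ω : W →* ℂˣ} : ω ∈ Ann N ↔ N ≤ ω.ker := Iff.rfl

theorem Ann_bot : Ann (⊥ : Subgroup W) = ⊤ := by
  ext ω; simp [mem_Ann]

theorem Ann_top : Ann (⊤ : Subgroup W) = ⊥ := by
  ext ω
  simp only [mem_Ann, Subgroup.mem_top, forall_true_left, Subgroup.mem_bot]
  exact ⟨fun h => MonoidHom.ext h, fun h w => by rw [h]; rfl⟩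

theorem Ann_sup (N M : Subgroup W) : Ann (N ⊔ M) = Ann N ⊓ Ann M := by
  ext ω; simp [mem_Ann_iff_le_ker]

theorem Ann_anti {N M : Subgroup W} (h : N ≤ M) : Ann M ≤ Ann N := fun _ hω w hw => hω w (h hw)

theorem eq_one_of_mem_Ann {W₁ W₂ : Subgroup W} (hsup : W₁ ⊔ W₂ = ⊤) {ω : W →* ℂˣ}
    (h₁ : ω ∈ Ann W₁) (h₂ : ω ∈ Ann W₂) : ω = 1 := by
  have : ω ∈ Ann (W₁ ⊔ W₂) := by rw [Ann_sup]; exact ⟨h₁, h₂⟩
  rwa [hsup, Ann_top, Subgroup.mem_bot] at this

theorem mul_eq_mul_iff_Ann {W₁ W₂ : Subgroup W} (hsup : W₁ ⊔ W₂ = ⊤) {φ φ' ψ ψ' : W →* ℂˣ}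
    (hφ : φ ∈ Ann W₂) (hφ' : φ' ∈ Ann W₂) (hψ : ψ ∈ Ann W₁) (hψ' : ψ' ∈ Ann W₁) :
    φ * ψ = φ' * ψ' ↔ φ = φ' ∧ ψ = ψ' := by
  refine ⟨fun h => ?_, fun h => by rw [h.1, h.2]⟩
  have e : φ'⁻¹ * φ = ψ' * ψ⁻¹ := MonoidHom.ext (fun w => by
    have := DFunLike.congr_fun h w
    simp only [MonoidHom.mul_apply, MonoidHom.inv_apply] at this ⊢
    rw [inv_mul_eq_iff_eq_mul, ← mul_assoc, ← this, mul_inv_cancel_right])
  have h1 := eq_one_of_mem_Ann hsup (e ▸ mul_mem hψ' (inv_mem hψ)) (mul_mem (inv_mem hφ') hφ)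
  have h2 := (inv_mul_eq_one (G := W →* ℂˣ)).1 h1
  subst h2
  exact ⟨rfl, mul_left_cancel h⟩

theorem lcMap_mem_Ann {N : Subgroup W} (σ : ℂ →+* ℂ) {ω : W →* ℂˣ} (h : ω ∈ Ann N) :
    lcMap σ ω ∈ Ann N := fun w hw => by
  change Units.map _ (ω w) = 1
  rw [h w hw, map_one]

section comm

variable [Finite W] [IsMulCommutative W]

theorem IrrKer_eq_image (N : Subgroup W) [Fintype (Ann N)] [DecidableEq (W → ℂ)] :
    IrrKer N = Finset.univ.image (fun ω : Ann N => lc ω.1) := by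
  ext χ
  simp only [mem_IrrKer, Finset.mem_image, Finset.mem_univ, true_and]
  constructor
  · rintro ⟨h1, h2⟩
    obtain ⟨ω, rfl⟩ := h1.exists_hom_of_comm
    refine ⟨⟨ω, fun w hw => ?_⟩, rfl⟩
    have := h2 w hw
    simpa using this
  · rintro ⟨ω, rfl⟩
    exact ⟨lc_irr _, fun n hn => by simp [lc, ω.2 n hn]⟩

theorem sum_Ann (N : Subgroup W) [Fintype (Ann N)] (w : W) [Decidable (w ∈ N)] :
    ∑ ω : Ann N, lc ω.1 w = if w ∈ N then (N.index : ℂ) else 0 := by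
  classical
  have : N.Normal := inferInstance
  rw [← sum_irr_ker_degree_mul N w, IrrKer_eq_image,
    Finset.sum_image (fun a _ b _ h => Subtype.ext (lc_injective h))]
  simp [lc]

theorem card_Ann (N : Subgroup W) : Nat.card (Ann N) = N.index := by
  classical
  have := Fintype.ofFinite (Ann N)
  have h := sum_Ann N 1
  rw [if_pos (one_mem _)] at h
  simp only [lc_apply_one, Finset.sum_const, Finset.card_univ, nsmul_eq_mul, mul_one] at h
  rw [Nat.card_eq_fintype_card]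
  exact_mod_cast h

theorem card_linChar (W : Type u) [Group W] [Finite W] [IsMulCommutative W] :
    Nat.card (W →* ℂˣ) = Nat.card W := by
  have := card_Ann (⊥ : Subgroup W)
  rwa [Ann_bot, Subgroup.card_top, Subgroup.index_bot] at this

theorem exists_Ann_apply_ne {N : Subgroup W} {w : W} (hw : w ∉ N) : ∃ ω ∈ Ann N, ω w ≠ 1 := by
  classical
  have := Fintype.ofFinite (Ann N)
  by_contra h
  push Not at h
  have h1 := sum_Ann N w
  rw [if_neg hw, Finset.sum_congr rfl (fun (ω : Ann N) _ => show lc ω.1 w = 1 by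
    simp [lc, h ω.1 ω.2])] at h1
  simp at h1

theorem Irr_eq_image [Fintype (W →* ℂˣ)] [DecidableEq (W → ℂ)] :
    Irr W = Finset.univ.image (lc : (W →* ℂˣ) → W → ℂ) := by
  ext χ
  simp only [mem_Irr, Finset.mem_image, Finset.mem_univ, true_and]
  exact ⟨fun h => h.exists_hom_of_comm.imp (fun _ h => h.symm), fun ⟨ω, h⟩ => h ▸ lc_irr ω⟩

theorem eq_sum_lc {W : Type u} [Group W] [Fintype W] [IsMulCommutative W] [Fintype (W →* ℂˣ)]
    (f : W → ℂ) : f = ∑ ω : W →* ℂˣ, ⟪f, lc ω⟫ • lc ω := by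
  classical
  conv_lhs => rw [(isClassFunction_of_comm f).eq_sum_irr, Irr_eq_image,
    Finset.sum_image (fun a _ b _ h => lc_injective h)]

theorem annMul_bijective {W₁ W₂ : Subgroup W} (hinf : W₁ ⊓ W₂ = ⊥) (hsup : W₁ ⊔ W₂ = ⊤) :
    Function.Bijective (fun p : Ann W₂ × Ann W₁ => p.1.1 * p.2.1) := by
  classical
  have := Fintype.ofFinite (Ann W₁)
  have := Fintype.ofFinite (Ann W₂)
  have := Fintype.ofFinite (W →* ℂˣ)
  refine (Fintype.bijective_iff_injective_and_card _).2 ⟨?_, ?_⟩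
  · rintro ⟨φ, ψ⟩ ⟨φ', ψ'⟩ h
    obtain ⟨h1, h2⟩ := (mul_eq_mul_iff_Ann hsup φ.2 φ'.2 ψ.2 ψ'.2).1 h
    exact Prod.ext (Subtype.ext h1) (Subtype.ext h2)
  · have hc := isComplIn_of_norm (Or.inl le_norm_of_normal) hinf hsup
    rw [Fintype.card_prod, ← Nat.card_eq_fintype_card, ← Nat.card_eq_fintype_card,
      ← Nat.card_eq_fintype_card, card_Ann, card_Ann, card_linChar,
      ← Subgroup.relIndex_top_right, ← Subgroup.relIndex_top_right, hc.relIndex_left,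
      hc.relIndex_right, hc.card_mul, Subgroup.card_top]

theorem exists_Ann_mul {W₁ W₂ : Subgroup W} (hinf : W₁ ⊓ W₂ = ⊥) (hsup : W₁ ⊔ W₂ = ⊤)
    (ω : W →* ℂˣ) : ∃ φ ∈ Ann W₂, ∃ ψ ∈ Ann W₁, ω = φ * ψ := by
  obtain ⟨⟨φ, ψ⟩, h⟩ := (annMul_bijective hinf hsup).2 ω
  exact ⟨φ, φ.2, ψ, ψ.2, h.symm⟩

theorem card_Ann_of_compl {W₁ W₂ : Subgroup W} (hinf : W₁ ⊓ W₂ = ⊥) (hsup : W₁ ⊔ W₂ = ⊤) :
    Nat.card (Ann W₂) = Nat.card W₁ := by
  have hc := isComplIn_of_norm (Or.inl le_norm_of_normal) hinf hsup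
  rw [card_Ann, ← Subgroup.relIndex_top_right, hc.relIndex_right]

end comm

theorem mem_of_pow_card_eq_one [Finite W] [IsCyclic W] {N : Subgroup W} {x : W}
    (hx : x ^ Nat.card N = 1) : x ∈ N := by
  classical
  have := Fintype.ofFinite W
  have h1 := IsCyclic.card_pow_eq_one_le (α := W) (n := Nat.card N) Nat.card_pos
  have h2 : Finset.univ.filter (· ∈ N) ⊆ Finset.univ.filter (fun a : W => a ^ Nat.card N = 1) := by
    intro a ha
    rw [Finset.mem_filter] at ha ⊢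
    exact ⟨ha.1, orderOf_dvd_iff_pow_eq_one.1 (orderOf_dvd_card_of_mem ha.2)⟩
  have h3 : (Finset.univ.filter (· ∈ N)).card = Nat.card N := by
    rw [← Nat.card_eq_finsetCard]
    exact Nat.card_congr (Equiv.subtypeEquivRight (by simp))
  have h4 := Finset.eq_of_subset_of_card_le h2 (by rw [h3]; exact h1)
  have : x ∈ Finset.univ.filter (· ∈ N) := by
    rw [h4]; exact Finset.mem_filter.2 ⟨Finset.mem_univ _, hx⟩
  exact (Finset.mem_filter.1 this).2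

theorem mem_of_orderOf_dvd_card [Finite W] [IsCyclic W] {N : Subgroup W} {x : W}
    (hx : orderOf x ∣ Nat.card N) : x ∈ N :=
  mem_of_pow_card_eq_one (orderOf_dvd_iff_pow_eq_one.1 hx)

theorem coprime_card_of_isCyclic [Finite W] [IsCyclic W] {W₁ W₂ : Subgroup W}
    (h : W₁ ⊓ W₂ = ⊥) : Nat.Coprime (Nat.card W₁) (Nat.card W₂) := by
  refine Nat.coprime_of_dvd (fun p hp h1 h2 => ?_)
  obtain ⟨x, hx, hxp⟩ := exists_mem_orderOf_eq hp h1
  have : x ∈ W₁ ⊓ W₂ := ⟨hx, mem_of_orderOf_dvd_card (hxp ▸ h2)⟩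
  rw [h, Subgroup.mem_bot] at this
  rw [this, orderOf_one] at hxp
  exact hp.one_lt.ne hxp

/-- Odd order: a nontrivial linear character is not real. -/
theorem inv_ne_self_of_odd [Finite W] (hodd : Odd (Nat.card W)) {ω : W →* ℂˣ} (h : ω ≠ 1) :
    ω⁻¹ ≠ ω := by
  intro e
  apply h
  apply lc_injective
  rw [lc_one]
  exact (lc_irr ω).eq_one_of_odd_of_real hodd (by rw [← lc_inv, e])

end Cfsg.Agent.PF
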