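import Cfsg.Agent.PF.S14

set_option autoImplicit false

namespace Cfsg.Agent.PF

open Subgroup Cfsg.Agent.GT

universe u

theorem odd_order_solvable_aux (n : ℕ) : ∀ (G : Type u) [Group G] [Finite G], Nat.card G = n →
    Odd (Nat.card G) → Group.IsSolvable G := by
  induction n using Nat.strong_induction_on with
  | _ n ih =>
    intro G _ _ hn ho
    by_contra hs
    have hsub : ∀ H : Subgroup G, H ≠ ⊤ → Group.IsSolvable H := fun H hH =>
      ih _ (hn ▸ lt_of_le_of_ne (Nat.le_of_dvd Nat.card_pos (card_subgroup_dvd_card H))
        fun e => hH (eq_top_of_card_eq H e)) H rfl (ho.of_dvd_nat (card_subgroup_dvd_card H))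
    have hnt : Nontrivial G := by
      by_contra h
      rw [not_nontrivial_iff_subsingleton] at h
      exact hs inferInstance
    refine no_minSimple_odd_group (G := G) ⟨ho, ⟨fun N hN => ?_⟩, fun hc => hs (Group.isSolvable_of_comm hc.is_comm.comm), hsub⟩
    by_contra h
    push Not at h
    have h1 := hsub N h.2
    have h2 : Group.IsSolvable (G ⧸ N) := by
      refine ih _ (hn ▸ ?_) (G ⧸ N) rfl (ho.of_dvd_nat (card_quotient_dvd_card N))
      have h3 := (one_lt_card_iff_ne_bot N).2 h.1
      have h4 : 0 < Nat.card (G ⧸ N) := Nat.card_pos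
      rw [card_eq_card_quotient_mul_card_subgroup N]
      nlinarith
    exact hs (Group.isSolvable_of_ker_le_range N.subtype (QuotientGroup.mk' N) (by simp))

/-- the odd order theorem -/
theorem odd_order_solvable {G : Type u} [Group G] [Finite G] (h : Odd (Nat.card G)) :
    Group.IsSolvable G := odd_order_solvable_aux _ G rfl h

end Cfsg.Agent.PF
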