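import Cfsg.Agent.PF.Coherence

/-!
# Peterfalvi §5: coherence systems, (5.3.a)–(5.7); Feit's criterion
-/

set_option autoImplicit false
set_option linter.unusedSectionVars false

namespace Cfsg.Agent.PF

open Cfsg Cfsg.Agent.Char Cfsg.Agent.GT
open scoped ComplexConjugate

universe u v

variable {L : Type u} [Group L] [Fintype L] {G : Type v} [Group G] [Fintype G]
variable {S S₁ S₂ : Set (L → ℂ)} {τ : (L → ℂ) → (G → ℂ)} {ν ν₁ ν₂ : (L → ℂ) →ₗ[ℂ] (G → ℂ)}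
  {R : (L → ℂ) → Finset (G → ℂ)}

theorem _root_.Cfsg.IsCoherenceSystem.virt (h : IsCoherenceSystem S τ R) {χ : L → ℂ}
    (hχ : χ ∈ S) : IsGeneralizedCharacter L χ := (h.isCharacter χ hχ).virt

theorem _root_.Cfsg.IsCoherenceSystem.virt_zspan (h : IsCoherenceSystem S τ R) {χ : L → ℂ}
    (hχ : χ ∈ zspan S) : IsGeneralizedCharacter L χ := virt_of_mem_zspan (fun _ => h.virt) hχ

theorem _root_.Cfsg.IsCoherenceSystem.ne_zero (h : IsCoherenceSystem S τ R) {χ : L → ℂ}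
    (hχ : χ ∈ S) : χ ≠ 0 := by
  rintro rfl
  exact h.conj_ne 0 hχ conjFun_zero

theorem _root_.Cfsg.IsCoherenceSystem.apply_one_ne_zero (h : IsCoherenceSystem S τ R)
    {χ : L → ℂ} (hχ : χ ∈ S) : χ 1 ≠ 0 :=
  fun h0 => h.ne_zero hχ ((h.isCharacter χ hχ).eq_zero_of_degree h0)

theorem _root_.Cfsg.IsCoherenceSystem.exists_degree (h : IsCoherenceSystem S τ R)
    {χ : L → ℂ} (hχ : χ ∈ S) : ∃ d : ℕ, 0 < d ∧ χ 1 = d := by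
  obtain ⟨d, hd⟩ := (h.isCharacter χ hχ).exists_degree
  refine ⟨d, Nat.pos_of_ne_zero ?_, hd⟩
  rintro rfl
  exact h.apply_one_ne_zero hχ (by simpa using hd)

theorem _root_.Cfsg.IsCoherenceSystem.ci_conj (h : IsCoherenceSystem S τ R) {χ : L → ℂ}
    (hχ : χ ∈ S) : ⟪χ, conjFun χ⟫ = 0 :=
  h.orthogonal χ hχ _ (h.conj_mem χ hχ) (h.conj_ne χ hχ).symm

theorem _root_.Cfsg.IsCoherenceSystem.conj_one (h : IsCoherenceSystem S τ R) {χ : L → ℂ}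
    (hχ : χ ∈ S) : conjFun χ 1 = χ 1 := (h.isCharacter χ hχ).conj_one

theorem sub_conj_mem {χ : L → ℂ} (hχ : χ ∈ zspan S) (hχ' : conjFun χ ∈ zspan S)
    (hv : IsGeneralizedCharacter L χ) : χ - conjFun χ ∈ zspanOn S {1}ᶜ :=
  sub_mem_zspanOn_one hχ hχ' hv.conj_one.symm

theorem _root_.Cfsg.IsCoherenceSystem.sub_conj_mem (h : IsCoherenceSystem S τ R) {χ : L → ℂ}
    (hχ : χ ∈ S) : χ - conjFun χ ∈ zspanOn S {1}ᶜ :=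
  PF.sub_conj_mem (mem_zspan_of_mem hχ) (mem_zspan_of_mem (h.conj_mem χ hχ)) (h.virt hχ)

theorem _root_.Cfsg.IsCoherenceSystem.sub_conj_ne_zero (h : IsCoherenceSystem S τ R)
    {χ : L → ℂ} (hχ : χ ∈ S) : χ - conjFun χ ≠ 0 := sub_ne_zero.2 (h.conj_ne χ hχ).symm

theorem _root_.Cfsg.IsCoherenceSystem.exists_ne_zero (h : IsCoherenceSystem S τ R)
    (hS₁ : S₁ ⊆ S) {χ : L → ℂ} (hχ : χ ∈ S₁) (hχ' : conjFun χ ∈ S₁) :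
    ∃ α ∈ zspanOn S₁ {1}ᶜ, α ≠ 0 :=
  ⟨_, PF.sub_conj_mem (mem_zspan_of_mem hχ) (mem_zspan_of_mem hχ') (h.virt (hS₁ hχ)),
    h.sub_conj_ne_zero (hS₁ hχ)⟩

theorem _root_.Cfsg.IsCoherenceSystem.congr (h : IsCoherenceSystem S τ R)
    {τ' : (L → ℂ) → (G → ℂ)} (hiso : IsLinearIsometryOn (zspanOn S {1}ᶜ) τ')
    (h' : ∀ α ∈ zspanOn S {1}ᶜ, τ' α = τ α) : IsCoherenceSystem S τ' R where
  nonempty := h.nonempty
  isCharacter := h.isCharacter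
  conj_mem := h.conj_mem
  conj_ne := h.conj_ne
  isometry := hiso
  map_one α hα := by rw [h' α hα]; exact h.map_one α hα
  orthogonal := h.orthogonal
  orthonormal := h.orthonormal
  virtual := h.virtual
  sum_eq χ hχ := by rw [h' _ (h.sub_conj_mem hχ)]; exact h.sum_eq χ hχ
  disjoint := h.disjoint

theorem _root_.Cfsg.IsCoherenceSystem.exists_linear (h : IsCoherenceSystem S τ R) :
    ∃ T : (L → ℂ) →ₗ[ℂ] (G → ℂ), IsCoherenceSystem S T R ∧ ∀ α ∈ zspanOn S {1}ᶜ, T α = τ α := by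
  obtain ⟨T, hT⟩ := h.isometry.exists_linearMap
  exact ⟨T, h.congr (h.isometry.congr_linear hT) hT, hT⟩

theorem _root_.Cfsg.IsCoherenceSystem.subset (h : IsCoherenceSystem S τ R) (hS₁ : S₁ ⊆ S)
    (hne : S₁.Nonempty) (hc : ∀ χ ∈ S₁, conjFun χ ∈ S₁) : IsCoherenceSystem S₁ τ R where
  nonempty := hne
  isCharacter χ hχ := h.isCharacter χ (hS₁ hχ)
  conj_mem := hc
  conj_ne χ hχ := h.conj_ne χ (hS₁ hχ)
  isometry := h.isometry.mono (zspanOn_mono hS₁ _)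
  map_one α hα := h.map_one α (zspanOn_mono hS₁ _ hα)
  orthogonal χ hχ φ hφ := h.orthogonal χ (hS₁ hχ) φ (hS₁ hφ)
  orthonormal χ hχ := h.orthonormal χ (hS₁ hχ)
  virtual χ hχ := h.virtual χ (hS₁ hχ)
  sum_eq χ hχ := h.sum_eq χ (hS₁ hχ)
  disjoint χ hχ φ hφ := h.disjoint χ (hS₁ hχ) φ (hS₁ hφ)

theorem _root_.Cfsg.IsCoherenceSystem.finite (h : IsCoherenceSystem S τ R) : S.Finite := by
  have := linearIndependent_of_orth (G := L) (fun χ : S => (χ : L → ℂ))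
    (fun χ => h.ne_zero χ.2) (fun χ φ hne => h.orthogonal _ χ.2 _ φ.2 (fun e => hne (Subtype.ext e)))
  exact Set.finite_coe_iff.1 this.finite

theorem _root_.Cfsg.IsCoherenceSystem.orth_R (h : IsCoherenceSystem S τ R) {χ φ : L → ℂ}
    (hχ : χ ∈ S) (hφ : φ ∈ S) (h1 : φ ≠ χ) (h2 : φ ≠ conjFun χ) :
    ∀ α ∈ R φ, ∀ β ∈ R χ, ⟪α, β⟫ = 0 :=
  h.disjoint χ hχ φ hφ (h.orthogonal φ hφ χ hχ h1) (h.orthogonal φ hφ _ (h.conj_mem χ hχ) h2)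

theorem _root_.Cfsg.IsCoherenceSystem.card_R (h : IsCoherenceSystem S τ R) {χ : L → ℂ}
    (hχ : χ ∈ S) : ((R χ).card : ℝ) = 2 * nsq χ := by
  classical
  have := h.isometry.nsq_eq (h.sub_conj_mem hχ)
  rw [h.sum_eq χ hχ, nsq_sum_orthonormal (by convert h.orthonormal χ hχ),
    nsq_sub_of_orth (h.ci_conj hχ), nsq_conjFun] at this
  linarith

theorem _root_.Cfsg.IsCoherenceSystem.isSIrr_R (h : IsCoherenceSystem S τ R) {χ : L → ℂ}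
    (hχ : χ ∈ S) {α : G → ℂ} (hα : α ∈ R χ) : IsSIrr G α :=
  (h.virtual χ hχ α hα).isSIrr_of_ci_self (by rw [h.orthonormal χ hχ α hα α hα, if_pos rfl])

/-- vector form of (5.4.b)/(5.5) -/
theorem _root_.Cfsg.IsCoherenceSystem.exists_eq_sum (h : IsCoherenceSystem S τ R) {χ : L → ℂ}
    (hχ : χ ∈ S) {β : G → ℂ} (hβ : IsGeneralizedCharacter G β)
    (h1 : ⟪β, τ (χ - conjFun χ)⟫ = ⟪χ, χ⟫) (h2 : nsq β ≤ nsq χ) :
    ∃ E ⊆ R χ, β = ∑ α ∈ E, α ∧ (E.card : ℝ) = nsq χ := by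
  classical
  rw [h.sum_eq χ hχ, ci_self] at h1
  exact exists_eq_sum_subset (h.virtual χ hχ) (by convert h.orthonormal χ hχ) hβ h1 h2

/-- vector form of (5.4.a) -/
theorem _root_.Cfsg.IsCoherenceSystem.nsq_le_sum (h : IsCoherenceSystem S τ R) {χ : L → ℂ}
    (hχ : χ ∈ S) {β : G → ℂ} (hβ : IsGeneralizedCharacter G β)
    (h1 : ⟪β, τ (χ - conjFun χ)⟫ = ⟪χ, χ⟫) : nsq χ ≤ ∑ α ∈ R χ, ‖⟪β, α⟫‖ ^ 2 := by
  rw [h.sum_eq χ hχ, ci_self] at h1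
  exact (proj_bound (h.virtual χ hχ) hβ h1).1

/-- the projection on `ℤ[R χ]` -/
theorem _root_.Cfsg.IsCoherenceSystem.exists_proj (h : IsCoherenceSystem S τ R) {χ : L → ℂ}
    (hχ : χ ∈ S) {β : G → ℂ} (hβ : IsGeneralizedCharacter G β) :
    ∃ X Y : G → ℂ, X ∈ zspan (R χ : Set (G → ℂ)) ∧ IsGeneralizedCharacter G X ∧
      IsGeneralizedCharacter G Y ∧ (∀ α ∈ R χ, ⟪Y, α⟫ = 0) ∧ β = X + Y ∧
      nsq X = ∑ α ∈ R χ, ‖⟪β, α⟫‖ ^ 2 ∧ nsq β = nsq X + nsq Y ∧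
      ⟪X, τ (χ - conjFun χ)⟫ = ⟪β, τ (χ - conjFun χ)⟫ := by
  classical
  have ho : ∀ α ∈ R χ, ∀ β ∈ R χ, ⟪id α, id β⟫ = if α = β then 1 else 0 := by
    simp only [id]
    convert h.orthonormal χ hχ
  have hX : ∑ α ∈ R χ, ⟪β, α⟫ • α ∈ zspan (R χ : Set (G → ℂ)) :=
    sum_mem_zspan (fun α hα => smul_mem_zspan_of_int (hβ.ci_int (h.virtual χ hχ α hα))
      (mem_zspan_of_mem hα))
  have hXv := virt_of_mem_zspan (h.virtual χ hχ) hX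
  have hY : ∀ α ∈ R χ, ⟪β - ∑ α ∈ R χ, ⟪β, α⟫ • α, α⟫ = 0 :=
    fun α hα => ci_sub_proj_orthonormal (R χ) id ho β hα
  have hn := nsq_sum_smul_orthonormal (R χ) id ho (fun α => ⟪β, α⟫)
  refine ⟨_, _, hX, hXv, hβ.sub hXv, hY, by abel, hn, ?_, ?_⟩
  · rw [nsq_eq_sum_add_nsq_orthonormal (R χ) id ho β]
    exact congrArg (· + _) hn.symm
  · have : ⟪β - ∑ α ∈ R χ, ⟪β, α⟫ • α, τ (χ - conjFun χ)⟫ = 0 := by
      rw [h.sum_eq χ hχ, ci_sum_right]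
      exact Finset.sum_eq_zero hY
    rw [ci_sub_left, sub_eq_zero] at this
    exact this.symm

/-- Peterfalvi (5.5). -/
theorem CohWith.exists_eq_sum (h₁ : CohWith S₁ τ ν) (h : IsCoherenceSystem S τ R) {χ : L → ℂ}
    (hχ : χ ∈ S) (hχ₁ : χ ∈ zspan S₁) (hχ₂ : conjFun χ ∈ zspan S₁) :
    ∃ E ⊆ R χ, ν χ = ∑ α ∈ E, α ∧ (E.card : ℝ) = nsq χ := by
  refine h.exists_eq_sum hχ (h₁.virt hχ₁) ?_ (h₁.nsq_eq hχ₁).le
  have hm := sub_conj_mem hχ₁ hχ₂ (h.virt hχ)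
  rw [← h₁.2 _ hm, h₁.ci_eq hχ₁ hm.1, ci_sub_right, h.ci_conj hχ, sub_zero]

theorem CohWith.orth_R (h₁ : CohWith S₁ τ ν) (h : IsCoherenceSystem S τ R) (hS₁ : S₁ ⊆ S)
    (hc : ∀ φ ∈ S₁, conjFun φ ∈ S₁) {χ : L → ℂ} (hχ : χ ∈ S) (hχ₁ : χ ∉ S₁) {φ : L → ℂ}
    (hφ : φ ∈ zspan S₁) {α : G → ℂ} (hα : α ∈ R χ) : ⟪ν φ, α⟫ = 0 := by
  have key : ∀ φ ∈ S₁, ⟪ν φ, α⟫ = 0 := by
    intro φ hφ
    obtain ⟨E, hE, e, -⟩ := h₁.exists_eq_sum h (hS₁ hφ) (mem_zspan_of_mem hφ)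
      (mem_zspan_of_mem (hc φ hφ))
    rw [e, ci_sum_left]
    refine Finset.sum_eq_zero (fun β hβ => h.orth_R hχ (hS₁ hφ) ?_ ?_ β (hE hβ) α hα)
    · rintro rfl; exact hχ₁ hφ
    · rintro rfl; exact hχ₁ (by simpa using hc _ hφ)
  refine zspan_induction (P := fun φ => ⟪ν φ, α⟫ = 0) key (by simp) ?_ ?_ hφ
  · intro a b _ _ ha hb; rw [map_add, ci_add_left, ha, hb, add_zero]
  · intro n a _ ha; rw [map_zsmul, ci_zsmul_left, ha, mul_zero]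

theorem CohWith.orth_tau_conj (h₁ : CohWith S₁ τ ν) (h : IsCoherenceSystem S τ R) (hS₁ : S₁ ⊆ S)
    (hc : ∀ φ ∈ S₁, conjFun φ ∈ S₁) {χ : L → ℂ} (hχ : χ ∈ S) (hχ₁ : χ ∉ S₁) {φ : L → ℂ}
    (hφ : φ ∈ zspan S₁) : ⟪ν φ, τ (χ - conjFun χ)⟫ = 0 := by
  rw [h.sum_eq χ hχ, ci_sum_right]
  exact Finset.sum_eq_zero (fun α hα => h₁.orth_R h hS₁ hc hχ hχ₁ hφ hα)

/-- Images of disjoint coherent subfamilies are orthogonal. -/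
theorem CohWith.orth (h₁ : CohWith S₁ τ ν₁) (h₂ : CohWith S₂ τ ν₂) (h : IsCoherenceSystem S τ R)
    (hS₁ : S₁ ⊆ S) (hc₁ : ∀ φ ∈ S₁, conjFun φ ∈ S₁) (hS₂ : S₂ ⊆ S)
    (hc₂ : ∀ φ ∈ S₂, conjFun φ ∈ S₂) (hd : Disjoint S₁ S₂) {φ ψ : L → ℂ} (hφ : φ ∈ zspan S₁)
    (hψ : ψ ∈ zspan S₂) : ⟪ν₁ φ, ν₂ ψ⟫ = 0 := by
  have key : ∀ ψ ∈ S₂, ⟪ν₁ φ, ν₂ ψ⟫ = 0 := by
    intro ψ hψ
    obtain ⟨E, hE, e, -⟩ := h₂.exists_eq_sum h (hS₂ hψ) (mem_zspan_of_mem hψ)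
      (mem_zspan_of_mem (hc₂ ψ hψ))
    rw [e, ci_sum_right]
    exact Finset.sum_eq_zero (fun α hα => h₁.orth_R h hS₁ hc₁ (hS₂ hψ)
      (fun h' => Set.disjoint_left.1 hd h' hψ) hφ (hE hα))
  refine zspan_induction (P := fun ψ => ⟪ν₁ φ, ν₂ ψ⟫ = 0) key (by simp) ?_ ?_ hψ
  · intro a b _ _ ha hb; rw [map_add, ci_add_right, ha, hb, add_zero]
  · intro n a _ ha; rw [map_zsmul, ci_zsmul_right, ha, mul_zero]

/-- Gluing two coherent subfamilies of a coherence system along a bridge. -/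
theorem CohWith.bridge_sys {T : (L → ℂ) →ₗ[ℂ] (G → ℂ)} (h₁ : CohWith S₁ T ν₁)
    (h₂ : CohWith S₂ T ν₂) (h : IsCoherenceSystem S T R)
    (hS₁ : S₁ ⊆ S) (hc₁ : ∀ φ ∈ S₁, conjFun φ ∈ S₁) (hS₂ : S₂ ⊆ S)
    (hc₂ : ∀ φ ∈ S₂, conjFun φ ∈ S₂) (hd : Disjoint S₁ S₂)
    {χ₀ φ₀ : L → ℂ} (hχ₀ : χ₀ ∈ zspan S₁) (hφ₀ : φ₀ ∈ zspan S₂) (hdeg : χ₀ 1 = φ₀ 1)
    (h0 : χ₀ 1 ≠ 0) (hb : T (χ₀ - φ₀) = ν₁ χ₀ - ν₂ φ₀) :
    ∃ ν, CohWith (S₁ ∪ S₂) T ν ∧ (∀ χ ∈ S₁, ν χ = ν₁ χ) ∧ ∀ χ ∈ S₂, ν χ = ν₂ χ :=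
  h₁.bridge h₂ (fun χ hχ => (h.virt (hS₁ hχ)).exists_int_one)
    (fun χ hχ => (h.virt (hS₂ hχ)).exists_int_one) hd
    (fun χ hχ φ hφ => h.orthogonal χ (hS₁ hχ) φ (hS₂ hφ)
      (fun e => Set.disjoint_left.1 hd hχ (e ▸ hφ)))
    (fun _ hχ _ hφ => h₁.orth h₂ h hS₁ hc₁ hS₂ hc₂ hd (mem_zspan_of_mem hχ) (mem_zspan_of_mem hφ))
    hχ₀ hφ₀ hdeg h0 hb

/-- a conjugate pair is coherent, with any admissible image `X` -/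
theorem _root_.Cfsg.IsCoherenceSystem.exists_cohWith_pair {T : (L → ℂ) →ₗ[ℂ] (G → ℂ)}
    (h : IsCoherenceSystem S T R) {χ : L → ℂ} (hχ : χ ∈ S) {X : G → ℂ}
    (hX : IsGeneralizedCharacter G X) (hXn : nsq X = nsq χ)
    (hX1 : ⟪X, T (χ - conjFun χ)⟫ = ⟪χ, χ⟫) :
    ∃ ν, CohWith {χ, conjFun χ} T ν ∧ ν χ = X := by
  have hsub : ({χ, conjFun χ} : Set (L → ℂ)) ⊆ S := by
    rintro _ (rfl | rfl)
    exacts [hχ, h.conj_mem χ hχ]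
  refine exists_cohWith_pivot T (h.isometry.mono (zspanOn_mono hsub _)) (Or.inl rfl)
    (h.apply_one_ne_zero hχ) hX (by rw [ci_self, ci_self, hXn]) ?_
  rintro _ (rfl | rfl)
  · exact ⟨1, by simp, by simp⟩
  · refine ⟨1, by rw [h.conj_one hχ]; simp, ?_⟩
    rw [Int.cast_one, one_smul, ← neg_sub, map_neg, ci_neg_left, ← ci_conj_symm, hX1, ci_neg_left,
      ci_sub_left, ci_eq_zero_symm (h.ci_conj hχ), sub_zero, ci_conj_symm]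

/-- Peterfalvi (5.6.3). -/
theorem CohWith.extend_of_zero {T : (L → ℂ) →ₗ[ℂ] (G → ℂ)} (h₁ : CohWith S₁ T ν₁)
    (h : IsCoherenceSystem S T R) (hS₁ : S₁ ⊆ S) (hc : ∀ φ ∈ S₁, conjFun φ ∈ S₁)
    {χ χ₁ : L → ℂ} (hχ : χ ∈ S) (hχ' : χ ∉ S₁) (hχ₁ : χ₁ ∈ zspan S₁) {a : ℤ}
    (ha : χ 1 = a * χ₁ 1) (h0 : ⟪T (χ - (a : ℂ) • χ₁) + (a : ℂ) • ν₁ χ₁, ν₁ χ₁⟫ = 0) :
    ∃ ν, CohWith (S₁ ∪ {χ, conjFun χ}) T ν ∧ (∀ φ ∈ S₁, ν φ = ν₁ φ) ∧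
      ν χ = T (χ - (a : ℂ) • χ₁) + (a : ℂ) • ν₁ χ₁ := by
  have horth : ∀ φ ∈ S₁, ⟪χ, φ⟫ = 0 :=
    fun φ hφ => h.orthogonal χ hχ φ (hS₁ hφ) (fun e => hχ' (e ▸ hφ))
  have hχ'' : conjFun χ ∉ S₁ := fun h' => hχ' (by simpa using hc _ h')
  obtain ⟨hv, l, hn, hl, -⟩ := h₁.extend_aux h.isometry hS₁ (fun φ hφ => h.virt (hS₁ hφ))
    (mem_zspan_of_mem hχ) hχ₁ ha horth
  have hl0 : l = 0 := by rw [h0] at hl; exact_mod_cast hl.symm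
  rw [hl0, Int.cast_zero, mul_zero, add_zero] at hn
  have hm : χ - (a : ℂ) • χ₁ ∈ zspanOn S {1}ᶜ :=
    sub_mem_zspanOn_one (mem_zspan_of_mem hχ) (intCast_smul_mem_zspan _ (zspan_mono hS₁ hχ₁)) ha
  obtain ⟨ν₂, h₂, e₂⟩ := h.exists_cohWith_pair hχ hv hn (by
    rw [ci_add_left, h.isometry.ci_eq hm (h.sub_conj_mem hχ), ci_smul_left,
      h₁.orth_tau_conj h hS₁ hc hχ hχ' hχ₁, ci_sub_left, ci_smul_left, ci_sub_right, ci_sub_right,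
      h.ci_conj hχ, ci_eq_zero_of_mem_zspan (fun φ hφ => ci_eq_zero_symm (horth φ hφ)) hχ₁,
      ci_eq_zero_of_mem_zspan (fun φ hφ => h.orthogonal φ (hS₁ hφ) _ (h.conj_mem χ hχ)
        (fun e => hχ'' (e ▸ hφ))) hχ₁]
    ring)
  obtain ⟨ν, hν, e₁, e₂'⟩ := h₁.bridge_sys h₂ h hS₁ hc (S₂ := {χ, conjFun χ})
    (by rintro _ (rfl | rfl); exacts [hχ, h.conj_mem χ hχ])
    (by rintro _ (rfl | rfl); exacts [Or.inr rfl, Or.inl (conjFun_conjFun _)])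
    (Set.disjoint_right.2 (by rintro _ (rfl | rfl); exacts [hχ', hχ'']))
    (intCast_smul_mem_zspan a hχ₁) (mem_zspan_of_mem (Or.inl rfl)) ha.symm
    (by rw [Pi.smul_apply, smul_eq_mul, ← ha]; exact h.apply_one_ne_zero hχ)
    (by rw [e₂, ← neg_sub, map_neg, map_smul]; abel)
  exact ⟨ν, hν, e₁, (e₂' χ (Or.inl rfl)).trans e₂⟩

theorem int_eq_zero_of_sq_mul_le {l : ℤ} {b c : ℝ} (hc : 0 ≤ c) (hb : c < b)
    (h : (l : ℝ) ^ 2 * b ≤ c * l) : l = 0 := by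
  by_contra hl
  have h1 : (1 : ℝ) ≤ (l : ℝ) ^ 2 := by
    have : 1 ≤ l ^ 2 := by have := sq_pos_of_ne_zero hl; omega
    exact_mod_cast this
  have h2 := int_le_sq l
  nlinarith [mul_le_mul_of_nonneg_left h2 hc]

/-- Peterfalvi (5.6), with the coherent extension. -/
theorem CohWith.extend {T : (L → ℂ) →ₗ[ℂ] (G → ℂ)} {S₁ : Finset (L → ℂ)}
    (h₁ : CohWith (S₁ : Set (L → ℂ)) T ν₁)
    (h : IsCoherenceSystem S T R) (hS₁ : (S₁ : Set (L → ℂ)) ⊆ S) (hc : ∀ φ ∈ S₁, conjFun φ ∈ S₁)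
    {χ χ₁ : L → ℂ} (hχ : χ ∈ S) (hχ' : χ ∉ S₁) (hχ₁ : χ₁ ∈ S₁) {a : ℤ}
    (ha : χ 1 = a * χ₁ 1)
    (hlt : 2 * (χ 1).re * (χ₁ 1).re < ∑ φ ∈ S₁, (φ 1).re ^ 2 / nsq φ) :
    ∃ ν, CohWith (S₁ ∪ {χ, conjFun χ}) T ν ∧ (∀ φ ∈ S₁, ν φ = ν₁ φ) := by
  have horth : ∀ φ ∈ (S₁ : Set (L → ℂ)), ⟪χ, φ⟫ = 0 :=
    fun φ hφ => h.orthogonal χ hχ φ (hS₁ hφ) (fun e => hχ' (e ▸ hφ))
  have hχ'' : conjFun χ ∉ S₁ := fun h' => hχ' (by simpa using hc _ h')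
  have hχ₁' := mem_zspan_of_mem (S := (S₁ : Set (L → ℂ))) hχ₁
  obtain ⟨hv, l, hn, hl, hall⟩ := h₁.extend_aux h.isometry hS₁ (fun φ hφ => h.virt (hS₁ hφ))
    (mem_zspan_of_mem hχ) hχ₁' ha horth
  suffices hl0 : l = 0 by
    obtain ⟨ν, h1, h2, -⟩ := h₁.extend_of_zero h hS₁ hc hχ hχ' hχ₁' ha (by rw [hl, hl0]; simp)
    exact ⟨ν, h1, h2⟩
  set γ := T (χ - (a : ℂ) • χ₁) + (a : ℂ) • ν₁ χ₁ with hγ
  have hm : χ - (a : ℂ) • χ₁ ∈ zspanOn S {1}ᶜ :=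
    sub_mem_zspanOn_one (mem_zspan_of_mem hχ) (intCast_smul_mem_zspan _ (zspan_mono hS₁ hχ₁')) ha
  obtain ⟨X, Y, hX, -, -, hY, e, hXn, hγn, -⟩ := h.exists_proj hχ hv
  have h1 : nsq χ ≤ nsq X := by
    rw [hXn]
    refine h.nsq_le_sum hχ hv ?_
    rw [hγ, ci_add_left, h.isometry.ci_eq hm (h.sub_conj_mem hχ), ci_smul_left,
      h₁.orth_tau_conj h hS₁ hc hχ hχ' hχ₁', ci_sub_left, ci_smul_left, ci_sub_right, ci_sub_right,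
      h.ci_conj hχ, ci_eq_zero_symm (horth _ hχ₁), h.orthogonal χ₁ (hS₁ hχ₁) _ (h.conj_mem χ hχ)
        (fun e => hχ'' (e ▸ hχ₁))]
    ring
  obtain ⟨d₁, hd₁0, hd₁⟩ := h.exists_degree (hS₁ hχ₁)
  have hd₁' : (0 : ℝ) < d₁ := by exact_mod_cast hd₁0
  have h2 := bessel_orth S₁ ν₁ (fun φ hφ e => h.ne_zero (hS₁ hφ) (by
      rw [← nsq_eq_zero, ← h₁.nsq_eq (mem_zspan_of_mem hφ), e, nsq_eq_zero]))
    (fun φ hφ ψ hψ hne => (h₁.ci_mem hφ hψ).trans (h.orthogonal φ (hS₁ hφ) ψ (hS₁ hψ) hne)) Y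
  have h3 : ∀ φ ∈ S₁, ‖⟪Y, ν₁ φ⟫‖ ^ 2 / nsq (ν₁ φ)
      = (l : ℝ) ^ 2 / d₁ ^ 2 * ((φ 1).re ^ 2 / nsq φ) := by
    intro φ hφ
    have e1 := hall φ (mem_zspan_of_mem hφ)
    rw [e, ci_add_left, ci_eq_zero_of_mem_zspan (fun α hα => ci_eq_zero_symm
      (h₁.orth_R h hS₁ hc hχ hχ' (mem_zspan_of_mem hφ) hα)) hX, zero_add, hd₁] at e1
    obtain ⟨d, -, hd⟩ := h.exists_degree (hS₁ hφ)
    have e2 := congrArg (fun z => ‖z‖ ^ 2) e1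
    simp only [norm_mul, mul_pow, hd, Complex.norm_natCast, Complex.norm_intCast, sq_abs] at e2
    rw [h₁.nsq_eq (mem_zspan_of_mem hφ), hd, Complex.natCast_re]
    have : ‖⟪Y, ν₁ φ⟫‖ ^ 2 = (l : ℝ) ^ 2 * d ^ 2 / d₁ ^ 2 := by
      rw [← e2]; field_simp
    rw [this]; ring
  rw [Finset.sum_congr rfl h3, ← Finset.mul_sum] at h2
  have ha' : (χ 1).re = a * d₁ := by
    rw [ha, hd₁]; simp
  have ha0 : (0 : ℝ) ≤ a := by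
    have := (h.isCharacter χ hχ).re_one_nonneg
    rw [ha'] at this
    exact nonneg_of_mul_nonneg_left this hd₁'
  rw [ha', hd₁, Complex.natCast_re] at hlt
  refine int_eq_zero_of_sq_mul_le (c := 2 * a)
    (b := (∑ φ ∈ S₁, (φ 1).re ^ 2 / nsq φ) / d₁ ^ 2) (by positivity) ?_ ?_
  · rw [lt_div_iff₀ (by positivity)]; nlinarith
  · calc _ = (l : ℝ) ^ 2 / d₁ ^ 2 * ∑ φ ∈ S₁, (φ 1).re ^ 2 / nsq φ := by ring
      _ ≤ _ := by linarith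

/-- Peterfalvi (5.6). -/
theorem _root_.Cfsg.IsCoherenceSystem.extend (h : IsCoherenceSystem S τ R)
    {S₁ : Finset (L → ℂ)} (h₁ : IsCoherent (S₁ : Set (L → ℂ)) {1}ᶜ τ)
    (hS₁ : (S₁ : Set (L → ℂ)) ⊆ S) (hc : ∀ φ ∈ S₁, conjFun φ ∈ S₁)
    {χ χ₁ : L → ℂ} (hχ : χ ∈ S) (hχ' : χ ∉ S₁) (hχ₁ : χ₁ ∈ S₁) {a : ℤ}
    (ha : χ 1 = a * χ₁ 1)
    (hlt : 2 * (χ 1).re * (χ₁ 1).re < ∑ φ ∈ S₁, (φ 1).re ^ 2 / nsq φ) :
    IsCoherent (S₁ ∪ {χ, conjFun χ} : Set (L → ℂ)) {1}ᶜ τ := by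
  obtain ⟨T, hT, e⟩ := h.exists_linear
  obtain ⟨ν₁, hν₁⟩ := h₁.exists_cohWith
  obtain ⟨ν, hν, -⟩ := (hν₁.congr (fun α hα => (e α (zspanOn_mono hS₁ _ hα)).symm)).extend hT hS₁
    hc hχ hχ' hχ₁ ha hlt
  have hsub : (S₁ ∪ {χ, conjFun χ} : Set (L → ℂ)) ⊆ S := by
    rintro φ (hφ | rfl | rfl)
    exacts [hS₁ hφ, hχ, h.conj_mem χ hχ]
  refine (hν.congr (fun α hα => e α (zspanOn_mono hsub _ hα))).isCoherent ?_
  exact h.exists_ne_zero hsub (Or.inr (Or.inl rfl)) (Or.inr (Or.inr rfl))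

/-- the decomposition used in Peterfalvi (5.7) -/
theorem _root_.Cfsg.IsCoherenceSystem.exists_decomp {T : (L → ℂ) →ₗ[ℂ] (G → ℂ)}
    (h : IsCoherenceSystem S T R) {χ φ : L → ℂ} (hχ : χ ∈ S) (hφ : φ ∈ S) (h1 : φ ≠ χ)
    (h2 : φ ≠ conjFun χ) (hd : χ 1 = φ 1) :
    ∃ E ⊆ R χ, ∃ E' ⊆ R φ, T (χ - φ) = ∑ α ∈ E, α - ∑ α ∈ E', α ∧ (E.card : ℝ) = nsq χ := by
  have hm := sub_mem_zspanOn_one (mem_zspan_of_mem hχ) (mem_zspan_of_mem hφ) hd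
  have o1 := h.orthogonal φ hφ χ hχ h1
  have o2 := h.orthogonal φ hφ _ (h.conj_mem χ hχ) h2
  have o3 : ⟪χ, conjFun φ⟫ = 0 := by rw [ci_conjFun_right, o2]
  obtain ⟨X, Y, hX, hXv, hYv, hY, e, hXn, hn, hX1⟩ := h.exists_proj hχ (h.isometry.virt hm)
  have e1 : ⟪T (χ - φ), T (χ - conjFun χ)⟫ = ⟪χ, χ⟫ := by
    rw [h.isometry.ci_eq hm (h.sub_conj_mem hχ), ci_sub_left, ci_sub_right, ci_sub_right,
      h.ci_conj hχ, o1, o2]; ring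
  have e2 : nsq χ ≤ nsq X := hXn ▸ h.nsq_le_sum hχ (h.isometry.virt hm) e1
  rw [h.isometry.nsq_eq hm, nsq_sub_of_orth (ci_eq_zero_symm o1)] at hn
  have e3 : ⟪-Y, T (φ - conjFun φ)⟫ = ⟪φ, φ⟫ := by
    have : -Y = X - T (χ - φ) := by rw [e]; abel
    rw [this, ci_sub_left, h.isometry.ci_eq hm (h.sub_conj_mem hφ), ci_sub_left, ci_sub_right,
      ci_sub_right, h.ci_conj hφ, ci_eq_zero_symm o1, o3, h.sum_eq φ hφ,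
      ci_eq_zero_of_mem_zspan _ hX]
    · ring
    · intro α hα
      rw [ci_sum_right]
      exact Finset.sum_eq_zero (fun β hβ => ci_eq_zero_symm (h.orth_R hχ hφ h1 h2 β hβ α hα))
  obtain ⟨E', hE', eY, hc'⟩ := h.exists_eq_sum hφ hYv.neg e3 (by rw [nsq_neg]; linarith)
  have e4 : nsq Y = nsq φ := by
    classical
    rw [← nsq_neg, eY, nsq_sum_orthonormal, hc']
    intro α hα β hβ
    convert h.orthonormal φ hφ α (hE' hα) β (hE' hβ)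
  obtain ⟨E, hE, eX, hc⟩ := h.exists_eq_sum hχ hXv (hX1.trans e1) (by linarith)
  exact ⟨E, hE, E', hE', by rw [e, ← eX, ← eY]; abel, hc⟩

/-- Peterfalvi (5.7), with the coherent extension. -/
theorem _root_.Cfsg.IsCoherenceSystem.exists_cohWith_of_degree {T : (L → ℂ) →ₗ[ℂ] (G → ℂ)}
    (h : IsCoherenceSystem S T R) (hdeg : ∀ φ ∈ S, ∀ ψ ∈ S, φ 1 = ψ 1) :
    ∃ ν, CohWith S T ν := by
  classical
  obtain ⟨χ, hχ⟩ := h.nonempty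
  have ho : ∀ α ∈ R χ, ∀ β ∈ R χ, ⟪α, β⟫ = if α = β then 1 else 0 := by
    convert h.orthonormal χ hχ
  suffices H : ∃ E ⊆ R χ, (E.card : ℝ) = nsq χ ∧ ∀ φ ∈ S, φ ≠ χ → φ ≠ conjFun χ →
      ⟪T (χ - φ), ∑ α ∈ E, α⟫ = ⟪χ, χ⟫ by
    obtain ⟨E, hE, hc, H⟩ := H
    have hoE : ∀ α ∈ E, ∀ β ∈ E, ⟪α, β⟫ = if α = β then 1 else 0 :=
      fun α hα β hβ => ho α (hE hα) β (hE hβ)
    refine (exists_cohWith_pivot T h.isometry hχ (h.apply_one_ne_zero hχ)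
      (virt_sum E id (fun α hα => h.virtual χ hχ α (hE hα))) ?_ ?_).imp (fun ν h => h.1)
    · rw [ci_self, ci_self]
      exact congrArg _ ((nsq_sum_orthonormal hoE).trans hc)
    · intro φ hφ
      refine ⟨1, by simp [hdeg φ hφ χ hχ], ?_⟩
      rw [Int.cast_one, one_smul, ← neg_sub, map_neg, ci_neg_left, ci_neg_left, neg_inj]
      by_cases h1 : φ = χ
      · subst h1; simp
      rw [ci_sub_left, h.orthogonal φ hφ χ hχ h1, sub_zero]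
      by_cases h2 : φ = conjFun χ
      · subst h2
        rw [h.sum_eq χ hχ, ← ci_conj_symm, ci_self]
        simp only [id]
        rw [ci_sum_sum_orthonormal ho hE, ← hc]; simp
      · exact H φ hφ h1 h2
  by_cases hex : ∃ χ₁ ∈ S, χ₁ ≠ χ ∧ χ₁ ≠ conjFun χ
  · obtain ⟨χ₁, hχ₁, n1, n2⟩ := hex
    obtain ⟨E, hE, E₁, hE₁, e, hc⟩ := h.exists_decomp hχ hχ₁ n1 n2 (hdeg _ hχ _ hχ₁)
    have hoE : ∀ α ∈ E, ∀ β ∈ E, ⟪α, β⟫ = if α = β then 1 else 0 :=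
      fun α hα β hβ => ho α (hE hα) β (hE hβ)
    have k1 : ⟪T (χ - χ₁), ∑ α ∈ E, α⟫ = ⟪χ, χ⟫ := by
      rw [e, ci_sub_left, ci_sum_sum_eq_zero
        (fun α hα β hβ => h.orth_R hχ hχ₁ n1 n2 α (hE₁ hα) β (hE hβ)), sub_zero, ci_self, ci_self,
        nsq_sum_orthonormal hoE, hc]
    refine ⟨E, hE, hc, fun φ hφ h1 h2 => ?_⟩
    by_cases h3 : φ = χ₁
    · rw [h3, k1]
    by_cases h4 : φ = conjFun χ₁
    · have : χ - φ = (χ - χ₁) + (χ₁ - conjFun χ₁) := by rw [h4]; abel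
      rw [this, map_add, ci_add_left, k1, h.sum_eq χ₁ hχ₁, ci_sum_sum_eq_zero
        (fun α hα β hβ => h.orth_R hχ hχ₁ n1 n2 α hα β (hE hβ)), add_zero]
    obtain ⟨F, hF, F', hF', e', -⟩ := h.exists_decomp hχ hφ h1 h2 (hdeg _ hχ _ hφ)
    have e2 : ∑ α ∈ E, α = T (χ - χ₁) + ∑ α ∈ E₁, α := by rw [e]; abel
    rw [e2, ci_add_right, h.isometry.ci_eq
      (sub_mem_zspanOn_one (mem_zspan_of_mem hχ) (mem_zspan_of_mem hφ) (hdeg _ hχ _ hφ))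
      (sub_mem_zspanOn_one (mem_zspan_of_mem hχ) (mem_zspan_of_mem hχ₁) (hdeg _ hχ _ hχ₁)),
      e', ci_sub_left, ci_sub_left, ci_sub_right, ci_sub_right, h.orthogonal φ hφ χ hχ h1,
      h.orthogonal φ hφ χ₁ hχ₁ h3, h.orthogonal χ hχ χ₁ hχ₁ n1.symm,
      ci_sum_sum_eq_zero (fun α hα β hβ => h.orth_R hχ₁ hφ h3 h4 α (hF' hα) β (hE₁ hβ)),
      ci_sum_sum_eq_zero (fun α hα β hβ =>
        ci_eq_zero_symm (h.orth_R hχ hχ₁ n1 n2 β (hE₁ hβ) α (hF hα)))]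
    ring
  · obtain ⟨n, hn⟩ := (h.virt hχ).nsq_nat
    have hc := h.card_R hχ
    rw [hn] at hc
    have hc' : (R χ).card = 2 * n := by exact_mod_cast hc
    obtain ⟨E, hE, hEc⟩ := Finset.exists_subset_card_eq (s := R χ) (n := n) (by omega)
    exact ⟨E, hE, by rw [hEc, hn], fun φ hφ h1 h2 => absurd ⟨φ, hφ, h1, h2⟩ hex⟩

/-- Peterfalvi (5.7). -/
theorem _root_.Cfsg.IsCoherenceSystem.coherent_of_degree (h : IsCoherenceSystem S τ R)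
    (hdeg : ∀ φ ∈ S, ∀ ψ ∈ S, φ 1 = ψ 1) : IsCoherent S {1}ᶜ τ := by
  obtain ⟨T, hT, e⟩ := h.exists_linear
  obtain ⟨ν, hν⟩ := hT.exists_cohWith_of_degree hdeg
  obtain ⟨χ, hχ⟩ := h.nonempty
  exact (hν.congr e).isCoherent (h.exists_ne_zero subset_rfl hχ (h.conj_mem χ hχ))

/-- Peterfalvi (5.3.a). -/
theorem exists_coherenceSystem_irr (hS : S.Nonempty) (hirr : ∀ χ ∈ S, IsIrrCharacter L χ)
    (hconj : ∀ χ ∈ S, conjFun χ ∈ S) (hne : ∀ χ ∈ S, conjFun χ ≠ χ)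
    (hτ : IsLinearIsometryOn (zspanOn S {1}ᶜ) τ) (hτ1 : ∀ α ∈ zspanOn S {1}ᶜ, τ α 1 = 0) :
    ∃ R : (L → ℂ) → Finset (G → ℂ), IsCoherenceSystem S τ R := by
  classical
  have hm : ∀ χ ∈ S, χ - conjFun χ ∈ zspanOn S {1}ᶜ := fun χ hχ =>
    sub_conj_mem (mem_zspan_of_mem hχ) (mem_zspan_of_mem (hconj χ hχ)) (hirr χ hχ).virt
  have key : ∀ χ ∈ S, ∃ φ ψ : G → ℂ, IsIrrCharacter G φ ∧ IsIrrCharacter G ψ ∧ φ ≠ ψ ∧
      τ (χ - conjFun χ) = φ - ψ := by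
    intro χ hχ
    refine (hτ.virt (hm χ hχ)).exists_sub_of_nsq_two ?_ (hτ1 _ (hm χ hχ))
    rw [hτ.nsq_eq (hm χ hχ), nsq_sub_of_orth ((hirr χ hχ).ci_of_ne (hirr χ hχ).conjFun
      (hne χ hχ).symm), nsq_conjFun, (hirr χ hχ).nsq]
    norm_num
  choose! φ ψ hφ hψ hφψ e using key
  have hne' : ∀ χ ∈ S, φ χ ≠ -ψ χ := fun χ hχ => (hφ χ hχ).ne_neg (hψ χ hχ)
  refine ⟨fun χ => {φ χ, -ψ χ}, hS, fun χ hχ => (hirr χ hχ).isCharacter, hconj, hne, hτ, hτ1,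
    fun χ hχ χ' hχ' => (hirr χ hχ).ci_of_ne (hirr χ' hχ'), ?_, ?_, ?_, ?_⟩
  · intro χ hχ α hα β hβ
    simp only [Finset.mem_insert, Finset.mem_singleton] at hα hβ
    rcases hα with rfl | rfl <;> rcases hβ with rfl | rfl
    · rw [if_pos rfl, (hφ χ hχ).ci_self]
    · rw [if_neg (hne' χ hχ), ci_neg_right, (hφ χ hχ).ci_of_ne (hψ χ hχ) (hφψ χ hχ), neg_zero]
    · rw [if_neg (hne' χ hχ).symm, ci_neg_left, (hψ χ hχ).ci_of_ne (hφ χ hχ) (hφψ χ hχ).symm,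
        neg_zero]
    · rw [if_pos rfl, ci_neg_left, ci_neg_right, (hψ χ hχ).ci_self, neg_neg]
  · intro χ hχ α hα
    simp only [Finset.mem_insert, Finset.mem_singleton] at hα
    rcases hα with rfl | rfl
    exacts [(hφ χ hχ).virt, (hψ χ hχ).virt.neg]
  · intro χ hχ
    rw [Finset.sum_pair (hne' χ hχ), e χ hχ, sub_eq_add_neg]
  · intro χ hχ χ' hχ' o1 o2 α hα β hβ
    have o3 : ⟪conjFun χ', χ⟫ = 0 := by rw [ci_conjFun_left, o2, map_zero]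
    have o4 : ⟪conjFun χ', conjFun χ⟫ = 0 := by rw [ci_conjFun, o1, map_zero]
    have hmix := hτ.ci_eq (hm χ' hχ') (hm χ hχ)
    rw [e χ hχ, e χ' hχ', ci_sub_left χ', ci_sub_right χ', ci_sub_right (conjFun χ'), o1, o2, o3,
      o4] at hmix
    have d1 := hτ1 _ (hm χ hχ)
    have d2 := hτ1 _ (hm χ' hχ')
    rw [e χ hχ, Pi.sub_apply, sub_eq_zero] at d1
    rw [e χ' hχ', Pi.sub_apply, sub_eq_zero] at d2
    have c1 := (hφ χ hχ).ci_of_ne (hψ χ hχ) (hφψ χ hχ)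
    have c2 := (hφ χ' hχ').ci_of_ne (hψ χ' hχ') (hφψ χ' hχ')
    have sp : ∀ {a b c d : G → ℂ}, IsIrrCharacter G a → IsIrrCharacter G b → IsIrrCharacter G c →
        IsIrrCharacter G d → ⟪a, b⟫ = 0 → ⟪c, d⟫ = 0 → ⟪a - b, c - d⟫ = 0 → a 1 = b 1 →
        c 1 = d 1 → ⟪a, c⟫ = 0 := by
      intro a b c d ha hb hc hd h1 h2 h3 h4 h5
      exact ci_eq_zero_of_split ha.isSIrr hb.isSIrr hc.isSIrr hd.isSIrr (s := 1) (t := 1) (u := 1)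
        (v := 1) one_ne_zero one_ne_zero h1 h2 (by simpa using h3) (by simpa using h4)
        (by simpa using h5)
    simp only [Finset.mem_insert, Finset.mem_singleton] at hα hβ
    simp only [sub_self] at hmix
    rcases hα with rfl | rfl <;> rcases hβ with rfl | rfl
    · exact sp (hφ _ hχ') (hψ _ hχ') (hφ _ hχ) (hψ _ hχ) c2 c1 hmix d2 d1
    · rw [ci_neg_right, neg_eq_zero]
      refine sp (hφ _ hχ') (hψ _ hχ') (hψ _ hχ) (hφ _ hχ) c2 (ci_eq_zero_symm c1) ?_ d2 d1.symm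
      rw [← neg_sub (φ χ), ci_neg_right, hmix, neg_zero]
    · rw [ci_neg_left, neg_eq_zero]
      refine sp (hψ _ hχ') (hφ _ hχ') (hφ _ hχ) (hψ _ hχ) (ci_eq_zero_symm c2) c1 ?_ d2.symm d1
      rw [← neg_sub (φ χ'), ci_neg_left, hmix, neg_zero]
    · rw [ci_neg_left, ci_neg_right, neg_neg]
      refine sp (hψ _ hχ') (hφ _ hχ') (hψ _ hχ) (hφ _ hχ) (ci_eq_zero_symm c2)
        (ci_eq_zero_symm c1) ?_ d2.symm d1.symm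
      rw [← neg_sub (φ χ'), ← neg_sub (φ χ), ci_neg_left, ci_neg_right, hmix, neg_zero, neg_zero]

/-- Feit's criterion, Isaacs (7.14). -/
theorem CohWith.extend_irr {T : (L → ℂ) →ₗ[ℂ] (G → ℂ)} {S₁ : Finset (L → ℂ)}
    (h₁ : CohWith (S₁ : Set (L → ℂ)) T ν₁) (hT : IsLinearIsometryOn (zspanOn S {1}ᶜ) T)
    (hT1 : ∀ α ∈ zspanOn S {1}ᶜ, T α 1 = 0) (hS₁ : (S₁ : Set (L → ℂ)) ⊆ S)
    (hirr : ∀ φ ∈ S₁, IsIrrCharacter L φ) {χ χ₁ : L → ℂ} (hχ : χ ∈ S)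
    (hχi : IsIrrCharacter L χ) (hχ' : χ ∉ S₁) (hχ₁ : χ₁ ∈ S₁) {a : ℤ} (ha : χ 1 = a * χ₁ 1)
    (hlt : 2 * (χ 1).re * (χ₁ 1).re < ∑ φ ∈ S₁, (φ 1).re ^ 2) :
    ∃ ν, CohWith (insert χ (S₁ : Set (L → ℂ))) T ν ∧ (∀ φ ∈ S₁, ν φ = ν₁ φ) := by
  classical
  have horth : ∀ φ ∈ (S₁ : Set (L → ℂ)), ⟪χ, φ⟫ = 0 :=
    fun φ hφ => hχi.ci_of_ne (hirr φ hφ) (fun e => hχ' (e ▸ hφ))
  have hχ₁' := mem_zspan_of_mem (S := (S₁ : Set (L → ℂ))) hχ₁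
  obtain ⟨hv, l, hn, hl, hall⟩ := h₁.extend_aux hT hS₁ (fun φ hφ => (hirr φ hφ).virt)
    (mem_zspan_of_mem hχ) hχ₁' ha horth
  set γ := T (χ - (a : ℂ) • χ₁) + (a : ℂ) • ν₁ χ₁ with hγ
  have hm : χ - (a : ℂ) • χ₁ ∈ zspanOn S {1}ᶜ :=
    sub_mem_zspanOn_one (mem_zspan_of_mem hχ) (intCast_smul_mem_zspan _ (zspan_mono hS₁ hχ₁')) ha
  rw [hχi.nsq] at hn
  have hd₁ne := (hirr χ₁ hχ₁).apply_one_ne_zero
  suffices hl0 : l = 0 by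
    rw [hl0] at hn hall
    have h0 : ∀ φ ∈ S₁, ⟪γ, ν₁ φ⟫ = 0 := fun φ hφ => by
      simpa [hd₁ne] using hall φ (mem_zspan_of_mem hφ)
    refine (exists_cohWith_of_map (S := insert χ (S₁ : Set (L → ℂ))) T
      (fun φ => if φ = χ then γ else ν₁ φ) ?_ ?_ (Or.inr hχ₁) hd₁ne ?_).imp ?_
    · have n : ∀ φ ∈ (S₁ : Set (L → ℂ)), φ ≠ χ := fun φ hφ e => hχ' (e ▸ hφ)
      rintro α (rfl | hα) β (rfl | hβ)
      · rw [if_pos rfl, ci_self, hn, hχi.ci_self]; simp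
      · rw [if_pos rfl, if_neg (n β hβ), h0 β hβ, horth β hβ]
      · rw [if_pos rfl, if_neg (n α hα), ci_eq_zero_symm (h0 α hα), ci_eq_zero_symm (horth α hα)]
      · rw [if_neg (n α hα), if_neg (n β hβ), h₁.ci_mem hα hβ]
    · intro α hα
      split_ifs with h
      · exact hv
      · exact h₁.virt_mem (hα.resolve_left h)
    · rw [if_neg (fun e : χ₁ = χ => hχ' (e ▸ hχ₁))]
      intro φ hφ
      split_ifs with h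
      · rw [h, hγ, ha]
        simp only [map_sub, map_smul, smul_add, smul_sub, smul_smul, mul_comm (χ₁ 1)]
        abel
      · have hφ' := hφ.resolve_left h
        rw [← h₁.2 _ (degree_comb_mem_zspanOn (mem_zspan_of_mem hφ') hχ₁'
          (hirr φ hφ').virt.exists_int_one (hirr χ₁ hχ₁).virt.exists_int_one), map_sub, map_smul,
          map_smul]
    · rintro ν ⟨h1, h2⟩
      exact ⟨h1, fun φ hφ => by rw [h2 φ (Or.inr hφ), if_neg (fun e : φ = χ => hχ' (e ▸ hφ))]⟩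
  have ho : ∀ φ ∈ S₁, ∀ ψ ∈ S₁, ⟪ν₁ φ, ν₁ ψ⟫ = if φ = ψ then 1 else 0 :=
    fun φ hφ ψ hψ => (h₁.ci_mem hφ hψ).trans ((hirr φ hφ).ci_eq_ite (hirr ψ hψ))
  obtain ⟨d₁, hd₁0, hd₁⟩ := (hirr χ₁ hχ₁).exists_degree
  have hd₁' : (0 : ℝ) < d₁ := by exact_mod_cast hd₁0
  have h2 := nsq_eq_sum_add_nsq_orthonormal S₁ ν₁ ho γ
  have hz : ∀ φ ∈ S₁, ⟪γ, ν₁ φ⟫ = (zi γ (ν₁ φ) : ℂ) := fun φ hφ => hv.ci_eq_zi (h₁.virt_mem hφ)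
  have h3 : ∀ φ ∈ S₁, (d₁ : ℝ) * zi γ (ν₁ φ) = l * (φ 1).re := by
    intro φ hφ
    have e1 := hall φ (mem_zspan_of_mem hφ)
    rw [hz φ hφ, hd₁] at e1
    simpa using congrArg Complex.re e1
  rw [Finset.sum_congr rfl (fun φ hφ => norm_sq_of_eq_int (hz φ hφ))] at h2
  have h4 : (d₁ : ℝ) ^ 2 * ∑ φ ∈ S₁, (zi γ (ν₁ φ) : ℝ) ^ 2 = l ^ 2 * ∑ φ ∈ S₁, (φ 1).re ^ 2 := by
    rw [Finset.mul_sum, Finset.mul_sum]
    exact Finset.sum_congr rfl (fun φ hφ => by rw [← mul_pow, h3 φ hφ, mul_pow])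
  have ha' : (χ 1).re = a * d₁ := by
    rw [ha, hd₁]; simp
  have ha0 : 1 ≤ a := by
    have := hχi.re_one_pos
    rw [ha'] at this
    have h5 : (0 : ℝ) < a := (pos_iff_pos_of_mul_pos this).2 hd₁'
    have h6 : 0 < a := by exact_mod_cast h5
    omega
  rw [ha', hd₁, Complex.natCast_re] at hlt
  set N : ℤ := ∑ φ ∈ S₁, zi γ (ν₁ φ) ^ 2 with hN
  have hN' : ∑ φ ∈ S₁, (zi γ (ν₁ φ) : ℝ) ^ 2 = N := by rw [hN]; push_cast; rfl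
  rw [hN'] at h2 h4
  have hΔ := nsq_nonneg (γ - ∑ φ ∈ S₁, ⟪γ, ν₁ φ⟫ • ν₁ φ)
  by_contra hl0
  have hl2 : (0 : ℝ) < (l : ℝ) ^ 2 := by positivity
  have k1 : 2 * a * l ^ 2 < N := by
    have : (d₁ : ℝ) ^ 2 * (2 * a * l ^ 2) < (d₁ : ℝ) ^ 2 * N := by
      rw [h4]; nlinarith
    have := lt_of_mul_lt_mul_left this (by positivity)
    exact_mod_cast this
  have k2 : N ≤ 1 + 2 * a * l := by
    have : (N : ℝ) ≤ 1 + 2 * a * l := by linarith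
    exact_mod_cast this
  have k3 : l = 1 := by
    have : l ^ 2 ≤ l := by nlinarith
    have h7 := sq_pos_of_ne_zero hl0
    nlinarith
  subst k3
  have k4 : N = 1 + 2 * a := by omega
  have k5 : γ = ∑ φ ∈ S₁, ⟪γ, ν₁ φ⟫ • ν₁ φ := by
    refine sub_eq_zero.1 (nsq_eq_zero.1 ?_)
    rw [k4] at h2
    push_cast at h2 hn
    linarith
  have k6 : γ 1 = a * ν₁ χ₁ 1 := by
    rw [hγ, Pi.add_apply, hT1 _ hm, zero_add]; rfl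
  have k7 : γ 1 = N * ν₁ χ₁ 1 := by
    conv_lhs => rw [k5]
    rw [Finset.sum_apply, hN]
    push_cast
    rw [Finset.sum_mul]
    refine Finset.sum_congr rfl (fun φ hφ => ?_)
    have e1 := hall φ (mem_zspan_of_mem hφ)
    have e2 := h₁.degree_eq (fun α hα => hT1 α (zspanOn_mono hS₁ _ hα)) (mem_zspan_of_mem hφ) hχ₁'
      (hirr φ hφ).virt.exists_int_one (hirr χ₁ hχ₁).virt.exists_int_one
    rw [Pi.smul_apply, smul_eq_mul, ← hz φ hφ]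
    refine mul_left_cancel₀ hd₁ne ?_
    push_cast at e1
    linear_combination ⟪γ, ν₁ φ⟫ * e2 - ⟪γ, ν₁ φ⟫ * ν₁ χ₁ 1 * e1
  have k8 := mul_right_cancel₀ (h₁.isSIrr hχ₁ (hirr χ₁ hχ₁)).apply_one_ne_zero (k6.symm.trans k7)
  have k9 : a = N := by exact_mod_cast k8
  omega

end Cfsg.Agent.PF
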