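import Cfsg.Agent.PF.DadeVirt

/-!
# Peterfalvi (4.1) and §5: coherence
-/

set_option autoImplicit false
set_option linter.unusedSectionVars false

namespace Cfsg.Agent.PF

open Cfsg Cfsg.Agent.Char Cfsg.Agent.GT
open scoped ComplexConjugate

universe u v

section vectors

variable {G : Type u} [Group G] [Fintype G]

/-- Peterfalvi (4.1), with four real coefficients. -/
theorem ci_eq_zero_of_split {α β γ δ : G → ℂ} (hα : IsSIrr G α) (hβ : IsSIrr G β)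
    (hγ : IsSIrr G γ) (hδ : IsSIrr G δ) {s t u v : ℝ} (hs : s ≠ 0) (hu : u ≠ 0)
    (hab : ⟪α, β⟫ = 0) (hcd : ⟪γ, δ⟫ = 0)
    (hmix : ⟪(s : ℂ) • α - (t : ℂ) • β, (u : ℂ) • γ - (v : ℂ) • δ⟫ = 0)
    (h1 : (s : ℂ) * α 1 = t * β 1) (h2 : (u : ℂ) * γ 1 = v * δ 1) : ⟪α, γ⟫ = 0 := by
  by_contra hne
  have hs' : (s : ℂ) ≠ 0 := by exact_mod_cast hs
  have hu' : (u : ℂ) ≠ 0 := by exact_mod_cast hu
  obtain ⟨ε, hε, rfl⟩ : ∃ ε : ℂ, (ε = 1 ∨ ε = -1) ∧ α = ε • γ := by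
    rcases hα.eq_or_eq_neg_of_ci_ne_zero hγ hne with h | h
    · exact ⟨1, Or.inl rfl, by simpa using h⟩
    · exact ⟨-1, Or.inr rfl, by simpa using h⟩
  have hε0 : ε ≠ 0 := by rcases hε with rfl | rfl <;> norm_num
  have hbg : ⟪β, γ⟫ = 0 := by
    rw [ci_smul_left, mul_eq_zero] at hab
    exact ci_eq_zero_symm (hab.resolve_left hε0)
  simp only [ci_sub_left, ci_sub_right, ci_smul_left, ci_smul_right, Complex.conj_ofReal,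
    hγ.ci_self, hcd, hbg] at hmix
  have hbd : ⟪β, δ⟫ ≠ 0 := by
    intro h
    rw [h] at hmix
    simp [hs', hu', hε0] at hmix
  obtain ⟨ε', hε', rfl⟩ : ∃ ε' : ℂ, (ε' = 1 ∨ ε' = -1) ∧ β = ε' • δ := by
    rcases hβ.eq_or_eq_neg_of_ci_ne_zero hδ hbd with h | h
    · exact ⟨1, Or.inl rfl, by simpa using h⟩
    · exact ⟨-1, Or.inr rfl, by simpa using h⟩
  rw [ci_smul_left, hδ.ci_self] at hmix
  simp only [Pi.smul_apply, smul_eq_mul] at h1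
  have hγ1 := hγ.apply_one_ne_zero
  have e1 : (u : ℂ) * u * (s * ε) + v * v * (s * ε) = 0 := by
    have e2 : ((v : ℂ) * (s * ε) - t * ε' * u) * γ 1 = 0 := by
      linear_combination v * h1 - t * ε' * h2
    have e3 := (mul_eq_zero.1 e2).resolve_right hγ1
    linear_combination u * hmix + v * e3
  have e2 : ((u : ℂ) * u + v * v) = 0 := by
    have : ((u : ℂ) * u + v * v) * (s * ε) = 0 := by linear_combination e1
    exact (mul_eq_zero.1 this).resolve_right (mul_ne_zero hs' hε0)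
  have e3 : u * u + v * v = 0 := by exact_mod_cast e2
  have := mul_self_pos.2 hu
  nlinarith [mul_self_nonneg v]

/-- A virtual character of norm two, degree zero, negated by conjugation. -/
theorem exists_sub_conjFun {β : G → ℂ} (hβ : IsGeneralizedCharacter G β) (h2 : nsq β = 2)
    (h1 : β 1 = 0) (hc : conjFun β = -β) :
    ∃ μ, IsIrrCharacter G μ ∧ conjFun μ ≠ μ ∧ β = μ - conjFun μ := by
  classical
  obtain ⟨φ, ψ, hφ, hψ, hne, rfl⟩ := hβ.exists_sub_of_nsq_two h2 h1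
  have e := congrArg (fun x => ⟪x, φ⟫) hc
  simp only [conjFun_sub, ci_sub_left, ci_neg_left, hφ.ci_self, hψ.ci_of_ne hφ hne.symm,
    hφ.conjFun.ci_eq_ite hφ, hψ.conjFun.ci_eq_ite hφ] at e
  have e2 : conjFun ψ = φ := by
    by_contra h
    rw [if_neg h] at e
    split_ifs at e <;> norm_num at e
  refine ⟨φ, hφ, ?_, ?_⟩
  · rw [← e2, conjFun_conjFun, e2]; exact hne.symm
  · rw [← e2, conjFun_conjFun]

theorem int_le_sq (n : ℤ) : (n : ℝ) ≤ (n : ℝ) ^ 2 := by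
  have : n ≤ n ^ 2 := Int.le_self_sq n
  exact_mod_cast this

theorem norm_sq_of_eq_int {z : ℂ} {n : ℤ} (h : z = n) : ‖z‖ ^ 2 = (n : ℝ) ^ 2 := by
  rw [h, Complex.norm_intCast, sq_abs]

/-- The numerical core of Peterfalvi (5.4). -/
theorem proj_bound {R : Finset (G → ℂ)} (hR : ∀ α ∈ R, IsGeneralizedCharacter G α) {β : G → ℂ}
    (hβ : IsGeneralizedCharacter G β) {n : ℝ} (h : ⟪β, ∑ α ∈ R, α⟫ = n) :
    n ≤ ∑ α ∈ R, ‖⟪β, α⟫‖ ^ 2 ∧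
      (∑ α ∈ R, ‖⟪β, α⟫‖ ^ 2 ≤ n → ∀ α ∈ R, ⟪β, α⟫ = 0 ∨ ⟪β, α⟫ = 1) := by
  have e1 : n = ∑ α ∈ R, (zi β α : ℝ) := by
    rw [ci_sum_right, Finset.sum_congr rfl (fun α hα => hβ.ci_eq_zi (hR α hα))] at h
    exact_mod_cast h.symm
  have e2 : ∑ α ∈ R, ‖⟪β, α⟫‖ ^ 2 = ∑ α ∈ R, (zi β α : ℝ) ^ 2 :=
    Finset.sum_congr rfl (fun α hα => norm_sq_of_eq_int (hβ.ci_eq_zi (hR α hα)))
  rw [e1, e2]
  refine ⟨Finset.sum_le_sum (fun α _ => int_le_sq _), fun hle α hα => ?_⟩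
  have e3 := (Finset.sum_eq_sum_iff_of_le (fun α _ => int_le_sq (zi β α))).1
    (le_antisymm (Finset.sum_le_sum (fun α _ => int_le_sq _)) hle) α hα
  rw [hβ.ci_eq_zi (hR α hα)]
  have e4 : zi β α * (zi β α - 1) = 0 := by
    have : (zi β α : ℝ) * (zi β α - 1) = 0 := by linear_combination -e3
    exact_mod_cast this
  rcases mul_eq_zero.1 e4 with h | h
  · left; rw [h]; simp
  · right; rw [sub_eq_zero.1 h]; simp

theorem ci_sum_sum_orthonormal [DecidableEq (G → ℂ)] {R : Finset (G → ℂ)}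
    (ho : ∀ α ∈ R, ∀ β ∈ R, ⟪α, β⟫ = if α = β then 1 else 0) {E : Finset (G → ℂ)} (hE : E ⊆ R) :
    ⟪∑ α ∈ E, α, ∑ α ∈ R, α⟫ = E.card := by
  rw [ci_sum_left]
  have : ∀ α ∈ E, ⟪α, ∑ β ∈ R, β⟫ = 1 := by
    intro α hα
    rw [ci_sum_right, Finset.sum_congr rfl (fun β hβ => ho α (hE hα) β hβ), Finset.sum_ite_eq,
      if_pos (hE hα)]
  rw [Finset.sum_congr rfl this]; simp

theorem nsq_sum_orthonormal [DecidableEq (G → ℂ)] {R : Finset (G → ℂ)}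
    (ho : ∀ α ∈ R, ∀ β ∈ R, ⟪α, β⟫ = if α = β then 1 else 0) : nsq (∑ α ∈ R, α) = R.card :=
  nsq_eq_of_ci (by rw [ci_sum_sum_orthonormal ho subset_rfl]; simp)

/-- The core of Peterfalvi (5.5). -/
theorem exists_eq_sum_subset [DecidableEq (G → ℂ)] {R : Finset (G → ℂ)}
    (hR : ∀ α ∈ R, IsGeneralizedCharacter G α)
    (ho : ∀ α ∈ R, ∀ β ∈ R, ⟪α, β⟫ = if α = β then 1 else 0) {β : G → ℂ}
    (hβ : IsGeneralizedCharacter G β) {n : ℝ} (h : ⟪β, ∑ α ∈ R, α⟫ = n) (hn : nsq β ≤ n) :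
    ∃ E ⊆ R, β = ∑ α ∈ E, α ∧ (E.card : ℝ) = n := by
  obtain ⟨h1, h2⟩ := proj_bound hR hβ h
  have h3 := nsq_eq_sum_add_nsq_orthonormal R id ho β
  simp only [id] at h3
  have h4 := nsq_nonneg (β - ∑ α ∈ R, ⟪β, α⟫ • α)
  have h5 := h2 (by linarith)
  have h6 : β = ∑ α ∈ R, ⟪β, α⟫ • α := sub_eq_zero.1 (nsq_eq_zero.1 (by linarith))
  have h7 : β = ∑ α ∈ R.filter (fun α => ⟪β, α⟫ = 1), α := by
    rw [Finset.sum_filter]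
    conv_lhs => rw [h6]
    refine Finset.sum_congr rfl (fun α hα => ?_)
    rcases h5 α hα with h | h
    · simp [h]
    · simp [h]
  refine ⟨_, Finset.filter_subset _ _, h7, ?_⟩
  rw [h7, ci_sum_sum_orthonormal ho (Finset.filter_subset _ _)] at h
  exact_mod_cast h

/-- Pythagoras for an orthogonal family. -/
theorem nsq_eq_sum_add_nsq_orth {ι : Type*} (s : Finset ι) (e : ι → G → ℂ)
    (hne : ∀ i ∈ s, e i ≠ 0) (he : ∀ i ∈ s, ∀ j ∈ s, i ≠ j → ⟪e i, e j⟫ = 0) (φ : G → ℂ) :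
    nsq φ = ∑ i ∈ s, ‖⟪φ, e i⟫‖ ^ 2 / nsq (e i)
      + nsq (φ - ∑ i ∈ s, (⟪φ, e i⟫ / (nsq (e i) : ℂ)) • e i) := by
  classical
  have hpos : ∀ i ∈ s, 0 < nsq (e i) := fun i hi => nsq_pos (hne i hi)
  have h1 : ∀ j ∈ s, ⟪φ - ∑ i ∈ s, (⟪φ, e i⟫ / (nsq (e i) : ℂ)) • e i, e j⟫ = 0 := by
    intro j hj
    rw [ci_sub_left, ci_sum_left, Finset.sum_eq_single j]
    · rw [ci_smul_left, ci_self, div_mul_cancel₀, sub_self]
      exact_mod_cast (hpos j hj).ne'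
    · intro i hi hij; rw [ci_smul_left, he i hi j hj hij, mul_zero]
    · intro h; exact absurd hj h
  have h2 : ⟪∑ i ∈ s, (⟪φ, e i⟫ / (nsq (e i) : ℂ)) • e i,
      φ - ∑ i ∈ s, (⟪φ, e i⟫ / (nsq (e i) : ℂ)) • e i⟫ = 0 := by
    rw [ci_sum_left]
    exact Finset.sum_eq_zero (fun j hj => by rw [ci_smul_left, ci_eq_zero_symm (h1 j hj), mul_zero])
  have h3 := nsq_add_of_orth h2
  rw [add_sub_cancel] at h3
  rw [h3, nsq_sum_of_orth]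
  · congr 1
    refine Finset.sum_congr rfl (fun i hi => ?_)
    rw [nsq_smul, norm_div, Complex.norm_real, Real.norm_eq_abs, abs_of_pos (hpos i hi)]
    have := (hpos i hi).ne'
    field_simp
  · intro i hi j hj hij
    rw [ci_smul_left, ci_smul_right, he i hi j hj hij, mul_zero, mul_zero]

theorem bessel_orth {ι : Type*} (s : Finset ι) (e : ι → G → ℂ)
    (hne : ∀ i ∈ s, e i ≠ 0) (he : ∀ i ∈ s, ∀ j ∈ s, i ≠ j → ⟪e i, e j⟫ = 0) (φ : G → ℂ) :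
    ∑ i ∈ s, ‖⟪φ, e i⟫‖ ^ 2 / nsq (e i) ≤ nsq φ := by
  rw [nsq_eq_sum_add_nsq_orth s e hne he φ]
  exact le_add_of_nonneg_right (nsq_nonneg _)

theorem ci_sum_sum_eq_zero {E E' : Finset (G → ℂ)} (h : ∀ α ∈ E, ∀ β ∈ E', ⟪α, β⟫ = 0) :
    ⟪∑ α ∈ E, α, ∑ β ∈ E', β⟫ = 0 := by
  rw [ci_sum_left]
  refine Finset.sum_eq_zero (fun α hα => ?_)
  rw [ci_sum_right]
  exact Finset.sum_eq_zero (h α hα)

end vectors

section cohwith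

variable {L : Type u} [Group L] [Fintype L] {G : Type v} [Group G] [Fintype G]

/-- `ν` is a linear isometry on `ℤ[S]` extending `τ` on `ℤ[S, L^#]`. -/
def CohWith (S : Set (L → ℂ)) (τ : (L → ℂ) → (G → ℂ)) (ν : (L → ℂ) →ₗ[ℂ] (G → ℂ)) : Prop :=
  IsLinearIsometryOn (zspan S) ν ∧ ∀ α ∈ zspanOn S {1}ᶜ, ν α = τ α

variable {S S₁ S₂ : Set (L → ℂ)} {τ : (L → ℂ) → (G → ℂ)} {ν ν₁ ν₂ : (L → ℂ) →ₗ[ℂ] (G → ℂ)}

theorem _root_.Cfsg.IsCoherent.exists_cohWith (h : IsCoherent S {1}ᶜ τ) : ∃ ν, CohWith S τ ν :=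
  h.exists_linearMap

theorem CohWith.isCoherent (h : CohWith S τ ν) (hne : ∃ α ∈ zspanOn S {1}ᶜ, α ≠ 0) :
    IsCoherent S {1}ᶜ τ := ⟨hne, ν, h.1, h.2⟩

theorem CohWith.ci_eq (h : CohWith S τ ν) {α β : L → ℂ} (hα : α ∈ zspan S) (hβ : β ∈ zspan S) :
    ⟪ν α, ν β⟫ = ⟪α, β⟫ := h.1.ci_eq hα hβ

theorem CohWith.ci_mem (h : CohWith S τ ν) {α β : L → ℂ} (hα : α ∈ S) (hβ : β ∈ S) :
    ⟪ν α, ν β⟫ = ⟪α, β⟫ := h.1.ci_eq (mem_zspan_of_mem hα) (mem_zspan_of_mem hβ)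

theorem CohWith.nsq_eq (h : CohWith S τ ν) {α : L → ℂ} (hα : α ∈ zspan S) :
    nsq (ν α) = nsq α := h.1.nsq_eq hα

theorem CohWith.virt (h : CohWith S τ ν) {α : L → ℂ} (hα : α ∈ zspan S) :
    IsGeneralizedCharacter G (ν α) := h.1.virt hα

theorem CohWith.virt_mem (h : CohWith S τ ν) {α : L → ℂ} (hα : α ∈ S) :
    IsGeneralizedCharacter G (ν α) := h.1.virt (mem_zspan_of_mem hα)

theorem CohWith.eq (h : CohWith S τ ν) {α : L → ℂ} (hα : α ∈ zspan S) (h1 : α 1 = 0) :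
    ν α = τ α := h.2 α (mem_zspanOn_one.2 ⟨hα, h1⟩)

theorem CohWith.subset (h : CohWith S τ ν) (hS : S₁ ⊆ S) : CohWith S₁ τ ν :=
  ⟨h.1.mono (zspan_mono hS), fun α hα => h.2 α (zspanOn_mono hS _ hα)⟩

theorem CohWith.subset_zspan (h : CohWith S τ ν) (hS : S₁ ⊆ zspan S) : CohWith S₁ τ ν :=
  ⟨h.1.mono (zspan_subset_of_subset hS), fun α hα => h.2 α ⟨zspan_subset_of_subset hS hα.1, hα.2⟩⟩

theorem CohWith.congr (h : CohWith S τ ν) {τ' : (L → ℂ) → (G → ℂ)}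
    (h' : ∀ α ∈ zspanOn S {1}ᶜ, τ α = τ' α) : CohWith S τ' ν :=
  ⟨h.1, fun α hα => (h.2 α hα).trans (h' α hα)⟩

theorem CohWith.isSIrr (h : CohWith S τ ν) {χ : L → ℂ} (hχ : χ ∈ S) (hirr : IsIrrCharacter L χ) :
    IsSIrr G (ν χ) :=
  (h.virt_mem hχ).isSIrr_of_ci_self ((h.ci_mem hχ hχ).trans hirr.ci_self)

theorem sub_mem_zspanOn_one {χ φ : L → ℂ} (hχ : χ ∈ zspan S) (hφ : φ ∈ zspan S) (h : χ 1 = φ 1) :
    χ - φ ∈ zspanOn S {1}ᶜ :=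
  mem_zspanOn_one.2 ⟨sub_mem_zspan hχ hφ, sub_eq_zero.2 h⟩

/-- two distinct irreducible characters give a nonzero element of degree zero -/
theorem exists_ne_zero_of_orth {χ φ : L → ℂ} (hχ : χ ∈ S) (hφ : φ ∈ S) (hχc : IsCharacter L χ)
    (hφc : IsCharacter L φ) (h0 : χ ≠ 0) (h0' : φ ≠ 0) (h : ⟪χ, φ⟫ = 0) :
    ∃ α ∈ zspanOn S {1}ᶜ, α ≠ 0 := by
  refine ⟨_, degree_comb_mem_zspanOn (mem_zspan_of_mem hχ) (mem_zspan_of_mem hφ)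
    hχc.virt.exists_int_one hφc.virt.exists_int_one, fun e => ?_⟩
  have := congrArg (fun x => ⟪x, χ⟫) e
  simp only [ci_sub_left, ci_smul_left, ci_eq_zero_symm h, mul_zero, sub_zero, ci_zero_left,
    mul_eq_zero] at this
  rcases this with h1 | h1
  · exact h0' (hφc.eq_zero_of_degree h1)
  · exact h0 (ci_self_eq_zero.1 h1)

theorem exists_ne_zero_of_irr {χ φ : L → ℂ} (hχ : χ ∈ S) (hφ : φ ∈ S) (hχc : IsIrrCharacter L χ)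
    (hφc : IsIrrCharacter L φ) (h : χ ≠ φ) : ∃ α ∈ zspanOn S {1}ᶜ, α ≠ 0 :=
  exists_ne_zero_of_orth hχ hφ hχc.isCharacter hφc.isCharacter hχc.ne_zero hφc.ne_zero
    (hχc.ci_of_ne hφc h)

/-- Building a coherent extension from its values on `S`, with a pivot in `ℤ[S]`. -/
theorem exists_cohWith_of_map (T : (L → ℂ) →ₗ[ℂ] (G → ℂ))
    (f : (L → ℂ) → (G → ℂ)) (h : ∀ α ∈ S, ∀ β ∈ S, ⟪f α, f β⟫ = ⟪α, β⟫)
    (hv : ∀ α ∈ S, IsGeneralizedCharacter G (f α)) {χ₀ : L → ℂ} (hχ₀ : χ₀ ∈ S) (h0 : χ₀ 1 ≠ 0)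
    (hagree : ∀ χ ∈ S, T (χ₀ 1 • χ - χ 1 • χ₀) = χ₀ 1 • f χ - χ 1 • f χ₀) :
    ∃ ν, CohWith S T ν ∧ ∀ χ ∈ S, ν χ = f χ := by
  obtain ⟨ν, hν, hiso⟩ := exists_isometry_zspan S f h hv
  refine ⟨ν, ⟨hiso, fun α hα => linearMap_eq_on_degree_zero h0 (fun χ hχ => ?_) hα⟩, hν⟩
  rw [hagree χ hχ, map_sub, map_smul, map_smul, hν χ hχ, hν χ₀ hχ₀]

/-- Coherence from a pivot. -/
theorem exists_cohWith_pivot (T : (L → ℂ) →ₗ[ℂ] (G → ℂ))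
    (hT : IsLinearIsometryOn (zspanOn S {1}ᶜ) T) {χ₀ : L → ℂ} (hχ₀ : χ₀ ∈ S) (h0 : χ₀ 1 ≠ 0)
    {X : G → ℂ} (hX : IsGeneralizedCharacter G X) (hXn : ⟪X, X⟫ = ⟪χ₀, χ₀⟫)
    (h : ∀ φ ∈ S, ∃ a : ℤ, φ 1 = a * χ₀ 1 ∧ ⟪T (φ - (a : ℂ) • χ₀), X⟫ = ⟪φ - (a : ℂ) • χ₀, χ₀⟫) :
    ∃ ν, CohWith S T ν ∧ ν χ₀ = X := by
  choose! a ha hX' using h
  have hmem : ∀ φ ∈ S, φ - (a φ : ℂ) • χ₀ ∈ zspanOn S {1}ᶜ := fun φ hφ =>
    sub_mem_zspanOn_one (mem_zspan_of_mem hφ) (intCast_smul_mem_zspan _ (mem_zspan_of_mem hχ₀))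
      (ha φ hφ)
  have ha0 : (a χ₀ : ℂ) = 1 := by
    have := ha χ₀ hχ₀
    exact mul_right_cancel₀ h0 (by rw [← this, one_mul])
  refine (exists_cohWith_of_map (S := S) T
    (fun φ => T (φ - (a φ : ℂ) • χ₀) + (a φ : ℂ) • X) ?_ ?_ hχ₀ h0 ?_).imp ?_
  rotate_right
  · rintro ν ⟨hν, hν'⟩
    refine ⟨hν, ?_⟩
    rw [hν' χ₀ hχ₀, ha0]; simp
  · intro φ hφ ψ hψ
    have e1 := hX' ψ hψ
    rw [← ci_conj_symm, ← ci_conj_symm χ₀] at e1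
    have e2 := (starRingEnd ℂ).injective e1
    rw [ci_add_left, ci_add_right, ci_add_right, hT.ci_eq (hmem φ hφ) (hmem ψ hψ),
      ci_smul_left, ci_smul_left, ci_smul_right, ci_smul_right, hX' φ hφ, e2, hXn]
    simp only [ci_sub_left, ci_sub_right, ci_smul_left, ci_smul_right]
    ring
  · intro φ hφ
    exact (hT.virt (hmem φ hφ)).add (hX.intCast_smul _)
  · intro φ hφ
    simp only [ha0, one_smul, sub_self, map_zero, zero_add, ha φ hφ, map_sub, map_smul, smul_add,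
      smul_sub, smul_smul, mul_comm (χ₀ 1)]
    abel

/-- Gluing two coherent families along a bridge. -/
theorem CohWith.bridge {T : (L → ℂ) →ₗ[ℂ] (G → ℂ)} (h₁ : CohWith S₁ T ν₁) (h₂ : CohWith S₂ T ν₂)
    (hd₁ : ∀ χ ∈ S₁, ∃ n : ℤ, χ 1 = n) (hd₂ : ∀ χ ∈ S₂, ∃ n : ℤ, χ 1 = n)
    (hdisj : Disjoint S₁ S₂) (horth : ∀ χ ∈ S₁, ∀ φ ∈ S₂, ⟪χ, φ⟫ = 0)
    (horth' : ∀ χ ∈ S₁, ∀ φ ∈ S₂, ⟪ν₁ χ, ν₂ φ⟫ = 0)
    {χ₀ φ₀ : L → ℂ} (hχ₀ : χ₀ ∈ zspan S₁) (hφ₀ : φ₀ ∈ zspan S₂) (hdeg : χ₀ 1 = φ₀ 1)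
    (h0 : χ₀ 1 ≠ 0) (hb : T (χ₀ - φ₀) = ν₁ χ₀ - ν₂ φ₀) :
    ∃ ν, CohWith (S₁ ∪ S₂) T ν ∧ (∀ χ ∈ S₁, ν χ = ν₁ χ) ∧ ∀ χ ∈ S₂, ν χ = ν₂ χ := by
  classical
  have hz : ∀ {S : Set (L → ℂ)}, (∀ χ ∈ S, ∃ n : ℤ, χ 1 = n) → ∀ χ ∈ zspan S, ∃ n : ℤ, χ 1 = n := by
    intro S hS χ hχ
    refine zspan_induction hS ⟨0, by simp⟩ ?_ ?_ hχ
    · rintro α β - - ⟨m, hm⟩ ⟨n, hn⟩; exact ⟨m + n, by simp [hm, hn]⟩
    · rintro k α - ⟨m, hm⟩; exact ⟨k * m, by simp [hm]⟩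
  refine (exists_isometry_zspan (S₁ ∪ S₂) (fun χ => if χ ∈ S₁ then ν₁ χ else ν₂ χ)
    ?_ ?_).imp ?_
  rotate_right
  · rintro ν ⟨hν, hiso⟩
    have e₁ : ∀ χ ∈ S₁, ν χ = ν₁ χ := fun χ hχ => by rw [hν χ (Or.inl hχ), if_pos hχ]
    have e₂ : ∀ χ ∈ S₂, ν χ = ν₂ χ := fun χ hχ => by
      rw [hν χ (Or.inr hχ), if_neg (fun h => Set.disjoint_left.1 hdisj h hχ)]
    refine ⟨⟨hiso, fun α hα => linearMap_eq_on_degree_zero h0 (fun χ hχ => ?_) hα⟩, e₁, e₂⟩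
    rcases hχ with hχ | hχ
    · have hm := degree_comb_mem_zspanOn (mem_zspan_of_mem hχ) hχ₀ (hd₁ χ hχ) (hz hd₁ _ hχ₀)
      rw [← h₁.2 _ hm]
      exact linearMap_eq_of_mem_zspan e₁ hm.1
    · have hm := degree_comb_mem_zspanOn (mem_zspan_of_mem hχ) hφ₀ (hd₂ χ hχ) (hz hd₂ _ hφ₀)
      have e : χ₀ 1 • χ - χ 1 • χ₀ = (φ₀ 1 • χ - χ 1 • φ₀) - χ 1 • (χ₀ - φ₀) := by
        rw [hdeg, smul_sub]; abel
      rw [e, map_sub, map_sub T, map_smul, map_smul T, hb, ← h₂.2 _ hm,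
        linearMap_eq_of_mem_zspan e₂ hm.1, map_sub ν, linearMap_eq_of_mem_zspan e₁ hχ₀,
        linearMap_eq_of_mem_zspan e₂ hφ₀]
  · have n₂ : ∀ χ ∈ S₂, χ ∉ S₁ := fun χ hχ h => Set.disjoint_left.1 hdisj h hχ
    rintro α (hα | hα) β (hβ | hβ)
    · rw [if_pos hα, if_pos hβ, h₁.ci_mem hα hβ]
    · rw [if_pos hα, if_neg (n₂ β hβ), horth α hα β hβ, horth' α hα β hβ]
    · rw [if_neg (n₂ α hα), if_pos hβ, ci_eq_zero_symm (horth β hβ α hα),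
        ci_eq_zero_symm (horth' β hβ α hα)]
    · rw [if_neg (n₂ α hα), if_neg (n₂ β hβ), h₂.ci_mem hα hβ]
  · intro α hα
    split_ifs with h
    · exact h₁.virt_mem h
    · exact h₂.virt_mem (hα.resolve_left h)

/-- degrees of the images of a coherent family are proportional to the degrees -/
theorem CohWith.degree_eq (h : CohWith S τ ν) (hτ1 : ∀ α ∈ zspanOn S {1}ᶜ, τ α 1 = 0)
    {χ φ : L → ℂ} (hχ : χ ∈ zspan S) (hφ : φ ∈ zspan S) (hd : ∃ n : ℤ, χ 1 = n)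
    (hd' : ∃ n : ℤ, φ 1 = n) : φ 1 * ν χ 1 = χ 1 * ν φ 1 := by
  have hm := degree_comb_mem_zspanOn hχ hφ hd hd'
  have := hτ1 _ hm
  rw [← h.2 _ hm, map_sub, map_smul, map_smul] at this
  exact sub_eq_zero.1 this

/-- Isaacs (7.15)/Peterfalvi: images of two disjoint coherent families of irreducibles are
orthogonal. -/
theorem CohWith.orth_of_irr {T : (L → ℂ) → (G → ℂ)} (hT : IsLinearIsometryOn (zspanOn S {1}ᶜ) T)
    (hT1 : ∀ α ∈ zspanOn S {1}ᶜ, T α 1 = 0) (h₁ : CohWith S₁ T ν₁) (h₂ : CohWith S₂ T ν₂)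
    (hS₁ : S₁ ⊆ S) (hS₂ : S₂ ⊆ S) {χ χ' φ φ' : L → ℂ} (hχ : χ ∈ S₁) (hχ' : χ' ∈ S₁) (hφ : φ ∈ S₂)
    (hφ' : φ' ∈ S₂) (iχ : IsIrrCharacter L χ) (iχ' : IsIrrCharacter L χ')
    (iφ : IsIrrCharacter L φ) (iφ' : IsIrrCharacter L φ') (n1 : χ ≠ χ') (n2 : φ ≠ φ')
    (n3 : χ ≠ φ) (n4 : χ ≠ φ') (n5 : χ' ≠ φ) (n6 : χ' ≠ φ') : ⟪ν₁ χ, ν₂ φ⟫ = 0 := by
  obtain ⟨d, hd0, hd⟩ := iχ.exists_degree
  obtain ⟨d', hd0', hd'⟩ := iχ'.exists_degree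
  obtain ⟨e, he0, he⟩ := iφ.exists_degree
  obtain ⟨e', he0', he'⟩ := iφ'.exists_degree
  have m1 := degree_comb_mem_zspanOn (mem_zspan_of_mem hχ) (mem_zspan_of_mem hχ')
    iχ.virt.exists_int_one iχ'.virt.exists_int_one
  have m2 := degree_comb_mem_zspanOn (mem_zspan_of_mem hφ) (mem_zspan_of_mem hφ')
    iφ.virt.exists_int_one iφ'.virt.exists_int_one
  refine ci_eq_zero_of_split (h₁.isSIrr hχ iχ) (h₁.isSIrr hχ' iχ') (h₂.isSIrr hφ iφ)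
    (h₂.isSIrr hφ' iφ') (s := d') (t := d) (u := e') (v := e) (by positivity) (by positivity)
    ((h₁.ci_mem hχ hχ').trans (iχ.ci_of_ne iχ' n1)) ((h₂.ci_mem hφ hφ').trans (iφ.ci_of_ne iφ' n2))
    ?_ ?_ ?_
  · have := hT.ci_eq (zspanOn_mono hS₁ _ m1) (zspanOn_mono hS₂ _ m2)
    rw [← h₁.2 _ m1, ← h₂.2 _ m2] at this
    simp only [map_sub, map_smul, hd, hd', he, he'] at this
    push_cast
    rw [this]
    simp only [ci_sub_left, ci_sub_right, ci_smul_left, ci_smul_right, iχ.ci_of_ne iφ n3,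
      iχ.ci_of_ne iφ' n4, iχ'.ci_of_ne iφ n5, iχ'.ci_of_ne iφ' n6, mul_zero, sub_zero]
  · have := h₁.degree_eq (fun α hα => hT1 α (zspanOn_mono hS₁ _ hα)) (mem_zspan_of_mem hχ)
      (mem_zspan_of_mem hχ') iχ.virt.exists_int_one iχ'.virt.exists_int_one
    rw [hd, hd'] at this
    exact_mod_cast this
  · have := h₂.degree_eq (fun α hα => hT1 α (zspanOn_mono hS₂ _ hα)) (mem_zspan_of_mem hφ)
      (mem_zspan_of_mem hφ') iφ.virt.exists_int_one iφ'.virt.exists_int_one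
    rw [he, he'] at this
    exact_mod_cast this

/-- uniform signs -/
theorem CohWith.exists_sign (h : CohWith S τ ν) (hτ1 : ∀ α ∈ zspanOn S {1}ᶜ, τ α 1 = 0)
    (hirr : ∀ χ ∈ S, IsIrrCharacter L χ) :
    ∃ ε : ℂ, (ε = 1 ∨ ε = -1) ∧ ∀ χ ∈ S, IsIrrCharacter G (ε • ν χ) := by
  rcases S.eq_empty_or_nonempty with rfl | ⟨χ₀, hχ₀⟩
  · exact ⟨1, Or.inl rfl, by simp⟩
  obtain ⟨ε, hε, h0⟩ : ∃ ε : ℂ, (ε = 1 ∨ ε = -1) ∧ IsIrrCharacter G (ε • ν χ₀) := by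
    rcases h.isSIrr hχ₀ (hirr χ₀ hχ₀) with h1 | h1
    · exact ⟨1, Or.inl rfl, by simpa using h1⟩
    · exact ⟨-1, Or.inr rfl, by simpa using h1⟩
  refine ⟨ε, hε, fun χ hχ => ((h.isSIrr hχ (hirr χ hχ)).smul hε).isIrr_of_pos ?_⟩
  have e := h.degree_eq hτ1 (mem_zspan_of_mem hχ) (mem_zspan_of_mem hχ₀)
    (hirr χ hχ).virt.exists_int_one (hirr χ₀ hχ₀).virt.exists_int_one
  obtain ⟨d, hd0, hd⟩ := (hirr χ hχ).exists_degree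
  obtain ⟨d', hd0', hd'⟩ := (hirr χ₀ hχ₀).exists_degree
  have e2 : (d' : ℂ) * (ε • ν χ) 1 = d * (ε • ν χ₀) 1 := by
    rw [hd, hd'] at e
    simp only [Pi.smul_apply, smul_eq_mul]
    linear_combination ε * e
  have e3 := congrArg Complex.re e2
  simp only [Complex.mul_re, Complex.natCast_re, Complex.natCast_im, zero_mul, sub_zero] at e3
  have h1 := h0.re_one_pos
  have h2 : (0 : ℝ) < d := by exact_mod_cast hd0
  have h3 : (0 : ℝ) < d' := by exact_mod_cast hd0'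
  by_contra hn
  push Not at hn
  nlinarith [mul_pos h2 h1, mul_nonneg h3.le (neg_nonneg.2 hn)]

/-- The common computation in Peterfalvi (5.6) and Isaacs (7.14). -/
theorem CohWith.extend_aux {T : (L → ℂ) →ₗ[ℂ] (G → ℂ)}
    (hT : IsLinearIsometryOn (zspanOn S {1}ᶜ) T) (h₁ : CohWith S₁ T ν₁) (hS₁ : S₁ ⊆ S)
    (hd : ∀ φ ∈ S₁, IsGeneralizedCharacter L φ)
    {χ χ₁ : L → ℂ} (hχ : χ ∈ zspan S) (hχ₁ : χ₁ ∈ zspan S₁) {a : ℤ} (ha : χ 1 = a * χ₁ 1)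
    (horth : ∀ φ ∈ S₁, ⟪χ, φ⟫ = 0) :
    IsGeneralizedCharacter G (T (χ - (a : ℂ) • χ₁) + (a : ℂ) • ν₁ χ₁) ∧ ∃ l : ℤ,
      nsq (T (χ - (a : ℂ) • χ₁) + (a : ℂ) • ν₁ χ₁) = nsq χ + 2 * a * l ∧
      ⟪T (χ - (a : ℂ) • χ₁) + (a : ℂ) • ν₁ χ₁, ν₁ χ₁⟫ = l ∧
      ∀ φ ∈ zspan S₁, χ₁ 1 * ⟪T (χ - (a : ℂ) • χ₁) + (a : ℂ) • ν₁ χ₁, ν₁ φ⟫ = l * φ 1 := by
  have hm : χ - (a : ℂ) • χ₁ ∈ zspanOn S {1}ᶜ :=
    sub_mem_zspanOn_one hχ (intCast_smul_mem_zspan _ (zspan_mono hS₁ hχ₁)) ha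
  have hv := (hT.virt hm).add ((h₁.virt hχ₁).intCast_smul a)
  obtain ⟨l, hl⟩ := hv.ci_int (h₁.virt hχ₁)
  have horth' : ∀ φ ∈ zspan S₁, ⟪χ, φ⟫ = 0 := fun φ hφ =>
    ci_eq_zero_symm (ci_eq_zero_of_mem_zspan (fun φ hφ => ci_eq_zero_symm (horth φ hφ)) hφ)
  have hvz : ∀ φ ∈ zspan S₁, IsGeneralizedCharacter L φ := fun φ hφ => virt_of_mem_zspan hd hφ
  refine ⟨hv, l, ?_, hl, fun φ hφ => ?_⟩
  · have e1 : T (χ - (a : ℂ) • χ₁) = (T (χ - (a : ℂ) • χ₁) + (a : ℂ) • ν₁ χ₁) - (a : ℂ) • ν₁ χ₁ := by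
      abel
    have e2 := hT.nsq_eq hm
    rw [e1, nsq_sub, ci_smul_right, hl, nsq_sub, ci_smul_right, horth' _ hχ₁, nsq_smul, nsq_smul,
      h₁.nsq_eq hχ₁] at e2
    simp only [map_intCast, mul_zero, Complex.zero_re, sub_zero] at e2
    rw [← Int.cast_mul, Complex.intCast_re] at e2
    push_cast at e2
    linarith
  · have hm' := degree_comb_mem_zspanOn hφ hχ₁ (hvz φ hφ).exists_int_one
      (hvz χ₁ hχ₁).exists_int_one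
    have e1 := hT.ci_eq hm (zspanOn_mono hS₁ _ hm')
    rw [← h₁.2 _ hm'] at e1
    rw [ci_add_left, ci_smul_left, h₁.ci_eq hχ₁ hχ₁] at hl
    rw [ci_add_left, ci_smul_left, h₁.ci_eq hχ₁ hφ]
    simp only [map_sub ν₁, map_smul ν₁, ci_sub_right, ci_smul_right, (hvz φ hφ).conj_one,
      (hvz χ₁ hχ₁).conj_one] at e1
    simp only [ci_sub_left χ, ci_smul_left, horth' φ hφ, horth' χ₁ hχ₁] at e1
    linear_combination e1 + φ 1 * hl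

end cohwith

end Cfsg.Agent.PF
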