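import Cfsg.Agent.Char.Integrality
import Cfsg.Agent.GT.Constt

/-!
# Peterfalvi (2.1): cosets of a coprime normalizing element; some counting lemmas
-/

set_option autoImplicit false
set_option linter.unusedSectionVars false

namespace Cfsg.Agent.PF

open Cfsg Cfsg.Agent.Char Cfsg.Agent.GT
open scoped ComplexConjugate

universe u v

variable {G : Type u} [Group G]

theorem exists_crt_pow {m n : ℕ} (h : Nat.Coprime m n) :
    ∃ k : ℕ, m ∣ k ∧ k ≡ 1 [MOD n] := by
  obtain ⟨k, hk1, hk2⟩ := Nat.chineseRemainder h 0 1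
  exact ⟨k, (Nat.modEq_zero_iff_dvd).1 hk1, hk2⟩

theorem pow_eq_self_of_modEq {a : G} {k n : ℕ} (hn : orderOf a ∣ n) (hk : k ≡ 1 [MOD n]) :
    a ^ k = a := by
  have : a ^ k = a ^ 1 := pow_eq_pow_iff_modEq.2 (hk.of_dvd hn)
  simpa using this

theorem mul_pow_eq_of_crt {a u : G} (hc : a * u = u * a) {k n m : ℕ} (hn : orderOf a ∣ n)
    (hm : orderOf u ∣ m) (hk : k ≡ 1 [MOD n]) (hk' : m ∣ k) : (a * u) ^ k = a := by
  rw [(show Commute a u from hc).mul_pow, pow_eq_self_of_modEq hn hk,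
    orderOf_dvd_iff_pow_eq_one.1 (hm.trans hk'), mul_one]

/-- If `g (a u) g⁻¹ = b v` with `a, u` commuting, `b, v` commuting, and the orders of `a, b`
coprime to those of `u, v`, then `g a g⁻¹ = b`. -/
theorem conj_eq_of_conj_mul_eq {a u b v g : G} (hau : a * u = u * a) (hbv : b * v = v * b)
    {m n : ℕ} (hmn : Nat.Coprime m n) (ha : orderOf a ∣ n) (hb : orderOf b ∣ n)
    (hu : orderOf u ∣ m) (hv : orderOf v ∣ m) (h : g * (a * u) * g⁻¹ = b * v) :
    g * a * g⁻¹ = b := by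
  obtain ⟨k, hk1, hk2⟩ := exists_crt_pow hmn
  have e1 := mul_pow_eq_of_crt hau ha hu hk2 hk1
  have e2 := mul_pow_eq_of_crt hbv hb hv hk2 hk1
  rw [← h, conj_pow, e1] at e2
  exact e2

theorem mul_pow_mul_inv_mem {K : Subgroup G} {h c : G} (hc : c ∈ 𝒩(K)) (hh : h ∈ K) (n : ℕ) :
    (h * c) ^ n * (c ^ n)⁻¹ ∈ K := by
  induction n with
  | zero => simp
  | succ n ih =>
    have : (h * c) ^ (n + 1) * (c ^ (n + 1))⁻¹
        = ((h * c) ^ n * (c ^ n)⁻¹) * (c ^ n * h * (c ^ n)⁻¹) := by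
      rw [pow_succ, pow_succ]; group
    rw [this]
    exact K.mul_mem ih (conj_mem_of_mem_norm (Subgroup.pow_mem _ hc n) hh)

/-- the average of `F` over the coset `a K` -/
noncomputable def cosAvg (K : Subgroup G) (F : G → ℂ) (a : G) : ℂ :=
  (Nat.card K : ℂ)⁻¹ * ∑ᶠ u ∈ (K : Set G), F (a * u)

theorem finsum_mem_subgroup {M : Type v} [AddCommMonoid M] (K : Subgroup G) [Fintype K]
    (f : G → M) : ∑ᶠ u ∈ (K : Set G), f u = ∑ u : K, f u := by
  rw [← finsum_set_coe_eq_finsum_mem]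
  exact finsum_eq_sum_of_fintype (fun u : K => f u)

theorem cosAvg_eq_sum (K : Subgroup G) [Fintype K] (F : G → ℂ) (a : G) :
    cosAvg K F a = (Nat.card K : ℂ)⁻¹ * ∑ u : K, F (a * u) := by
  rw [cosAvg, finsum_mem_subgroup K (fun u => F (a * u))]

theorem cosAvg_eq_sum_ite [Fintype G] (K : Subgroup G) [DecidablePred (· ∈ K)] (F : G → ℂ)
    (a : G) : cosAvg K F a = (Nat.card K : ℂ)⁻¹ * ∑ u : G, if u ∈ K then F (a * u) else 0 := by
  classical
  rw [cosAvg_eq_sum, sum_subgroup_eq_sum_ite K (fun u => F (a * u))]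

theorem cosAvg_of_forall [Finite G] {K : Subgroup G} {F : G → ℂ} {a : G} {c : ℂ}
    (h : ∀ u ∈ K, F (a * u) = c) : cosAvg K F a = c := by
  classical
  have := Fintype.ofFinite K
  rw [cosAvg_eq_sum, Finset.sum_congr rfl (fun (u : K) _ => h u u.2), Finset.sum_const,
    Finset.card_univ, ← Nat.card_eq_fintype_card, nsmul_eq_mul, ← mul_assoc,
    inv_mul_cancel₀ (card_ne_zero_complex K), one_mul]

theorem cosAvg_bot [Finite G] (F : G → ℂ) (a : G) : cosAvg ⊥ F a = F a :=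
  cosAvg_of_forall (fun u hu => by rw [Subgroup.mem_bot.1 hu, mul_one])

theorem cosAvg_congr [Finite G] {K : Subgroup G} {F F' : G → ℂ} {a a' : G}
    (h : ∀ u ∈ K, F (a * u) = F' (a' * u)) : cosAvg K F a = cosAvg K F' a' := by
  classical
  have := Fintype.ofFinite K
  rw [cosAvg_eq_sum, cosAvg_eq_sum, Finset.sum_congr rfl (fun (u : K) _ => h u u.2)]

theorem conj_cosAvg [Finite G] (K : Subgroup G) (F : G → ℂ) (a : G) :
    conj (cosAvg K F a) = cosAvg K (conjFun F) a := by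
  classical
  have := Fintype.ofFinite K
  rw [cosAvg_eq_sum, cosAvg_eq_sum, map_mul, map_sum, map_inv₀, map_natCast]
  rfl

theorem cosAvg_const_mul [Finite G] (K : Subgroup G) (c : ℂ) (F : G → ℂ) (a : G) :
    cosAvg K (fun g => c * F g) a = c * cosAvg K F a := by
  classical
  have := Fintype.ofFinite K
  rw [cosAvg_eq_sum, cosAvg_eq_sum, ← Finset.mul_sum]; ring

section coset

variable [Finite G] (K : Subgroup G) (g : G)

/-- The bijection behind Peterfalvi (2.1). -/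
noncomputable def cosetMap (hg : g ∈ 𝒩(K))
    (p : (K ⧸ (𝒞[g]).subgroupOf K) × ↥(K ⊓ 𝒞[g])) : K :=
  ⟨(p.1.out : K) * ((p.2 : G) * g) * ((p.1.out : K) : G)⁻¹ * g⁻¹, by
    have : ((p.1.out : K) : G) * ((p.2 : G) * g) * ((p.1.out : K) : G)⁻¹ * g⁻¹
        = (p.1.out : K) * (p.2 : G) * (g * ((p.1.out : K) : G)⁻¹ * g⁻¹) := by group
    rw [this]
    exact K.mul_mem (K.mul_mem (p.1.out).2 p.2.2.1)
      (conj_mem_of_mem_norm hg (K.inv_mem (p.1.out).2))⟩

theorem cosetMap_bijective (hg : g ∈ 𝒩(K)) (hcop : Nat.Coprime (orderOf g) (Nat.card K)) :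
    Function.Bijective (cosetMap K g hg) := by
  classical
  have := Fintype.ofFinite K
  have := Fintype.ofFinite (K ⧸ (𝒞[g]).subgroupOf K)
  have := Fintype.ofFinite ↥(K ⊓ 𝒞[g])
  refine (Fintype.bijective_iff_injective_and_card _).2 ⟨?_, ?_⟩
  · rintro ⟨q, c⟩ ⟨q', c'⟩ h
    have h1 := congrArg Subtype.val h
    simp only [cosetMap] at h1
    have h2 : ((q'.out : K) : G)⁻¹ * (q.out : K) * (g * c) * (((q'.out : K) : G)⁻¹ * (q.out : K))⁻¹
        = g * c' := by
      rw [← mem_cent1.1 c.2.2, ← mem_cent1.1 c'.2.2]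
      have h3 := mul_right_cancel h1
      calc _ = ((q'.out : K) : G)⁻¹ * ((q.out : K) * (c * g) * ((q.out : K) : G)⁻¹)
            * (q'.out : K) := by group
        _ = _ := by rw [h3]; group
    have h3 := conj_eq_of_conj_mul_eq (mem_cent1.1 c.2.2).symm (mem_cent1.1 c'.2.2).symm
      hcop.symm dvd_rfl dvd_rfl (orderOf_dvd_card_of_mem c.2.1) (orderOf_dvd_card_of_mem c'.2.1) h2
    have hq : q' = q := by
      rw [← QuotientGroup.out_eq' q', ← QuotientGroup.out_eq' q]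
      refine QuotientGroup.eq.2 ?_
      rw [Subgroup.mem_subgroupOf, mem_cent1]
      simp only [Subgroup.coe_mul, Subgroup.coe_inv]
      rw [mul_inv_eq_iff_eq_mul] at h3
      exact h3
    subst hq
    have h4 := mul_right_cancel (mul_right_cancel h1)
    have h5 := mul_right_cancel (mul_left_cancel h4)
    exact Prod.ext rfl (Subtype.ext h5)
  · rw [Fintype.card_prod, ← Nat.card_eq_fintype_card, ← Nat.card_eq_fintype_card,
      ← Nat.card_eq_fintype_card, inf_comm, ← card_subgroupOf']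
    exact (Subgroup.card_eq_card_quotient_mul_card_subgroup _).symm

variable {K g}

/-- Peterfalvi (2.1). -/
theorem exists_conj_mul_eq_cent_mul (hg : g ∈ 𝒩(K)) (hcop : Nat.Coprime (orderOf g) (Nat.card K))
    {h : G} (hh : h ∈ K) :
    ∃ x ∈ K, ∃ c ∈ K, c * g = g * c ∧ x * (h * g) * x⁻¹ = c * g := by
  obtain ⟨⟨q, c⟩, hp⟩ := (cosetMap_bijective K g hg hcop).2 ⟨h, hh⟩
  have h1 := congrArg Subtype.val hp
  simp only [cosetMap] at h1
  refine ⟨((q.out : K) : G)⁻¹, K.inv_mem (q.out).2, c, c.2.1, mem_cent1.1 c.2.2, ?_⟩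
  rw [← h1]; group

/-- Averaged form of Peterfalvi (2.1). -/
theorem cosAvg_eq_cosAvg_cent (hg : g ∈ 𝒩(K)) (hcop : Nat.Coprime (orderOf g) (Nat.card K))
    {F : G → ℂ} (hF : ∀ x ∈ K, ∀ y, F (x * y * x⁻¹) = F y) :
    cosAvg K F g = cosAvg (K ⊓ 𝒞[g]) F g := by
  classical
  have := Fintype.ofFinite K
  have := Fintype.ofFinite (K ⧸ (𝒞[g]).subgroupOf K)
  have := Fintype.ofFinite ↥(K ⊓ 𝒞[g])
  rw [cosAvg_eq_sum, cosAvg_eq_sum]
  have e1 : ∑ u : K, F (g * u) = ∑ u : K, F (u * g) := by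
    refine Fintype.sum_equiv (K.normalizerMonoidHom ⟨g, hg⟩).toEquiv _ _ (fun u => ?_)
    congr 1
    change g * u = (g * u * g⁻¹) * g
    group
  rw [e1, ← (cosetMap_bijective K g hg hcop).sum_comp, Fintype.sum_prod_type]
  have e2 : ∀ (q : K ⧸ (𝒞[g]).subgroupOf K) (c : ↥(K ⊓ 𝒞[g])),
      F ((cosetMap K g hg (q, c) : G) * g) = F (g * c) := by
    intro q c
    simp only [cosetMap, inv_mul_cancel_right]
    rw [hF _ (q.out).2, mem_cent1.1 c.2.2]
  simp only [e2, Finset.sum_const, Finset.card_univ, nsmul_eq_mul]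
  have e3 : (Nat.card K : ℂ) = Fintype.card (K ⧸ (𝒞[g]).subgroupOf K) * Nat.card ↥(K ⊓ 𝒞[g]) := by
    rw [← Nat.card_eq_fintype_card, inf_comm, ← card_subgroupOf', ← Nat.cast_mul,
      ← Subgroup.card_eq_card_quotient_mul_card_subgroup]
  have e4 : (Fintype.card (K ⧸ (𝒞[g]).subgroupOf K) : ℂ) ≠ 0 := by
    rw [← Nat.card_eq_fintype_card]; exact card_ne_zero_complex _
  rw [e3]
  field_simp

end coset

/-- Orbit counting: the sum of `|Stab x| f x` for an invariant `f` is divisible by `|L|`. -/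
theorem card_dvd_sum_stabilizer {L : Type u} [Group L] [Finite L] {X : Type v} [Fintype X]
    [MulAction L X] (f : X → ℤ) (hf : ∀ (l : L) x, f (l • x) = f x) :
    (Nat.card L : ℤ) ∣ ∑ x : X, (Nat.card (MulAction.stabilizer L x) : ℤ) * f x := by
  classical
  have := Fintype.ofFinite L
  rw [← Finset.sum_fiberwise (s := Finset.univ)
    (g := fun x : X => (Quotient.mk'' x : MulAction.orbitRel.Quotient L X))]
  refine Finset.dvd_sum (fun ω _ => ?_)
  obtain ⟨x₀, rfl⟩ := Quotient.exists_rep ω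
  have hmem : ∀ x, x ∈ Finset.univ.filter
      (fun x : X => (Quotient.mk'' x : MulAction.orbitRel.Quotient L X) = Quotient.mk _ x₀)
      ↔ x ∈ MulAction.orbit L x₀ := by
    intro x
    rw [Finset.mem_filter]
    simp only [Finset.mem_univ, true_and]
    exact Quotient.eq''.trans MulAction.orbitRel_apply
  have hc : ∀ x ∈ MulAction.orbit L x₀, (Nat.card (MulAction.stabilizer L x) : ℤ) * f x
      = (Nat.card (MulAction.stabilizer L x₀) : ℤ) * f x₀ := by
    rintro _ ⟨l, rfl⟩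
    change (Nat.card (MulAction.stabilizer L (l • x₀)) : ℤ) * f (l • x₀) = _
    rw [hf, MulAction.stabilizer_smul_eq_stabilizer_map_conj,
      Subgroup.card_map_of_injective (MulEquiv.injective _)]
  rw [Finset.sum_congr rfl (fun x hx => hc x ((hmem x).1 hx)), Finset.sum_const, nsmul_eq_mul,
    ← mul_assoc]
  refine Dvd.dvd.mul_right ?_ _
  have : (Finset.univ.filter (fun x : X => (Quotient.mk'' x : MulAction.orbitRel.Quotient L X)
      = Quotient.mk _ x₀)).card = Nat.card (MulAction.orbit L x₀) := by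
    rw [← Nat.card_eq_finsetCard]
    exact Nat.card_congr (Equiv.subtypeEquivRight hmem)
  rw [this, ← Nat.cast_mul, ← Nat.card_prod,
    Nat.card_congr (MulAction.orbitProdStabilizerEquivGroup L x₀)]

end Cfsg.Agent.PF
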