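import Cfsg.Agent.PF.CycTI

/-!
# Peterfalvi (3.2), (3.6)–(3.9): properties of the cyclic TI isometry
-/

set_option autoImplicit false
set_option linter.unusedSectionVars false

namespace Cfsg.Agent.PF

open Cfsg Cfsg.Agent.Char Cfsg.Agent.GT
open scoped ComplexConjugate

universe u v

section grid

variable {I J : Type*} [Fintype I] [Fintype J]

open Classical in
/-- Peterfalvi (3.8), abstract form. -/
theorem grid_small_support (a : I → J → ℂ) (h : ∀ i i' j j', a i j + a i' j' = a i j' + a i' j)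
    (hIJ : Fintype.card I + 2 ≤ Fintype.card J)
    (hfew : (Finset.univ.filter (fun p : I × J => a p.1 p.2 ≠ 0)).card < 2 * Fintype.card I) :
    (∀ i j, a i j = 0) ∨ (∃ j₀ c, ∀ i j, a i j = if j = j₀ then c else 0) ∨
      (∃ i₀ c, ∀ i j, a i j = if i = i₀ then c else 0) := by
  by_cases h0 : ∀ i j, a i j = 0
  · exact Or.inl h0
  right
  push Not at h0
  obtain ⟨i₀, j₀, h0⟩ := h0
  have cJ : (Finset.univ.filter (fun p : I × J => a p.1 p.2 ≠ 0)).card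
      = ∑ j, (Finset.univ.filter (fun i => a i j ≠ 0)).card := by
    simp only [Finset.card_filter]
    rw [Fintype.sum_prod_type, Finset.sum_comm]
  have cI : (Finset.univ.filter (fun p : I × J => a p.1 p.2 ≠ 0)).card
      = ∑ i, (Finset.univ.filter (fun j => a i j ≠ 0)).card := by
    simp only [Finset.card_filter]
    rw [Fintype.sum_prod_type]
  by_cases hr : ∀ i i' j, a i j = a i' j
  · refine Or.inl ⟨j₀, a i₀ j₀, fun i j => ?_⟩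
    split_ifs with hj
    · rw [hj, hr i i₀]
    · by_contra hne
      have := Finset.sum_le_sum_of_subset (f := fun j => (Finset.univ.filter
        (fun i => a i j ≠ 0)).card) (Finset.subset_univ {j, j₀})
      rw [Finset.sum_pair hj, Finset.filter_true_of_mem (fun i' _ => by rwa [hr i' i]),
        Finset.filter_true_of_mem (fun i' _ => by rwa [hr i' i₀]), Finset.card_univ] at this
      omega
  by_cases hc : ∀ i j j', a i j = a i j'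
  · refine Or.inr ⟨i₀, a i₀ j₀, fun i j => ?_⟩
    split_ifs with hi
    · rw [hi, hc i₀ j j₀]
    · by_contra hne
      have := Finset.sum_le_sum_of_subset (f := fun i => (Finset.univ.filter
        (fun j => a i j ≠ 0)).card) (Finset.subset_univ {i, i₀})
      rw [Finset.sum_pair hi, Finset.filter_true_of_mem (fun j' _ => by rwa [hc i j' j]),
        Finset.filter_true_of_mem (fun j' _ => by rwa [hc i₀ j' j₀]), Finset.card_univ] at this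
      omega
  exfalso
  push Not at hr hc
  obtain ⟨i₁, i₂, j₃, hr⟩ := hr
  obtain ⟨i₃, j₁, j₂, hc⟩ := hc
  have hj : j₁ ≠ j₂ := fun e => hc (by rw [e])
  have k1 : ∀ j, 1 ≤ (Finset.univ.filter (fun i => a i j ≠ 0)).card := by
    intro j
    refine Finset.card_pos.2 ?_
    by_cases e1 : a i₁ j = 0
    · refine ⟨i₂, Finset.mem_filter.2 ⟨Finset.mem_univ _, fun e2 => hr ?_⟩⟩
      have := h i₁ i₂ j j₃
      rw [e1, e2] at this
      simpa using this.symm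
    · exact ⟨i₁, Finset.mem_filter.2 ⟨Finset.mem_univ _, e1⟩⟩
  have k2 : Fintype.card I ≤ (Finset.univ.filter (fun i => a i j₁ ≠ 0)).card
      + (Finset.univ.filter (fun i => a i j₂ ≠ 0)).card := by
    refine le_trans ?_ (Finset.card_union_le _ _)
    rw [← Finset.card_univ]
    refine Finset.card_le_card (fun i _ => ?_)
    simp only [Finset.mem_union, Finset.mem_filter, Finset.mem_univ, true_and]
    by_contra hn
    push Not at hn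
    have := h i i₃ j₁ j₂
    rw [hn.1, hn.2] at this
    exact hc (by simpa using this.symm)
  have k3 := Finset.sum_sdiff (f := fun j => (Finset.univ.filter (fun i => a i j ≠ 0)).card)
    (Finset.subset_univ {j₁, j₂})
  have k4 := Finset.card_nsmul_le_sum (Finset.univ \ {j₁, j₂})
    (fun j => (Finset.univ.filter (fun i => a i j ≠ 0)).card) 1 (fun j _ => k1 j)
  rw [Finset.card_sdiff_of_subset (Finset.subset_univ _), Finset.card_pair hj, Finset.card_univ,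
    smul_eq_mul, mul_one] at k4
  rw [Finset.sum_pair hj] at k3
  omega

end grid

variable {W : Type v} [Group W] [Fintype W] {W₁ W₂ : Subgroup W}
variable {G : Type u} [Group G] [Fintype G] {f : W →* G} {σ : (W →* ℂˣ) → G → ℂ}

/-- the linear extension of a family indexed by the linear characters -/
noncomputable def cycSigma (σ : (W →* ℂˣ) → G → ℂ) : (W → ℂ) →ₗ[ℂ] (G → ℂ) :=
  haveI := Fintype.ofFinite (W →* ℂˣ)
  { toFun := fun α => ∑ ω, ⟪α, lc ω⟫ • σ ω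
    map_add' := fun α β => by simp only [ci_add_left, add_smul, Finset.sum_add_distrib]
    map_smul' := fun c α => by
      simp only [ci_smul_left, RingHom.id_apply, Finset.smul_sum, smul_smul] }

theorem cycSigma_apply [Fintype (W →* ℂˣ)] (σ : (W →* ℂˣ) → G → ℂ) (α : W → ℂ) :
    cycSigma σ α = ∑ ω, ⟪α, lc ω⟫ • σ ω := by
  change (@Finset.univ _ (Fintype.ofFinite _)).sum _ = _
  congr!

theorem cycSigma_lc (σ : (W →* ℂˣ) → G → ℂ) (ω : W →* ℂˣ) : cycSigma σ (lc ω) = σ ω := by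
  classical
  have := Fintype.ofFinite (W →* ℂˣ)
  rw [cycSigma_apply]
  simp [ci_lc]

namespace CycFam

theorem symm (h : CycFam W₁ W₂ f σ) : CycFam W₂ W₁ f σ :=
  ⟨h.sirr, h.orth, h.map_one, fun ω w h1 h2 => h.eq_on ω w h2 h1, fun φ hφ ψ hψ => by
    rw [cAlpha_comm, h.induced_eq ψ hψ φ hφ, lmul_comm]; abel⟩

theorem virt (h : CycFam W₁ W₂ f σ) (ω : W →* ℂˣ) : IsGeneralizedCharacter G (σ ω) :=
  (h.sirr ω).virt

theorem isClassFunction (h : CycFam W₁ W₂ f σ) (ω : W →* ℂˣ) : IsClassFunction G (σ ω) :=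
  (h.sirr ω).isClassFunction

theorem ci_self (h : CycFam W₁ W₂ f σ) (ω : W →* ℂˣ) : ⟪σ ω, σ ω⟫ = 1 := (h.sirr ω).ci_self

theorem ci_eq_ite (h : CycFam W₁ W₂ f σ) (ω ω' : W →* ℂˣ) [Decidable (ω = ω')] :
    ⟪σ ω, σ ω'⟫ = if ω = ω' then 1 else 0 := by
  split_ifs with e
  · rw [e, h.ci_self]
  · exact h.orth _ _ e

theorem ci_eq (h : CycFam W₁ W₂ f σ) (ω ω' : W →* ℂˣ) : ⟪σ ω, σ ω'⟫ = ⟪lc ω, lc ω'⟫ := by
  classical rw [h.ci_eq_ite, ci_lc]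

theorem injective (h : CycFam W₁ W₂ f σ) : Function.Injective σ := by
  intro ω ω' e
  by_contra hne
  have := h.orth _ _ hne
  rw [e, h.ci_self] at this
  exact one_ne_zero this

theorem ne_neg (h : CycFam W₁ W₂ f σ) (ω ω' : W →* ℂˣ) : σ ω ≠ -σ ω' := by
  intro e
  by_cases hne : ω = ω'
  · subst hne; exact (h.sirr ω).ne_neg_self e
  · have := h.orth _ _ hne
    rw [e, ci_neg_left, h.ci_self] at this
    norm_num at this

theorem ci_sigma_left (h : CycFam W₁ W₂ f σ) (α : W → ℂ) (ω : W →* ℂˣ) :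
    ⟪cycSigma σ α, σ ω⟫ = ⟪α, lc ω⟫ := by
  classical
  have := Fintype.ofFinite (W →* ℂˣ)
  rw [cycSigma_apply]
  exact ci_sum_smul_orthonormal Finset.univ σ (fun a _ b _ => h.ci_eq_ite a b) _ (Finset.mem_univ _)

theorem ci_sigma (h : CycFam W₁ W₂ f σ) (hW : CycDp W₁ W₂) (α β : W → ℂ) :
    ⟪cycSigma σ α, cycSigma σ β⟫ = ⟪α, β⟫ := by
  classical
  have := Fintype.ofFinite (W →* ℂˣ)
  have := hW.comm
  conv_rhs => rw [eq_sum_lc β]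
  rw [cycSigma_apply σ β, ci_sum_right, ci_sum_right]
  exact Finset.sum_congr rfl (fun ω _ => by rw [ci_smul_right, ci_smul_right, h.ci_sigma_left])

theorem isClassFunction_sigma (h : CycFam W₁ W₂ f σ) (α : W → ℂ) :
    IsClassFunction G (cycSigma σ α) := by
  have := Fintype.ofFinite (W →* ℂˣ)
  rw [cycSigma_apply]
  exact isClassFunction_sum _ _ (fun ω _ => (h.isClassFunction ω).smul _)

theorem virt_sigma (h : CycFam W₁ W₂ f σ) {α : W → ℂ} (hα : IsGeneralizedCharacter W α) :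
    IsGeneralizedCharacter G (cycSigma σ α) := by
  have := Fintype.ofFinite (W →* ℂˣ)
  rw [cycSigma_apply]
  exact virt_sum _ _ (fun ω _ => (h.virt ω).smul_of_int (hα.ci_int (lc_virt ω)))

theorem sigma_eq_on (h : CycFam W₁ W₂ f σ) (hW : CycDp W₁ W₂) (α : W → ℂ) {w : W}
    (h₁ : w ∉ W₁) (h₂ : w ∉ W₂) : cycSigma σ α (f w) = α w := by
  have := Fintype.ofFinite (W →* ℂˣ)
  have := hW.comm
  conv_rhs => rw [eq_sum_lc α]
  rw [cycSigma_apply, Finset.sum_apply, Finset.sum_apply]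
  exact Finset.sum_congr rfl (fun ω _ => by
    rw [Pi.smul_apply, Pi.smul_apply, h.eq_on ω w h₁ h₂])

/-- Peterfalvi (3.2.a). -/
theorem sigma_eq_ind (h : CycFam W₁ W₂ f σ) (hW : CycDp W₁ W₂) {α : W → ℂ}
    (hα : ∀ w, ¬ (w ∉ W₁ ∧ w ∉ W₂) → α w = 0) : cycSigma σ α = ind f α := by
  have := Fintype.ofFinite (Ann W₁)
  have := Fintype.ofFinite (Ann W₂)
  rw [hW.eq_sum_cAlpha hα, map_sum, ind_sum]
  refine Finset.sum_congr rfl (fun φ _ => ?_)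
  rw [map_sum, ind_sum]
  refine Finset.sum_congr rfl (fun ψ _ => ?_)
  rw [map_smul, ind_smul, h.induced_eq _ φ.2 _ ψ.2, cAlpha_eq, map_add, map_sub, map_sub]
  simp only [cycSigma_lc]

/-- Peterfalvi (3.2.d). -/
theorem eq_zero_of_orth (h : CycFam W₁ W₂ f σ) (hW : CycDp W₁ W₂) {θ : G → ℂ}
    (hθ : IsClassFunction G θ) (ho : ∀ ω, ⟪θ, σ ω⟫ = 0) {w : W} (h₁ : w ∉ W₁) (h₂ : w ∉ W₂) :
    θ (f w) = 0 := by
  refine hW.eq_zero_of_orth (β := fun w => θ (f w)) (fun φ hφ ψ hψ => ?_) h₁ h₂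
  rw [← ci_ind_left f _ hθ, h.induced_eq φ hφ ψ hψ]
  simp only [ci_add_left, ci_sub_left, ci_eq_zero_symm (ho _)]
  ring

/-- the values on `V` are determined by the inner products with the family -/
theorem apply_eq_sum (h : CycFam W₁ W₂ f σ) (hW : CycDp W₁ W₂) [Fintype (W →* ℂˣ)] {θ : G → ℂ}
    (hθ : IsClassFunction G θ) {w : W} (h₁ : w ∉ W₁) (h₂ : w ∉ W₂) :
    θ (f w) = ∑ ω, ⟪θ, σ ω⟫ * ω w := by
  classical
  have := h.eq_zero_of_orth hW (hθ.sub (isClassFunction_sum Finset.univ (fun ω => ⟪θ, σ ω⟫ • σ ω)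
    (fun ω _ => (h.isClassFunction ω).smul _)))
    (fun ω => ci_sub_proj_orthonormal Finset.univ σ (fun a _ b _ => h.ci_eq_ite a b) θ
      (Finset.mem_univ ω)) h₁ h₂
  rw [Pi.sub_apply, sub_eq_zero, Finset.sum_apply] at this
  rw [this]
  exact Finset.sum_congr rfl (fun ω _ => by rw [Pi.smul_apply, h.eq_on ω w h₁ h₂, smul_eq_mul])

theorem rect_one (h : CycFam W₁ W₂ f σ) {θ : G → ℂ} (hθ : IsClassFunction G θ)
    (hV : ∀ w, w ∉ W₁ → w ∉ W₂ → θ (f w) = 0) {φ ψ : W →* ℂˣ} (hφ : φ ∈ Ann W₂)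
    (hψ : ψ ∈ Ann W₁) : ⟪θ, σ (φ * ψ)⟫ = ⟪θ, σ φ⟫ + ⟪θ, σ ψ⟫ - ⟪θ, σ 1⟫ := by
  have e : ⟪θ, ind f (cAlpha φ ψ)⟫ = 0 := by
    rw [ci_ind_right f hθ, ci_def, Finset.sum_eq_zero, mul_zero]
    intro w _
    by_cases hw : w ∉ W₁ ∧ w ∉ W₂
    · rw [hV w hw.1 hw.2, zero_mul]
    · rw [cAlpha_eq_zero hφ hψ hw, map_zero, mul_zero]
  rw [h.induced_eq φ hφ ψ hψ, ci_add_right, ci_sub_right, ci_sub_right] at e
  linear_combination e

/-- Peterfalvi (3.7). -/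
theorem rect (h : CycFam W₁ W₂ f σ) {θ : G → ℂ} (hθ : IsClassFunction G θ)
    (hV : ∀ w, w ∉ W₁ → w ∉ W₂ → θ (f w) = 0) {φ φ' ψ ψ' : W →* ℂˣ} (hφ : φ ∈ Ann W₂)
    (hφ' : φ' ∈ Ann W₂) (hψ : ψ ∈ Ann W₁) (hψ' : ψ' ∈ Ann W₁) :
    ⟪θ, σ (φ * ψ)⟫ + ⟪θ, σ (φ' * ψ')⟫ = ⟪θ, σ (φ * ψ')⟫ + ⟪θ, σ (φ' * ψ)⟫ := by
  rw [h.rect_one hθ hV hφ hψ, h.rect_one hθ hV hφ' hψ', h.rect_one hθ hV hφ hψ',
    h.rect_one hθ hV hφ' hψ]
  ring

open Classical in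
/-- Peterfalvi (3.8). -/
theorem small_support (h : CycFam W₁ W₂ f σ) (hW : CycDp W₁ W₂) (hodd : Odd (Nat.card W))
    (hlt : Nat.card W₁ < Nat.card W₂) {θ : G → ℂ} (hθ : IsClassFunction G θ)
    (hV : ∀ w, w ∉ W₁ → w ∉ W₂ → θ (f w) = 0)
    (hfew : Nat.card {ω : W →* ℂˣ // ⟪θ, σ ω⟫ ≠ 0} < 2 * Nat.card W₁) :
    (∀ ω, ⟪θ, σ ω⟫ = 0) ∨
    (∃ ψ₀ ∈ Ann W₁, ∃ c, ∀ φ ∈ Ann W₂, ∀ ψ ∈ Ann W₁, ⟪θ, σ (φ * ψ)⟫ = if ψ = ψ₀ then c else 0) ∨
    (∃ φ₀ ∈ Ann W₂, ∃ c, ∀ φ ∈ Ann W₂, ∀ ψ ∈ Ann W₁, ⟪θ, σ (φ * ψ)⟫ = if φ = φ₀ then c else 0) := by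
  have := Fintype.ofFinite (Ann W₁)
  have := Fintype.ofFinite (Ann W₂)
  have c1 : Fintype.card (Ann W₂) = Nat.card W₁ := by rw [← Nat.card_eq_fintype_card, hW.card_Ann₂]
  have c2 : Fintype.card (Ann W₁) = Nat.card W₂ := by rw [← Nat.card_eq_fintype_card, hW.card_Ann₁]
  obtain ⟨k1, hk1⟩ := hW.odd₁ hodd
  obtain ⟨k2, hk2⟩ := hW.symm.odd₁ hodd
  rcases grid_small_support (fun (φ : Ann W₂) (ψ : Ann W₁) => ⟪θ, σ (φ.1 * ψ.1)⟫)
    (fun φ φ' ψ ψ' => h.rect hθ hV φ.2 φ'.2 ψ.2 ψ'.2) (by omega) (by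
      rw [c1, ← Nat.card_eq_finsetCard]
      refine lt_of_eq_of_lt (Nat.card_congr ?_) hfew
      exact hW.annEquiv.subtypeEquiv (fun p => by
        rw [Finset.mem_filter]; exact ⟨fun h => h.2, fun h => ⟨Finset.mem_univ _, h⟩⟩))
    with H | ⟨ψ₀, c, H⟩ | ⟨φ₀, c, H⟩
  · refine Or.inl (fun ω => ?_)
    obtain ⟨φ, hφ, ψ, hψ, rfl⟩ := hW.exists_Ann_mul ω
    exact H ⟨φ, hφ⟩ ⟨ψ, hψ⟩
  · refine Or.inr (Or.inl ⟨ψ₀, ψ₀.2, c, fun φ hφ ψ hψ => ?_⟩)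
    rw [H ⟨φ, hφ⟩ ⟨ψ, hψ⟩]
    simp only [Subtype.ext_iff]
  · refine Or.inr (Or.inr ⟨φ₀, φ₀.2, c, fun φ hφ ψ hψ => ?_⟩)
    rw [H ⟨φ, hφ⟩ ⟨ψ, hψ⟩]
    simp only [Subtype.ext_iff]

theorem exists_ne_ne {X : Type*} [Finite X] (h : 3 ≤ Nat.card X) (a b : X) :
    ∃ c, c ≠ a ∧ c ≠ b := by
  classical
  have := Fintype.ofFinite X
  by_contra hn
  push Not at hn
  have : (Finset.univ : Finset X) ⊆ {a, b} := by
    intro e _
    by_cases h1 : e = a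
    · simp [h1]
    · simp [hn e h1]
  have h1 := Finset.card_le_card this
  have h2 := Finset.card_le_two (a := a) (b := b)
  rw [Finset.card_univ, ← Nat.card_eq_fintype_card] at h1
  omega

/-- A class function vanishing on `V` with at most two nonzero coefficients is orthogonal to the
family. -/
theorem orth_of_two (h : CycFam W₁ W₂ f σ) (hW : CycDp W₁ W₂) (hodd : Odd (Nat.card W))
    {θ : G → ℂ} (hθ : IsClassFunction G θ) (hV : ∀ w, w ∉ W₁ → w ∉ W₂ → θ (f w) = 0)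
    {ω₁ ω₂ : W →* ℂˣ} (h2 : ∀ ω, ω ≠ ω₁ → ω ≠ ω₂ → ⟪θ, σ ω⟫ = 0) (ω : W →* ℂˣ) :
    ⟪θ, σ ω⟫ = 0 := by
  have key : ∀ ω₁ ω₂ : W →* ℂˣ, (∀ ω, ω ≠ ω₁ → ω ≠ ω₂ → ⟪θ, σ ω⟫ = 0) → ⟪θ, σ ω₁⟫ = 0 := by
    intro ω₁ ω₂ h2
    obtain ⟨φ₁, hφ₁, ψ₁, hψ₁, rfl⟩ := hW.exists_Ann_mul ω₁
    obtain ⟨φ₂, hφ₂, ψ₂, hψ₂, rfl⟩ := hW.exists_Ann_mul ω₂
    obtain ⟨⟨φ, hφ⟩, n1, n2⟩ := exists_ne_ne (X := Ann W₂) (hW.card_Ann₂ ▸ hW.three_le₁ hodd)
      ⟨φ₁, hφ₁⟩ ⟨φ₂, hφ₂⟩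
    obtain ⟨⟨ψ, hψ⟩, n3, n4⟩ := exists_ne_ne (X := Ann W₁) (hW.card_Ann₁ ▸ hW.three_le₂ hodd)
      ⟨ψ₁, hψ₁⟩ ⟨ψ₂, hψ₂⟩
    simp only [ne_eq, Subtype.mk.injEq] at n1 n2 n3 n4
    have := h.rect hθ hV hφ₁ hφ hψ₁ hψ
    rw [h2 (φ * ψ), h2 (φ₁ * ψ), h2 (φ * ψ₁)] at this
    · simpa using this
    all_goals rw [Ne, mul_eq_mul_iff_Ann hW.sup ‹_› ‹_› ‹_› ‹_›]; tauto
  by_cases e1 : ω = ω₁
  · rw [e1]; exact key ω₁ ω₂ h2
  by_cases e2 : ω = ω₂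
  · rw [e2]; exact key ω₂ ω₁ (fun ω a b => h2 ω b a)
  exact h2 ω e1 e2

theorem exists_orth_of_sirr (h : CycFam W₁ W₂ f σ) {χ : G → ℂ} (hχ : IsSIrr G χ) :
    ∃ ω₀, ∀ ω, ω ≠ ω₀ → ⟪χ, σ ω⟫ = 0 := by
  by_cases hex : ∃ ω₀, ⟪χ, σ ω₀⟫ ≠ 0
  · obtain ⟨ω₀, h0⟩ := hex
    refine ⟨ω₀, fun ω hne => ?_⟩
    rcases hχ.eq_or_eq_neg_of_ci_ne_zero (h.sirr ω₀) h0 with rfl | rfl
    · exact h.orth _ _ hne.symm
    · rw [ci_neg_left, h.orth _ _ hne.symm, neg_zero]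
  · push Not at hex
    exact ⟨1, fun ω _ => hex ω⟩

/-- Peterfalvi (3.9.a). -/
theorem eq_of_eq_on (h : CycFam W₁ W₂ f σ) (hW : CycDp W₁ W₂) (hodd : Odd (Nat.card W))
    {χ : G → ℂ} (hχ : IsSIrr G χ) {ω : W →* ℂˣ} (hV : ∀ w, w ∉ W₁ → w ∉ W₂ → χ (f w) = ω w) :
    χ = σ ω := by
  obtain ⟨ω₀, h0⟩ := h.exists_orth_of_sirr hχ
  have := h.orth_of_two hW hodd (hχ.isClassFunction.sub (h.isClassFunction ω))
    (fun w h1 h2 => by rw [Pi.sub_apply, hV w h1 h2, h.eq_on ω w h1 h2, sub_self])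
    (ω₁ := ω) (ω₂ := ω₀) (fun ω' n1 n2 => by
      rw [ci_sub_left, h0 ω' n2, h.orth _ _ n1.symm, sub_zero]) ω
  rw [ci_sub_left, h.ci_self, sub_eq_zero] at this
  exact hχ.eq_of_ci_eq_one (h.sirr ω) this

/-- a signed irreducible vanishing on `V` is orthogonal to the family -/
theorem orth_of_vanish (h : CycFam W₁ W₂ f σ) (hW : CycDp W₁ W₂) (hodd : Odd (Nat.card W))
    {χ : G → ℂ} (hχ : IsSIrr G χ) (hV : ∀ w, w ∉ W₁ → w ∉ W₂ → χ (f w) = 0) (ω : W →* ℂˣ) :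
    ⟪χ, σ ω⟫ = 0 := by
  obtain ⟨ω₀, h0⟩ := h.exists_orth_of_sirr hχ
  exact h.orth_of_two hW hodd hχ.isClassFunction hV (ω₁ := ω₀) (ω₂ := ω₀)
    (fun ω' n _ => h0 ω' n) ω

/-- a virtual character of norm two vanishing on `V` is orthogonal to the family -/
theorem orth_of_nsq_two (h : CycFam W₁ W₂ f σ) (hW : CycDp W₁ W₂) (hodd : Odd (Nat.card W))
    {θ : G → ℂ} (hθ : IsGeneralizedCharacter G θ) (hn : nsq θ = 2)
    (hV : ∀ w, w ∉ W₁ → w ∉ W₂ → θ (f w) = 0) (ω : W →* ℂˣ) : ⟪θ, σ ω⟫ = 0 := by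
  obtain ⟨a, b, ha, hb, -, rfl⟩ := hθ.exists_of_nsq_two hn
  obtain ⟨ω₁, h1⟩ := h.exists_orth_of_sirr ha
  obtain ⟨ω₂, h2⟩ := h.exists_orth_of_sirr hb
  exact h.orth_of_two hW hodd hθ.isClassFunction hV (ω₁ := ω₁) (ω₂ := ω₂)
    (fun ω' n1 n2 => by rw [ci_add_left, h1 ω' n1, h2 ω' n2, add_zero]) ω

theorem unique (h : CycFam W₁ W₂ f σ) (hW : CycDp W₁ W₂) (hodd : Odd (Nat.card W))
    {σ' : (W →* ℂˣ) → G → ℂ} (h' : CycFam W₁ W₂ f σ') : σ' = σ :=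
  funext (fun ω => h.eq_of_eq_on hW hodd (h'.sirr ω) (h'.eq_on ω))

/-- Peterfalvi (3.9.a), Galois part. -/
theorem map_ringHom (h : CycFam W₁ W₂ f σ) (hW : CycDp W₁ W₂) (hodd : Odd (Nat.card W))
    (u : ℂ →+* ℂ) (ω : W →* ℂˣ) : (fun g => u (σ ω g)) = σ (lcMap u ω) :=
  h.eq_of_eq_on hW hodd ((h.sirr ω).map_ringHom u) (fun w h1 h2 => by
    rw [h.eq_on ω w h1 h2]; rfl)

theorem conjFun (h : CycFam W₁ W₂ f σ) (hW : CycDp W₁ W₂) (hodd : Odd (Nat.card W))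
    (ω : W →* ℂˣ) : conjFun (σ ω) = σ ω⁻¹ :=
  h.eq_of_eq_on hW hodd (h.sirr ω).conjFun (fun w h1 h2 => by
    rw [conjFun_apply, h.eq_on ω w h1 h2, conj_unitsHom])

theorem lcMap_eq_pow {u : ℂ →+* ℂ} {ω : W →* ℂˣ} {k : ℕ}
    (hu : ∀ z : ℂ, z ^ orderOf ω = 1 → u z = z ^ k) : lcMap u ω = ω ^ k := by
  apply lc_injective
  funext w
  change u (ω w) = ((ω ^ k) w : ℂˣ)
  rw [MonoidHom.pow_apply, Units.val_pow_eq_pow_val]
  refine hu _ ?_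
  have := DFunLike.congr_fun (pow_orderOf_eq_one ω) w
  rw [MonoidHom.pow_apply] at this
  rw [← Units.val_pow_eq_pow_val, this]; rfl

/-- Peterfalvi (3.9.b). -/
theorem exists_pow (h : CycFam W₁ W₂ f σ) (hW : CycDp W₁ W₂) (hodd : Odd (Nat.card W))
    (ω : W →* ℂˣ) {k : ℕ} (hk : Nat.Coprime k (orderOf ω)) {b : ℕ} (hb : 0 < b)
    (hab : Nat.Coprime (orderOf ω) b) :
    ∃ u : ℂ ≃+* ℂ, σ (ω ^ k) = (fun g => u (σ ω g)) ∧
      ∀ g : G, orderOf g ∣ b → σ (ω ^ k) g = σ ω g := by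
  obtain ⟨u, hu1, hu2⟩ := exists_ringEquiv_pow_coprime (orderOf_pos ω) hb hab hk
  have e := h.map_ringHom hW hodd u.toRingHom ω
  rw [lcMap_eq_pow (u := u.toRingHom) hu1] at e
  refine ⟨u, e.symm, fun g hg => ?_⟩
  rw [← e]
  have := (h.virt ω).ringHom_apply u.toRingHom (g := g) (k := 1) (fun z hz => by
    rw [pow_one]
    obtain ⟨c, rfl⟩ := hg
    exact hu2 z (by rw [pow_mul, hz, one_pow]))
  rwa [pow_one] at this

/-- Peterfalvi (3.9.c). -/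
theorem exists_int (h : CycFam W₁ W₂ f σ) (hW : CycDp W₁ W₂) (hodd : Odd (Nat.card W))
    (ω : W →* ℂˣ) {g : G} (hg : Nat.Coprime (orderOf g) (orderOf ω)) : ∃ n : ℤ, σ ω g = n := by
  refine exists_int_of_forall_ringEquiv ((h.virt ω).isIntegral g) (fun u => ?_)
  obtain ⟨k, hk, hu⟩ := exists_pow_of_ringHom u.toRingHom (orderOf_pos g)
  obtain ⟨v, hv1, hv2⟩ := exists_ringEquiv_pow_coprime (orderOf_pos g) (orderOf_pos ω) hg hk
  have e := h.map_ringHom hW hodd v.toRingHom ω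
  rw [lcMap_eq_pow (u := v.toRingHom) (k := 1) (fun z hz => by rw [pow_one]; exact hv2 z hz),
    pow_one ω] at e
  have e1 := (h.virt ω).ringHom_apply u.toRingHom hu
  have e2 := (h.virt ω).ringHom_apply v.toRingHom hv1
  exact e1.trans (e2.symm.trans (congrFun e g))

end CycFam

section frozen

variable {V₁ V₂ : Subgroup G} [Fintype ↥(V₁ ⊔ V₂)] {χ : (↥(V₁ ⊔ V₂) →* ℂˣ) → G → ℂ}

theorem cycFam_of_isCyclicTIFamily (h : IsCyclicTIFamily V₁ V₂ χ) :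
    CycFam (V₁.subgroupOf (V₁ ⊔ V₂)) (V₂.subgroupOf (V₁ ⊔ V₂)) (V₁ ⊔ V₂).subtype χ where
  sirr := h.irr_or_neg
  orth ω ω' hne := by rw [h.orthonormal, if_neg hne]
  map_one := h.map_one
  eq_on := h.eq_on
  induced_eq φ hφ ψ hψ := by
    by_cases e1 : φ = 1
    · rw [e1, cAlpha_one_left, ind_zero, lone_mul]; abel
    by_cases e2 : ψ = 1
    · rw [e2, cAlpha_one_right, ind_zero, lmul_one]; abel
    rw [← indFun_eq_ind, h.map_one]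
    exact h.induced_eq φ ψ e1 e2 hφ hψ

theorem CycFam.isCyclicTIFamily
    (h : CycFam (V₁.subgroupOf (V₁ ⊔ V₂)) (V₂.subgroupOf (V₁ ⊔ V₂)) (V₁ ⊔ V₂).subtype χ) :
    IsCyclicTIFamily V₁ V₂ χ where
  irr_or_neg := h.sirr
  orthonormal ω ω' := by convert h.ci_eq_ite ω ω'
  map_one := h.map_one
  eq_on := h.eq_on
  induced_eq φ ψ _ _ hφ hψ := by
    have := h.induced_eq φ hφ ψ hψ
    rw [← indFun_eq_ind, h.map_one] at this
    exact this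

end frozen

end Cfsg.Agent.PF
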