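import Cfsg.Agent.PF.LinChar

/-!
# Peterfalvi §3: TI-subsets with cyclic normalizers
-/

set_option autoImplicit false
set_option linter.unusedSectionVars false

namespace Cfsg.Agent.PF

open Cfsg Cfsg.Agent.Char Cfsg.Agent.GT
open scoped ComplexConjugate

universe u v

section ind

variable {G : Type u} [Group G] [Fintype G] {H : Type v} [Group H] [Fintype H]

theorem ind_eq_indFun_range {f : H →* G} (hf : Function.Injective f) (θ : H → ℂ) :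
    ind f θ = indFun f.range (fun x => θ ((MonoidHom.ofInjective hf).symm x)) := by
  classical
  have := Fintype.ofFinite f.range
  rw [indFun_eq_ind, ← ind_comp_equiv f.range.subtype (MonoidHom.ofInjective hf)]
  simp only [MulEquiv.symm_apply_apply]
  rfl

theorem ind_apply_of_TI {f : H →* G} (hf : Function.Injective f) {θ : H → ℂ}
    (hθ : IsClassFunction H θ) (a : H)
    (h : ∀ (x : G) (b : H), f b = x⁻¹ * f a * x → θ b ≠ 0 → x ∈ f.range) :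
    ind f θ (f a) = θ a := by
  rw [ind_eq_indFun_range hf]
  have := indFun_apply_of_TI f.range
    (hθ.comp (MonoidHom.ofInjective hf).symm.toMonoidHom) (MonoidHom.ofInjective hf a) (by
      intro x hx hne
      refine h x _ ?_ hne
      exact congrArg Subtype.val ((MonoidHom.ofInjective hf).apply_symm_apply ⟨_, hx⟩))
  simp only [MulEquiv.coe_toMonoidHom, MulEquiv.symm_apply_apply] at this
  exact this

theorem ci_ind_ind_of_TI {f : H →* G} (hf : Function.Injective f) (A : Set H)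
    (hA : ∀ a ∈ A, ∀ b ∈ A, ∀ x : G, f b = x⁻¹ * f a * x → x ∈ f.range) {α β : H → ℂ}
    (hα : ∀ k, k ∉ A → α k = 0) (hβc : IsClassFunction H β) (hβ : ∀ k, k ∉ A → β k = 0) :
    ⟪ind f α, ind f β⟫ = ⟪α, β⟫ := by
  rw [ci_ind_left f α (isClassFunction_ind f β), ci_def, ci_def]
  congr 1
  refine Finset.sum_congr rfl (fun a _ => ?_)
  by_cases ha : a ∈ A
  · rw [ind_apply_of_TI hf hβc a
      (fun x b e hb => hA a ha b (by_contra fun h => hb (hβ b h)) x e)]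
  · rw [hα a ha, zero_mul, zero_mul]

end ind

variable {W : Type v} [Group W] {W₁ W₂ : Subgroup W}

/-- `W = W₁ × W₂` is cyclic with both factors nontrivial. -/
structure CycDp (W₁ W₂ : Subgroup W) : Prop where
  cyclic : IsCyclic W
  ne₁ : W₁ ≠ ⊥
  ne₂ : W₂ ≠ ⊥
  inf : W₁ ⊓ W₂ = ⊥
  sup : W₁ ⊔ W₂ = ⊤

/-- the function `(1 - φ) (1 - ψ)` -/
def cAlpha (φ ψ : W →* ℂˣ) : W → ℂ :=
  fun w => 1 - (φ w : ℂ) - (ψ w : ℂ) + (φ w : ℂ) * (ψ w : ℂ)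

theorem cAlpha_eq (φ ψ : W →* ℂˣ) : cAlpha φ ψ = lc 1 - lc φ - lc ψ + lc (φ * ψ) := by
  funext w; simp [cAlpha, lc]

theorem cAlpha_comm (φ ψ : W →* ℂˣ) : cAlpha φ ψ = cAlpha ψ φ := by
  funext w; simp only [cAlpha]; ring

theorem cAlpha_one_left (ψ : W →* ℂˣ) : cAlpha 1 ψ = 0 := by funext w; simp [cAlpha]

theorem cAlpha_one_right (φ : W →* ℂˣ) : cAlpha φ 1 = 0 := by funext w; simp [cAlpha]

theorem cAlpha_virt (φ ψ : W →* ℂˣ) : IsGeneralizedCharacter W (cAlpha φ ψ) := by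
  rw [cAlpha_eq]
  exact (((lc_virt _).sub (lc_virt _)).sub (lc_virt _)).add (lc_virt _)

theorem cAlpha_eq_zero {φ ψ : W →* ℂˣ} (hφ : φ ∈ Ann W₂) (hψ : ψ ∈ Ann W₁) {w : W}
    (hw : ¬ (w ∉ W₁ ∧ w ∉ W₂)) : cAlpha φ ψ w = 0 := by
  by_cases h1 : w ∈ W₁
  · simp [cAlpha, hψ w h1]
  · have h2 : w ∈ W₂ := by_contra fun h => hw ⟨h1, h⟩
    simp [cAlpha, hφ w h2]

section ci
variable [Fintype W]

open Classical in
theorem ci_cAlpha_lc (hsup : W₁ ⊔ W₂ = ⊤) {φ ψ φ' ψ' : W →* ℂˣ} (hφ : φ ∈ Ann W₂)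
    (hψ : ψ ∈ Ann W₁) (hφ' : φ' ∈ Ann W₂) (hψ' : ψ' ∈ Ann W₁) :
    ⟪cAlpha φ ψ, lc (φ' * ψ')⟫ = ((if 1 = φ' then 1 else 0) - (if φ = φ' then 1 else 0)) *
      ((if 1 = ψ' then 1 else 0) - (if ψ = ψ' then 1 else 0)) := by
  have key : ∀ a ∈ Ann W₂, ∀ b ∈ Ann W₁, ⟪lc (a * b), lc (φ' * ψ')⟫
      = (if a = φ' then 1 else 0) * (if b = ψ' then 1 else 0) := by
    intro a ha b hb
    rw [ci_lc, if_congr (mul_eq_mul_iff_Ann hsup ha hφ' hb hψ') rfl rfl]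
    by_cases h1 : a = φ' <;> by_cases h2 : b = ψ' <;> simp [h1, h2]
  have e1 := key 1 (one_mem _) 1 (one_mem _)
  have e2 := key φ hφ 1 (one_mem _)
  have e3 := key 1 (one_mem _) ψ hψ
  rw [lmul_one] at e1 e2
  rw [lone_mul] at e3
  rw [cAlpha_eq, ci_add_left, ci_sub_left, ci_sub_left, e1, e2, e3, key φ hφ ψ hψ]
  ring

open Classical in
theorem ci_cAlpha_cAlpha (hsup : W₁ ⊔ W₂ = ⊤) {φ ψ φ' ψ' : W →* ℂˣ} (hφ : φ ∈ Ann W₂)
    (hψ : ψ ∈ Ann W₁) (hφ' : φ' ∈ Ann W₂) (hψ' : ψ' ∈ Ann W₁) (n1 : φ ≠ 1) (n2 : ψ ≠ 1)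
    (n3 : φ' ≠ 1) (n4 : ψ' ≠ 1) :
    ⟪cAlpha φ ψ, cAlpha φ' ψ'⟫
      = (1 + if φ = φ' then 1 else 0) * (1 + if ψ = ψ' then 1 else 0) := by
  have e1 := ci_cAlpha_lc hsup hφ hψ (one_mem _) (one_mem _)
  have e2 := ci_cAlpha_lc hsup hφ hψ hφ' (one_mem _)
  have e3 := ci_cAlpha_lc hsup hφ hψ (one_mem _) hψ'
  rw [mul_one] at e1 e2
  rw [one_mul] at e3
  rw [cAlpha_eq φ', ci_add_right, ci_sub_right, ci_sub_right, e1, e2, e3,
    ci_cAlpha_lc hsup hφ hψ hφ' hψ']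
  simp only [if_true, n1, n2, n3.symm, n4.symm, if_false]
  ring

theorem ci_cAlpha_one (hsup : W₁ ⊔ W₂ = ⊤) {φ ψ : W →* ℂˣ} (hφ : φ ∈ Ann W₂)
    (hψ : ψ ∈ Ann W₁) (n1 : φ ≠ 1) (n2 : ψ ≠ 1) : ⟪cAlpha φ ψ, fun _ => 1⟫ = 1 := by
  have e1 := ci_cAlpha_lc hsup hφ hψ (one_mem _) (one_mem _)
  rw [mul_one, lc_one] at e1
  rw [e1]; simp [n1, n2]

end ci

namespace CycDp

theorem comm (h : CycDp W₁ W₂) : IsMulCommutative W := by
  have := h.cyclic; infer_instance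

theorem symm (h : CycDp W₁ W₂) : CycDp W₂ W₁ :=
  ⟨h.cyclic, h.ne₂, h.ne₁, by rw [inf_comm, h.inf], by rw [sup_comm, h.sup]⟩

theorem exists_mul (h : CycDp W₁ W₂) (w : W) : ∃ a ∈ W₁, ∃ b ∈ W₂, w = a * b := by
  have := h.comm
  exact (mem_sup_of_le_norm le_norm_of_normal).1 (h.sup ▸ Subgroup.mem_top w)

variable [Finite W]

theorem coprime (h : CycDp W₁ W₂) : Nat.Coprime (Nat.card W₁) (Nat.card W₂) := by
  have := h.cyclic
  exact coprime_card_of_isCyclic h.inf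

theorem card_mul (h : CycDp W₁ W₂) : Nat.card W₁ * Nat.card W₂ = Nat.card W := by
  have := h.comm
  rw [(isComplIn_of_norm (Or.inl le_norm_of_normal) h.inf h.sup).card_mul, Subgroup.card_top]

theorem card_Ann₂ (h : CycDp W₁ W₂) : Nat.card (Ann W₂) = Nat.card W₁ := by
  have := h.comm
  exact card_Ann_of_compl h.inf h.sup

theorem card_Ann₁ (h : CycDp W₁ W₂) : Nat.card (Ann W₁) = Nat.card W₂ := h.symm.card_Ann₂

theorem exists_Ann_mul (h : CycDp W₁ W₂) (ω : W →* ℂˣ) :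
    ∃ φ ∈ Ann W₂, ∃ ψ ∈ Ann W₁, ω = φ * ψ := by
  have := h.comm
  exact PF.exists_Ann_mul h.inf h.sup ω

theorem odd₁ (h : CycDp W₁ W₂) (hodd : Odd (Nat.card W)) : Odd (Nat.card W₁) :=
  hodd.of_dvd_nat (Subgroup.card_subgroup_dvd_card W₁)

theorem three_le₁ (h : CycDp W₁ W₂) (hodd : Odd (Nat.card W)) : 3 ≤ Nat.card W₁ := by
  have h1 := ne_bot_iff_one_lt_card.1 h.ne₁
  obtain ⟨k, hk⟩ := h.odd₁ hodd
  omega

theorem three_le₂ (h : CycDp W₁ W₂) (hodd : Odd (Nat.card W)) : 3 ≤ Nat.card W₂ :=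
  h.symm.three_le₁ hodd

theorem card_ne (h : CycDp W₁ W₂) : Nat.card W₁ ≠ Nat.card W₂ := by
  intro e
  have := h.coprime
  rw [← e, Nat.coprime_self] at this
  exact (ne_bot_iff_one_lt_card.1 h.ne₁).ne' this

/-- the annihilator decomposition as an equivalence -/
noncomputable def annEquiv (h : CycDp W₁ W₂) : Ann W₂ × Ann W₁ ≃ (W →* ℂˣ) :=
  Equiv.ofBijective (fun p => p.1.1 * p.2.1) (by
    have := h.comm
    exact annMul_bijective h.inf h.sup)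

theorem annEquiv_apply (h : CycDp W₁ W₂) (φ : Ann W₂) (ψ : Ann W₁) :
    h.annEquiv (φ, ψ) = φ.1 * ψ.1 := rfl

theorem exists_mem_V (h : CycDp W₁ W₂) : ∃ w, w ∉ W₁ ∧ w ∉ W₂ := by
  obtain ⟨a, ha, ha1⟩ := exists_ne_one_of_ne_bot h.ne₁
  obtain ⟨b, hb, hb1⟩ := exists_ne_one_of_ne_bot h.ne₂
  refine ⟨a * b, fun e => hb1 ?_, fun e => ha1 ?_⟩
  · have : b ∈ W₁ ⊓ W₂ := ⟨(W₁.mul_mem_cancel_left ha).1 e, hb⟩
    rwa [h.inf, Subgroup.mem_bot] at this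
  · have : a ∈ W₁ ⊓ W₂ := ⟨ha, (W₂.mul_mem_cancel_right hb).1 e⟩
    rwa [h.inf, Subgroup.mem_bot] at this

end CycDp

section span

variable [Fintype W]

/-- Peterfalvi (3.4): the functions `cAlpha φ ψ` span the functions supported in `V`. -/
theorem CycDp.eq_sum_cAlpha (h : CycDp W₁ W₂) [Fintype (Ann W₁)] [Fintype (Ann W₂)] {α : W → ℂ}
    (hα : ∀ w, ¬ (w ∉ W₁ ∧ w ∉ W₂) → α w = 0) :
    α = ∑ φ : Ann W₂, ∑ ψ : Ann W₁, ⟪α, lc (φ.1 * ψ.1)⟫ • cAlpha φ.1 ψ.1 := by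
  classical
  have := h.comm
  have := Fintype.ofFinite (W →* ℂˣ)
  have k1 : ∀ φ : W →* ℂˣ, ∑ ψ : Ann W₁, ⟪α, lc (φ * ψ.1)⟫ = 0 := by
    intro φ
    rw [← ci_sum_right, ci_def, Finset.sum_eq_zero, mul_zero]
    intro w _
    simp only [lc_mul, Finset.sum_apply, Pi.mul_apply, ← Finset.mul_sum, sum_Ann]
    split_ifs with hw
    · rw [hα w (fun h' => h'.1 hw), zero_mul]
    · simp
  have k2 : ∀ ψ : W →* ℂˣ, ∑ φ : Ann W₂, ⟪α, lc (φ.1 * ψ)⟫ = 0 := by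
    intro ψ
    rw [← ci_sum_right, ci_def, Finset.sum_eq_zero, mul_zero]
    intro w _
    simp only [lc_mul, Finset.sum_apply, Pi.mul_apply, ← Finset.sum_mul, sum_Ann]
    split_ifs with hw
    · rw [hα w (fun h' => h'.2 hw), zero_mul]
    · simp
  simp only [cAlpha_eq, smul_add, smul_sub, Finset.sum_add_distrib, Finset.sum_sub_distrib,
    ← Finset.sum_smul, k1]
  rw [Finset.sum_comm (f := fun (φ : Ann W₂) (ψ : Ann W₁) => ⟪α, lc (φ.1 * ψ.1)⟫ • lc ψ.1)]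
  simp only [← Finset.sum_smul, k2, zero_smul, Finset.sum_const_zero, sub_self, zero_add]
  conv_lhs => rw [eq_sum_lc α, ← h.annEquiv.sum_comp, Fintype.sum_prod_type]
  rfl

theorem CycDp.eq_zero_of_orth (h : CycDp W₁ W₂) {β : W → ℂ}
    (hβ : ∀ φ ∈ Ann W₂, ∀ ψ ∈ Ann W₁, ⟪cAlpha φ ψ, β⟫ = 0) {w : W} (h₁ : w ∉ W₁) (h₂ : w ∉ W₂) :
    β w = 0 := by
  classical
  have := Fintype.ofFinite (Ann W₁)
  have := Fintype.ofFinite (Ann W₂)
  set α : W → ℂ := fun w => if w ∉ W₁ ∧ w ∉ W₂ then β w else 0 with hα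
  have e1 : ⟪α, β⟫ = 0 := by
    rw [h.eq_sum_cAlpha (α := α) (fun w hw => if_neg hw), ci_sum_left]
    refine Finset.sum_eq_zero (fun φ _ => ?_)
    rw [ci_sum_left]
    exact Finset.sum_eq_zero (fun ψ _ => by rw [ci_smul_left, hβ _ φ.2 _ ψ.2, mul_zero])
  have e2 : ⟪α, α⟫ = ⟪α, β⟫ := by
    rw [ci_def, ci_def]
    congr 1
    refine Finset.sum_congr rfl (fun w _ => ?_)
    simp only [hα]
    split_ifs <;> simp
  have := congrFun (ci_self_eq_zero.1 (e2.trans e1)) w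
  simpa [hα, h₁, h₂] using this

end span

variable {G : Type u} [Group G]

/-- Hypothesis (3.1) without the parity condition: `V = W \ (W₁ ∪ W₂)` is a TI-subset of `G`
with normalizer `W`. -/
structure CTI (W₁ W₂ : Subgroup W) (f : W →* G) : Prop extends CycDp W₁ W₂ where
  inj : Function.Injective f
  TI : ∀ v, v ∉ W₁ → v ∉ W₂ → ∀ (g : G) (w : W), f w = g⁻¹ * f v * g → g ∈ f.range

theorem CTI.symm {f : W →* G} (h : CTI W₁ W₂ f) : CTI W₂ W₁ f :=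
  ⟨h.toCycDp.symm, h.inj, fun v h1 h2 => h.TI v h2 h1⟩

/-- weaker forms of the TI property suffice -/
theorem CycDp.cycTI_of_normalizer [Finite W] (h : CycDp W₁ W₂) {f : W →* G}
    (hf : Function.Injective f)
    (hN : ∀ X : Set W, X.Nonempty → (∀ v ∈ X, v ∉ W₁ ∧ v ∉ W₂) → ∀ g : G,
      (∀ v ∈ X, ∃ w ∈ X, f w = g⁻¹ * f v * g) → g ∈ f.range) : CTI W₁ W₂ f := by
  have := h.cyclic
  refine ⟨h, hf, fun v h1 h2 g w e => hN {x | orderOf x = orderOf v} ⟨v, rfl⟩ ?_ g ?_⟩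
  · intro x hx
    have hx' : orderOf x = orderOf v := hx
    exact ⟨fun h' => h1 (mem_of_orderOf_dvd_card (hx' ▸ orderOf_dvd_card_of_mem h')),
      fun h' => h2 (mem_of_orderOf_dvd_card (hx' ▸ orderOf_dvd_card_of_mem h'))⟩
  · intro x hx
    have hx' : orderOf x = orderOf v := hx
    obtain ⟨n, rfl⟩ : x ∈ Subgroup.zpowers v :=
      mem_of_orderOf_dvd_card (by rw [hx', Nat.card_zpowers])
    have e' : f (w ^ n) = g⁻¹ * f (v ^ n) * g := by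
      rw [map_zpow, map_zpow, e]
      simpa using conj_zpow (a := g⁻¹) (b := f v) (i := n)
    refine ⟨w ^ n, ?_, e'⟩
    change orderOf (w ^ n) = orderOf v
    rw [← hx', ← orderOf_injective f hf, e', ← orderOf_injective f hf (v ^ n)]
    simpa using orderOf_conj g⁻¹ (f (v ^ n))

theorem cycDp_of_isSelfNormalizingCyclic {V₁ V₂ : Subgroup G}
    (h : IsSelfNormalizingCyclic V₁ V₂) :
    CycDp (V₁.subgroupOf (V₁ ⊔ V₂)) (V₂.subgroupOf (V₁ ⊔ V₂)) where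
  cyclic := h.2.2.2.2.1
  ne₁ := fun e => h.1 (by
    rw [Subgroup.subgroupOf_eq_bot] at e
    exact e.eq_bot_of_le le_sup_left)
  ne₂ := fun e => h.2.1 (by
    rw [Subgroup.subgroupOf_eq_bot] at e
    exact e.eq_bot_of_le le_sup_right)
  inf := by rw [← inf_subgroupOf_distrib, h.2.2.1, Subgroup.bot_subgroupOf]
  sup := by
    rw [← Subgroup.subgroupOf_sup le_sup_left le_sup_right, Subgroup.subgroupOf_self]

theorem cycTI_of_isSelfNormalizingCyclic [Finite G] {V₁ V₂ : Subgroup G}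
    (h : IsSelfNormalizingCyclic V₁ V₂) :
    CTI (V₁.subgroupOf (V₁ ⊔ V₂)) (V₂.subgroupOf (V₁ ⊔ V₂)) (V₁ ⊔ V₂).subtype := by
  refine (cycDp_of_isSelfNormalizingCyclic h).cycTI_of_normalizer (Subgroup.subtype_injective _) ?_
  intro X hX hXV g hg
  rw [Subgroup.range_subtype, ← inv_mem_iff,
    ← h.2.2.2.2.2 (Subtype.val '' X) ?_ (hX.image _)]
  · refine Subgroup.mem_normalizer_fintype ?_
    rintro _ ⟨v, hv, rfl⟩
    obtain ⟨w, hw, e⟩ := hg v hv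
    exact ⟨w, hw, by rw [inv_inv]; exact e⟩
  · rintro _ ⟨v, hv, rfl⟩
    exact ⟨v.2, fun h' => h'.elim (hXV v hv).1 (hXV v hv).2⟩

variable [Fintype G] [Fintype W] {f : W →* G}

theorem CTI.ind_apply (h : CTI W₁ W₂ f) (α : W → ℂ) {v : W} (h₁ : v ∉ W₁) (h₂ : v ∉ W₂) :
    ind f α (f v) = α v := by
  have := h.comm
  exact ind_apply_of_TI h.inj (isClassFunction_of_comm α) v (fun x b e _ => h.TI v h₁ h₂ x b e)

theorem CTI.ci_ind_ind (h : CTI W₁ W₂ f) {α : W → ℂ}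
    (hα : ∀ w, ¬ (w ∉ W₁ ∧ w ∉ W₂) → α w = 0) (β : W → ℂ) : ⟪ind f α, ind f β⟫ = ⟪α, β⟫ := by
  rw [ci_ind_left f α (isClassFunction_ind f β), ci_def, ci_def]
  congr 1
  refine Finset.sum_congr rfl (fun a _ => ?_)
  by_cases ha : a ∉ W₁ ∧ a ∉ W₂
  · rw [h.ind_apply β ha.1 ha.2]
  · rw [hα a ha, zero_mul, zero_mul]

/-- The family of Peterfalvi (3.2). -/
structure CycFam (W₁ W₂ : Subgroup W) (f : W →* G) (σ : (W →* ℂˣ) → G → ℂ) : Prop where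
  sirr : ∀ ω, IsSIrr G (σ ω)
  orth : ∀ ω ω', ω ≠ ω' → ⟪σ ω, σ ω'⟫ = 0
  map_one : σ 1 = fun _ => 1
  eq_on : ∀ ω w, w ∉ W₁ → w ∉ W₂ → σ ω (f w) = ω w
  induced_eq : ∀ φ ∈ Ann W₂, ∀ ψ ∈ Ann W₁, ind f (cAlpha φ ψ) = σ 1 - σ φ - σ ψ + σ (φ * ψ)

theorem eq_on_of_induced_eq (h : CycDp W₁ W₂) {σ : (W →* ℂˣ) → G → ℂ}
    (sirr : ∀ ω, IsSIrr G (σ ω)) (orth : ∀ ω ω', ω ≠ ω' → ⟪σ ω, σ ω'⟫ = 0)
    (hi : ∀ φ ∈ Ann W₂, ∀ ψ ∈ Ann W₁, ind f (cAlpha φ ψ) = σ 1 - σ φ - σ ψ + σ (φ * ψ))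
    (ω : W →* ℂˣ) (w : W) (h₁ : w ∉ W₁) (h₂ : w ∉ W₂) : σ ω (f w) = ω w := by
  have key : ∀ ω', ⟪σ ω', σ ω⟫ = ⟪lc ω', lc ω⟫ := by
    intro ω'
    by_cases e : ω' = ω
    · rw [e, (sirr ω).ci_self, ci_lc_self]
    · rw [orth _ _ e, ci_lc_of_ne e]
  refine sub_eq_zero.1 (h.eq_zero_of_orth (β := (fun w => σ ω (f w)) - lc ω) ?_ h₁ h₂)
  intro φ hφ ψ hψ
  rw [ci_sub_right, ← ci_ind_left f _ (sirr ω).isClassFunction, hi φ hφ ψ hψ, cAlpha_eq]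
  simp only [ci_add_left, ci_sub_left, key, sub_self]

theorem card_ne_one_subtype {Γ : Type*} [Group Γ] [Finite Γ] :
    Nat.card {a : Γ // a ≠ 1} = Nat.card Γ - 1 := by
  classical
  have := Fintype.ofFinite Γ
  simp [Nat.card_eq_fintype_card, Fintype.card_subtype_compl]

/-- Peterfalvi (3.2), (3.5). -/
theorem CTI.exists_fam (h : CTI W₁ W₂ f) (hodd : Odd (Nat.card W)) :
    ∃ σ, CycFam W₁ W₂ f σ := by
  classical
  let I := {a : Ann W₂ // a ≠ 1}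
  let J := {a : Ann W₁ // a ≠ 1}
  have nI : ∀ i : I, i.1.1 ≠ 1 := fun i e => i.2 (Subtype.ext e)
  have nJ : ∀ i : J, i.1.1 ≠ 1 := fun i e => i.2 (Subtype.ext e)
  let β : I → J → G → ℂ := fun i j => ind f (cAlpha i.1.1 j.1.1) - fun _ => 1
  have hv : ∀ i j, IsGeneralizedCharacter G (β i j) :=
    fun i j => ((cAlpha_virt _ _).ind f).sub virt_one
  have h1 : ∀ (i : I) (j : J), ⟪ind f (cAlpha i.1.1 j.1.1), fun _ => 1⟫ = 1 := by
    intro i j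
    rw [ci_ind_left f _ (isClassFunction_const 1)]
    exact ci_cAlpha_one h.sup i.1.2 j.1.2 (nI i) (nJ j)
  have hβ1 : ∀ i j, ⟪β i j, fun _ => 1⟫ = 0 := by
    intro i j; rw [ci_sub_left, h1, ci_one_one, sub_self]
  have hci : ∀ i k j l, ⟪β i j, β k l⟫
      = (1 + if i = k then 1 else 0) * (1 + if j = l then 1 else 0) - 1 := by
    intro i k j l
    rw [ci_sub_right, hβ1, sub_zero, ci_sub_left, ← ci_conj_symm _ (fun _ => 1), h1,
      h.ci_ind_ind (fun w hw => cAlpha_eq_zero i.1.2 j.1.2 hw),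
      ci_cAlpha_cAlpha h.sup i.1.2 j.1.2 k.1.2 l.1.2 (nI i) (nJ j) (nI k) (nJ l), map_one]
    simp only [Subtype.ext_iff (a1 := i), Subtype.ext_iff (a1 := j), Subtype.ext_iff (a1 := i.1),
      Subtype.ext_iff (a1 := j.1)]
  have hg : GridHyp (-1) β := by
    refine ⟨fun i j => ⟨hv i j, nsq_eq_of_ci ?_, ?_⟩, fun i j l hjl => zi_of_ci_one ?_,
      fun i k j hik => zi_of_ci_one ?_, fun i k j l hik hjl => zi_of_ci_zero ?_⟩
    · rw [hci]; norm_num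
    · simp only [β, Pi.sub_apply, ind_apply_one h.inj]
      rw [cAlpha_eq_zero i.1.2 j.1.2 (fun h' => h'.1 (one_mem _))]; simp
    · rw [hci]; simp [hjl]
    · rw [hci]; simp [hik]
    · rw [hci]; simp [hik, hjl]
  have cI : Nat.card I = Nat.card W₁ - 1 := by rw [card_ne_one_subtype, h.card_Ann₂]
  have cJ : Nat.card J = Nat.card W₂ - 1 := by rw [card_ne_one_subtype, h.card_Ann₁]
  have t1 := h.three_le₁ hodd
  have t2 := h.three_le₂ hodd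
  have t3 := h.card_ne
  obtain ⟨k1, hk1⟩ := h.odd₁ hodd
  obtain ⟨k2, hk2⟩ := h.toCycDp.symm.odd₁ hodd
  obtain ⟨x, y, z, hs⟩ := hg.exists_sol (by omega) (by omega) (by omega) (by omega) (by omega)
  have : Nonempty I := (Nat.card_pos_iff.1 (by omega)).1
  have : Nonempty J := (Nat.card_pos_iff.1 (by omega)).1
  let τ : Ann W₂ × Ann W₁ → G → ℂ := fun p =>
    if hφ : p.1 = 1 then (if hψ : p.2 = 1 then fun _ => 1 else -x ⟨p.2, hψ⟩)
    else (if hψ : p.2 = 1 then -y ⟨p.1, hφ⟩ else z ⟨p.1, hφ⟩ ⟨p.2, hψ⟩)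
  have τ11 : τ (1, 1) = fun _ => 1 := by simp [τ]
  have τ1j : ∀ j : J, τ (1, j.1) = -x j := fun j => by simp [τ, j.2]
  have τi1 : ∀ i : I, τ (i.1, 1) = -y i := fun i => by simp [τ, i.2]
  have τij : ∀ (i : I) (j : J), τ (i.1, j.1) = z i j := fun i j => by simp [τ, i.2, j.2]
  have cases : ∀ p : Ann W₂ × Ann W₁, p = (1, 1) ∨ (∃ j : J, p = (1, j.1)) ∨
      (∃ i : I, p = (i.1, 1)) ∨ ∃ (i : I) (j : J), p = (i.1, j.1) := by
    rintro ⟨φ, ψ⟩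
    by_cases hφ : φ = 1 <;> by_cases hψ : ψ = 1
    · exact Or.inl (by rw [hφ, hψ])
    · exact Or.inr (Or.inl ⟨⟨ψ, hψ⟩, by rw [hφ]⟩)
    · exact Or.inr (Or.inr (Or.inl ⟨⟨φ, hφ⟩, by rw [hψ]⟩))
    · exact Or.inr (Or.inr (Or.inr ⟨⟨φ, hφ⟩, ⟨ψ, hψ⟩, rfl⟩))
  have s1 : IsSIrr G (fun _ => 1) := isIrrCharacter_one.isSIrr
  have sx : ∀ j, IsSIrr G (x j) := fun j => (hs.tri (Classical.arbitrary I) j).sx
  have sy : ∀ i, IsSIrr G (y i) := fun i => (hs.tri i (Classical.arbitrary J)).sy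
  have x1 : ∀ j, ⟪x j, fun _ => 1⟫ = 0 :=
    fun j => (hs.tri (Classical.arbitrary I) j).orth1 s1 (zi_of_ci_zero (hβ1 _ _))
  have y1 : ∀ i, ⟪y i, fun _ => 1⟫ = 0 :=
    fun i => (hs.tri i (Classical.arbitrary J)).orth2 s1 (zi_of_ci_zero (hβ1 _ _))
  have z1 : ∀ i j, ⟪z i j, fun _ => 1⟫ = 0 :=
    fun i j => (hs.tri i j).orth3 s1 (zi_of_ci_zero (hβ1 _ _))
  have xy : ∀ j i, ⟪x j, y i⟫ = 0 := fun j i => (hs.tri i j).xy
  have sτ : ∀ p, IsSIrr G (τ p) := by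
    intro p
    rcases cases p with rfl | ⟨j, rfl⟩ | ⟨i, rfl⟩ | ⟨i, j, rfl⟩
    · rw [τ11]; exact s1
    · rw [τ1j]; exact (sx j).neg
    · rw [τi1]; exact (sy i).neg
    · rw [τij]; exact (hs.tri i j).sz
  have oτ : ∀ p q, p ≠ q → ⟪τ p, τ q⟫ = 0 := by
    intro p q hne
    rcases cases p with rfl | ⟨j, rfl⟩ | ⟨i, rfl⟩ | ⟨i, j, rfl⟩ <;>
      rcases cases q with rfl | ⟨l, rfl⟩ | ⟨k, rfl⟩ | ⟨k, l, rfl⟩ <;>
      simp only [τ11, τ1j, τi1, τij, ci_neg_left, ci_neg_right, neg_neg, neg_eq_zero]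
    · exact absurd rfl hne
    · exact ci_eq_zero_symm (x1 _)
    · exact ci_eq_zero_symm (y1 _)
    · exact ci_eq_zero_symm (z1 _ _)
    · exact x1 _
    · exact hs.xx _ _ (fun e => hne (by rw [e]))
    · exact xy _ _
    · exact hs.xz _ _ _
    · exact y1 _
    · exact ci_eq_zero_symm (xy _ _)
    · exact hs.yy _ _ (fun e => hne (by rw [e]))
    · exact hs.yz _ _ _
    · exact z1 _ _
    · exact ci_eq_zero_symm (hs.xz _ _ _)
    · exact ci_eq_zero_symm (hs.yz _ _ _)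
    · refine hs.zz _ _ _ _ ?_
      by_contra hn
      push Not at hn
      exact hne (by rw [hn.1, hn.2])
  let σ : (W →* ℂˣ) → G → ℂ := fun ω => τ (h.annEquiv.symm ω)
  have σe : ∀ (φ : Ann W₂) (ψ : Ann W₁), σ (φ.1 * ψ.1) = τ (φ, ψ) := fun φ ψ =>
    congrArg τ (h.annEquiv.symm_apply_apply (φ, ψ))
  have σ1 : σ 1 = fun _ => 1 := by
    rw [← τ11, ← σe]; exact congrArg σ (mul_one _).symm
  have orth : ∀ ω ω', ω ≠ ω' → ⟪σ ω, σ ω'⟫ = 0 :=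
    fun ω ω' hne => oτ _ _ (fun e => hne (h.annEquiv.symm.injective e))
  have hi : ∀ φ ∈ Ann W₂, ∀ ψ ∈ Ann W₁, ind f (cAlpha φ ψ) = σ 1 - σ φ - σ ψ + σ (φ * ψ) := by
    intro φ hφ ψ hψ
    by_cases e1 : φ = 1
    · rw [e1, cAlpha_one_left, ind_zero, lone_mul]; abel
    by_cases e2 : ψ = 1
    · rw [e2, cAlpha_one_right, ind_zero, lmul_one]; abel
    let i : I := ⟨⟨φ, hφ⟩, fun e => e1 (congrArg Subtype.val e)⟩
    let j : J := ⟨⟨ψ, hψ⟩, fun e => e2 (congrArg Subtype.val e)⟩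
    have a1 : σ φ = -y i := by rw [← τi1, ← σe]; exact congrArg σ (mul_one _).symm
    have a2 : σ ψ = -x j := by rw [← τ1j, ← σe]; exact congrArg σ (one_mul _).symm
    have a3 : σ (φ * ψ) = z i j := by rw [← τij, ← σe]
    have a4 : ind f (cAlpha φ ψ) - (fun _ => 1) = x j + y i + z i j := (hs.tri i j).eq
    rw [a1, a2, a3, σ1, sub_eq_iff_eq_add.1 a4]
    abel
  exact ⟨σ, fun ω => sτ _, orth, σ1,
    eq_on_of_induced_eq h.toCycDp (fun ω => sτ _) orth hi, hi⟩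

end Cfsg.Agent.PF
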