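import Cfsg.Agent.PF.Coset

/-!
# Peterfalvi §2: the Dade isometry
-/

set_option autoImplicit false
set_option linter.unusedSectionVars false

namespace Cfsg.Agent.PF

open Cfsg Cfsg.Agent.Char Cfsg.Agent.GT
open scoped ComplexConjugate

universe u v

variable {G : Type u} [Group G] {A : Set G} {L : Subgroup G} {H : G → Subgroup G}

section group

theorem _root_.Cfsg.DadeHypothesis.mem_L (hD : DadeHypothesis A L H) {a : G} (ha : a ∈ A) :
    a ∈ L := hD.subset ha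

theorem _root_.Cfsg.DadeHypothesis.ne_one (hD : DadeHypothesis A L H) {a : G} (ha : a ∈ A) :
    a ≠ 1 := fun h => hD.one_not_mem (h ▸ ha)

theorem _root_.Cfsg.DadeHypothesis.comm (hD : DadeHypothesis A L H) {a u : G} (ha : a ∈ A)
    (hu : u ∈ H a) : a * u = u * a := (mem_cent1.1 (hD.le_centralizer a ha hu)).symm

theorem _root_.Cfsg.DadeHypothesis.conj_mem_iff (hD : DadeHypothesis A L H) {x a : G}
    (hx : x ∈ L) : x * a * x⁻¹ ∈ A ↔ a ∈ A := by
  refine ⟨fun h => ?_, hD.conj_mem x hx a⟩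
  have := hD.conj_mem x⁻¹ (L.inv_mem hx) _ h
  simpa [mul_assoc] using this

theorem _root_.Cfsg.DadeHypothesis.orderOf_dvd (hD : DadeHypothesis A L H) {a : G} (ha : a ∈ A) :
    orderOf a ∣ Nat.card ↥(L ⊓ 𝒞[a]) :=
  orderOf_dvd_card_of_mem ⟨hD.subset ha, self_mem_cent1 a⟩

theorem _root_.Cfsg.DadeHypothesis.cent_le_norm (hD : DadeHypothesis A L H) {a : G}
    (ha : a ∈ A) : 𝒞[a] ≤ 𝒩(H a) := le_norm_iff.2 (hD.conj_mem_H a ha)

theorem _root_.Cfsg.DadeHypothesis.exists_mul (hD : DadeHypothesis A L H) {a c : G}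
    (ha : a ∈ A) (hc : c ∈ 𝒞[a]) : ∃ u ∈ H a, ∃ l ∈ L ⊓ 𝒞[a], c = u * l := by
  rw [← hD.sup_eq a ha] at hc
  exact (mem_sup_of_le_norm' (inf_le_right.trans (hD.cent_le_norm ha))).1 hc

theorem _root_.Cfsg.DadeHypothesis.mem_H_of_coprime (hD : DadeHypothesis A L H) {a u : G}
    (ha : a ∈ A) (hu : u ∈ 𝒞[a]) (hcop : Nat.Coprime (orderOf u) (Nat.card ↥(L ⊓ 𝒞[a]))) :
    u ∈ H a := by
  obtain ⟨h, hh, l, hl, rfl⟩ := hD.exists_mul ha hu
  have h1 := mul_pow_mul_inv_mem (hD.cent_le_norm ha hl.2) hh (orderOf (h * l))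
  rw [pow_orderOf_eq_one, one_mul] at h1
  have h2 : (l ^ orderOf (h * l))⁻¹ ∈ H a ⊓ (L ⊓ 𝒞[a]) :=
    ⟨h1, Subgroup.inv_mem _ (Subgroup.pow_mem _ hl _)⟩
  rw [hD.inf_eq_bot a ha, Subgroup.mem_bot, inv_eq_one, ← orderOf_dvd_iff_pow_eq_one] at h2
  have h3 : orderOf l = 1 :=
    Nat.eq_one_of_dvd_coprimes hcop h2 (orderOf_dvd_card_of_mem hl)
  rw [orderOf_eq_one_iff.1 h3, mul_one]
  exact hh

theorem _root_.Cfsg.DadeHypothesis.mem_H_iff (hD : DadeHypothesis A L H) {a u : G}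
    (ha : a ∈ A) :
    u ∈ H a ↔ u ∈ 𝒞[a] ∧ Nat.Coprime (orderOf u) (Nat.card ↥(L ⊓ 𝒞[a])) :=
  ⟨fun hu => ⟨hD.le_centralizer a ha hu,
    (hD.coprime a ha a ha).coprime_dvd_left (orderOf_dvd_card_of_mem hu)⟩,
    fun h => hD.mem_H_of_coprime ha h.1 h.2⟩

theorem _root_.Cfsg.DadeHypothesis.mem_H_of_dvd (hD : DadeHypothesis A L H) {a b u : G}
    (ha : a ∈ A) (hb : b ∈ A) (hu : u ∈ 𝒞[a]) (h : orderOf u ∣ Nat.card (H b)) : u ∈ H a :=
  hD.mem_H_of_coprime ha hu ((hD.coprime b hb a ha).coprime_dvd_left h)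

theorem _root_.Cfsg.DadeHypothesis.inf_cent (hD : DadeHypothesis A L H) {a b : G}
    (ha : a ∈ A) (hb : b ∈ A) : H b ⊓ 𝒞[a] = H b ⊓ H a :=
  le_antisymm (fun _ hu => ⟨hu.1, hD.mem_H_of_dvd ha hb hu.2 (orderOf_dvd_card_of_mem hu.1)⟩)
    (inf_le_inf_left _ (hD.le_centralizer a ha))

theorem _root_.Cfsg.DadeHypothesis.conj_mem_H_conj (hD : DadeHypothesis A L H) {a g u : G}
    (ha : a ∈ A) (hg : g * a * g⁻¹ ∈ A) (hu : u ∈ H a) : g * u * g⁻¹ ∈ H (g * a * g⁻¹) := by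
  refine hD.mem_H_of_dvd hg ha ?_ ?_
  · rw [← conj_cent1, conj_mem_conj]; exact hD.le_centralizer a ha hu
  · rw [orderOf_conj]; exact orderOf_dvd_card_of_mem hu

/-- Peterfalvi (2.4.a), for any conjugating element. -/
theorem _root_.Cfsg.DadeHypothesis.H_conj (hD : DadeHypothesis A L H) {a g : G}
    (ha : a ∈ A) (hg : g * a * g⁻¹ ∈ A) : H (g * a * g⁻¹) = g ▷ H a := by
  refine le_antisymm (fun u hu => ?_) (conj_le_iff_forall.2 (fun u hu => hD.conj_mem_H_conj ha hg hu))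
  have e : g⁻¹ * (g * a * g⁻¹) * g⁻¹⁻¹ = a := by group
  have := hD.conj_mem_H_conj (g := g⁻¹) hg (by rw [e]; exact ha) hu
  rw [e] at this
  exact mem_conj_iff_exists.2 ⟨_, this, by group⟩

theorem _root_.Cfsg.DadeHypothesis.card_H_conj (hD : DadeHypothesis A L H) {a g : G}
    (ha : a ∈ A) (hg : g * a * g⁻¹ ∈ A) : Nat.card (H (g * a * g⁻¹)) = Nat.card (H a) := by
  rw [hD.H_conj ha hg, Subgroup.card_map_of_injective (conj_hom_injective g)]

/-- the key to Peterfalvi (2.4.b) -/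
theorem _root_.Cfsg.DadeHypothesis.conj_eq (hD : DadeHypothesis A L H) {a b u v g : G}
    (ha : a ∈ A) (hb : b ∈ A) (hu : u ∈ H a) (hv : v ∈ H b) (h : g * (a * u) * g⁻¹ = b * v) :
    g * a * g⁻¹ = b := by
  refine conj_eq_of_conj_mul_eq (hD.comm ha hu) (hD.comm hb hv)
    (m := Nat.card (H a) * Nat.card (H b))
    (n := Nat.card ↥(L ⊓ 𝒞[a]) * Nat.card ↥(L ⊓ 𝒞[b])) ?_
    ((hD.orderOf_dvd ha).mul_right _) ((hD.orderOf_dvd hb).mul_left _)
    ((orderOf_dvd_card_of_mem hu).mul_right _) ((orderOf_dvd_card_of_mem hv).mul_left _) h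
  exact Nat.Coprime.mul_left ((hD.coprime a ha a ha).mul_right (hD.coprime a ha b hb))
    ((hD.coprime b hb a ha).mul_right (hD.coprime b hb b hb))

theorem _root_.Cfsg.DadeHypothesis.exists_conj (hD : DadeHypothesis A L H) {a b u v g : G}
    (ha : a ∈ A) (hb : b ∈ A) (hu : u ∈ H a) (hv : v ∈ H b) (h : g * (a * u) * g⁻¹ = b * v) :
    ∃ x ∈ L, x * a * x⁻¹ = b := by
  have e := hD.conj_eq ha hb hu hv h
  obtain ⟨x, hx, hx'⟩ := hD.fusion a ha g (e ▸ hb)
  exact ⟨x, hx, hx'.trans e⟩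

theorem _root_.Cfsg.DadeHypothesis.eq_one_of_mem_L (hD : DadeHypothesis A L H) {a u : G}
    (ha : a ∈ A) (hu : u ∈ H a) (huL : u ∈ L) : u = 1 := by
  have : u ∈ H a ⊓ (L ⊓ 𝒞[a]) := ⟨hu, huL, hD.le_centralizer a ha hu⟩
  rwa [hD.inf_eq_bot a ha, Subgroup.mem_bot] at this

theorem _root_.Cfsg.DadeHypothesis.card_conj_mem (hD : DadeHypothesis A L H) {a : G}
    (ha : a ∈ A) : Nat.card {y : G // y * a * y⁻¹ ∈ A} = Nat.card L * Nat.card (H a) := by
  rw [← Nat.card_prod]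
  symm
  refine Nat.card_congr (Equiv.ofBijective (fun p : L × H a => ⟨(p.1 : G) * p.2, ?_⟩) ⟨?_, ?_⟩)
  · have : (p.1 : G) * p.2 * a * ((p.1 : G) * p.2)⁻¹ = p.1 * a * (p.1 : G)⁻¹ := by
      rw [mul_assoc (p.1 : G), ← hD.comm ha p.2.2]; group
    rw [this]; exact hD.conj_mem _ p.1.2 a ha
  · rintro ⟨l, u⟩ ⟨l', u'⟩ h
    have h1 : (l : G) * u = l' * u' := congrArg Subtype.val h
    have h2 : (u : G) * (u' : G)⁻¹ = (l : G)⁻¹ * l' := by
      rw [mul_inv_eq_iff_eq_mul, mul_assoc, ← h1]; group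
    have h3 := hD.eq_one_of_mem_L ha ((H a).mul_mem u.2 ((H a).inv_mem u'.2))
      (h2 ▸ L.mul_mem (L.inv_mem l.2) l'.2)
    have h4 : u = u' := Subtype.ext (mul_inv_eq_one.1 h3)
    subst h4
    exact Prod.ext (Subtype.ext (mul_right_cancel h1)) rfl
  · rintro ⟨y, hy⟩
    obtain ⟨l, hl, hl'⟩ := hD.fusion a ha y hy
    have hc : (l⁻¹ * y)⁻¹ ∈ 𝒞[a] := by
      rw [mem_cent1]
      calc (l⁻¹ * y)⁻¹ * a = y⁻¹ * (l * a * l⁻¹) * l := by group
        _ = _ := by rw [hl']; group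
    obtain ⟨u, hu, c, hc', e⟩ := hD.exists_mul ha hc
    refine ⟨(⟨l * c⁻¹, L.mul_mem hl (L.inv_mem hc'.1)⟩, ⟨u⁻¹, (H a).inv_mem hu⟩), Subtype.ext ?_⟩
    change l * c⁻¹ * u⁻¹ = y
    rw [mul_assoc, ← mul_inv_rev, ← e]; group

/-- Peterfalvi (2.11), first half. -/
theorem _root_.Cfsg.DadeHypothesis.restrict (hD : DadeHypothesis A L H) {A₁ : Set G}
    (h₁ : A₁ ⊆ A) (hn : ∀ x ∈ L, ∀ a ∈ A₁, x * a * x⁻¹ ∈ A₁) : DadeHypothesis A₁ L H where
  one_not_mem h := hD.one_not_mem (h₁ h)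
  subset := h₁.trans hD.subset
  conj_mem := hn
  fusion a ha g hg := hD.fusion a (h₁ ha) g (h₁ hg)
  le_centralizer a ha := hD.le_centralizer a (h₁ ha)
  conj_mem_H a ha := hD.conj_mem_H a (h₁ ha)
  inf_eq_bot a ha := hD.inf_eq_bot a (h₁ ha)
  sup_eq a ha := hD.sup_eq a (h₁ ha)
  coprime a ha b hb := hD.coprime a (h₁ ha) b (h₁ hb)

/-- The Dade hypothesis for a TI-set. -/
theorem dadeHypothesis_of_TI (h1 : (1 : G) ∉ A) (hAL : A ⊆ L)
    (hn : ∀ x ∈ L, ∀ a ∈ A, x * a * x⁻¹ ∈ A) (hTI : ∀ a ∈ A, ∀ g, g * a * g⁻¹ ∈ A → g ∈ L) :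
    DadeHypothesis A L (fun _ => ⊥) where
  one_not_mem := h1
  subset := hAL
  conj_mem := hn
  fusion a ha g hg := ⟨g, hTI a ha g hg, rfl⟩
  le_centralizer _ _ := bot_le
  conj_mem_H a _ c _ u hu := by rw [Subgroup.mem_bot.1 hu]; simp
  inf_eq_bot _ _ := bot_inf_eq _
  sup_eq a ha := by
    rw [bot_sup_eq, inf_eq_right]
    intro c hc
    refine hTI a ha c ?_
    rw [mem_cent1.1 hc, mul_inv_cancel_right]; exact ha
  coprime _ _ _ _ := by simp

theorem _root_.Cfsg.DadeHypothesis.mem_L_of_bot (hD : DadeHypothesis A L H) {a g : G}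
    (ha : a ∈ A) (hH : H a = ⊥) (hg : g * a * g⁻¹ ∈ A) : g ∈ L := by
  obtain ⟨l, hl, hl'⟩ := hD.fusion a ha g hg
  have hc : l⁻¹ * g ∈ 𝒞[a] := by
    rw [mem_cent1]
    calc l⁻¹ * g * a = l⁻¹ * (g * a * g⁻¹) * g := by group
      _ = _ := by rw [← hl']; group
  obtain ⟨u, hu, c, hc', e⟩ := hD.exists_mul ha hc
  rw [hH, Subgroup.mem_bot] at hu
  rw [hu, one_mul] at e
  have : g = l * c := by rw [← e]; group
  rw [this]; exact L.mul_mem hl hc'.1

end group

/-- The support of the Dade isometry. -/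
def dadeSupp (A : Set G) (H : G → Subgroup G) : Set G :=
  {g | ∃ a ∈ A, ∃ u ∈ H a, ∃ x : G, x * g * x⁻¹ = a * u}

theorem conj_mem_dadeSupp_iff {g x : G} : x * g * x⁻¹ ∈ dadeSupp A H ↔ g ∈ dadeSupp A H := by
  constructor
  · rintro ⟨a, ha, u, hu, y, hy⟩
    exact ⟨a, ha, u, hu, y * x, by rw [← hy]; group⟩
  · rintro ⟨a, ha, u, hu, y, hy⟩
    exact ⟨a, ha, u, hu, y * x⁻¹, by rw [← hy]; group⟩

theorem mul_mem_dadeSupp {a u : G} (ha : a ∈ A) (hu : u ∈ H a) : a * u ∈ dadeSupp A H :=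
  ⟨a, ha, u, hu, 1, by simp⟩

theorem subset_dadeSupp : A ⊆ dadeSupp A H := fun a ha => ⟨a, ha, 1, one_mem _, 1, by simp⟩

theorem dadeSupp_mono {A₁ : Set G} (h : A₁ ⊆ A) : dadeSupp A₁ H ⊆ dadeSupp A H := by
  rintro g ⟨a, ha, h'⟩
  exact ⟨a, h ha, h'⟩

theorem _root_.Cfsg.DadeHypothesis.one_not_mem_supp (hD : DadeHypothesis A L H) :
    (1 : G) ∉ dadeSupp A H := by
  rintro ⟨a, ha, u, hu, x, hx⟩
  have h1 : u = a⁻¹ := by
    rw [mul_one, mul_inv_cancel] at hx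
    exact eq_inv_of_mul_eq_one_right hx.symm
  have := hD.eq_one_of_mem_L ha hu (h1 ▸ L.inv_mem (hD.mem_L ha))
  rw [h1, inv_eq_one] at this
  exact hD.ne_one ha this

section map

variable (A L H)

/-- The Dade map as a linear map. -/
noncomputable def dadeL : (L → ℂ) →ₗ[ℂ] (G → ℂ) where
  toFun := dadeIsometry A L H
  map_add' α β := by
    funext g
    simp only [dadeIsometry, Pi.add_apply]
    split_ifs <;> simp
  map_smul' c α := by
    funext g
    simp only [dadeIsometry, Pi.smul_apply, RingHom.id_apply]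
    split_ifs <;> simp

theorem dadeL_apply (α : L → ℂ) : dadeL A L H α = dadeIsometry A L H α := rfl

theorem dade_add (α β : L → ℂ) :
    dadeIsometry A L H (α + β) = dadeIsometry A L H α + dadeIsometry A L H β :=
  (dadeL A L H).map_add α β

theorem dade_sub (α β : L → ℂ) :
    dadeIsometry A L H (α - β) = dadeIsometry A L H α - dadeIsometry A L H β :=
  (dadeL A L H).map_sub α β

theorem dade_neg (α : L → ℂ) : dadeIsometry A L H (-α) = -dadeIsometry A L H α :=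
  (dadeL A L H).map_neg α

theorem dade_smul (c : ℂ) (α : L → ℂ) :
    dadeIsometry A L H (c • α) = c • dadeIsometry A L H α :=
  (dadeL A L H).map_smul c α

theorem dade_zsmul (c : ℤ) (α : L → ℂ) :
    dadeIsometry A L H (c • α) = c • dadeIsometry A L H α :=
  map_zsmul (dadeL A L H) c α

theorem dade_zero : dadeIsometry A L H 0 = 0 := (dadeL A L H).map_zero

theorem dade_sum {ι : Type*} (s : Finset ι) (f : ι → L → ℂ) :
    dadeIsometry A L H (∑ i ∈ s, f i) = ∑ i ∈ s, dadeIsometry A L H (f i) :=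
  map_sum (dadeL A L H) f s

theorem map_dade (σ : ℂ → ℂ) (hσ : σ 0 = 0) (α : L → ℂ) (g : G) :
    σ (dadeIsometry A L H α g) = dadeIsometry A L H (fun x => σ (α x)) g := by
  simp only [dadeIsometry]
  split_ifs
  · rfl
  · exact hσ

theorem conjFun_dade (α : L → ℂ) :
    conjFun (dadeIsometry A L H α) = dadeIsometry A L H (conjFun α) := by
  funext g
  exact map_dade A L H (starRingEnd ℂ) (map_zero _) α g

theorem isClassFunction_dade (α : L → ℂ) : IsClassFunction G (dadeIsometry A L H α) := by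
  classical
  intro g h
  have e : (fun a : L => (a : G) ∈ A ∧ ∃ x : G, ∃ u ∈ H (a : G), x * (h * g * h⁻¹) * x⁻¹ = (a : G) * u)
      = (fun a : L => (a : G) ∈ A ∧ ∃ x : G, ∃ u ∈ H (a : G), x * g * x⁻¹ = (a : G) * u) := by
    funext a
    refine propext (and_congr_right (fun _ => ⟨?_, ?_⟩))
    · rintro ⟨x, u, hu, hx⟩
      exact ⟨x * h, u, hu, by rw [← hx]; group⟩
    · rintro ⟨x, u, hu, hx⟩
      exact ⟨x * h⁻¹, u, hu, by rw [← hx]; group⟩
  exact congrArg (fun P : L → Prop => if h : ∃ a, P a then α (Classical.choose h) else 0) e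

variable {A L H}

theorem dade_apply_of_not_mem (α : L → ℂ) {g : G} (hg : g ∉ dadeSupp A H) :
    dadeIsometry A L H α g = 0 := by
  simp only [dadeIsometry]
  rw [dif_neg]
  rintro ⟨a, ha, x, u, hu, hx⟩
  exact hg ⟨a, ha, u, hu, x, hx⟩

theorem _root_.Cfsg.DadeHypothesis.dade_apply (hD : DadeHypothesis A L H) {α : L → ℂ}
    (hα : IsClassFunction L α) {g x u : G} {a : L} (ha : (a : G) ∈ A) (hu : u ∈ H a)
    (h : x * g * x⁻¹ = a * u) : dadeIsometry A L H α g = α a := by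
  simp only [dadeIsometry]
  have hex : ∃ a : L, (a : G) ∈ A ∧ ∃ x : G, ∃ u ∈ H (a : G), x * g * x⁻¹ = (a : G) * u :=
    ⟨a, ha, x, u, hu, h⟩
  rw [dif_pos hex]
  obtain ⟨hb, y, v, hv, hy⟩ := Classical.choose_spec hex
  obtain ⟨l, hl, hl'⟩ := hD.exists_conj (g := y * x⁻¹) ha hb hu hv (by rw [← h, ← hy]; group)
  rw [← hα a ⟨l, hl⟩]
  congr 1
  exact Subtype.ext hl'.symm

theorem _root_.Cfsg.DadeHypothesis.dade_apply_mul (hD : DadeHypothesis A L H) {α : L → ℂ}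
    (hα : IsClassFunction L α) {u : G} {a : L} (ha : (a : G) ∈ A) (hu : u ∈ H a) :
    dadeIsometry A L H α (a * u) = α a := hD.dade_apply hα (x := 1) ha hu (by simp)

theorem _root_.Cfsg.DadeHypothesis.dade_apply_self (hD : DadeHypothesis A L H) {α : L → ℂ}
    (hα : IsClassFunction L α) {a : L} (ha : (a : G) ∈ A) :
    dadeIsometry A L H α a = α a := hD.dade_apply hα (x := 1) ha (one_mem _) (by simp)

theorem _root_.Cfsg.DadeHypothesis.dade_one (hD : DadeHypothesis A L H) (α : L → ℂ) :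
    dadeIsometry A L H α 1 = 0 := dade_apply_of_not_mem α hD.one_not_mem_supp

/-- Peterfalvi (2.11), second half. -/
theorem _root_.Cfsg.DadeHypothesis.dade_restrict (hD : DadeHypothesis A L H) {A₁ : Set G}
    (h₁ : A₁ ⊆ A) (hn : ∀ x ∈ L, ∀ a ∈ A₁, x * a * x⁻¹ ∈ A₁) {α : L → ℂ}
    (hα : IsClassFunction L α) (hαA : ∀ x : L, (x : G) ∉ A₁ → α x = 0) :
    dadeIsometry A₁ L H α = dadeIsometry A L H α := by
  funext g
  by_cases hg : g ∈ dadeSupp A H
  · obtain ⟨a, ha, u, hu, x, hx⟩ := hg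
    rw [hD.dade_apply hα (a := ⟨a, hD.mem_L ha⟩) ha hu hx]
    by_cases ha₁ : a ∈ A₁
    · exact (hD.restrict h₁ hn).dade_apply hα (a := ⟨a, hD.mem_L ha⟩) ha₁ hu hx
    · rw [hαA _ ha₁]
      refine dade_apply_of_not_mem α ?_
      rintro ⟨b, hb, v, hv, y, hy⟩
      obtain ⟨l, hl, hl'⟩ := hD.exists_conj (g := x * y⁻¹) (h₁ hb) ha hv hu
        (by rw [← hx, ← hy]; group)
      exact ha₁ (hl' ▸ hn l hl b hb)
  · rw [dade_apply_of_not_mem α hg, dade_apply_of_not_mem α (fun h => hg (dadeSupp_mono h₁ h))]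

/-- A function supported in `A₁ ⊆ A` has Dade image supported in the smaller support. -/
theorem _root_.Cfsg.DadeHypothesis.dade_eq_zero_of_not_mem (hD : DadeHypothesis A L H)
    {A₁ : Set G} {α : L → ℂ} (hα : IsClassFunction L α)
    (hαA : ∀ x : L, (x : G) ∉ A₁ → α x = 0) {g : G} (hg : g ∉ dadeSupp A₁ H) :
    dadeIsometry A L H α g = 0 := by
  by_cases hg' : g ∈ dadeSupp A H
  · obtain ⟨a, ha, u, hu, x, hx⟩ := hg'
    rw [hD.dade_apply hα (a := ⟨a, hD.mem_L ha⟩) ha hu hx]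
    exact hαA _ (fun h => hg ⟨a, h, u, hu, x, hx⟩)
  · exact dade_apply_of_not_mem α hg'

end map

section count

variable [Fintype G]

open Classical in
/-- The counting lemma behind Peterfalvi (2.7) and (7.3). -/
theorem _root_.Cfsg.DadeHypothesis.sum_supp (hD : DadeHypothesis A L H) {F : G → ℂ}
    (hF : IsClassFunction G F) :
    (Nat.card G : ℂ)⁻¹ * ∑ g : G, (if g ∈ dadeSupp A H then F g else 0)
      = (Nat.card L : ℂ)⁻¹ * ∑ a : G, (if a ∈ A then cosAvg (H a) F a else 0) := by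
  set w : G → ℂ := fun y => ∑ a : G,
    if a ∈ A ∧ a⁻¹ * y ∈ H a then (Nat.card (H a) : ℂ)⁻¹ else 0 with hw
  have e1 : ∑ a : G, (if a ∈ A then cosAvg (H a) F a else 0) = ∑ y : G, w y * F y := by
    simp only [hw, Finset.sum_mul]
    rw [Finset.sum_comm]
    refine Finset.sum_congr rfl (fun a _ => ?_)
    split_ifs with ha
    · rw [cosAvg_eq_sum_ite, Finset.mul_sum]
      refine Fintype.sum_equiv (Equiv.mulLeft a) _ _ (fun u => ?_)
      simp only [Equiv.coe_mulLeft, inv_mul_cancel_left, ha, true_and]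
      split_ifs <;> simp
    · simp [ha]
  have e2 : ∀ g : G, ∑ x : G, w (x * g * x⁻¹)
      = if g ∈ dadeSupp A H then (Nat.card L : ℂ) else 0 := by
    intro g
    split_ifs with hg
    · obtain ⟨a₀, ha₀, u₀, hu₀, x₀, hx₀⟩ := hg
      have e3 : ∀ y : G, w (y * (a₀ * u₀) * y⁻¹)
          = if y * a₀ * y⁻¹ ∈ A then (Nat.card (H a₀) : ℂ)⁻¹ else 0 := by
        intro y
        have key : ∀ a, a ∈ A ∧ a⁻¹ * (y * (a₀ * u₀) * y⁻¹) ∈ H a → y * a₀ * y⁻¹ = a :=
          fun a ha => hD.conj_eq ha₀ ha.1 hu₀ ha.2 (by group)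
        simp only [hw]
        rw [Finset.sum_eq_single (y * a₀ * y⁻¹)]
        · by_cases hy : y * a₀ * y⁻¹ ∈ A
          · rw [if_pos hy, if_pos, hD.card_H_conj ha₀ hy]
            refine ⟨hy, ?_⟩
            have : (y * a₀ * y⁻¹)⁻¹ * (y * (a₀ * u₀) * y⁻¹) = y * u₀ * y⁻¹ := by group
            rw [this]
            exact hD.conj_mem_H_conj ha₀ hy hu₀
          · rw [if_neg hy, if_neg (fun h => hy h.1)]
        · intro a _ hne
          rw [if_neg (fun h => hne (key a h).symm)]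
        · simp
      calc ∑ x : G, w (x * g * x⁻¹) = ∑ y : G, w (y * (a₀ * u₀) * y⁻¹) := by
            refine Fintype.sum_equiv (Equiv.mulRight x₀⁻¹) _ _ (fun x => ?_)
            rw [← hx₀]; congr 1; simp only [Equiv.coe_mulRight]; group
        _ = (Nat.card (H a₀) : ℂ)⁻¹ * ∑ y : G, if y * a₀ * y⁻¹ ∈ A then 1 else 0 := by
            rw [Finset.mul_sum]
            refine Finset.sum_congr rfl (fun y _ => ?_)
            rw [e3]; split_ifs <;> simp
        _ = _ := by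
            rw [← natCard_subtype_eq_sum_ite (fun y : G => y * a₀ * y⁻¹ ∈ A) ℂ,
              hD.card_conj_mem ha₀, Nat.cast_mul]
            have := card_ne_zero_complex (H a₀)
            field_simp
    · refine Finset.sum_eq_zero (fun x _ => Finset.sum_eq_zero (fun a _ => ?_))
      rw [if_neg]
      rintro ⟨ha, hu⟩
      exact hg ⟨a, ha, _, hu, x, by group⟩
  have e4 : (Nat.card G : ℂ) * ∑ y : G, w y * F y
      = Nat.card L * ∑ g : G, (if g ∈ dadeSupp A H then F g else 0) := by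
    calc (Nat.card G : ℂ) * ∑ y : G, w y * F y = ∑ x : G, ∑ y : G, w y * F y := by
          rw [Finset.sum_const, Finset.card_univ, nsmul_eq_mul, Nat.card_eq_fintype_card]
      _ = ∑ x : G, ∑ g : G, w (x * g * x⁻¹) * F g := by
          refine Finset.sum_congr rfl (fun x _ => ?_)
          symm
          refine Fintype.sum_equiv (MulAut.conj x).toEquiv _ _ (fun g => ?_)
          change _ = w (x * g * x⁻¹) * F (x * g * x⁻¹)
          rw [hF]
      _ = _ := by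
          rw [Finset.sum_comm, Finset.mul_sum]
          refine Finset.sum_congr rfl (fun g _ => ?_)
          rw [← Finset.sum_mul, e2]
          split_ifs <;> simp
  rw [e1]
  have h1 := card_ne_zero_complex G
  have h2 := card_ne_zero_complex L
  field_simp
  rw [e4, mul_comm]

open Classical in
theorem _root_.Cfsg.DadeHypothesis.sum_ite_eq (hD : DadeHypothesis A L H) [Fintype L]
    {M : Type v} [AddCommMonoid M] (f : G → M) :
    ∑ a : G, (if a ∈ A then f a else 0) = ∑ a : L, (if (a : G) ∈ A then f a else 0) := by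
  rw [sum_subgroup_eq_sum_ite L (fun a => if a ∈ A then f a else 0)]
  refine Finset.sum_congr rfl (fun a _ => ?_)
  by_cases ha : a ∈ A
  · rw [if_pos (hD.mem_L ha)]
  · simp [ha]

/-- Peterfalvi (2.7). -/
theorem _root_.Cfsg.DadeHypothesis.ci_dade_left (hD : DadeHypothesis A L H) [Fintype L]
    {α : L → ℂ} (hα : IsClassFunction L α) (hαA : ∀ x : L, (x : G) ∉ A → α x = 0)
    {χ : G → ℂ} (hχ : IsClassFunction G χ) {ψ : L → ℂ}
    (hψ : ∀ a : L, (a : G) ∈ A → ψ a = cosAvg (H a) χ a) :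
    ⟪dadeIsometry A L H α, χ⟫ = ⟪α, ψ⟫ := by
  classical
  have := hD.sum_supp ((isClassFunction_dade A L H α).mul hχ.conjFun)
  rw [hD.sum_ite_eq] at this
  rw [ci_def, ci_def]
  convert this using 3 with g _ a _
  · split_ifs with hg
    · rfl
    · rw [dade_apply_of_not_mem α hg, zero_mul]
  · split_ifs with ha
    · rw [hψ a ha, conj_cosAvg, ← cosAvg_const_mul]
      exact cosAvg_congr (fun u hu => by rw [Pi.mul_apply, hD.dade_apply_mul hα ha hu])
    · rw [hαA a ha, zero_mul]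

/-- Peterfalvi (2.6.a). -/
theorem _root_.Cfsg.DadeHypothesis.ci_dade_dade (hD : DadeHypothesis A L H) [Fintype L]
    {α β : L → ℂ} (hα : IsClassFunction L α) (hαA : ∀ x : L, (x : G) ∉ A → α x = 0)
    (hβ : IsClassFunction L β) :
    ⟪dadeIsometry A L H α, dadeIsometry A L H β⟫ = ⟪α, β⟫ :=
  hD.ci_dade_left hα hαA (isClassFunction_dade A L H β)
    (fun _ ha => (cosAvg_of_forall (fun _ hu => hD.dade_apply_mul hβ ha hu)).symm)

theorem _root_.Cfsg.DadeHypothesis.nsq_dade (hD : DadeHypothesis A L H) [Fintype L]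
    {α : L → ℂ} (hα : IsClassFunction L α) (hαA : ∀ x : L, (x : G) ∉ A → α x = 0) :
    nsq (dadeIsometry A L H α) = nsq α := by
  rw [← ci_self_re, hD.ci_dade_dade hα hαA hα, ci_self_re]

/-- If `χ` is constant on the cosets `a H(a)` then the Dade map is adjoint to restriction. -/
theorem _root_.Cfsg.DadeHypothesis.ci_dade_res (hD : DadeHypothesis A L H) [Fintype L]
    {α : L → ℂ} (hα : IsClassFunction L α) (hαA : ∀ x : L, (x : G) ∉ A → α x = 0)
    {χ : G → ℂ} (hχ : IsClassFunction G χ) (hc : ∀ a ∈ A, ∀ u ∈ H a, χ (a * u) = χ a) :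
    ⟪dadeIsometry A L H α, χ⟫ = ⟪α, fun x : L => χ x⟫ :=
  hD.ci_dade_left hα hαA hχ (fun a ha => (cosAvg_of_forall (hc a ha)).symm)

theorem _root_.Cfsg.DadeHypothesis.ci_dade_one (hD : DadeHypothesis A L H) [Fintype L]
    {α : L → ℂ} (hα : IsClassFunction L α) (hαA : ∀ x : L, (x : G) ∉ A → α x = 0) :
    ⟪dadeIsometry A L H α, fun _ => 1⟫ = ⟪α, fun _ => 1⟫ :=
  hD.ci_dade_res hα hαA (isClassFunction_const 1) (fun _ _ _ _ => rfl)

/-- If `H a = 1` on the support of `α` then the Dade map is induction. -/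
theorem _root_.Cfsg.DadeHypothesis.dade_eq_indFun (hD : DadeHypothesis A L H)
    {α : L → ℂ} (hα : IsClassFunction L α) (hαA : ∀ x : L, (x : G) ∉ A → α x = 0)
    (hH : ∀ x : L, (x : G) ∈ A → α x ≠ 0 → H x = ⊥) :
    dadeIsometry A L H α = indFun L α := by
  classical
  have := Fintype.ofFinite L
  refine (isClassFunction_dade A L H α).ext_irr (isClassFunction_indFun L α) (fun χ hχ => ?_)
  rw [ci_indFun_left L α hχ.isClassFunction,
    hD.ci_dade_left hα hαA hχ.isClassFunction (ψ := fun a => cosAvg (H a) χ a) (fun _ _ => rfl),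
    ci_def, ci_def]
  congr 1
  refine Finset.sum_congr rfl (fun a _ => ?_)
  by_cases h0 : α a = 0
  · simp [h0]
  · rw [hH a (by_contra fun h => h0 (hαA a h)) h0, cosAvg_bot]

end count

end Cfsg.Agent.PF
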