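import Cfsg.Agent.PF.Dade

/-!
# Peterfalvi (2.6.b): the Dade isometry preserves virtual characters; the map `ρ` of §7
-/

set_option autoImplicit false
set_option linter.unusedSectionVars false

namespace Cfsg.Agent.PF

open Cfsg Cfsg.Agent.Char Cfsg.Agent.GT
open scoped ComplexConjugate

universe u v

variable {G : Type u} [Group G] {A : Set G} {L : Subgroup G} {H : G → Subgroup G}

theorem exists_int_sum_of_orbits {L : Type u} [Group L] [Finite L] {X : Type v} [Fintype X]
    [MulAction L X] (g : X → ℂ) (hg : ∀ (l : L) x, g (l • x) = g x)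
    (hint : ∀ x, ∃ n : ℤ, g x = Nat.card (MulAction.stabilizer L x) * n) :
    ∃ n : ℤ, ∑ x : X, g x = Nat.card L * n := by
  choose f hf using hint
  have hinv : ∀ (l : L) x, f (l • x) = f x := by
    intro l x
    have h1 := hf (l • x)
    rw [hg, hf x, MulAction.stabilizer_smul_eq_stabilizer_map_conj,
      Subgroup.card_map_of_injective (MulEquiv.injective _)] at h1
    have h2 := mul_left_cancel₀ (card_ne_zero_complex _) h1
    exact_mod_cast h2.symm
  obtain ⟨n, hn⟩ := card_dvd_sum_stabilizer f hinv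
  refine ⟨n, ?_⟩
  simp only [hf]
  exact_mod_cast hn

theorem cosAvg_conj [Finite G] (K : Subgroup G) {χ : G → ℂ} (hχ : IsClassFunction G χ)
    (g x : G) : cosAvg (g ▷ K) χ (g * x * g⁻¹) = cosAvg K χ x := by
  classical
  have := Fintype.ofFinite G
  rw [cosAvg_eq_sum_ite, cosAvg_eq_sum_ite,
    Subgroup.card_map_of_injective (conj_hom_injective g)]
  congr 1
  symm
  refine Fintype.sum_equiv (MulAut.conj g).toEquiv _ _ (fun u => ?_)
  change _ = if g * u * g⁻¹ ∈ g ▷ K then χ (g * x * g⁻¹ * (g * u * g⁻¹)) else 0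
  rw [conj_mem_conj, ← hχ (x * u) g]
  congr 2; group

/-- Inflate a virtual character of `K` to `N ⋊ K` and induce. -/
theorem exists_int_sum_cosAvg [Fintype G] {N K : Subgroup G} [Fintype K] (hK : K ≤ 𝒩(N))
    {β : K → ℂ} (hβ : IsGeneralizedCharacter K β) {χ : G → ℂ}
    (hχ : IsGeneralizedCharacter G χ) :
    ∃ n : ℤ, ∑ x : K, β x * conj (cosAvg N χ x) = Nat.card K * n := by
  classical
  have := Fintype.ofFinite N
  let S := N ⋊[(N.normalizerMonoidHom).comp (Subgroup.inclusion hK)] K
  let _ : Fintype S := Fintype.ofEquiv (N × K) SemidirectProduct.equivProd.symm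
  let f : S →* G := SemidirectProduct.monoidHomSubgroup hK
  obtain ⟨n, hn⟩ := (hβ.comp (SemidirectProduct.rightHom : S →* K)).ci_int (hχ.comp f)
  refine ⟨n, ?_⟩
  rw [← hn, ci_def, ← SemidirectProduct.equivProd.symm.sum_comp, Fintype.sum_prod_type,
    Finset.sum_comm, Nat.card_congr (SemidirectProduct.equivProd : S ≃ N × K), Nat.card_prod,
    Nat.cast_mul, ← mul_assoc, mul_inv, mul_left_comm, mul_inv_cancel₀ (card_ne_zero_complex K),
    mul_one, Finset.mul_sum]
  refine Finset.sum_congr rfl (fun x _ => ?_)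
  rw [conj_cosAvg, cosAvg_eq_sum, mul_left_comm, Finset.mul_sum]
  congr 1
  refine Finset.sum_congr rfl (fun u _ => ?_)
  change β x * conj (χ (x * u)) = β x * conj (χ (u * x))
  rw [hχ.isClassFunction.mul_comm]

/-- conjugation action on finite subsets -/
@[reducible] def conjFinsetAction [DecidableEq G] (L : Subgroup G) : MulAction L (Finset G) where
  smul l B := B.image (fun b => (l : G) * b * (l : G)⁻¹)
  one_smul B := by
    change B.image (fun b => ((1 : L) : G) * b * ((1 : L) : G)⁻¹) = B
    simp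
  mul_smul l l' B := by
    change B.image (fun b => ((l * l' : L) : G) * b * ((l * l' : L) : G)⁻¹)
      = (B.image (fun b => (l' : G) * b * (l' : G)⁻¹)).image (fun b => (l : G) * b * (l : G)⁻¹)
    rw [Finset.image_image]
    congr 1
    funext b
    simp [mul_assoc]

theorem mem_image_conj [DecidableEq G] {B : Finset G} {l x : G} :
    x ∈ B.image (fun b => l * b * l⁻¹) ↔ l⁻¹ * x * l ∈ B := by
  rw [Finset.mem_image]
  constructor
  · rintro ⟨b, hb, rfl⟩
    simpa [mul_assoc] using hb
  · intro h
    exact ⟨_, h, by group⟩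

/-- Peterfalvi (2.6.b). -/
theorem _root_.Cfsg.DadeHypothesis.virt_dade [Fintype G] (hD : DadeHypothesis A L H)
    {α : L → ℂ} (hα : IsGeneralizedCharacter L α) (hαA : ∀ x : L, (x : G) ∉ A → α x = 0) :
    IsGeneralizedCharacter G (dadeIsometry A L H α) := by
  classical
  have := Fintype.ofFinite L
  refine virt_of_ci_int (isClassFunction_dade A L H α) (fun χ hχ => ?_)
  have hχc := hχ.isClassFunction
  rw [hD.ci_dade_left hα.isClassFunction hαA hχc (ψ := fun a => cosAvg (H a) χ a) (fun _ _ => rfl)]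
  let _ := conjFinsetAction L
  have hsmul : ∀ (l : L) (B : Finset G), l • B = B.image (fun b => (l : G) * b * (l : G)⁻¹) :=
    fun _ _ => rfl
  have hmem : ∀ (l : L) (B : Finset G) (x : G), x ∈ l • B ↔ (l : G)⁻¹ * x * l ∈ B :=
    fun _ _ _ => mem_image_conj
  set HB : Finset G → Subgroup G := fun B => ⨅ b ∈ B, H b with hHB
  have memHB : ∀ B u, u ∈ HB B ↔ ∀ b ∈ B, u ∈ H b := by
    intro B u; simp [hHB, Subgroup.mem_iInf]
  have HBconj : ∀ (l : L) (B : Finset G), (B : Set G) ⊆ A → HB (l • B) = (l : G) ▷ HB B := by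
    intro l B hB
    ext u
    obtain ⟨u, rfl⟩ : ∃ v, u = l * v * (l : G)⁻¹ := ⟨(l : G)⁻¹ * u * l, by group⟩
    rw [conj_mem_conj, memHB, memHB, hsmul]
    simp only [Finset.mem_image, forall_exists_index, and_imp, forall_apply_eq_imp_iff₂]
    refine forall₂_congr (fun b hb => ?_)
    rw [hD.H_conj (hB hb) (hD.conj_mem _ l.2 _ (hB hb)), conj_mem_conj]
  set g : Finset G → ℂ := fun B => if (B : Set G) ⊆ A ∧ B.Nonempty then
    (-1) ^ B.card * ∑ x : L, (if x • B = B then α x * conj (cosAvg (HB B) χ x) else 0) else 0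
    with hg
  have hsub : ∀ (l : L) (B : Finset G), ((l • B : Finset G) : Set G) ⊆ A ↔ (B : Set G) ⊆ A := by
    intro l B
    constructor
    · intro h b hb
      refine (hD.conj_mem_iff l.2).1 (h ?_)
      rw [Finset.mem_coe, hmem]; simpa [mul_assoc] using hb
    · intro h b hb
      rw [Finset.mem_coe, hmem] at hb
      have := hD.conj_mem _ l.2 _ (h hb)
      simpa [mul_assoc] using this
  have hginv : ∀ (l : L) B, g (l • B) = g B := by
    intro l B
    simp only [hg]
    have e1 : (l • B).Nonempty ↔ B.Nonempty := by rw [hsmul, Finset.image_nonempty]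
    simp only [hsub, e1]
    split_ifs with hB
    · have e2 : (l • B).card = B.card := by
        rw [hsmul]
        exact Finset.card_image_of_injective _ (MulAut.conj (l : G)).injective
      rw [e2]
      congr 1
      symm
      refine Fintype.sum_equiv (MulAut.conj l).toEquiv _ _ (fun x => ?_)
      change _ = if (l * x * l⁻¹) • l • B = l • B then
        α (l * x * l⁻¹) * conj (cosAvg (HB (l • B)) χ ((l : G) * x * (l : G)⁻¹)) else 0
      rw [← mul_smul, inv_mul_cancel_right, mul_smul, hα.isClassFunction,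
        HBconj l B hB.1, cosAvg_conj _ hχc]
      simp only [smul_left_cancel_iff]
    · rfl
  have hgint : ∀ B, ∃ n : ℤ, g B = Nat.card (MulAction.stabilizer L B) * n := by
    intro B
    simp only [hg]
    split_ifs with hB
    · set K : Subgroup G := (MulAction.stabilizer L B).map L.subtype with hK
      have := Fintype.ofFinite K
      have hKL : K ≤ L := Subgroup.map_subtype_le _
      have hKN : K ≤ 𝒩(HB B) := by
        rintro _ ⟨x, hx, rfl⟩
        rw [← conj_eq_self_iff]
        exact (HBconj x B hB.1).symm.trans (congrArg HB hx)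
      obtain ⟨n, hn⟩ := exists_int_sum_cosAvg hKN (hα.comp (Subgroup.inclusion hKL)) hχ.virt
      refine ⟨(-1) ^ B.card * n, ?_⟩
      rw [show Nat.card K = Nat.card (MulAction.stabilizer L B) from
        Subgroup.card_map_of_injective L.subtype_injective] at hn
      push_cast
      rw [mul_left_comm, ← hn]
      congr 1
      rw [← Finset.sum_filter]
      symm
      refine Finset.sum_bij (fun x _ => Subgroup.inclusion hKL x) ?_ ?_ ?_ ?_
      · rintro ⟨_, x, hx, rfl⟩ _
        exact Finset.mem_filter.2 ⟨Finset.mem_univ _, hx⟩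
      · intro x _ y _ h
        exact Subgroup.inclusion_injective hKL h
      · intro x hx
        exact ⟨⟨x, x, (Finset.mem_filter.1 hx).2, rfl⟩, Finset.mem_univ _, rfl⟩
      · intro x _; rfl
    · exact ⟨0, by simp⟩
  obtain ⟨n, hn⟩ := exists_int_sum_of_orbits g hginv hgint
  refine ⟨-n, ?_⟩
  have key : ∑ B, g B = -∑ x : L, α x * conj (cosAvg (H x) χ x) := by
    have e1 : ∀ B, g B = ∑ x : L, α x * (if ((B : Set G) ⊆ A ∧ x • B = B) ∧ B.Nonempty then
        (-1) ^ B.card * conj (cosAvg (HB B) χ x) else 0) := by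
      intro B
      simp only [hg]
      split_ifs with hB
      · rw [Finset.mul_sum]
        refine Finset.sum_congr rfl (fun x _ => ?_)
        by_cases hx : x • B = B
        · rw [if_pos hx, if_pos ⟨⟨hB.1, hx⟩, hB.2⟩]; ring
        · rw [if_neg hx, if_neg (fun h => hx h.1.2)]; ring
      · symm
        refine Finset.sum_eq_zero (fun x _ => ?_)
        rw [if_neg (fun h => hB ⟨h.1.1, h.2⟩), mul_zero]
    simp only [e1]
    rw [Finset.sum_comm, ← Finset.sum_neg_distrib]
    refine Finset.sum_congr rfl (fun a _ => ?_)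
    rw [← Finset.mul_sum, ← mul_neg]
    by_cases ha : (a : G) ∈ A
    swap
    · rw [hαA a ha, zero_mul, zero_mul]
    congr 1
    set h : Finset G → ℂ := fun B => if (B : Set G) ⊆ A ∧ a • B = B then
      (-1) ^ B.card * conj (cosAvg (HB (insert (a : G) B)) χ a) else 0 with hh
    have hins : ∀ B : Finset G, a • (insert (a : G) B) = insert (a : G) (a • B) := by
      intro B
      rw [hsmul, hsmul, Finset.image_insert, mul_inv_cancel_right]
    have hnot : ∀ B : Finset G, (a : G) ∉ B → (a : G) ∉ a • B := by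
      intro B hB
      rw [hmem]; simpa using hB
    have hflip : ∀ B : Finset G, (a : G) ∉ B → h (insert (a : G) B) = -h B := by
      intro B hB
      simp only [hh]
      have e2 : ((insert (a : G) B : Finset G) : Set G) ⊆ A ↔ (B : Set G) ⊆ A := by
        rw [Finset.coe_insert, Set.insert_subset_iff]; simp [ha]
      have e3 : a • (insert (a : G) B) = insert (a : G) B ↔ a • B = B := by
        rw [hins]
        exact ⟨fun h' => by
          rw [← Finset.erase_insert (hnot B hB), h', Finset.erase_insert hB], fun h' => by rw [h']⟩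
      simp only [e2, e3, Finset.card_insert_of_notMem hB, Finset.insert_idem]
      split_ifs <;> ring
    have hzero : ∑ B, h B = 0 := by
      refine Finset.sum_involution
        (fun B _ => if (a : G) ∈ B then B.erase a else insert (a : G) B) ?_ ?_ ?_ ?_
      · intro B _
        split_ifs with hB
        · conv_lhs => rw [← Finset.insert_erase hB]
          rw [hflip _ (Finset.notMem_erase _ _), Finset.erase_insert (Finset.notMem_erase _ _)]
          ring
        · rw [hflip _ hB]; ring
      · intro B _ _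
        split_ifs with hB
        · exact (Finset.erase_ssubset hB).ne
        · exact (Finset.ssubset_insert hB).ne'
      · intro B _; exact Finset.mem_univ _
      · intro B _
        by_cases hB : (a : G) ∈ B
        · simp only [if_pos hB, Finset.notMem_erase, if_false, Finset.insert_erase hB]
        · simp only [if_neg hB, Finset.mem_insert_self, if_true, Finset.erase_insert hB]
    have e2 : ∀ B : Finset G, h B = (if ((B : Set G) ⊆ A ∧ a • B = B) ∧ B.Nonempty then
        (-1) ^ B.card * conj (cosAvg (HB B) χ a) else 0)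
          + if B = ∅ then conj (cosAvg (H a) χ a) else 0 := by
      intro B
      rcases B.eq_empty_or_nonempty with rfl | hne
      · simp only [hh]
        rw [if_pos ⟨by simp, by rw [hsmul]; simp⟩]
        have : HB (insert (a : G) ∅) = H a := by
          ext u; rw [memHB]; simp
        rw [this]; simp
      · rw [if_neg hne.ne_empty, add_zero]
        simp only [hh, hne, and_true]
        split_ifs with hB
        · obtain ⟨b, hb⟩ := hne
          have hN : (a : G) ∈ 𝒩(HB B) := by
            rw [← conj_eq_self_iff]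
            exact (HBconj a B hB.1).symm.trans (congrArg HB hB.2)
          have hle : HB B ≤ H b := fun u hu => (memHB B u).1 hu b hb
          have hcop : Nat.Coprime (orderOf (a : G)) (Nat.card (HB B)) :=
            ((hD.coprime b (hB.1 hb) a ha).symm.coprime_dvd_left
              (hD.orderOf_dvd ha)).coprime_dvd_right (Subgroup.card_dvd_of_le hle)
          rw [cosAvg_eq_cosAvg_cent hN hcop (fun x _ y => hχc y x)]
          congr 3
          ext u
          rw [memHB, Subgroup.mem_inf, memHB]
          simp only [Finset.mem_insert, forall_eq_or_imp]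
          constructor
          · rintro ⟨h1, h2⟩
            exact ⟨h2, hD.le_centralizer a ha h1⟩
          · rintro ⟨h1, h2⟩
            exact ⟨hD.mem_H_of_dvd ha (hB.1 hb) h2 (orderOf_dvd_card_of_mem (h1 b hb)), h1⟩
        · rfl
    simp only [e2, Finset.sum_add_distrib, Finset.sum_ite_eq', Finset.mem_univ, if_true] at hzero
    exact eq_neg_of_add_eq_zero_left hzero
  rw [key] at hn
  rw [ci_def, ← neg_neg (∑ x : L, _), hn]
  have := card_ne_zero_complex L
  push_cast
  field_simp

/-- The Dade map is a linear isometry on any set of virtual characters supported in `A`. -/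
theorem _root_.Cfsg.DadeHypothesis.isLinearIsometryOn [Fintype G] [Fintype L]
    (hD : DadeHypothesis A L H) {E : Set (L → ℂ)} (hE : ∀ α ∈ E, IsGeneralizedCharacter L α)
    (hEA : ∀ α ∈ E, ∀ x : L, (x : G) ∉ A → α x = 0) :
    IsLinearIsometryOn E (dadeIsometry A L H) :=
  isLinearIsometryOn_of_linearMap (dadeL A L H)
    (fun α hα β hβ => hD.ci_dade_dade (hE α hα).isClassFunction (hEA α hα)
      (hE β hβ).isClassFunction)
    (fun α hα => hD.virt_dade (hE α hα) (hEA α hα))

section rho

variable (A L H)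

open Classical in
/-- The map `χ ↦ χ^ρ` of Peterfalvi (7.1). -/
noncomputable def dadeRho (χ : G → ℂ) : L → ℂ :=
  fun a => if (a : G) ∈ A then cosAvg (H a) χ a else 0

variable {A L H}

theorem dadeRho_of_mem (χ : G → ℂ) {a : L} (ha : (a : G) ∈ A) :
    dadeRho A L H χ a = cosAvg (H a) χ a := if_pos ha

theorem dadeRho_of_not_mem (χ : G → ℂ) {a : L} (ha : (a : G) ∉ A) :
    dadeRho A L H χ a = 0 := if_neg ha

theorem _root_.Cfsg.DadeHypothesis.isClassFunction_rho [Finite G] (hD : DadeHypothesis A L H)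
    {χ : G → ℂ} (hχ : IsClassFunction G χ) : IsClassFunction L (dadeRho A L H χ) := by
  intro a x
  by_cases ha : (a : G) ∈ A
  · have ha' := hD.conj_mem x x.2 a ha
    rw [dadeRho_of_mem χ ha, dadeRho_of_mem χ ha']
    change cosAvg (H ((x : G) * a * (x : G)⁻¹)) χ ((x : G) * a * (x : G)⁻¹) = _
    rw [hD.H_conj ha ha', cosAvg_conj _ hχ]
  · rw [dadeRho_of_not_mem χ ha, dadeRho_of_not_mem χ]
    exact fun h => ha ((hD.conj_mem_iff x.2).1 h)

variable [Fintype G] [Fintype L]

theorem _root_.Cfsg.DadeHypothesis.ci_dade_rho (hD : DadeHypothesis A L H)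
    {α : L → ℂ} (hα : IsClassFunction L α) (hαA : ∀ x : L, (x : G) ∉ A → α x = 0)
    {χ : G → ℂ} (hχ : IsClassFunction G χ) :
    ⟪dadeIsometry A L H α, χ⟫ = ⟪α, dadeRho A L H χ⟫ :=
  hD.ci_dade_left hα hαA hχ (fun _ ha => dadeRho_of_mem χ ha)

/-- Peterfalvi (7.2.a). -/
theorem _root_.Cfsg.DadeHypothesis.rho_dade (hD : DadeHypothesis A L H)
    {α : L → ℂ} (hα : IsClassFunction L α) (hαA : ∀ x : L, (x : G) ∉ A → α x = 0) :
    dadeRho A L H (dadeIsometry A L H α) = α := by
  funext a
  by_cases ha : (a : G) ∈ A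
  · rw [dadeRho_of_mem _ ha]
    exact cosAvg_of_forall (fun u hu => hD.dade_apply_mul hα ha hu)
  · rw [dadeRho_of_not_mem _ ha, hαA a ha]

open Classical in
/-- Peterfalvi (7.3): Pythagoras form. -/
theorem _root_.Cfsg.DadeHypothesis.nsq_rho_add (hD : DadeHypothesis A L H)
    {χ : G → ℂ} (hχ : IsClassFunction G χ) :
    (Nat.card G : ℝ)⁻¹ * ∑ g : G, (if g ∈ dadeSupp A H then ‖χ g‖ ^ 2 else 0)
      = nsq (dadeRho A L H χ) + nsq ((fun g => if g ∈ dadeSupp A H then χ g else 0)
          - dadeIsometry A L H (dadeRho A L H χ)) := by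
  set χ' : G → ℂ := fun g => if g ∈ dadeSupp A H then χ g else 0 with hχ'
  have hc : IsClassFunction G χ' := by
    intro g x
    simp only [hχ', conj_mem_dadeSupp_iff, hχ g x]
  have hρ : dadeRho A L H χ' = dadeRho A L H χ := by
    funext a
    by_cases ha : (a : G) ∈ A
    · rw [dadeRho_of_mem _ ha, dadeRho_of_mem _ ha]
      exact cosAvg_congr (fun u hu => if_pos (mul_mem_dadeSupp ha hu))
    · rw [dadeRho_of_not_mem _ ha, dadeRho_of_not_mem _ ha]
  have hρc := hD.isClassFunction_rho hχ
  have hρA : ∀ x : L, (x : G) ∉ A → dadeRho A L H χ x = 0 := fun x hx => dadeRho_of_not_mem χ hx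
  have e1 : ⟪dadeIsometry A L H (dadeRho A L H χ), χ' - dadeIsometry A L H (dadeRho A L H χ)⟫
      = 0 := by
    rw [ci_sub_right, hD.ci_dade_rho hρc hρA hc, hρ, hD.ci_dade_dade hρc hρA hρc, sub_self]
  rw [← hD.nsq_dade hρc hρA, ← nsq_add_of_orth e1, add_sub_cancel, nsq]
  congr 1
  refine Finset.sum_congr rfl (fun g _ => ?_)
  simp only [hχ']
  split_ifs <;> simp

open Classical in
/-- Peterfalvi (7.3). -/
theorem _root_.Cfsg.DadeHypothesis.nsq_rho_le_sum (hD : DadeHypothesis A L H)
    {χ : G → ℂ} (hχ : IsClassFunction G χ) :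
    nsq (dadeRho A L H χ)
      ≤ (Nat.card G : ℝ)⁻¹ * ∑ g : G, (if g ∈ dadeSupp A H then ‖χ g‖ ^ 2 else 0) := by
  rw [hD.nsq_rho_add hχ]
  exact le_add_of_nonneg_right (nsq_nonneg _)

open Classical in
/-- Peterfalvi (7.3), the equality case. -/
theorem _root_.Cfsg.DadeHypothesis.nsq_rho_eq_sum_iff (hD : DadeHypothesis A L H)
    {χ : G → ℂ} (hχ : IsClassFunction G χ) :
    nsq (dadeRho A L H χ)
      = (Nat.card G : ℝ)⁻¹ * ∑ g : G, (if g ∈ dadeSupp A H then ‖χ g‖ ^ 2 else 0) ↔
      ∀ a ∈ A, ∀ u ∈ H a, χ (a * u) = χ a := by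
  rw [hD.nsq_rho_add hχ, left_eq_add, nsq_eq_zero, sub_eq_zero]
  have hρc := hD.isClassFunction_rho hχ
  constructor
  · intro h a ha u hu
    have h1 := congrFun h (a * u)
    have h2 := congrFun h a
    rw [if_pos (mul_mem_dadeSupp ha hu), hD.dade_apply_mul hρc (a := ⟨a, hD.mem_L ha⟩) ha hu] at h1
    rw [if_pos (subset_dadeSupp ha), hD.dade_apply_self hρc (a := ⟨a, hD.mem_L ha⟩) ha] at h2
    rw [h1, h2]
  · intro h
    funext g
    split_ifs with hg
    · obtain ⟨a, ha, u, hu, x, hx⟩ := hg
      rw [hD.dade_apply hρc (a := ⟨a, hD.mem_L ha⟩) ha hu hx, dadeRho_of_mem _ ha,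
        cosAvg_of_forall (h a ha), ← hχ g x, hx, h a ha u hu]
    · rw [dade_apply_of_not_mem _ hg]

/-- Peterfalvi (7.2.b). -/
theorem _root_.Cfsg.DadeHypothesis.nsq_rho_le (hD : DadeHypothesis A L H)
    {χ : G → ℂ} (hχ : IsClassFunction G χ) : nsq (dadeRho A L H χ) ≤ nsq χ := by
  classical
  refine (hD.nsq_rho_le_sum hχ).trans ?_
  rw [nsq]
  refine mul_le_mul_of_nonneg_left (Finset.sum_le_sum (fun g _ => ?_)) (by positivity)
  split_ifs
  · exact le_rfl
  · positivity

end rho

end Cfsg.Agent.PF
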