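import Cfsg.Agent.GT.Rel
import Cfsg.Agent.BG.Defs
import Cfsg.Agent.Char.Clifford
import Cfsg.Agent.Char.Integrality
import Cfsg.Agent.PF.CohSys
import Cfsg.Agent.PF.DadeVirt

/-! Definitions for Peterfalvi §3–14 in "ambient" style: all groups are subgroups of one group
`G`, a class function of `L : Subgroup G` is a function `L → ℂ`. -/

set_option autoImplicit false
set_option linter.unusedSectionVars false

namespace Cfsg.Agent.PF

open Subgroup Cfsg.Agent.GT Cfsg.Agent.BG Cfsg.Agent.Char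

universe u v w

/-- the `Fintype` structure used for all subgroups -/
noncomputable scoped instance (priority := high) fintypeSubgroup {X : Type u} [Group X] [Finite X]
    (H : Subgroup X) : Fintype H := Fintype.ofFinite H

/-- linear characters -/
abbrev Lin (W : Type u) [Group W] : Type u := W →* ℂˣ

noncomputable scoped instance (priority := high) fintypeLin {W : Type u} [Group W] [Finite W] :
    Fintype (Lin W) := Fintype.ofFinite _

noncomputable scoped instance (priority := high) decEqLin {W : Type u} [Group W] :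
    DecidableEq (Lin W) := Classical.decEq _

/-- Galois action on linear characters -/
def linAut {W : Type u} [Group W] (σ : ℂ →+* ℂ) (j : Lin W) : Lin W :=
  (Units.map (σ : ℂ →* ℂ)).comp j

/-- Galois action on functions -/
def cfAut {X : Type u} (σ : ℂ →+* ℂ) (φ : X → ℂ) : X → ℂ := fun x => σ (φ x)

/-- coherence without the non-triviality clause (Coq's `coherent S L^# τ`) -/
def Coh {L : Type u} [Group L] [Fintype L] {X : Type v} [Group X] [Fintype X] (S : Set (L → ℂ))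
    (τ : (L → ℂ) → (X → ℂ)) : Prop := ∃ ν, CohWith S τ ν

/-- `S₁ ⊆ S` and `S₁` is closed under complex conjugation -/
def ConjSub {X : Type u} (S₁ S : Set (X → ℂ)) : Prop := S₁ ⊆ S ∧ ∀ φ ∈ S₁, conjFun φ ∈ S₁

/-! ### cyclic TI subgroups, abstract form -/

section CycTI
variable {W₁ : Type u} {W₂ : Type v} {X : Type w} [Group W₁] [Group W₂] [Group X]

/-- `ω_ij` -/
def om (i : Lin W₁) (j : Lin W₂) : W₁ × W₂ → ℂ := fun w => (i w.1 : ℂ) * (j w.2 : ℂ)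

/-- `V = W ∖ (W₁ ∪ W₂)` -/
def tiSet (e : W₁ × W₂ →* X) : Set X := {x | ∃ a b, a ≠ 1 ∧ b ≠ 1 ∧ x = e (a, b)}

/-- Hypothesis (3.1) -/
structure CycTI (e : W₁ × W₂ →* X) : Prop where
  inj : Function.Injective e
  cyc : IsCyclic (W₁ × W₂)
  odd : Odd (Nat.card W₁ * Nat.card W₂)
  nt₁ : Nontrivial W₁
  nt₂ : Nontrivial W₂
  ti : ∀ x ∈ tiSet e, ∀ g : X, g * x * g⁻¹ ∈ tiSet e → g ∈ e.range

/-- `η_ij = ω_ij^σ`: the signed irreducible character that agrees with `ω_ij` on `V` -/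
noncomputable def eta (e : W₁ × W₂ →* X) (i : Lin W₁) (j : Lin W₂) : X → ℂ :=
  Classical.epsilon fun χ : X → ℂ =>
    IsSIrr X χ ∧ ∀ a b, a ≠ 1 → b ≠ 1 → χ (e (a, b)) = (i a : ℂ) * (j b : ℂ)

/-- `NC(φ)`: the number of `η_ij` not orthogonal to `φ` -/
noncomputable def NC [Fintype X] (e : W₁ × W₂ →* X) (φ : X → ℂ) : ℕ :=
  Nat.card {ij : Lin W₁ × Lin W₂ // ⟪φ, eta e ij.1 ij.2⟫ ≠ 0}

end CycTI

/-! ### ambient style -/

section Ambient
variable {G : Type u} [Group G]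

/-- restriction to `K` (by zero outside `L`) -/
noncomputable def cRes (K : Subgroup G) {L : Subgroup G} (χ : L → ℂ) : K → ℂ :=
  fun x => extendByZero L χ x

/-- induction from `K` to `L` -/
noncomputable def cInd [Finite G] (L : Subgroup G) {K : Subgroup G} (θ : K → ℂ) : L → ℂ :=
  indFun (K.subgroupOf L) fun x => θ ⟨(x : L), Subgroup.mem_subgroupOf.mp x.2⟩

/-- conjugation `θ^y`, `x ↦ θ (y x y⁻¹)` (meant for `y ∈ N(K)`) -/
noncomputable def cConj {K : Subgroup G} (θ : K → ℂ) (y : G) : K → ℂ :=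
  fun x => extendByZero K θ (y * x * y⁻¹)

/-- the inertia group in `L` -/
def cInertia (L : Subgroup G) {K : Subgroup G} (θ : K → ℂ) : Subgroup G :=
  L ⊓ N[K] ⊓ ⨅ (_ : True), Subgroup.closure {y | y ∈ N[K] ∧ cConj θ y = θ}

/-- `α` vanishes outside `A` -/
def SuppOn (A : Set G) {L : Subgroup G} (α : L → ℂ) : Prop := ∀ x : L, (x : G) ∉ A → α x = 0

/-- `CF(L, A)` -/
def CF (L : Subgroup G) (A : Set G) : Set (L → ℂ) := {α | IsClassFunction L α ∧ SuppOn A α}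

/-- `A ∩ K` lies in the kernel of `θ` -/
def InKer (A : Subgroup G) {K : Subgroup G} (θ : K → ℂ) : Prop :=
  ∀ x : K, (x : G) ∈ A → θ x = θ 1

/-- irreducible characters of `K` with `A` in their kernel but not `H` -/
def IrrKerD (K H A : Subgroup G) : Set (K → ℂ) :=
  {θ | IsIrrCharacter K θ ∧ ¬ InKer H θ ∧ InKer A θ}

/-- characters of `L` induced from members of `X` -/
def seqInd [Finite G] (L : Subgroup G) {K : Subgroup G} (X : Set (K → ℂ)) : Set (L → ℂ) :=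
  cInd L '' X

/-- all characters of `L` induced from irreducible characters of `K` -/
def seqIndT [Finite G] (K L : Subgroup G) : Set (L → ℂ) := seqInd L {θ : K → ℂ | IsIrrCharacter K θ}

/-- Coq's `seqIndD K L H A` -/
def seqIndD [Finite G] (K L H A : Subgroup G) : Set (L → ℂ) := seqInd L (IrrKerD K H A)

/-- the normal embedding `K → L` -/
def nEmb {K L : Subgroup G} (h : K ≤ L) (hn : L ≤ N[K]) : NormalEmb K L where
  f := inclusion h
  inj := inclusion_injective h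
  act := (K.normalizerMonoidHom).comp (inclusion hn)
  map_act _ _ := rfl

open scoped Classical in
/-- the embedding `W₁ × W₂ → G` -/
noncomputable def wG (W₁ W₂ : Subgroup G) : W₁ × W₂ →* G :=
  if h : W₁ ≤ C[W₂] then
    MonoidHom.noncommCoprod W₁.subtype W₂.subtype fun a b => (h a.2 b b.2).symm
  else 1

open scoped Classical in
/-- the embedding `W₁ × W₂ → L` -/
noncomputable def wL (L W₁ W₂ : Subgroup G) : W₁ × W₂ →* L :=
  if h : ∀ w, wG W₁ W₂ w ∈ L then (wG W₁ W₂).codRestrict L h else 1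

/-- `η_ij` for the ambient group -/
noncomputable abbrev etaG (W₁ W₂ : Subgroup G) (i : Lin W₁) (j : Lin W₂) : G → ℂ :=
  eta (wG W₁ W₂) i j

/-- Hypothesis (4.2) -/
structure PrimeTI (L K W₁ W₂ : Subgroup G) : Prop where
  sdprod : Sdprod K W₁ L
  ne₁ : W₁ ≠ ⊥
  coprime : (Nat.card K).Coprime (Nat.card W₁)
  cyc₁ : IsCyclic W₁
  ne₂ : W₂ ≠ ⊥
  le₂ : W₂ ≤ K
  cyc₂ : IsCyclic W₂
  cent : ∀ x ∈ W₁, x ≠ 1 → K ⊓ C1[x] = W₂
  odd : Odd (Nat.card W₁ * Nat.card W₂)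

open scoped Classical in
/-- the sign `δ_j` -/
noncomputable def dl (L W₁ W₂ : Subgroup G) (j : Lin W₂) : ℤ :=
  if 0 < (eta (wL L W₁ W₂) 1 j 1).re then 1 else -1

/-- `μ_ij` -/
noncomputable def mu2 (L W₁ W₂ : Subgroup G) (i : Lin W₁) (j : Lin W₂) : L → ℂ :=
  (dl L W₁ W₂ j : ℂ) • eta (wL L W₁ W₂) i j

/-- `μ_j = ∑ i, μ_ij` -/
noncomputable def muR [Finite G] (L W₁ W₂ : Subgroup G) (j : Lin W₂) : L → ℂ :=
  ∑ i : Lin W₁, mu2 L W₁ W₂ i j

/-- `χ_j`, the restriction of `μ_0j` to `K` -/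
noncomputable def chiR (L K W₁ W₂ : Subgroup G) (j : Lin W₂) : K → ℂ :=
  cRes K (mu2 L W₁ W₂ 1 j)

/-- Hypothesis (4.6) -/
structure PrDade (L K H : Subgroup G) (A A₀ : Set G) (R : G → Subgroup G)
    (W₁ W₂ : Subgroup G) : Prop where
  cti : CycTI (wG W₁ W₂)
  pti : PrimeTI L K W₁ W₂
  normH : L ≤ N[H]
  W₂H : W₂ ≤ H
  HK : H ≤ K
  dade : DadeHypothesis A₀ L R
  normA : ∀ x ∈ L, ∀ a ∈ A, x * a * x⁻¹ ∈ A
  centA : ∀ h ∈ H, h ≠ 1 → ∀ x ∈ K ⊓ C1[h], x ≠ 1 → x ∈ A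
  AK : A ⊆ sharp K
  defA₀ : A₀ = A ∪ classSupp (cycTI W₁ W₂) L

/-- the Dade isometry of a maximal subgroup for a set `A ⊆ A₀(M)` -/
noncomputable abbrev tauA (M : Subgroup G) (A : Set G) : (M → ℂ) →ₗ[ℂ] (G → ℂ) :=
  dadeL A M (FTsignalizer M)

/-- Coq's `FT_Dade0` -/
noncomputable abbrev tau0 (M : Subgroup G) : (M → ℂ) →ₗ[ℂ] (G → ℂ) := tauA M (FTsupp0 M)

/-- Coq's `FT_DadeF` -/
noncomputable abbrev tauF (M : Subgroup G) : (M → ℂ) →ₗ[ℂ] (G → ℂ) := tauA M (sharp MF[M])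

/-- (8.8): a pair of maximal subgroups of type P -/
structure TypePPair (S T W₁ W₂ : Subgroup G) : Prop where
  maxS : IsCoatom S
  maxT : IsCoatom T
  inf : S ⊓ T = W₁ ⊔ W₂
  typeS : ∃ U, IsTypePWith S W₁ U W₂
  typeT : ∃ V, IsTypePWith T W₂ V W₁
  type2 : FTtype S = 2 ∨ FTtype T = 2
  all : ∀ M : Subgroup G, IsCoatom M → FTtype M ≠ 1 → Conjg S M ∨ Conjg T M

end Ambient

/-! ### basic API -/

section API
variable {G : Type u} [Group G] {A B H K L M W₁ W₂ : Subgroup G}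

theorem cRes_apply (h : K ≤ L) (χ : L → ℂ) (x : K) : cRes K χ x = χ (inclusion h x) :=
  extendByZero_of_mem L χ (h x.2)

theorem cRes_apply' (χ : L → ℂ) (x : K) (h : (x : G) ∈ L) : cRes K χ x = χ ⟨x, h⟩ :=
  extendByZero_of_mem L χ h

theorem cRes_eq (h : K ≤ L) (χ : L → ℂ) : cRes K χ = fun x => χ (inclusion h x) :=
  funext (cRes_apply h χ)

theorem cRes_one (χ : L → ℂ) : cRes K χ 1 = χ 1 := cRes_apply' χ 1 L.one_mem

theorem cRes_self (χ : L → ℂ) : cRes L χ = χ := cRes_eq le_rfl χ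

theorem cRes_cRes (h : H ≤ K) (χ : L → ℂ) : cRes H (cRes K χ) = cRes H χ := by
  funext x; rw [cRes_apply h]; rfl

theorem cRes_add (φ ψ : L → ℂ) : cRes K (φ + ψ) = cRes K φ + cRes K ψ := by
  funext x; by_cases h : (x : G) ∈ L
  · simp [cRes_apply' _ x h]
  · simp [cRes, extendByZero_of_not_mem L _ h]

theorem cRes_smul (c : ℂ) (φ : L → ℂ) : cRes K (c • φ) = c • cRes K φ := by
  funext x; by_cases h : (x : G) ∈ L
  · simp [cRes_apply' _ x h]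
  · simp [cRes, extendByZero_of_not_mem L _ h]

/-- restriction as a linear map -/
noncomputable def cResL (K L : Subgroup G) : (L → ℂ) →ₗ[ℂ] (K → ℂ) where
  toFun := cRes K
  map_add' := cRes_add
  map_smul' := cRes_smul

theorem cRes_sub (φ ψ : L → ℂ) : cRes K (φ - ψ) = cRes K φ - cRes K ψ := (cResL K L).map_sub φ ψ
theorem cRes_neg (φ : L → ℂ) : cRes K (-φ) = -cRes K φ := (cResL K L).map_neg φ
theorem cRes_zero : cRes K (0 : L → ℂ) = 0 := (cResL K L).map_zero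
theorem cRes_sum {ι : Type*} (s : Finset ι) (f : ι → L → ℂ) :
    cRes K (∑ i ∈ s, f i) = ∑ i ∈ s, cRes K (f i) := map_sum (cResL K L) f s

theorem conjFun_cRes (χ : L → ℂ) : conjFun (cRes K χ) = cRes K (conjFun χ) := by
  funext x; by_cases h : (x : G) ∈ L
  · simp [conjFun_apply, cRes_apply' _ x h]
  · simp [conjFun_apply, cRes, extendByZero_of_not_mem L _ h]

theorem cfAut_cRes (σ : ℂ →+* ℂ) (χ : L → ℂ) : cfAut σ (cRes K χ) = cRes K (cfAut σ χ) := by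
  funext x; by_cases h : (x : G) ∈ L
  · simp [cfAut, cRes_apply' _ x h]
  · simp [cfAut, cRes, extendByZero_of_not_mem L _ h]

theorem _root_.Cfsg.IsClassFunction.cRes {χ : L → ℂ} (hχ : IsClassFunction L χ) (h : K ≤ L) :
    IsClassFunction K (cRes K χ) := by rw [cRes_eq h]; exact hχ.comp (inclusion h)

theorem _root_.Cfsg.IsCharacter.cRes {χ : L → ℂ} (hχ : IsCharacter L χ) (h : K ≤ L) :
    IsCharacter K (cRes K χ) := by rw [cRes_eq h]; exact hχ.comp (inclusion h)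

theorem _root_.Cfsg.IsGeneralizedCharacter.cRes {χ : L → ℂ} (hχ : IsGeneralizedCharacter L χ)
    (h : K ≤ L) : IsGeneralizedCharacter K (cRes K χ) := by
  rw [cRes_eq h]; exact hχ.comp (inclusion h)

theorem cConj_apply (θ : K → ℂ) {y : G} (hy : y ∈ N[K]) (x : K) :
    cConj θ y x = θ ⟨y * x * y⁻¹, (mem_normalizer_iff.1 hy x).1 x.2⟩ :=
  extendByZero_of_mem K θ _

theorem nEmb_f (h : K ≤ L) (hn : L ≤ N[K]) : (nEmb h hn).f = inclusion h := rfl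

theorem nEmb_cj (h : K ≤ L) (hn : L ≤ N[K]) (θ : K → ℂ) (y : L) :
    (nEmb h hn).cj θ y = cConj θ y := by
  funext x; rw [cConj_apply θ (hn y.2)]; rfl

theorem nEmb_range (h : K ≤ L) (hn : L ≤ N[K]) : (nEmb h hn).f.range = K.subgroupOf L :=
  inclusion_range h

theorem cConj_one (θ : K → ℂ) : cConj θ 1 = θ := by
  funext x; rw [cConj_apply θ (one_mem _)]; simp

theorem cConj_mul (θ : K → ℂ) {y z : G} (hy : y ∈ N[K]) (hz : z ∈ N[K]) :
    cConj θ (y * z) = cConj (cConj θ y) z := by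
  funext x
  rw [cConj_apply _ (mul_mem hy hz), cConj_apply _ hz, cConj_apply _ hy]
  congr 1; ext; simp [mul_assoc]

theorem cConj_apply_one (θ : K → ℂ) (y : G) : cConj θ y 1 = θ 1 := by
  simp only [cConj, OneMemClass.coe_one, mul_one, mul_inv_cancel]
  exact extendByZero_of_mem K θ K.one_mem

theorem mem_cInertia {θ : K → ℂ} {y : G} :
    y ∈ cInertia L θ ↔ y ∈ L ∧ y ∈ N[K] ∧ cConj θ y = θ := by
  let S : Subgroup G :=
    { carrier := {y | y ∈ N[K] ∧ cConj θ y = θ}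
      one_mem' := ⟨one_mem _, cConj_one θ⟩
      mul_mem' := fun ha hb => ⟨mul_mem ha.1 hb.1, by rw [cConj_mul θ ha.1 hb.1, ha.2, hb.2]⟩
      inv_mem' := fun {a} ha => ⟨inv_mem ha.1, by
        conv_lhs => rw [← ha.2]
        rw [← cConj_mul θ ha.1 (inv_mem ha.1), mul_inv_cancel, cConj_one]⟩ }
  have hS : Subgroup.closure {y | y ∈ N[K] ∧ cConj θ y = θ} = S := closure_eq S
  simp only [cInertia, hS, mem_inf, mem_iInf, forall_const]
  exact ⟨fun h => ⟨h.1.1, h.2⟩, fun h => ⟨⟨h.1, h.2.1⟩, h.2⟩⟩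

theorem cInertia_le (θ : K → ℂ) : cInertia L θ ≤ L := fun _ h => (mem_cInertia.1 h).1

theorem nEmb_inertia (h : K ≤ L) (hn : L ≤ N[K]) (θ : K → ℂ) :
    (nEmb h hn).inertia θ = (cInertia L θ).subgroupOf L := by
  ext y
  rw [NormalEmb.mem_inertia, nEmb_cj, mem_subgroupOf, mem_cInertia]
  exact ⟨fun h => ⟨y.2, hn y.2, h⟩, fun h => h.2.2⟩

theorem wG_apply (h : W₁ ≤ C[W₂]) (a : W₁) (b : W₂) : wG W₁ W₂ (a, b) = (a : G) * b := by
  rw [wG, dif_pos h]; rfl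

theorem wG_mem_of_le (h₁ : W₁ ≤ L) (h₂ : W₂ ≤ L) (w : W₁ × W₂) : wG W₁ W₂ w ∈ L := by
  by_cases h : W₁ ≤ C[W₂]
  · rw [show w = (w.1, w.2) from rfl, wG_apply h]; exact mul_mem (h₁ w.1.2) (h₂ w.2.2)
  · simp [wG, h]

theorem coe_wL (h₁ : W₁ ≤ L) (h₂ : W₂ ≤ L) (w : W₁ × W₂) :
    ((wL L W₁ W₂ w : L) : G) = wG W₁ W₂ w := by
  rw [wL, dif_pos (wG_mem_of_le h₁ h₂)]; rfl

theorem subtype_comp_wL (h₁ : W₁ ≤ L) (h₂ : W₂ ≤ L) :
    L.subtype.comp (wL L W₁ W₂) = wG W₁ W₂ := MonoidHom.ext (coe_wL h₁ h₂)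

theorem wG_range (h : W₁ ≤ C[W₂]) : (wG W₁ W₂).range = W₁ ⊔ W₂ := by
  refine le_antisymm ?_ (sup_le (fun a ha => ⟨(⟨a, ha⟩, 1), by simp [wG_apply h]⟩)
    (fun a ha => ⟨(1, ⟨a, ha⟩), by simp [wG_apply h]⟩))
  rintro _ ⟨w, rfl⟩
  exact wG_mem_of_le le_sup_left le_sup_right w

theorem wG_injective (h : W₁ ≤ C[W₂]) (hi : W₁ ⊓ W₂ = ⊥) : Function.Injective (wG W₁ W₂) := by
  refine (injective_iff_map_eq_one _).2 fun ⟨a, b⟩ hab => ?_
  rw [wG_apply h] at hab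
  have ha : (a : G) ∈ W₁ ⊓ W₂ := ⟨a.2, by
    rw [eq_inv_of_mul_eq_one_left hab]; exact W₂.inv_mem b.2⟩
  rw [hi, mem_bot] at ha
  rw [ha, one_mul] at hab
  exact Prod.ext (Subtype.ext ha) (Subtype.ext hab)

theorem tiSet_wG (h : W₁ ≤ C[W₂]) (hi : W₁ ⊓ W₂ = ⊥) : tiSet (wG W₁ W₂) = cycTI W₁ W₂ := by
  have key : ∀ (a : W₁) (b : W₂), ((a : G) * b ∈ W₁ ↔ b = 1) ∧ ((a : G) * b ∈ W₂ ↔ a = 1) := by
    intro a b
    refine ⟨⟨fun hm => Subtype.ext ?_, fun hb => by simp [hb]⟩,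
      ⟨fun hm => Subtype.ext ?_, fun ha => by simp [ha]⟩⟩
    · have : (b : G) ∈ W₁ ⊓ W₂ := ⟨(mul_mem_cancel_left a.2).1 hm, b.2⟩
      rwa [hi, mem_bot] at this
    · have : (a : G) ∈ W₁ ⊓ W₂ := ⟨a.2, (mul_mem_cancel_right b.2).1 hm⟩
      rwa [hi, mem_bot] at this
  ext x
  constructor
  · rintro ⟨a, b, ha, hb, rfl⟩
    rw [wG_apply h]
    exact ⟨mul_mem (mem_sup_left a.2) (mem_sup_right b.2), fun hm => hb ((key a b).1.1 hm),
      fun hm => ha ((key a b).2.1 hm)⟩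
  · rintro ⟨hx, h1, h2⟩
    rw [← wG_range h] at hx
    obtain ⟨⟨a, b⟩, rfl⟩ := hx
    rw [wG_apply h] at h1 h2
    exact ⟨a, b, fun ha => h2 ((key a b).2.2 ha), fun hb => h1 ((key a b).1.2 hb), rfl⟩

theorem mem_tiSet_wL (h₁ : W₁ ≤ L) (h₂ : W₂ ≤ L) {x : L} :
    x ∈ tiSet (wL L W₁ W₂) ↔ (x : G) ∈ tiSet (wG W₁ W₂) :=
  ⟨fun ⟨a, b, ha, hb, hx⟩ => ⟨a, b, ha, hb, by rw [hx, coe_wL h₁ h₂]⟩,
    fun ⟨a, b, ha, hb, hx⟩ => ⟨a, b, ha, hb, Subtype.ext (by rw [hx, coe_wL h₁ h₂])⟩⟩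

theorem cycTI_comm (W₁ W₂ : Subgroup G) : cycTI W₁ W₂ = cycTI W₂ W₁ := by
  ext x; simp only [cycTI, Set.mem_setOf_eq, sup_comm W₁ W₂]; tauto

/-- Coq's `cycTIisoC` -/
theorem etaG_swap (h : W₁ ≤ C[W₂]) (i : Lin W₁) (j : Lin W₂) :
    etaG W₂ W₁ j i = etaG W₁ W₂ i j := by
  have h' : W₂ ≤ C[W₁] := le_centralizer_iff.1 h
  unfold etaG eta
  congr 1
  funext χ
  have e : ∀ (a : W₁) (b : W₂), wG W₂ W₁ (b, a) = wG W₁ W₂ (a, b) := fun a b => by
    rw [wG_apply h, wG_apply h']; exact h a.2 b b.2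
  simp only [e]
  exact propext (and_congr_right fun _ =>
    ⟨fun H a b ha hb => by rw [H b a hb ha, mul_comm], fun H a b ha hb => by rw [H b a hb ha, mul_comm]⟩)

theorem SuppOn.mono {A B : Set G} {α : L → ℂ} (h : SuppOn A α) (hAB : A ⊆ B) : SuppOn B α :=
  fun x hx => h x fun hA => hx (hAB hA)

theorem CF_mono {A B : Set G} (hAB : A ⊆ B) : CF L A ⊆ CF L B := fun _ h => ⟨h.1, h.2.mono hAB⟩

theorem InKer.mono {θ : K → ℂ} (h : InKer A θ) (hB : B ≤ A) : InKer B θ := fun x hx => h x (hB hx)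

theorem inKer_bot (θ : K → ℂ) : InKer ⊥ θ := fun x hx => by
  rw [show x = 1 from Subtype.ext (mem_bot.1 hx)]

theorem dl_cases (L W₁ W₂ : Subgroup G) (j : Lin W₂) : dl L W₁ W₂ j = 1 ∨ dl L W₁ W₂ j = -1 := by
  unfold dl; split_ifs <;> simp

theorem dl_mul_self (L W₁ W₂ : Subgroup G) (j : Lin W₂) :
    (dl L W₁ W₂ j : ℂ) * (dl L W₁ W₂ j : ℂ) = 1 := by
  rcases dl_cases L W₁ W₂ j with h | h <;> simp [h]

variable [Finite G]

theorem cInd_eq (h : K ≤ L) (θ : K → ℂ) : cInd L θ = ind (inclusion h) θ :=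
  letI := Fintype.ofFinite G; indFun_subgroupOf K h θ

theorem cInd_eq_nEmb (h : K ≤ L) (hn : L ≤ N[K]) (θ : K → ℂ) : cInd L θ = ind (nEmb h hn).f θ :=
  cInd_eq h θ

/-- induction as a linear map -/
noncomputable def cIndL (L K : Subgroup G) : (K → ℂ) →ₗ[ℂ] (L → ℂ) where
  toFun := cInd L
  map_add' _ _ := indFun_add _ _ _
  map_smul' _ _ := indFun_smul _ _ _

theorem cInd_add (θ φ : K → ℂ) : cInd L (θ + φ) = cInd L θ + cInd L φ := (cIndL L K).map_add θ φ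
theorem cInd_sub (θ φ : K → ℂ) : cInd L (θ - φ) = cInd L θ - cInd L φ := (cIndL L K).map_sub θ φ
theorem cInd_neg (θ : K → ℂ) : cInd L (-θ) = -cInd L θ := (cIndL L K).map_neg θ
theorem cInd_smul (c : ℂ) (θ : K → ℂ) : cInd L (c • θ) = c • cInd L θ := (cIndL L K).map_smul c θ
theorem cInd_zero : cInd L (0 : K → ℂ) = 0 := (cIndL L K).map_zero
theorem cInd_sum {ι : Type*} (s : Finset ι) (f : ι → K → ℂ) :
    cInd L (∑ i ∈ s, f i) = ∑ i ∈ s, cInd L (f i) := map_sum (cIndL L K) f s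

theorem isClassFunction_cInd (θ : K → ℂ) : IsClassFunction L (cInd L θ) :=
  isClassFunction_indFun _ _

theorem _root_.Cfsg.IsCharacter.cInd {θ : K → ℂ} (hθ : IsCharacter K θ) (h : K ≤ L) :
    IsCharacter L (cInd L θ) := by rw [cInd_eq h]; exact hθ.ind _

theorem _root_.Cfsg.IsGeneralizedCharacter.cInd {θ : K → ℂ} (hθ : IsGeneralizedCharacter K θ)
    (h : K ≤ L) : IsGeneralizedCharacter L (cInd L θ) := by rw [cInd_eq h]; exact hθ.ind _

theorem ci_cInd_left (h : K ≤ L) (θ : K → ℂ) {χ : L → ℂ} (hχ : IsClassFunction L χ) :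
    ⟪cInd L θ, χ⟫ = ⟪θ, cRes K χ⟫ := by rw [cInd_eq h, cRes_eq h, ci_ind_left _ _ hχ]

theorem ci_cInd_right (h : K ≤ L) {χ : L → ℂ} (hχ : IsClassFunction L χ) (θ : K → ℂ) :
    ⟪χ, cInd L θ⟫ = ⟪cRes K χ, θ⟫ := by rw [cInd_eq h, cRes_eq h, ci_ind_right _ hχ]

theorem cInd_cInd (h : H ≤ K) (h' : K ≤ L) (θ : H → ℂ) : cInd L (cInd K θ) = cInd L θ := by
  rw [cInd_eq h', cInd_eq h, cInd_eq (h.trans h'), ind_comp]; rfl

theorem cInd_self {θ : K → ℂ} (hθ : IsClassFunction K θ) : cInd K θ = θ := by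
  rw [cInd_eq le_rfl]; exact ind_id hθ

theorem cInd_one (h : K ≤ L) (θ : K → ℂ) : cInd L θ 1 = (K.relIndex L : ℂ) * θ 1 :=
  indFun_apply_one _ _

theorem conjFun_cInd (θ : K → ℂ) : conjFun (cInd L θ) = cInd L (conjFun θ) :=
  conjFun_indFun _ _

theorem cfAut_cInd (h : K ≤ L) (σ : ℂ →+* ℂ) (θ : K → ℂ) :
    cfAut σ (cInd L θ) = cInd L (cfAut σ θ) := by
  rw [cInd_eq h, cInd_eq h]; funext g; exact map_ind σ _ θ g

theorem cInd_mul_cRes (h : K ≤ L) (θ : K → ℂ) {χ : L → ℂ} (hχ : IsClassFunction L χ) :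
    cInd L (θ * cRes K χ) = cInd L θ * χ := by
  rw [cInd_eq h, cInd_eq h, cRes_eq h, ind_mul_comp _ _ hχ]

theorem cInd_apply_of_not_mem (h : K ≤ L) (hn : L ≤ N[K]) (θ : K → ℂ) {x : L}
    (hx : (x : G) ∉ K) : cInd L θ x = 0 := by
  rw [cInd_eq_nEmb h hn]
  exact (nEmb h hn).ind_apply_of_not_mem θ (by rw [nEmb_range]; exact hx)

theorem cInd_cConj (h : K ≤ L) (hn : L ≤ N[K]) (θ : K → ℂ) {y : G} (hy : y ∈ L) :
    cInd L (cConj θ y) = cInd L θ := by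
  rw [cInd_eq_nEmb h hn, cInd_eq_nEmb h hn, ← nEmb_cj h hn θ ⟨y, hy⟩, NormalEmb.ind_cj]

theorem indFun_cInd {G : Type u} [Group G] [Fintype G] {K L : Subgroup G} (h : K ≤ L)
    (θ : K → ℂ) : indFun L (cInd L θ) = indFun K θ := by
  rw [cInd_eq h, indFun_ind_inclusion]

theorem mem_seqInd {X : Set (K → ℂ)} {φ : L → ℂ} : φ ∈ seqInd L X ↔ ∃ θ ∈ X, cInd L θ = φ :=
  Iff.rfl

theorem mem_seqIndD {φ : L → ℂ} : φ ∈ seqIndD K L H A ↔
    ∃ θ : K → ℂ, (IsIrrCharacter K θ ∧ ¬ InKer H θ ∧ InKer A θ) ∧ cInd L θ = φ := Iff.rfl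

theorem mem_seqIndT {φ : L → ℂ} : φ ∈ seqIndT K L ↔
    ∃ θ : K → ℂ, IsIrrCharacter K θ ∧ cInd L θ = φ := Iff.rfl

theorem seqIndD_subset_T : seqIndD K L H A ⊆ seqIndT K L := fun _ ⟨θ, h, e⟩ => ⟨θ, h.1, e⟩

theorem seqIndD_mono {H' A' : Subgroup G} (hH : H ≤ H') (hA : A' ≤ A) :
    seqIndD K L H A ⊆ seqIndD K L H' A' :=
  fun _ ⟨θ, h, e⟩ => ⟨θ, ⟨h.1, fun h' => h.2.1 (h'.mono hH), h.2.2.mono hA⟩, e⟩

theorem seqIndT_finite (K L : Subgroup G) : (seqIndT K L).Finite := finite_setOf_irr.image _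

theorem seqIndD_finite (K L H A : Subgroup G) : (seqIndD K L H A).Finite :=
  (seqIndT_finite K L).subset seqIndD_subset_T

end API

end Cfsg.Agent.PF
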