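import Cfsg.Agent.PF.Defs
import Cfsg.Agent.PF.CycFam

/-!
# Peterfalvi §3 for `CycTI e` and `eta e i j`
-/

set_option autoImplicit false
set_option linter.unusedSectionVars false

namespace Cfsg.Agent.PF

open Cfsg Cfsg.Agent.Char Cfsg.Agent.GT
open scoped ComplexConjugate

universe u v w

section cop
variable {W₁ : Type u} {W₂ : Type v} [Group W₁] [Group W₂]

/-- the copy of `W₁` in `W₁ × W₂` -/
def pK₁ (W₁ : Type u) (W₂ : Type v) [Group W₁] [Group W₂] : Subgroup (W₁ × W₂) :=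
  (MonoidHom.snd W₁ W₂).ker

/-- the copy of `W₂` in `W₁ × W₂` -/
def pK₂ (W₁ : Type u) (W₂ : Type v) [Group W₁] [Group W₂] : Subgroup (W₁ × W₂) :=
  (MonoidHom.fst W₁ W₂).ker

theorem mem_pK₁ {w : W₁ × W₂} : w ∈ pK₁ W₁ W₂ ↔ w.2 = 1 := Iff.rfl
theorem mem_pK₂ {w : W₁ × W₂} : w ∈ pK₂ W₁ W₂ ↔ w.1 = 1 := Iff.rfl

/-- `ω_ij` as a homomorphism -/
def cop (i : Lin W₁) (j : Lin W₂) : Lin (W₁ × W₂) := i.coprod j

theorem cop_apply (i : Lin W₁) (j : Lin W₂) (w : W₁ × W₂) : cop i j w = i w.1 * j w.2 := rfl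

theorem lc_cop (i : Lin W₁) (j : Lin W₂) : lc (cop i j) = om i j := by
  funext w; simp [lc, cop_apply, om]

theorem om_apply (i : Lin W₁) (j : Lin W₂) (a : W₁) (b : W₂) :
    om i j (a, b) = (i a : ℂ) * (j b : ℂ) := rfl

theorem cop_mul (i i' : Lin W₁) (j j' : Lin W₂) : cop i j * cop i' j' = cop (i * i') (j * j') := by
  refine MonoidHom.ext fun w => ?_
  simp only [MonoidHom.mul_apply, cop_apply]
  exact mul_mul_mul_comm _ _ _ _

theorem cop_one_one : cop (1 : Lin W₁) (1 : Lin W₂) = 1 := by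
  refine MonoidHom.ext fun w => ?_
  simp [cop_apply]

theorem cop_split (i : Lin W₁) (j : Lin W₂) : cop i 1 * cop 1 j = cop i j := by
  rw [cop_mul, lmul_one, lone_mul]

theorem cop_inv (i : Lin W₁) (j : Lin W₂) : (cop i j)⁻¹ = cop i⁻¹ j⁻¹ := by
  refine MonoidHom.ext fun w => ?_
  simp only [MonoidHom.inv_apply, cop_apply, mul_inv]

theorem cop_pow (i : Lin W₁) (j : Lin W₂) (k : ℕ) : cop i j ^ k = cop (i ^ k) (j ^ k) := by
  refine MonoidHom.ext fun w => ?_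
  simp only [MonoidHom.pow_apply, cop_apply, mul_pow]

theorem cop_comp_inl (i : Lin W₁) (j : Lin W₂) : (cop i j).comp (MonoidHom.inl W₁ W₂) = i := by
  refine MonoidHom.ext fun w => ?_
  simp [cop_apply]

theorem cop_comp_inr (i : Lin W₁) (j : Lin W₂) : (cop i j).comp (MonoidHom.inr W₁ W₂) = j := by
  refine MonoidHom.ext fun w => ?_
  simp [cop_apply]

theorem cop_comp (ω : Lin (W₁ × W₂)) :
    cop (ω.comp (MonoidHom.inl W₁ W₂)) (ω.comp (MonoidHom.inr W₁ W₂)) = ω := by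
  refine MonoidHom.ext fun w => ?_
  simp only [cop_apply, MonoidHom.comp_apply, ← map_mul]
  simp

theorem cop_inj {i i' : Lin W₁} {j j' : Lin W₂} : cop i j = cop i' j' ↔ i = i' ∧ j = j' :=
  ⟨fun h => ⟨by rw [← cop_comp_inl i j, h, cop_comp_inl], by rw [← cop_comp_inr i j, h, cop_comp_inr]⟩,
    fun h => by rw [h.1, h.2]⟩

theorem exists_cop (ω : Lin (W₁ × W₂)) : ∃ i j, ω = cop i j := ⟨_, _, (cop_comp ω).symm⟩

/-- linear characters of a product -/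
def copEquiv (W₁ : Type u) (W₂ : Type v) [Group W₁] [Group W₂] :
    Lin W₁ × Lin W₂ ≃ Lin (W₁ × W₂) where
  toFun p := cop p.1 p.2
  invFun ω := (ω.comp (MonoidHom.inl W₁ W₂), ω.comp (MonoidHom.inr W₁ W₂))
  left_inv p := Prod.ext (cop_comp_inl _ _) (cop_comp_inr _ _)
  right_inv := cop_comp

theorem cop_mem_Ann₂ (i : Lin W₁) : cop i (1 : Lin W₂) ∈ Ann (pK₂ W₁ W₂) :=
  mem_Ann.2 fun w hw => by rw [cop_apply, mem_pK₂.1 hw]; simp

theorem cop_mem_Ann₁ (j : Lin W₂) : cop (1 : Lin W₁) j ∈ Ann (pK₁ W₁ W₂) :=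
  mem_Ann.2 fun w hw => by rw [cop_apply, mem_pK₁.1 hw]; simp

theorem lcMap_eq_linAut {W : Type u} [Group W] (σ : ℂ →+* ℂ) (j : Lin W) :
    lcMap σ j = linAut σ j := rfl

theorem linAut_apply {W : Type u} [Group W] (σ : ℂ →+* ℂ) (j : Lin W) (w : W) :
    (linAut σ j w : ℂ) = σ (j w) := rfl

theorem linAut_cop (σ : ℂ →+* ℂ) (i : Lin W₁) (j : Lin W₂) :
    linAut σ (cop i j) = cop (linAut σ i) (linAut σ j) := by
  refine MonoidHom.ext fun w => Units.ext ?_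
  simp only [linAut_apply, cop_apply, Units.val_mul, map_mul]

theorem linAut_one {W : Type u} [Group W] (σ : ℂ →+* ℂ) : linAut σ (1 : Lin W) = 1 := by
  refine MonoidHom.ext fun w => Units.ext ?_
  simp [linAut_apply]

theorem linAut_injective {W : Type u} [Group W] (σ : ℂ →+* ℂ) :
    Function.Injective (linAut σ : Lin W → Lin W) := fun i j h =>
  MonoidHom.ext fun w => Units.ext (σ.injective (by rw [← linAut_apply, h, linAut_apply]))

theorem linAut_eq_one_iff {W : Type u} [Group W] (σ : ℂ →+* ℂ) {j : Lin W} :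
    linAut σ j = 1 ↔ j = 1 := by
  conv_lhs => rw [← linAut_one σ]
  exact (linAut_injective σ).eq_iff

theorem linAut_conj {W : Type u} [Group W] [Finite W] (j : Lin W) :
    linAut (starRingEnd ℂ) j = j⁻¹ :=
  lc_injective (by rw [lc_inv]; rfl)

theorem cfAut_conj {X : Type u} (φ : X → ℂ) : cfAut (starRingEnd ℂ) φ = conjFun φ := rfl

theorem om_one_one : om (1 : Lin W₁) (1 : Lin W₂) = fun _ => 1 := by
  funext w; simp [om]

theorem om_irr (i : Lin W₁) (j : Lin W₂) : IsIrrCharacter (W₁ × W₂) (om i j) :=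
  lc_cop i j ▸ lc_irr _

theorem ci_om [Fintype (W₁ × W₂)] (i i' : Lin W₁) (j j' : Lin W₂) :
    ⟪om i j, om i' j'⟫ = if i = i' ∧ j = j' then 1 else 0 := by
  classical
  rw [← lc_cop, ← lc_cop, ci_lc]
  simp only [cop_inj]

theorem card_Lin (W : Type u) [Group W] [Finite W] [IsMulCommutative W] :
    Fintype.card (Lin W) = Nat.card W := by
  rw [← Nat.card_eq_fintype_card, card_linChar]

end cop

variable {W₁ : Type u} {W₂ : Type v} {X : Type w} [Group W₁] [Group W₂] [Group X]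
  {e : W₁ × W₂ →* X}

theorem mem_tiSet {a : W₁} {b : W₂} (ha : a ≠ 1) (hb : b ≠ 1) : e (a, b) ∈ tiSet e :=
  ⟨a, b, ha, hb, rfl⟩

theorem forall_tiSet {P : X → Prop} :
    (∀ x ∈ tiSet e, P x) ↔ ∀ a b, a ≠ 1 → b ≠ 1 → P (e (a, b)) :=
  ⟨fun h _ _ ha hb => h _ (mem_tiSet ha hb), fun h _ ⟨a, b, ha, hb, hx⟩ => hx ▸ h a b ha hb⟩

theorem vanish_pK {θ : X → ℂ} (h : ∀ x ∈ tiSet e, θ x = 0) (w : W₁ × W₂)
    (h₁ : w ∉ pK₁ W₁ W₂) (h₂ : w ∉ pK₂ W₁ W₂) : θ (e w) = 0 :=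
  h _ (mem_tiSet h₂ h₁)

theorem eta_swap (e : W₁ × W₂ →* X) (i : Lin W₁) (j : Lin W₂) :
    eta (e.comp (MulEquiv.prodComm : W₂ × W₁ ≃* W₁ × W₂).toMonoidHom) j i = eta e i j := by
  unfold eta
  congr 1
  funext χ
  exact propext (and_congr_right fun _ =>
    ⟨fun H a b ha hb => by rw [mul_comm, ← H b a hb ha]; rfl,
      fun H a b ha hb => by rw [mul_comm, ← H b a hb ha]; rfl⟩)

namespace CycTI

theorem cyc₁ (h : CycTI e) : IsCyclic W₁ :=
  have := h.cyc; isCyclic_of_surjective (MonoidHom.fst W₁ W₂) Prod.fst_surjective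

theorem cyc₂ (h : CycTI e) : IsCyclic W₂ :=
  have := h.cyc; isCyclic_of_surjective (MonoidHom.snd W₁ W₂) Prod.snd_surjective

theorem comm₁ (h : CycTI e) : IsMulCommutative W₁ := have := h.cyc₁; inferInstance
theorem comm₂ (h : CycTI e) : IsMulCommutative W₂ := have := h.cyc₂; inferInstance
theorem comm (h : CycTI e) : IsMulCommutative (W₁ × W₂) := have := h.cyc; inferInstance

theorem odd₁ (h : CycTI e) : Odd (Nat.card W₁) := (Nat.odd_mul.1 h.odd).1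
theorem odd₂ (h : CycTI e) : Odd (Nat.card W₂) := (Nat.odd_mul.1 h.odd).2
theorem odd_card (h : CycTI e) : Odd (Nat.card (W₁ × W₂)) := by rw [Nat.card_prod]; exact h.odd

theorem finite₁ (h : CycTI e) : Finite W₁ := Nat.finite_of_card_ne_zero h.odd₁.pos.ne'
theorem finite₂ (h : CycTI e) : Finite W₂ := Nat.finite_of_card_ne_zero h.odd₂.pos.ne'

theorem coprime (h : CycTI e) : Nat.Coprime (Nat.card W₁) (Nat.card W₂) := by
  have := h.cyc; have := h.finite₁; have := h.finite₂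
  exact coprime_card_of_isCyclic_prod W₁ W₂

theorem three_le₁ (h : CycTI e) : 3 ≤ Nat.card W₁ := by
  have := h.finite₁; have := h.nt₁
  have h1 : 1 < Nat.card W₁ := Finite.one_lt_card
  obtain ⟨k, hk⟩ := h.odd₁; omega

theorem three_le₂ (h : CycTI e) : 3 ≤ Nat.card W₂ := by
  have := h.finite₂; have := h.nt₂
  have h1 : 1 < Nat.card W₂ := Finite.one_lt_card
  obtain ⟨k, hk⟩ := h.odd₂; omega

theorem card_ne (h : CycTI e) : Nat.card W₁ ≠ Nat.card W₂ := fun H => by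
  have h1 := h.coprime
  rw [H, Nat.coprime_self] at h1
  have := h.three_le₂; omega

theorem cycDp (h : CycTI e) : CycDp (pK₁ W₁ W₂) (pK₂ W₁ W₂) := by
  have := h.nt₁; have := h.nt₂
  obtain ⟨a, ha⟩ := exists_ne (1 : W₁)
  obtain ⟨b, hb⟩ := exists_ne (1 : W₂)
  refine ⟨h.cyc, fun H => ha ?_, fun H => hb ?_, ?_, ?_⟩
  · have : ((a, 1) : W₁ × W₂) ∈ pK₁ W₁ W₂ := rfl
    rw [H, Subgroup.mem_bot] at this; exact congrArg Prod.fst this
  · have : ((1, b) : W₁ × W₂) ∈ pK₂ W₁ W₂ := rfl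
    rw [H, Subgroup.mem_bot] at this; exact congrArg Prod.snd this
  · refine eq_bot_iff.2 fun w hw => Subgroup.mem_bot.2 (Prod.ext hw.2 hw.1)
  · refine eq_top_iff.2 fun w _ => ?_
    rw [show w = (w.1, 1) * (1, w.2) by simp]
    exact mul_mem (Subgroup.mem_sup_left rfl) (Subgroup.mem_sup_right rfl)

theorem cti (h : CycTI e) : CTI (pK₁ W₁ W₂) (pK₂ W₁ W₂) e := by
  have := h.finite₁; have := h.finite₂
  refine h.cycDp.cycTI_of_normalizer h.inj fun S ⟨v, hv⟩ hS g hg => ?_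
  obtain ⟨w, hw, e1⟩ := hg v hv
  have := h.ti (e v) (mem_tiSet (hS v hv).2 (hS v hv).1) g⁻¹
    (by rw [inv_inv, ← e1]; exact mem_tiSet (hS w hw).2 (hS w hw).1)
  exact (inv_mem_iff).1 this

/-- the strong form of the TI property -/
theorem ti' (h : CycTI e) {a : W₁} {b : W₂} (ha : a ≠ 1) (hb : b ≠ 1) {g : X} {w : W₁ × W₂}
    (hg : g * e (a, b) * g⁻¹ = e w) : g ∈ e.range :=
  (inv_mem_iff).1 (h.cti.TI (a, b) hb ha g⁻¹ w (by rw [inv_inv, hg]))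

theorem card_Lin₁ (h : CycTI e) [Finite W₁] : Fintype.card (Lin W₁) = Nat.card W₁ :=
  have := h.comm₁; card_Lin W₁

theorem card_Lin₂ (h : CycTI e) [Finite W₂] : Fintype.card (Lin W₂) = Nat.card W₂ :=
  have := h.comm₂; card_Lin W₂

theorem inv_ne₁ (h : CycTI e) {i : Lin W₁} (hi : i ≠ 1) : i⁻¹ ≠ i :=
  have := h.finite₁; inv_ne_self_of_odd h.odd₁ hi

theorem inv_ne₂ (h : CycTI e) {j : Lin W₂} (hj : j ≠ 1) : j⁻¹ ≠ j :=
  have := h.finite₂; inv_ne_self_of_odd h.odd₂ hj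

theorem exists_ne_ne₁ (h : CycTI e) (i i' : Lin W₁) : ∃ k, k ≠ i ∧ k ≠ i' := by
  have := h.finite₁
  refine CycFam.exists_ne_ne ?_ i i'
  rw [Nat.card_eq_fintype_card, h.card_Lin₁]; exact h.three_le₁

theorem exists_ne_ne₂ (h : CycTI e) (j j' : Lin W₂) : ∃ k, k ≠ j ∧ k ≠ j' := by
  have := h.finite₂
  refine CycFam.exists_ne_ne ?_ j j'
  rw [Nat.card_eq_fintype_card, h.card_Lin₂]; exact h.three_le₂

/-- swapping the factors -/
theorem swap (h : CycTI e) : CycTI (e.comp (MulEquiv.prodComm : W₂ × W₁ ≃* W₁ × W₂).toMonoidHom) := by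
  have := h.cyc
  have hV : tiSet (e.comp (MulEquiv.prodComm : W₂ × W₁ ≃* W₁ × W₂).toMonoidHom) = tiSet e := by
    ext x
    exact ⟨fun ⟨a, b, ha, hb, hx⟩ => ⟨b, a, hb, ha, hx⟩, fun ⟨a, b, ha, hb, hx⟩ => ⟨b, a, hb, ha, hx⟩⟩
  refine ⟨h.inj.comp (MulEquiv.prodComm : W₂ × W₁ ≃* W₁ × W₂).injective,
    isCyclic_of_surjective (MulEquiv.prodComm : W₁ × W₂ ≃* W₂ × W₁) (MulEquiv.surjective _),
    mul_comm (Nat.card W₁) _ ▸ h.odd, h.nt₂, h.nt₁, fun x hx g hg => ?_⟩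
  rw [hV] at hx hg
  obtain ⟨w, hw⟩ := h.ti x hx g hg
  exact ⟨w.swap, hw⟩

variable [Finite W₁] [Finite W₂] [Fintype X]

theorem fam (h : CycTI e) [Fintype (W₁ × W₂)] : CycFam (pK₁ W₁ W₂) (pK₂ W₁ W₂) e
    (fun ω => eta e (ω.comp (MonoidHom.inl W₁ W₂)) (ω.comp (MonoidHom.inr W₁ W₂))) := by
  obtain ⟨σ, hσ⟩ := h.cti.exists_fam h.odd_card
  have key : ∀ i j, eta e i j = σ (cop i j) := by
    intro i j
    have hex : ∃ χ : X → ℂ, IsSIrr X χ ∧
        ∀ a b, a ≠ 1 → b ≠ 1 → χ (e (a, b)) = (i a : ℂ) * (j b : ℂ) :=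
      ⟨σ (cop i j), hσ.sirr _, fun a b ha hb => by
        rw [hσ.eq_on _ (a, b) hb ha, cop_apply, Units.val_mul]⟩
    have hs := Classical.epsilon_spec hex
    exact hσ.eq_of_eq_on h.cycDp h.odd_card hs.1 fun w h1 h2 => by
      rw [cop_apply, Units.val_mul]; exact hs.2 w.1 w.2 h2 h1
  have : (fun ω : Lin (W₁ × W₂) =>
      eta e (ω.comp (MonoidHom.inl W₁ W₂)) (ω.comp (MonoidHom.inr W₁ W₂))) = σ := by
    funext ω; rw [key, cop_comp]
  rw [this]; exact hσ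

theorem exists_fam (h : CycTI e) [Fintype (W₁ × W₂)] :
    ∃ σ, CycFam (pK₁ W₁ W₂) (pK₂ W₁ W₂) e σ ∧ ∀ i j, eta e i j = σ (cop i j) :=
  ⟨_, h.fam, fun i j => by simp only [cop_comp_inl, cop_comp_inr]⟩

theorem eta_sirr (h : CycTI e) (i : Lin W₁) (j : Lin W₂) : IsSIrr X (eta e i j) := by
  have := Fintype.ofFinite (W₁ × W₂)
  obtain ⟨σ, hσ, k⟩ := h.exists_fam; rw [k]; exact hσ.sirr _

theorem eta_virt (h : CycTI e) (i : Lin W₁) (j : Lin W₂) :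
    IsGeneralizedCharacter X (eta e i j) := (h.eta_sirr i j).virt

theorem eta_class (h : CycTI e) (i : Lin W₁) (j : Lin W₂) : IsClassFunction X (eta e i j) :=
  (h.eta_sirr i j).isClassFunction

theorem eta_ci (h : CycTI e) (i i' : Lin W₁) (j j' : Lin W₂) :
    ⟪eta e i j, eta e i' j'⟫ = if i = i' ∧ j = j' then 1 else 0 := by
  have := Fintype.ofFinite (W₁ × W₂)
  obtain ⟨σ, hσ, k⟩ := h.exists_fam
  rw [k, k, hσ.ci_eq, lc_cop, lc_cop, ci_om]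

theorem eta_ci_self (h : CycTI e) (i : Lin W₁) (j : Lin W₂) : ⟪eta e i j, eta e i j⟫ = 1 :=
  (h.eta_sirr i j).ci_self

theorem eta_nsq (h : CycTI e) (i : Lin W₁) (j : Lin W₂) : nsq (eta e i j) = 1 :=
  (h.eta_sirr i j).nsq

theorem eta_ci_of_ne (h : CycTI e) {i i' : Lin W₁} {j j' : Lin W₂} (hne : ¬ (i = i' ∧ j = j')) :
    ⟪eta e i j, eta e i' j'⟫ = 0 := by rw [h.eta_ci, if_neg hne]

theorem eta_ci_of_ne₁ (h : CycTI e) {i i' : Lin W₁} (hne : i ≠ i') (j j' : Lin W₂) :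
    ⟪eta e i j, eta e i' j'⟫ = 0 := h.eta_ci_of_ne fun H => hne H.1

theorem eta_ci_of_ne₂ (h : CycTI e) (i i' : Lin W₁) {j j' : Lin W₂} (hne : j ≠ j') :
    ⟪eta e i j, eta e i' j'⟫ = 0 := h.eta_ci_of_ne fun H => hne H.2

theorem eta_inj_iff (h : CycTI e) {i i' : Lin W₁} {j j' : Lin W₂} :
    eta e i j = eta e i' j' ↔ i = i' ∧ j = j' := by
  refine ⟨fun H => by_contra fun hn => ?_, fun H => by rw [H.1, H.2]⟩
  have := h.eta_ci_of_ne hn
  rw [H, h.eta_ci_self] at this; exact one_ne_zero this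

theorem eta_ne_neg (h : CycTI e) (i i' : Lin W₁) (j j' : Lin W₂) : eta e i j ≠ -eta e i' j' := by
  have := Fintype.ofFinite (W₁ × W₂)
  obtain ⟨σ, hσ, k⟩ := h.exists_fam; rw [k, k]; exact hσ.ne_neg _ _

theorem eta_ne_zero (h : CycTI e) (i : Lin W₁) (j : Lin W₂) : eta e i j ≠ 0 :=
  (h.eta_sirr i j).ne_zero

theorem eta_one (h : CycTI e) : eta e (1 : Lin W₁) (1 : Lin W₂) = fun _ => 1 := by
  have := Fintype.ofFinite (W₁ × W₂)
  obtain ⟨σ, hσ, k⟩ := h.exists_fam; rw [k, cop_one_one]; exact hσ.map_one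

theorem eta_on (h : CycTI e) (i : Lin W₁) (j : Lin W₂) {a : W₁} {b : W₂} (ha : a ≠ 1)
    (hb : b ≠ 1) : eta e i j (e (a, b)) = (i a : ℂ) * (j b : ℂ) := by
  have := Fintype.ofFinite (W₁ × W₂)
  obtain ⟨σ, hσ, k⟩ := h.exists_fam
  rw [k, hσ.eq_on _ (a, b) hb ha, cop_apply, Units.val_mul]

/-- (3.9a), Coq's `eq_in_cycTIiso` -/
theorem eq_eta_of_on (h : CycTI e) {χ : X → ℂ} (hχ : IsSIrr X χ) {i : Lin W₁} {j : Lin W₂}
    (hV : ∀ a b, a ≠ 1 → b ≠ 1 → χ (e (a, b)) = (i a : ℂ) * (j b : ℂ)) : χ = eta e i j := by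
  have := Fintype.ofFinite (W₁ × W₂)
  obtain ⟨σ, hσ, k⟩ := h.exists_fam
  rw [k]
  exact hσ.eq_of_eq_on h.cycDp h.odd_card hχ fun w h1 h2 => by
    rw [cop_apply, Units.val_mul]; exact hV w.1 w.2 h2 h1

theorem ci_eta_one (h : CycTI e) (i : Lin W₁) (j : Lin W₂) :
    ⟪eta e i j, fun _ => 1⟫ = if i = 1 ∧ j = 1 then 1 else 0 := by
  rw [← h.eta_one, h.eta_ci]

/-- `Ind α = α^σ` for `α ∈ CF(W, V)` -/
theorem ind_eq_sum (h : CycTI e) [Fintype (W₁ × W₂)] {α : W₁ × W₂ → ℂ} (hα : ∀ a b, (a = 1 ∨ b = 1) → α (a, b) = 0) :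
    ind e α = ∑ i, ∑ j, ⟪α, om i j⟫ • eta e i j := by
  obtain ⟨σ, hσ, k⟩ := h.exists_fam
  rw [← hσ.sigma_eq_ind h.cycDp (fun w hw => hα w.1 w.2 (by
    rw [mem_pK₁, mem_pK₂] at hw; tauto)), cycSigma_apply, ← Fintype.sum_prod_type']
  refine (Fintype.sum_equiv (copEquiv W₁ W₂) _ _ fun p => ?_).symm
  rw [k, ← lc_cop]; rfl

theorem ind_apply (h : CycTI e) [Fintype (W₁ × W₂)] (α : W₁ × W₂ → ℂ) {a : W₁} {b : W₂} (ha : a ≠ 1) (hb : b ≠ 1) :
    ind e α (e (a, b)) = α (a, b) := h.cti.ind_apply α hb ha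

theorem ci_ind_ind (h : CycTI e) [Fintype (W₁ × W₂)] {α : W₁ × W₂ → ℂ} (hα : ∀ a b, (a = 1 ∨ b = 1) → α (a, b) = 0)
    (β : W₁ × W₂ → ℂ) : ⟪ind e α, ind e β⟫ = ⟪α, β⟫ :=
  h.cti.ci_ind_ind (fun w hw => hα w.1 w.2 (by rw [mem_pK₁, mem_pK₂] at hw; tauto)) β

/-- (3.5): the induced functions `β_ij` -/
theorem ind_alpha (h : CycTI e) [Fintype (W₁ × W₂)] (i : Lin W₁) (j : Lin W₂) :
    ind e (om 1 1 - om i 1 - om 1 j + om i j) = eta e 1 1 - eta e i 1 - eta e 1 j + eta e i j := by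
  obtain ⟨σ, hσ, k⟩ := h.exists_fam
  have := hσ.induced_eq _ (cop_mem_Ann₂ i) _ (cop_mem_Ann₁ j)
  rw [cAlpha_eq, cop_split, ← cop_one_one, lc_cop, lc_cop, lc_cop, lc_cop] at this
  rw [this, k, k, k, k]

/-- Coq's `ortho_cycTIiso_vanish` -/
theorem vanish_of_orth (h : CycTI e) {θ : X → ℂ} (hθ : IsClassFunction X θ)
    (ho : ∀ i j, ⟪θ, eta e i j⟫ = 0) : ∀ x ∈ tiSet e, θ x = 0 := by
  have := Fintype.ofFinite (W₁ × W₂)
  obtain ⟨σ, hσ, k⟩ := h.exists_fam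
  refine forall_tiSet.2 fun a b ha hb => hσ.eq_zero_of_orth h.cycDp hθ (fun ω => ?_) hb ha
  obtain ⟨i, j, rfl⟩ := exists_cop ω
  rw [← k]; exact ho i j

theorem apply_eq_sum (h : CycTI e) {θ : X → ℂ} (hθ : IsClassFunction X θ) {a : W₁} {b : W₂}
    (ha : a ≠ 1) (hb : b ≠ 1) :
    θ (e (a, b)) = ∑ i, ∑ j, ⟪θ, eta e i j⟫ * ((i a : ℂ) * (j b : ℂ)) := by
  have := Fintype.ofFinite (W₁ × W₂)
  obtain ⟨σ, hσ, k⟩ := h.exists_fam
  rw [hσ.apply_eq_sum h.cycDp hθ (w := (a, b)) hb ha, ← Fintype.sum_prod_type']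
  refine (Fintype.sum_equiv (copEquiv W₁ W₂) _ _ fun p => ?_).symm
  rw [k, ← Units.val_mul]; rfl

/-- (3.7), Coq's `cycTIiso_cfdot_exchange` -/
theorem exchange (h : CycTI e) {θ : X → ℂ} (hθ : IsClassFunction X θ)
    (hV : ∀ x ∈ tiSet e, θ x = 0) (i i' : Lin W₁) (j j' : Lin W₂) :
    ⟪θ, eta e i j⟫ + ⟪θ, eta e i' j'⟫ = ⟪θ, eta e i j'⟫ + ⟪θ, eta e i' j⟫ := by
  have := Fintype.ofFinite (W₁ × W₂)
  obtain ⟨σ, hσ, k⟩ := h.exists_fam
  have := hσ.rect hθ (vanish_pK hV) (cop_mem_Ann₂ i) (cop_mem_Ann₂ i') (cop_mem_Ann₁ j)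
    (cop_mem_Ann₁ j')
  simpa only [cop_split, k] using this

theorem orth_of_vanish (h : CycTI e) {χ : X → ℂ} (hχ : IsSIrr X χ)
    (hV : ∀ x ∈ tiSet e, χ x = 0) (i : Lin W₁) (j : Lin W₂) : ⟪χ, eta e i j⟫ = 0 := by
  have := Fintype.ofFinite (W₁ × W₂)
  obtain ⟨σ, hσ, k⟩ := h.exists_fam
  rw [k]; exact hσ.orth_of_vanish h.cycDp h.odd_card hχ (vanish_pK hV) _

theorem orth_of_nsq_two (h : CycTI e) {θ : X → ℂ} (hθ : IsGeneralizedCharacter X θ)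
    (hn : nsq θ = 2) (hV : ∀ x ∈ tiSet e, θ x = 0) (i : Lin W₁) (j : Lin W₂) :
    ⟪θ, eta e i j⟫ = 0 := by
  have := Fintype.ofFinite (W₁ × W₂)
  obtain ⟨σ, hσ, k⟩ := h.exists_fam
  rw [k]; exact hσ.orth_of_nsq_two h.cycDp h.odd_card hθ hn (vanish_pK hV) _

/-- (3.9b), Coq's `cfAut_cycTIiso` -/
theorem cfAut_eta (h : CycTI e) (u : ℂ →+* ℂ) (i : Lin W₁) (j : Lin W₂) :
    cfAut u (eta e i j) = eta e (linAut u i) (linAut u j) := by
  have := Fintype.ofFinite (W₁ × W₂)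
  obtain ⟨σ, hσ, k⟩ := h.exists_fam
  rw [k, k, ← linAut_cop]; exact hσ.map_ringHom h.cycDp h.odd_card u _

theorem conj_eta (h : CycTI e) (i : Lin W₁) (j : Lin W₂) :
    conjFun (eta e i j) = eta e i⁻¹ j⁻¹ := by
  rw [← cfAut_conj, h.cfAut_eta, linAut_conj, linAut_conj]

/-- (3.9b) -/
theorem exists_pow (h : CycTI e) (i : Lin W₁) (j : Lin W₂) {k : ℕ}
    (hk : Nat.Coprime k (orderOf (cop i j))) {b : ℕ} (hb : 0 < b)
    (hab : Nat.Coprime (orderOf (cop i j)) b) :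
    ∃ u : ℂ ≃+* ℂ, eta e (i ^ k) (j ^ k) = cfAut u (eta e i j) ∧
      ∀ g : X, orderOf g ∣ b → eta e (i ^ k) (j ^ k) g = eta e i j g := by
  have := Fintype.ofFinite (W₁ × W₂)
  obtain ⟨σ, hσ, hk'⟩ := h.exists_fam
  simp only [hk', ← cop_pow]
  exact hσ.exists_pow h.cycDp h.odd_card _ hk hb hab

/-- (3.9c), Coq's `Cint_cycTIiso_coprime` -/
theorem exists_int (h : CycTI e) (i : Lin W₁) (j : Lin W₂) {g : X}
    (hg : Nat.Coprime (orderOf g) (orderOf (cop i j))) : ∃ n : ℤ, eta e i j g = n := by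
  have := Fintype.ofFinite (W₁ × W₂)
  obtain ⟨σ, hσ, hk'⟩ := h.exists_fam
  rw [hk']; exact hσ.exists_int h.cycDp h.odd_card _ hg

/-- orthonormality in the form used by `Inner.lean` -/
theorem eta_orthonormal (h : CycTI e) (s : Finset (Lin W₁ × Lin W₂)) :
    ∀ p ∈ s, ∀ q ∈ s, ⟪eta e p.1 p.2, eta e q.1 q.2⟫ = if p = q then 1 else 0 := by
  intro p _ q _
  rw [h.eta_ci]; simp only [Prod.ext_iff]

theorem ci_sum_eta_left (h : CycTI e) (c : Lin W₁ → Lin W₂ → ℂ) (i : Lin W₁) (j : Lin W₂) :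
    ⟪∑ i', ∑ j', c i' j' • eta e i' j', eta e i j⟫ = c i j := by
  simp only [ci_sum_left, ci_smul_left, h.eta_ci, mul_ite, mul_one, mul_zero]
  rw [Finset.sum_eq_single i, Finset.sum_eq_single j]
  · rw [if_pos ⟨rfl, rfl⟩]
  · intro b _ hb; rw [if_neg fun H => hb H.2]
  · intro H; exact absurd (Finset.mem_univ _) H
  · intro b _ hb; exact Finset.sum_eq_zero fun c _ => if_neg fun H => hb H.1
  · intro H; exact absurd (Finset.mem_univ _) H

theorem ci_col_eta (h : CycTI e) (j : Lin W₂) (i' : Lin W₁) (j' : Lin W₂) :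
    ⟪∑ i, eta e i j, eta e i' j'⟫ = if j = j' then 1 else 0 := by
  rw [ci_sum_left]
  simp only [h.eta_ci]
  by_cases hj : j = j'
  · simp [hj]
  · simp [hj]

theorem ci_row_eta (h : CycTI e) (i : Lin W₁) (i' : Lin W₁) (j' : Lin W₂) :
    ⟪∑ j, eta e i j, eta e i' j'⟫ = if i = i' then 1 else 0 := by
  rw [ci_sum_left]
  simp only [h.eta_ci]
  by_cases hi : i = i'
  · simp [hi]
  · simp [hi]

theorem ci_col_col (h : CycTI e) (j j' : Lin W₂) :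
    ⟪∑ i, eta e i j, ∑ i, eta e i j'⟫ = if j = j' then (Nat.card W₁ : ℂ) else 0 := by
  rw [ci_sum_right]
  simp only [h.ci_col_eta]
  by_cases hj : j = j'
  · simp [hj, h.card_Lin₁]
  · simp [hj]

theorem ci_row_row (h : CycTI e) (i i' : Lin W₁) :
    ⟪∑ j, eta e i j, ∑ j, eta e i' j⟫ = if i = i' then (Nat.card W₂ : ℂ) else 0 := by
  rw [ci_sum_right]
  simp only [h.ci_row_eta]
  by_cases hi : i = i'
  · simp [hi, h.card_Lin₂]
  · simp [hi]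

end CycTI

/-! ### the count `NC` -/

section NC
variable [Finite W₁] [Finite W₂] [Fintype X]

open Classical in
theorem NC_eq_card (φ : X → ℂ) :
    NC e φ = (Finset.univ.filter fun p : Lin W₁ × Lin W₂ => ⟪φ, eta e p.1 p.2⟫ ≠ 0).card := by
  rw [NC, ← Nat.card_eq_finsetCard]
  exact Nat.card_congr (Equiv.subtypeEquivRight fun p => by
    rw [Finset.mem_filter]; exact ⟨fun h => ⟨Finset.mem_univ _, h⟩, fun h => h.2⟩)

theorem NC_le_of_subset {φ : X → ℂ} (s : Finset (Lin W₁ × Lin W₂))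
    (h : ∀ i j, ⟪φ, eta e i j⟫ ≠ 0 → (i, j) ∈ s) : NC e φ ≤ s.card := by
  classical
  rw [NC_eq_card]
  exact Finset.card_le_card fun p hp => h p.1 p.2 (Finset.mem_filter.1 hp).2

theorem le_NC_of_subset {φ : X → ℂ} (s : Finset (Lin W₁ × Lin W₂))
    (h : ∀ p ∈ s, ⟪φ, eta e p.1 p.2⟫ ≠ 0) : s.card ≤ NC e φ := by
  classical
  rw [NC_eq_card]
  exact Finset.card_le_card fun p hp => Finset.mem_filter.2 ⟨Finset.mem_univ _, h p hp⟩

theorem NC_mono {φ ψ : X → ℂ} (h : ∀ i j, ⟪ψ, eta e i j⟫ = 0 → ⟪φ, eta e i j⟫ = 0) :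
    NC e φ ≤ NC e ψ := by
  classical
  rw [NC_eq_card ψ]
  exact NC_le_of_subset _ fun i j hij => Finset.mem_filter.2 ⟨Finset.mem_univ _, fun H => hij (h i j H)⟩

theorem NC_eq_zero_iff (e : W₁ × W₂ →* X) {φ : X → ℂ} : NC e φ = 0 ↔ ∀ i j, ⟪φ, eta e i j⟫ = 0 := by
  classical
  rw [NC_eq_card, Finset.card_eq_zero, Finset.filter_eq_empty_iff]
  refine ⟨fun h i j => ?_, fun h p _ => not_not.2 (h p.1 p.2)⟩
  have := @h (i, j) (Finset.mem_univ _)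
  exact not_not.1 this

theorem NC_zero : NC e (0 : X → ℂ) = 0 := (NC_eq_zero_iff e).2 fun _ _ => ci_zero_left _

theorem NC_smul_le (e : W₁ × W₂ →* X) (c : ℂ) (φ : X → ℂ) : NC e (c • φ) ≤ NC e φ :=
  NC_mono fun i j h => by rw [ci_smul_left, h, mul_zero]

theorem NC_smul {c : ℂ} (hc : c ≠ 0) (φ : X → ℂ) : NC e (c • φ) = NC e φ :=
  le_antisymm (NC_smul_le e c φ) (NC_mono fun i j h => by
    rw [ci_smul_left] at h; exact (mul_eq_zero.1 h).resolve_left hc)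

theorem NC_neg (e : W₁ × W₂ →* X) (φ : X → ℂ) : NC e (-φ) = NC e φ := by
  rw [← neg_one_smul ℂ φ, NC_smul (by norm_num)]

theorem NC_add_le (e : W₁ × W₂ →* X) (φ ψ : X → ℂ) : NC e (φ + ψ) ≤ NC e φ + NC e ψ := by
  classical
  rw [NC_eq_card φ, NC_eq_card ψ]
  refine le_trans (NC_le_of_subset _ fun i j hij => ?_) (Finset.card_union_le _ _)
  rw [ci_add_left] at hij
  simp only [Finset.mem_union, Finset.mem_filter, Finset.mem_univ, true_and]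
  by_contra hn
  push Not at hn
  exact hij (by rw [hn.1, hn.2, add_zero])

theorem NC_sub_le (e : W₁ × W₂ →* X) (φ ψ : X → ℂ) : NC e (φ - ψ) ≤ NC e φ + NC e ψ := by
  rw [sub_eq_add_neg, ← NC_neg e ψ]; exact NC_add_le _ _ _

namespace CycTI

/-- Coq's `cycTI_NC_norm` -/
theorem NC_le_nsq (h : CycTI e) {φ : X → ℂ} (hφ : IsGeneralizedCharacter X φ) :
    (NC e φ : ℝ) ≤ nsq φ := by
  classical
  rw [NC_eq_card]
  refine le_trans ?_ (bessel_orthonormal _ (fun p : Lin W₁ × Lin W₂ => eta e p.1 p.2)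
    (h.eta_orthonormal (Finset.univ.filter fun p : Lin W₁ × Lin W₂ => ⟪φ, eta e p.1 p.2⟫ ≠ 0)) φ)
  rw [Finset.card_eq_sum_ones, Nat.cast_sum]
  refine Finset.sum_le_sum fun p hp => ?_
  obtain ⟨n, hn⟩ := hφ.ci_int (h.eta_virt p.1 p.2)
  have h0 : n ≠ 0 := fun H => (Finset.mem_filter.1 hp).2 (by rw [hn, H, Int.cast_zero])
  rw [norm_sq_of_eq_int hn]
  have : (1 : ℤ) ≤ n ^ 2 := by have := sq_pos_of_ne_zero h0; omega
  exact_mod_cast this

theorem NC_le_of_nsq_le (h : CycTI e) {φ : X → ℂ} (hφ : IsGeneralizedCharacter X φ) {n : ℕ}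
    (hn : nsq φ ≤ n) : NC e φ ≤ n := by exact_mod_cast (h.NC_le_nsq hφ).trans hn

theorem NC_sirr (h : CycTI e) {φ : X → ℂ} (hφ : IsSIrr X φ) : NC e φ ≤ 1 :=
  h.NC_le_of_nsq_le hφ.virt (by rw [hφ.nsq, Nat.cast_one])

theorem NC_irr (h : CycTI e) {φ : X → ℂ} (hφ : IsIrrCharacter X φ) : NC e φ ≤ 1 :=
  h.NC_sirr hφ.isSIrr

theorem NC_eta (h : CycTI e) (i : Lin W₁) (j : Lin W₂) : NC e (eta e i j) = 1 := by
  refine le_antisymm (h.NC_sirr (h.eta_sirr i j)) (Nat.pos_of_ne_zero fun H => ?_)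
  have := (NC_eq_zero_iff e).1 H i j
  rw [h.eta_ci_self] at this; exact one_ne_zero this

/-- (3.8), Coq's `small_cycTI_NC` -/
theorem small_NC (h : CycTI e) {θ : X → ℂ} (hθ : IsClassFunction X θ)
    (hV : ∀ x ∈ tiSet e, θ x = 0) (hfew : NC e θ < 2 * min (Nat.card W₁) (Nat.card W₂))
    {i₀ : Lin W₁} {j₀ : Lin W₂} (h0 : ⟪θ, eta e i₀ j₀⟫ ≠ 0) :
    (∀ i j, ⟪θ, eta e i j⟫ = if j = j₀ then ⟪θ, eta e i₀ j₀⟫ else 0) ∨
      (∀ i j, ⟪θ, eta e i j⟫ = if i = i₀ then ⟪θ, eta e i₀ j₀⟫ else 0) := by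
  classical
  have c1 := h.card_Lin₁; have c2 := h.card_Lin₂
  obtain ⟨k1, hk1⟩ := h.odd₁; obtain ⟨k2, hk2⟩ := h.odd₂
  have key : (∀ i j, ⟪θ, eta e i j⟫ = 0) ∨ (∃ j₀ c, ∀ i j, ⟪θ, eta e i j⟫ = if j = j₀ then c else 0) ∨
      (∃ i₀ c, ∀ i j, ⟪θ, eta e i j⟫ = if i = i₀ then c else 0) := by
    rcases lt_or_gt_of_ne h.card_ne with hlt | hlt
    · have := grid_small_support (fun i j => ⟪θ, eta e i j⟫) (h.exchange hθ hV) (by omega) (by
        rw [c1]; rw [min_eq_left hlt.le, NC_eq_card] at hfew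
        convert hfew)
      convert this
    · have := grid_small_support (fun j i => ⟪θ, eta e i j⟫)
        (fun j j' i i' => by rw [h.exchange hθ hV, add_comm]) (by omega) (by
          rw [c2]; rw [min_eq_right hlt.le, NC_eq_card] at hfew
          refine lt_of_eq_of_lt ?_ hfew
          exact Finset.card_equiv (Equiv.prodComm _ _) (fun p => by simp))
      rcases this with H | ⟨j₀, c, H⟩ | ⟨i₀, c, H⟩
      · exact Or.inl fun i j => H j i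
      · exact Or.inr (Or.inr ⟨j₀, c, fun i j => by convert H j i⟩)
      · exact Or.inr (Or.inl ⟨i₀, c, fun i j => by convert H j i⟩)
  rcases key with H | ⟨j₁, c, H⟩ | ⟨i₁, c, H⟩
  · exact absurd (H _ _) h0
  · have : j₀ = j₁ := by_contra fun hn => h0 (by rw [H, if_neg hn])
    subst this
    exact Or.inl fun i j => by rw [H, H i₀ j₀, if_pos rfl]
  · have : i₀ = i₁ := by_contra fun hn => h0 (by rw [H, if_neg hn])
    subst this
    exact Or.inr fun i j => by rw [H, H i₀ j₀, if_pos rfl]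

/-- Coq's `cycTI_NC_minn` -/
theorem min_le_NC (h : CycTI e) {θ : X → ℂ} (hθ : IsClassFunction X θ)
    (hV : ∀ x ∈ tiSet e, θ x = 0) (hpos : 0 < NC e θ)
    (hfew : NC e θ < 2 * min (Nat.card W₁) (Nat.card W₂)) :
    min (Nat.card W₁) (Nat.card W₂) ≤ NC e θ := by
  classical
  obtain ⟨i₀, j₀, h0⟩ : ∃ i j, ⟪θ, eta e i j⟫ ≠ 0 := by
    by_contra hn; push Not at hn
    rw [(NC_eq_zero_iff e).2 hn] at hpos; exact lt_irrefl _ hpos
  rcases h.small_NC hθ hV hfew h0 with H | H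
  · refine (min_le_left _ _).trans ?_
    have := le_NC_of_subset (e := e) (φ := θ) (Finset.univ.image fun i : Lin W₁ => (i, j₀)) (by
      intro p hp
      obtain ⟨i, -, rfl⟩ := Finset.mem_image.1 hp
      rw [H, if_pos rfl]; exact h0)
    rwa [Finset.card_image_of_injective _ (fun a b hab => congrArg Prod.fst hab), Finset.card_univ,
      h.card_Lin₁] at this
  · refine (min_le_right _ _).trans ?_
    have := le_NC_of_subset (e := e) (φ := θ) (Finset.univ.image fun j : Lin W₂ => (i₀, j)) (by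
      intro p hp
      obtain ⟨i, -, rfl⟩ := Finset.mem_image.1 hp
      rw [H, if_pos rfl]; exact h0)
    rwa [Finset.card_image_of_injective _ (fun a b hab => congrArg Prod.snd hab), Finset.card_univ,
      h.card_Lin₂] at this

theorem three_le_min (h : CycTI e) : 3 ≤ min (Nat.card W₁) (Nat.card W₂) :=
  le_min h.three_le₁ h.three_le₂

/-- a class function vanishing on `V` with `NC < min` is orthogonal to all `η_ij` -/
theorem orth_of_NC_lt (h : CycTI e) {θ : X → ℂ} (hθ : IsClassFunction X θ)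
    (hV : ∀ x ∈ tiSet e, θ x = 0) (hfew : NC e θ < min (Nat.card W₁) (Nat.card W₂))
    (i : Lin W₁) (j : Lin W₂) : ⟪θ, eta e i j⟫ = 0 := by
  refine (NC_eq_zero_iff e).1 (by_contra fun hn => ?_) i j
  have := h.min_le_NC hθ hV (Nat.pos_of_ne_zero hn) (by omega)
  omega

/-- Coq's `eq_signed_sub_cTIiso` -/
theorem eq_signed_sub' (h : CycTI e) {φ : X → ℂ} (hφ : IsGeneralizedCharacter X φ)
    (hn : nsq φ = 2) {ε : ℂ} (hε : ε = 1 ∨ ε = -1) (i : Lin W₁) {j₁ j₂ : Lin W₂} (hj : j₁ ≠ j₂)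
    (hV : ∀ x ∈ tiSet e, φ x = (ε • (eta e i j₁ - eta e i j₂)) x) :
    φ = ε • (eta e i j₁ - eta e i j₂) := by
  classical
  -- reduce to `ε = 1`
  wlog h1 : ε = 1 generalizing φ ε
  · have hε' : ε = -1 := hε.resolve_left h1
    subst hε'
    have := this hφ.neg (by rw [nsq_neg, hn]) (Or.inl rfl) (fun x hx => by
      rw [Pi.neg_apply, hV x hx]; simp) rfl
    rw [← neg_neg φ, this]; simp
  subst h1
  rw [one_smul] at hV ⊢
  set ρ := eta e i j₁ - eta e i j₂ with hρ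
  have hρv : IsGeneralizedCharacter X ρ := (h.eta_virt _ _).sub (h.eta_virt _ _)
  have hρn : nsq ρ = 2 := by
    rw [hρ, nsq_sub_of_orth (h.eta_ci_of_ne₂ _ _ hj), h.eta_nsq, h.eta_nsq]; norm_num
  have hψc : IsClassFunction X (φ - ρ) := hφ.isClassFunction.sub hρv.isClassFunction
  have hψV : ∀ x ∈ tiSet e, (φ - ρ) x = 0 := fun x hx => by rw [Pi.sub_apply, hV x hx, sub_self]
  have hNφ : NC e φ ≤ 2 := h.NC_le_of_nsq_le hφ (by rw [hn]; norm_num)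
  have hNρ : NC e ρ ≤ 2 := h.NC_le_of_nsq_le hρv (by rw [hρn]; norm_num)
  have hN : NC e (φ - ρ) ≤ 4 := (NC_sub_le _ _ _).trans (by omega)
  have h3 := h.three_le_min
  have a1 : ⟪ρ, eta e i j₁⟫ = 1 := by
    rw [hρ, ci_sub_left, h.eta_ci_self, h.eta_ci_of_ne₂ _ _ hj.symm, sub_zero]
  have a2 : ⟪ρ, eta e i j₂⟫ = -1 := by
    rw [hρ, ci_sub_left, h.eta_ci_self, h.eta_ci_of_ne₂ _ _ hj, zero_sub]
  have a0 : ∀ i' j', ¬ (i' = i ∧ (j' = j₁ ∨ j' = j₂)) → ⟪ρ, eta e i' j'⟫ = 0 := by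
    intro i' j' hn
    rw [hρ, ci_sub_left, h.eta_ci_of_ne (fun H => hn ⟨H.1.symm, Or.inl H.2.symm⟩),
      h.eta_ci_of_ne (fun H => hn ⟨H.1.symm, Or.inr H.2.symm⟩), sub_zero]
  -- Bessel for three of the `η`
  have bes : ∀ s : Finset (Lin W₁ × Lin W₂), ∑ p ∈ s, ‖⟪φ, eta e p.1 p.2⟫‖ ^ 2 ≤ 2 := fun s =>
    hn ▸ bessel_orthonormal s (fun p : Lin W₁ × Lin W₂ => eta e p.1 p.2) (h.eta_orthonormal s) φ
  have zint : ∀ i j, ∃ n : ℤ, ⟪φ, eta e i j⟫ = n := fun i j => hφ.ci_int (h.eta_virt i j)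
  have bes3 : ∀ (p q r : Lin W₁ × Lin W₂) (a b c : ℤ), p ≠ q → p ≠ r → q ≠ r →
      ⟪φ, eta e p.1 p.2⟫ = a → ⟪φ, eta e q.1 q.2⟫ = b → ⟪φ, eta e r.1 r.2⟫ = c →
      a ^ 2 + b ^ 2 + c ^ 2 ≤ 2 := by
    intro p q r a b c n1 n2 n3 e1 e2 e3
    have := bes {p, q, r}
    rw [Finset.sum_insert (by simp [n1, n2]), Finset.sum_insert (by simp [n3]), Finset.sum_singleton,
      norm_sq_of_eq_int e1, norm_sq_of_eq_int e2, norm_sq_of_eq_int e3] at this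
    have h' : (a : ℝ) ^ 2 + (b : ℝ) ^ 2 + (c : ℝ) ^ 2 ≤ 2 := by linarith
    exact_mod_cast h'
  have horth : ∀ i' j', ⟪φ - ρ, eta e i' j'⟫ = 0 := by
    by_contra hne
    push Not at hne
    obtain ⟨i₀, j₀, h0⟩ := hne
    obtain ⟨c, hc⟩ := (hφ.sub hρv).ci_int (h.eta_virt i₀ j₀)
    have hc0 : c ≠ 0 := fun H => h0 (by rw [hc, H, Int.cast_zero])
    have hc1 : 1 ≤ c ^ 2 := by have := sq_pos_of_ne_zero hc0; omega
    have val : ∀ i' j', ⟪φ, eta e i' j'⟫ = ⟪φ - ρ, eta e i' j'⟫ + ⟪ρ, eta e i' j'⟫ := fun i' j' => by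
      rw [ci_sub_left]; ring
    rcases h.small_NC hψc hψV (by omega) h0 with H | H
    · -- a column
      obtain ⟨i₁, n1, -⟩ := h.exists_ne_ne₁ i i
      obtain ⟨i₂, n2, n3⟩ := h.exists_ne_ne₁ i i₁
      have v1 : ⟪φ, eta e i₁ j₀⟫ = c := by rw [val, H, if_pos rfl, hc, a0 _ _ (fun H => n1 H.1), add_zero]
      have v2 : ⟪φ, eta e i₂ j₀⟫ = c := by rw [val, H, if_pos rfl, hc, a0 _ _ (fun H => n2 H.1), add_zero]
      by_cases hj₁ : j₁ = j₀
      · have v3 : ⟪φ, eta e i j₂⟫ = (-1 : ℤ) := by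
          rw [val, H, if_neg (fun H => hj (hj₁.trans H.symm)), a2]; simp
        have := bes3 (i₁, j₀) (i₂, j₀) (i, j₂) c c (-1) (by simp [n3.symm]) (by simp [n1])
          (by simp [n2]) v1 v2 v3
        omega
      · have v3 : ⟪φ, eta e i j₁⟫ = (1 : ℤ) := by rw [val, H, if_neg hj₁, a1]; simp
        have := bes3 (i₁, j₀) (i₂, j₀) (i, j₁) c c 1 (by simp [n3.symm]) (by simp [n1])
          (by simp [n2]) v1 v2 v3
        omega
    · -- a row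
      obtain ⟨j₃, n1, n2⟩ := h.exists_ne_ne₂ j₁ j₂
      have v3 : ⟪φ, eta e i₀ j₃⟫ = c := by
        rw [val, H, if_pos rfl, hc, a0 _ _ (fun H => H.2.elim n1 n2), add_zero]
      by_cases hi : i = i₀
      · subst hi
        have v1 : ⟪φ, eta e i j₁⟫ = (c + 1 : ℤ) := by rw [val, H, if_pos rfl, hc, a1]; simp
        have v2 : ⟪φ, eta e i j₂⟫ = (c - 1 : ℤ) := by
          rw [val, H, if_pos rfl, hc, a2]; simp [sub_eq_add_neg]
        have := bes3 (i, j₁) (i, j₂) (i, j₃) _ _ c (by simp [hj]) (by simp [n1.symm])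
          (by simp [n2.symm]) v1 v2 v3
        nlinarith
      · have v1 : ⟪φ, eta e i j₁⟫ = (1 : ℤ) := by rw [val, H, if_neg hi, a1]; simp
        have v2 : ⟪φ, eta e i j₂⟫ = (-1 : ℤ) := by rw [val, H, if_neg hi, a2]; simp
        have := bes3 (i, j₁) (i, j₂) (i₀, j₃) _ _ c (by simp [hj]) (by simp [hi])
          (by simp [hi]) v1 v2 v3
        omega
  have hψρ : ⟪φ - ρ, ρ⟫ = 0 := by rw [hρ, ci_sub_right, horth, horth, sub_zero]
  have := nsq_add_of_orth hψρ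
  rw [sub_add_cancel, hn, hρn] at this
  exact sub_eq_zero.1 (nsq_eq_zero.1 (by linarith))

end CycTI

end NC

end Cfsg.Agent.PF
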