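import Cfsg.Agent.PF.Coherence

/-!
# The combinatorial core of Peterfalvi (3.5)
-/

set_option autoImplicit false
set_option linter.unusedSectionVars false

namespace Cfsg.Agent.PF

open Cfsg Cfsg.Agent.Char
open scoped ComplexConjugate

universe u v

variable {G : Type u} [Group G] [Fintype G]

theorem zi_comm {α β : G → ℂ} (hα : IsGeneralizedCharacter G α) (hβ : IsGeneralizedCharacter G β) :
    zi α β = zi β α := zi_eq_of_ci (by rw [hα.ci_comm hβ, hβ.ci_eq_zi hα])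

theorem zi_add_right {α β γ : G → ℂ} (hα : IsGeneralizedCharacter G α)
    (hβ : IsGeneralizedCharacter G β) (hγ : IsGeneralizedCharacter G γ) :
    zi α (β + γ) = zi α β + zi α γ :=
  zi_eq_of_ci (by rw [ci_add_right, hα.ci_eq_zi hβ, hα.ci_eq_zi hγ]; push_cast; rfl)

theorem zi_neg_right {α β : G → ℂ} (hα : IsGeneralizedCharacter G α)
    (hβ : IsGeneralizedCharacter G β) : zi α (-β) = -zi α β :=
  zi_eq_of_ci (by rw [ci_neg_right, hα.ci_eq_zi hβ]; push_cast; rfl)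

theorem ci_of_zi {α β : G → ℂ} (hα : IsGeneralizedCharacter G α) (hβ : IsGeneralizedCharacter G β)
    {n : ℤ} (h : zi α β = n) : ⟪α, β⟫ = n := by rw [hα.ci_eq_zi hβ, h]

theorem ci_zero_of_zi {α β : G → ℂ} (hα : IsGeneralizedCharacter G α)
    (hβ : IsGeneralizedCharacter G β) (h : zi α β = 0) : ⟪α, β⟫ = 0 := by
  rw [hα.ci_eq_zi hβ, h, Int.cast_zero]

theorem ci_one_of_zi {α β : G → ℂ} (hα : IsGeneralizedCharacter G α)
    (hβ : IsGeneralizedCharacter G β) (h : zi α β = 1) : ⟪α, β⟫ = 1 := by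
  rw [hα.ci_eq_zi hβ, h, Int.cast_one]

theorem zi_of_ci_zero {α β : G → ℂ} (h : ⟪α, β⟫ = 0) : zi α β = 0 := zi_eq_of_ci (by simpa using h)

theorem zi_of_ci_one {α β : G → ℂ} (h : ⟪α, β⟫ = 1) : zi α β = 1 := zi_eq_of_ci (by simpa using h)

/-- Bessel's inequality in `ℓ¹` form. -/
theorem sum_natAbs_zi_le {l : List (G → ℂ)} (hs : ∀ x ∈ l, IsSIrr G x)
    (ho : l.Pairwise (fun x y => ⟪x, y⟫ = 0)) {β : G → ℂ} (hβ : IsGeneralizedCharacter G β)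
    {n : ℕ} (hn : nsq β = n) : (l.map (fun x => (zi β x).natAbs)).sum ≤ n := by
  suffices H : (((l.map (fun x => (zi β x).natAbs)).sum : ℕ) : ℝ) ≤ nsq β by
    rw [hn] at H; exact_mod_cast H
  clear hn
  induction l generalizing β with
  | nil => simpa using nsq_nonneg β
  | cons x l ih =>
    have hx := hs x (List.mem_cons_self)
    rw [List.pairwise_cons] at ho
    have hβ' := hβ.sub (hx.virt.smul_of_int (hβ.ci_int hx.virt))
    have h1 := ih (fun y hy => hs y (List.mem_cons_of_mem _ hy)) ho.2 hβ'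
    rw [nsq_sub_ci_smul hx.ci_self, norm_sq_of_eq_int (hβ.ci_eq_zi hx.virt)] at h1
    have h2 : l.map (fun y => (zi (β - ⟪β, x⟫ • x) y).natAbs) = l.map (fun y => (zi β y).natAbs) := by
      refine List.map_congr_left (fun y hy => ?_)
      congr 1
      refine zi_eq_of_ci ?_
      rw [ci_sub_left, ci_smul_left, ho.1 y hy, mul_zero, sub_zero,
        hβ.ci_eq_zi (hs y (List.mem_cons_of_mem _ hy)).virt]
    rw [h2] at h1
    have h3 : ((zi β x).natAbs : ℝ) ≤ (zi β x : ℝ) ^ 2 := by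
      have : ((zi β x).natAbs : ℤ) ≤ zi β x ^ 2 := by
        rw [← Int.natAbs_sq]; exact Int.le_self_sq _
      have h4 : (((zi β x).natAbs : ℤ) : ℝ) ≤ ((zi β x ^ 2 : ℤ) : ℝ) := Int.cast_le.2 this
      rw [Int.cast_natCast, Int.cast_pow] at h4
      exact h4
    rw [List.map_cons, List.sum_cons, Nat.cast_add]
    linarith

theorem IsSIrr.orth_of_add {x y w : G → ℂ} (hx : IsSIrr G x) (hy : IsSIrr G y) (hw : IsSIrr G w)
    (hxy : ⟪x, y⟫ = 0) (h : ⟪x + y, w⟫ = 0) : ⟪x, w⟫ = 0 := by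
  by_contra hne
  rw [ci_add_left] at h
  rcases hx.eq_or_eq_neg_of_ci_ne_zero hw hne with rfl | rfl
  · rw [ci_eq_zero_symm hxy, add_zero] at h; exact hne h
  · rw [ci_neg_left, neg_eq_zero] at hxy
    rw [ci_eq_zero_symm hxy, add_zero] at h; exact hne h

/-- `β = x + y + z` with `x, y, z` orthogonal signed irreducibles -/
structure Tri (β x y z : G → ℂ) : Prop where
  sx : IsSIrr G x
  sy : IsSIrr G y
  sz : IsSIrr G z
  xy : ⟪x, y⟫ = 0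
  xz : ⟪x, z⟫ = 0
  yz : ⟪y, z⟫ = 0
  eq : β = x + y + z

namespace Tri

variable {β x y z : G → ℂ}

theorem swap12 (h : Tri β x y z) : Tri β y x z :=
  ⟨h.sy, h.sx, h.sz, ci_eq_zero_symm h.xy, h.yz, h.xz, by rw [h.eq]; abel⟩

theorem swap23 (h : Tri β x y z) : Tri β x z y :=
  ⟨h.sx, h.sz, h.sy, h.xz, h.xy, ci_eq_zero_symm h.yz, by rw [h.eq]; abel⟩

theorem zi_eq (h : Tri β x y z) {γ : G → ℂ} (hγ : IsGeneralizedCharacter G γ) :
    zi γ β = zi γ x + zi γ y + zi γ z := by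
  rw [h.eq, zi_add_right hγ (h.sx.virt.add h.sy.virt) h.sz.virt, zi_add_right hγ h.sx.virt h.sy.virt]

theorem zi1 (h : Tri β x y z) : zi β x = 1 := zi_of_ci_one (by
  rw [h.eq, ci_add_left, ci_add_left, h.sx.ci_self, ci_eq_zero_symm h.xy, ci_eq_zero_symm h.xz]
  ring)

theorem zi2 (h : Tri β x y z) : zi β y = 1 := h.swap12.zi1

theorem zi3 (h : Tri β x y z) : zi β z = 1 := h.swap23.zi2

theorem orth1 (h : Tri β x y z) {w : G → ℂ} (hw : IsSIrr G w) (h0 : zi β w = 0) : ⟪x, w⟫ = 0 := by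
  by_contra hne
  have := h.zi1
  rcases h.sx.eq_or_eq_neg_of_ci_ne_zero hw hne with rfl | rfl
  · omega
  · rw [zi_neg_right (h.eq ▸ (h.sx.virt.add h.sy.virt).add h.sz.virt) hw.virt] at this
    omega

theorem orth2 (h : Tri β x y z) {w : G → ℂ} (hw : IsSIrr G w) (h0 : zi β w = 0) : ⟪y, w⟫ = 0 :=
  h.swap12.orth1 hw h0

theorem orth3 (h : Tri β x y z) {w : G → ℂ} (hw : IsSIrr G w) (h0 : zi β w = 0) : ⟪z, w⟫ = 0 :=
  h.swap23.orth2 hw h0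

end Tri

/-- virtual characters of norm three and degree `c` -/
structure T3 (c : ℂ) (β : G → ℂ) : Prop where
  virt : IsGeneralizedCharacter G β
  nsq : nsq β = (3 : ℕ)
  deg : β 1 = c

namespace T3

variable {c : ℂ} {β β' x y z : G → ℂ}

theorem tri2 (h : T3 c β) (hx : IsSIrr G x) (hy : IsSIrr G y) (hxy : ⟪x, y⟫ = 0)
    (h1 : zi β x = 1) (h2 : zi β y = 1) : ∃ z, Tri β x y z := by
  have e1 := ci_one_of_zi h.virt hx.virt h1
  have e2 := ci_one_of_zi h.virt hy.virt h2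
  refine ⟨β - x - y, hx, hy, ((h.virt.sub hx.virt).sub hy.virt).isSIrr_of_nsq ?_, hxy, ?_, ?_,
    by abel⟩
  · rw [nsq_sub, nsq_sub, ci_sub_left, e1, e2, hxy, h.nsq, hx.nsq, hy.nsq]; norm_num
  · rw [ci_eq_zero_comm, ci_sub_left, ci_sub_left, e1, hx.ci_self, ci_eq_zero_symm hxy]; ring
  · rw [ci_eq_zero_comm, ci_sub_left, ci_sub_left, e2, hy.ci_self, hxy]; ring

theorem tri1 (h : T3 c β) (hx : IsSIrr G x) (h1 : zi β x = 1) : ∃ y z, Tri β x y z := by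
  have e1 := ci_one_of_zi h.virt hx.virt h1
  have e2 : Char.nsq (β - x) = 2 := by rw [nsq_sub, e1, h.nsq, hx.nsq]; norm_num
  obtain ⟨y, z, hy, hz, hyz, e⟩ := (h.virt.sub hx.virt).exists_of_nsq_two e2
  have e3 : ⟪y + z, x⟫ = 0 := by rw [← e, ci_sub_left, e1, hx.ci_self, sub_self]
  refine ⟨y, z, hx, hy, hz, ci_eq_zero_symm (IsSIrr.orth_of_add hy hz hx hyz e3),
    ci_eq_zero_symm (IsSIrr.orth_of_add hz hy hx (ci_eq_zero_symm hyz) (by rwa [add_comm])), hyz, ?_⟩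
  rw [add_assoc, ← e]; abel

theorem tri0 (h : T3 c β) : ∃ x y z, Tri β x y z := by
  obtain ⟨x, hx, h1, -⟩ := h.virt.exists_sirr_one
    (fun e => by have := h.nsq; rw [e, nsq_eq_zero.2 rfl] at this; norm_num at this)
    (by rw [h.nsq]; norm_num)
  exact ⟨x, h.tri1 hx (zi_of_ci_one h1)⟩

theorem tri3 (h : T3 c β) (hx : IsSIrr G x) (hy : IsSIrr G y) (hz : IsSIrr G z)
    (hxy : ⟪x, y⟫ = 0) (hxz : ⟪x, z⟫ = 0) (hyz : ⟪y, z⟫ = 0)
    (h1 : zi β x = 1) (h2 : zi β y = 1) (h3 : zi β z = 1) : Tri β x y z := by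
  obtain ⟨w, hw⟩ := h.tri2 hx hy hxy h1 h2
  have e := ci_one_of_zi h.virt hz.virt h3
  rw [hw.eq, ci_add_left, ci_add_left, hxz, hyz, zero_add, zero_add] at e
  rwa [hw.sz.eq_of_ci_eq_one hz e] at hw

theorem not_neg (h : T3 c β) (h' : T3 c β') (t : Tri β x y z) (h1 : zi β' x = 1)
    (h2 : zi β' y = 1) : zi β' z ≠ -1 := by
  intro h3
  have t' := h'.tri3 t.sx t.sy t.sz.neg t.xy (by rw [ci_neg_right, t.xz, neg_zero])
    (by rw [ci_neg_right, t.yz, neg_zero]) h1 h2 (by rw [zi_neg_right h'.virt t.sz.virt, h3]; rfl)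
  have e1 := h.deg
  have e2 := h'.deg
  rw [t.eq] at e1
  rw [t'.eq] at e2
  simp only [Pi.add_apply, Pi.neg_apply] at e1 e2
  exact t.sz.apply_one_ne_zero (by linear_combination (e1 - e2) / 2)

theorem zi_tri (h : T3 c β) (hx : IsSIrr G x) : zi β x = -1 ∨ zi β x = 0 ∨ zi β x = 1 := by
  have h1 := sq_le_nsq_of_ci hx.ci_self (h.virt.ci_eq_zi hx.virt)
  rw [h.nsq] at h1
  have h2 : zi β x ^ 2 ≤ 3 := by exact_mod_cast h1
  have h3 : zi β x < 2 := by nlinarith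
  have h4 : -2 < zi β x := by nlinarith
  omega

/-- Peterfalvi (3.5.2). -/
theorem unit (h : T3 c β) (h' : T3 c β') (hL : zi β' β = 1) (t : Tri β x y z) :
    (zi β' x = 1 ∧ zi β' y = 0 ∧ zi β' z = 0) ∨ (zi β' x = 0 ∧ zi β' y = 1 ∧ zi β' z = 0) ∨
      (zi β' x = 0 ∧ zi β' y = 0 ∧ zi β' z = 1) := by
  rw [t.zi_eq h'.virt] at hL
  have n1 := h.not_neg h' t
  have n2 := h.not_neg h' t.swap23
  have n3 := h.not_neg h' t.swap12.swap23
  rcases h'.zi_tri t.sx with a | a | a <;> rcases h'.zi_tri t.sy with b | b | b <;>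
    rcases h'.zi_tri t.sz with d | d | d <;> simp_all

theorem exists_common (h : T3 c β) (h' : T3 c β') (hL : zi β' β = 1) :
    ∃ x, IsSIrr G x ∧ zi β x = 1 ∧ zi β' x = 1 := by
  obtain ⟨x, y, z, t⟩ := h.tri0
  rcases h.unit h' hL t with h1 | h1 | h1
  exacts [⟨x, t.sx, t.zi1, h1.1⟩, ⟨y, t.sy, t.zi2, h1.2.1⟩, ⟨z, t.sz, t.zi3, h1.2.2⟩]

theorem zi_cases (h : T3 c β) (h' : T3 c β') (hL : zi β' β = 1) (hx : IsSIrr G x)
    (h1 : zi β x = 1) : zi β' x = 0 ∨ zi β' x = 1 := by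
  obtain ⟨y, z, t⟩ := h.tri1 hx h1
  have := h.unit h' hL t
  omega

theorem orth_of_mem (h : T3 c β) (hx : IsSIrr G x) (hy : IsSIrr G y) (h1 : zi β x = 1)
    (h2 : zi β y = 1) (hne : x ≠ y) : ⟪x, y⟫ = 0 := by
  refine hx.ci_eq_zero hy hne ?_
  rintro rfl
  rw [zi_neg_right h.virt hy.virt] at h1
  omega

theorem common_unique (h : T3 c β) (h' : T3 c β') (hL : zi β' β = 1) (hx : IsSIrr G x)
    (hy : IsSIrr G y) (h1 : zi β x = 1) (h2 : zi β y = 1) (h3 : zi β' x = 1) (h4 : zi β' y = 1) :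
    x = y := by
  by_contra hne
  obtain ⟨z, t⟩ := h.tri2 hx hy (h.orth_of_mem hx hy h1 h2 hne) h1 h2
  have := h.unit h' hL t
  omega

end T3

theorem int_caseII (x a₁ b₁ a₂ b₂ a₃ b₃ : ℤ) (e2 : 0 = x + a₂ + b₂) (e3 : 0 = x + a₃ + b₃)
    (e4 : 0 = a₁ + a₂ + a₃)
    (u : (x = 1 ∧ a₁ = 0 ∧ b₁ = 0) ∨ (x = 0 ∧ a₁ = 1 ∧ b₁ = 0) ∨ (x = 0 ∧ a₁ = 0 ∧ b₁ = 1))
    (b : x.natAbs + (a₁.natAbs + (b₁.natAbs + (a₂.natAbs + (b₂.natAbs + (a₃.natAbs
      + b₃.natAbs))))) ≤ 3) :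
    (x = 1 ∧ b₂ = -1 ∧ b₃ = -1) ∨ (a₁ = 1 ∧ a₂ = -1 ∧ b₂ = 1) ∨ (a₁ = 1 ∧ a₃ = -1 ∧ b₃ = 1) ∨
      b₁ = 1 := by
  rcases u with ⟨rfl, rfl, rfl⟩ | ⟨rfl, rfl, rfl⟩ | ⟨rfl, rfl, rfl⟩
  · left; omega
  · right
    by_cases h : a₂ = -1
    · left; omega
    · right; left; omega
  · simp

/-- The data of Peterfalvi (3.5). -/
structure GridHyp {I J : Type*} (c : ℂ) (β : I → J → G → ℂ) : Prop where
  t3 : ∀ i j, T3 c (β i j)
  row : ∀ i j l, j ≠ l → zi (β i j) (β i l) = 1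
  col : ∀ i k j, i ≠ k → zi (β i j) (β k j) = 1
  orth : ∀ i k j l, i ≠ k → j ≠ l → zi (β i j) (β k l) = 0

namespace GridHyp

variable {I J : Type*} {c : ℂ} {β : I → J → G → ℂ}

theorem swap (h : GridHyp c β) : GridHyp c (fun j i => β i j) :=
  ⟨fun j i => h.t3 i j, fun j i k hik => h.col i k j hik, fun j l i hjl => h.row i j l hjl,
    fun j l i k hjl hik => h.orth i k j l hik hjl⟩

/-- three lines of a column through a common point -/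
theorem seven (h : GridHyp c β) {j : J} {k l n : I} (hkl : k ≠ l) (hkn : k ≠ n) (hln : l ≠ n)
    {x a₁ b₁ a₂ b₂ a₃ b₃ : G → ℂ} (t₁ : Tri (β k j) x a₁ b₁) (t₂ : Tri (β l j) x a₂ b₂)
    (t₃ : Tri (β n j) x a₃ b₃) :
    [x, a₁, b₁, a₂, b₂, a₃, b₃].Pairwise (fun x y => ⟪x, y⟫ = 0) := by
  have key : ∀ {k l : I} {a b a' b' : G → ℂ}, k ≠ l → Tri (β k j) x a b → Tri (β l j) x a' b' →
      ⟪a, a'⟫ = 0 ∧ ⟪a, b'⟫ = 0 ∧ ⟪b, a'⟫ = 0 ∧ ⟪b, b'⟫ = 0 := by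
    intro k l a b a' b' hkl t t'
    have u := (h.t3 l j).unit (h.t3 k j) (h.col k l j hkl) t'
    have := t.zi1
    exact ⟨t.orth2 t'.sy (by omega), t.orth2 t'.sz (by omega), t.orth3 t'.sy (by omega),
      t.orth3 t'.sz (by omega)⟩
  have k12 := key hkl t₁ t₂
  have k13 := key hkn t₁ t₃
  have k23 := key hln t₂ t₃
  simp [t₁.xy, t₁.xz, t₁.yz, t₂.xy, t₂.xz, t₂.yz, t₃.xy, t₃.xz, t₃.yz, k12, k13, k23]

theorem seven_le (h : GridHyp c β) {j : J} {k l n : I} (hkl : k ≠ l) (hkn : k ≠ n) (hln : l ≠ n)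
    {x a₁ b₁ a₂ b₂ a₃ b₃ : G → ℂ} (t₁ : Tri (β k j) x a₁ b₁) (t₂ : Tri (β l j) x a₂ b₂)
    (t₃ : Tri (β n j) x a₃ b₃) (i : I) (j' : J) :
    (zi (β i j') x).natAbs + ((zi (β i j') a₁).natAbs + ((zi (β i j') b₁).natAbs
      + ((zi (β i j') a₂).natAbs + ((zi (β i j') b₂).natAbs + ((zi (β i j') a₃).natAbs
      + (zi (β i j') b₃).natAbs))))) ≤ 3 := by
  have := sum_natAbs_zi_le (l := [x, a₁, b₁, a₂, b₂, a₃, b₃])
    (by simp [t₁.sx, t₁.sy, t₁.sz, t₂.sy, t₂.sz, t₃.sy, t₃.sz])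
    (h.seven hkl hkn hln t₁ t₂ t₃) (h.t3 i j').virt (h.t3 i j').nsq
  simpa using this

theorem caseQ (h : GridHyp c β) {j j' : J} (hj : j' ≠ j) {k l n m : I} (hkl : k ≠ l)
    (hkn : k ≠ n) (hln : l ≠ n) (hnm : n ≠ m)
    {x a₁ b₁ a₂ b₂ a₃ b₃ : G → ℂ} (t₁ : Tri (β k j) x a₁ b₁) (t₂ : Tri (β l j) x a₂ b₂)
    (t₃ : Tri (β n j) x a₃ b₃) (t₄ : Tri (β m j) a₁ a₂ a₃) (h1 : zi (β k j') a₁ = 1)
    (h2 : zi (β k j') a₂ = -1) (h3 : zi (β k j') b₂ = 1) : False := by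
  have o := h.seven hkl hkn hln t₁ t₂ t₃
  simp only [List.pairwise_cons, List.mem_cons, forall_eq_or_imp] at o
  have t := (h.t3 k j').tri3 t₁.sy t₂.sy.neg t₂.sz (by rw [ci_neg_right, t₄.xy, neg_zero])
    (by tauto) (by rw [ci_neg_left, t₂.yz, neg_zero]) h1
    (by rw [zi_neg_right (h.t3 k j').virt t₂.sy.virt, h2]; rfl) h3
  have v := (h.t3 n j').virt
  have e0 := t.zi_eq v
  rw [h.col n k j' hkn.symm, zi_neg_right v t₂.sy.virt] at e0
  have e1 := t₁.zi_eq v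
  have e2 := t₂.zi_eq v
  have e4 := t₄.zi_eq v
  rw [h.orth n k j' j hkn.symm hj] at e1
  rw [h.orth n l j' j hln.symm hj] at e2
  rw [h.orth n m j' j hnm hj] at e4
  have u := (h.t3 n j).unit (h.t3 n j') (h.row n j' j hj) t₃
  have b := h.seven_le hkl hkn hln t₁ t₂ t₃ n j'
  omega

theorem caseII_aux (h : GridHyp c β) {j j' : J} (hj : j' ≠ j) {k l n m : I} (hkl : k ≠ l)
    (hkn : k ≠ n) (hln : l ≠ n) (hkm : k ≠ m) (hlm : l ≠ m) (hnm : n ≠ m)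
    {x a₁ b₁ a₂ b₂ a₃ b₃ : G → ℂ} (t₁ : Tri (β k j) x a₁ b₁) (t₂ : Tri (β l j) x a₂ b₂)
    (t₃ : Tri (β n j) x a₃ b₃) (t₄ : Tri (β m j) a₁ a₂ a₃) (h1 : zi (β m j') a₁ = 1) :
    False := by
  have o := h.seven hkl hkn hln t₁ t₂ t₃
  simp only [List.pairwise_cons, List.mem_cons, forall_eq_or_imp] at o
  have v := (h.t3 m j').virt
  have q : zi (β m j') x = 0 ∧ zi (β m j') b₁ = -1 ∧ zi (β m j') b₂ = 0 ∧ zi (β m j') b₃ = 0 := by
    have e1 := t₁.zi_eq v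
    have e2 := t₂.zi_eq v
    have e3 := t₃.zi_eq v
    rw [h.orth m k j' j hkm.symm hj] at e1
    rw [h.orth m l j' j hlm.symm hj] at e2
    rw [h.orth m n j' j hnm.symm hj] at e3
    have u := (h.t3 m j).unit (h.t3 m j') (h.row m j' j hj) t₄
    have b := h.seven_le hkl hkn hln t₁ t₂ t₃ m j'
    omega
  have v' := (h.t3 k j').virt
  have p : (zi (β k j') x = 1 ∧ zi (β k j') b₂ = -1 ∧ zi (β k j') b₃ = -1) ∨
      (zi (β k j') a₁ = 1 ∧ zi (β k j') a₂ = -1 ∧ zi (β k j') b₂ = 1) ∨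
      (zi (β k j') a₁ = 1 ∧ zi (β k j') a₃ = -1 ∧ zi (β k j') b₃ = 1) ∨ zi (β k j') b₁ = 1 := by
    have e2 := t₂.zi_eq v'
    have e3 := t₃.zi_eq v'
    have e4 := t₄.zi_eq v'
    rw [h.orth k l j' j hkl hj] at e2
    rw [h.orth k n j' j hkn hj] at e3
    rw [h.orth k m j' j hkm hj] at e4
    have u := (h.t3 k j).unit (h.t3 k j') (h.row k j' j hj) t₁
    have b := h.seven_le hkl hkn hln t₁ t₂ t₃ k j'
    exact int_caseII _ _ _ _ _ _ _ e2 e3 e4 u b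
  rcases p with p | p | p | p
  · have t := (h.t3 k j').tri3 t₁.sx t₂.sz.neg t₃.sz.neg (by rw [ci_neg_right, t₂.xz, neg_zero])
      (by rw [ci_neg_right, t₃.xz, neg_zero])
      (by rw [ci_neg_left, ci_neg_right, neg_neg]; tauto) p.1
      (by rw [zi_neg_right v' t₂.sz.virt, p.2.1]; rfl)
      (by rw [zi_neg_right v' t₃.sz.virt, p.2.2]; rfl)
    have e := t.zi_eq v
    rw [h.col m k j' hkm.symm, zi_neg_right v t₂.sz.virt, zi_neg_right v t₃.sz.virt] at e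
    omega
  · exact h.caseQ hj hkl hkn hln hnm t₁ t₂ t₃ t₄ p.1 p.2.1 p.2.2
  · exact h.caseQ hj hkn hkl hln.symm hlm t₁ t₃ t₂ t₄.swap23 p.1 p.2.1 p.2.2
  · have := (h.t3 k j').zi_cases (h.t3 m j') (h.col m k j' hkm.symm) t₁.sz p
    omega

theorem caseII (h : GridHyp c β) {j j' : J} (hj : j' ≠ j) {k l n m : I} (hkl : k ≠ l)
    (hkn : k ≠ n) (hln : l ≠ n) (hkm : k ≠ m) (hlm : l ≠ m) (hnm : n ≠ m) {x : G → ℂ}
    (hx : IsSIrr G x) (h1 : zi (β k j) x = 1) (h2 : zi (β l j) x = 1) (h3 : zi (β n j) x = 1) :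
    zi (β m j) x = 1 := by
  by_contra hm
  have key : ∀ i, i ≠ m → zi (β i j) x = 1 → ∃ a b, Tri (β i j) x a b ∧ zi (β m j) a = 1 := by
    intro i him hi
    obtain ⟨a, b, t⟩ := (h.t3 i j).tri1 hx hi
    rcases (h.t3 i j).unit (h.t3 m j) (h.col m i j him.symm) t with u | u | u
    · exact absurd u.1 hm
    · exact ⟨a, b, t, u.2.1⟩
    · exact ⟨b, a, t.swap23, u.2.2⟩
  obtain ⟨a₁, b₁, t₁, e₁⟩ := key k hkm h1
  obtain ⟨a₂, b₂, t₂, e₂⟩ := key l hlm h2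
  obtain ⟨a₃, b₃, t₃, e₃⟩ := key n hnm h3
  have o := h.seven hkl hkn hln t₁ t₂ t₃
  simp only [List.pairwise_cons, List.mem_cons, forall_eq_or_imp] at o
  have t₄ := (h.t3 m j).tri3 t₁.sy t₂.sy t₃.sy (by tauto) (by tauto) (by tauto) e₁ e₂ e₃
  rcases (h.t3 m j).unit (h.t3 m j') (h.row m j' j hj) t₄ with u | u | u
  · exact h.caseII_aux hj hkl hkn hln hkm hlm hnm t₁ t₂ t₃ t₄ u.1
  · exact h.caseII_aux hj hkl.symm hln hkn hlm hkm hnm t₂ t₁ t₃ t₄.swap12 u.2.1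
  · exact h.caseII_aux hj hkn.symm hln.symm hkl hnm hkm hlm t₃ t₁ t₂ t₄.swap23.swap12 u.2.2

theorem four_rows (h : GridHyp c β) {j j' : J} (hj : j' ≠ j) {k l n m : I} (hkl : k ≠ l)
    (hkn : k ≠ n) (hln : l ≠ n) (hkm : k ≠ m) (hlm : l ≠ m) (hnm : n ≠ m) {x : G → ℂ}
    (hx : IsSIrr G x) (h1 : zi (β k j) x = 1) (h2 : zi (β l j) x = 1) : zi (β n j) x = 1 := by
  by_contra h3
  have h4 : zi (β m j) x ≠ 1 := fun h4 =>
    h3 (h.caseII hj hkl hkm hlm hkn hln hnm.symm hx h1 h2 h4)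
  have key : ∀ i, i ≠ n → zi (β i j) x = 1 → ∃ a b, Tri (β i j) x a b ∧ zi (β n j) a = 1 := by
    intro i him hi
    obtain ⟨a, b, t⟩ := (h.t3 i j).tri1 hx hi
    rcases (h.t3 i j).unit (h.t3 n j) (h.col n i j him.symm) t with u | u | u
    · exact absurd u.1 h3
    · exact ⟨a, b, t, u.2.1⟩
    · exact ⟨b, a, t.swap23, u.2.2⟩
  obtain ⟨a₁, b₁, t₁, e₁⟩ := key k hkn h1
  obtain ⟨a₂, b₂, t₂, e₂⟩ := key l hln h2
  have u12 := (h.t3 k j).unit (h.t3 l j) (h.col l k j hkl.symm) t₁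
  have u21 := (h.t3 l j).unit (h.t3 k j) (h.col k l j hkl) t₂
  have n1 : zi (β m j) a₁ ≠ 1 := fun e => by
    have := h.caseII hj hkn hkm hnm hkl hln.symm hlm.symm t₁.sy t₁.zi2 e₁ e
    omega
  have n2 : zi (β m j) a₂ ≠ 1 := fun e => by
    have := h.caseII hj hln hlm hnm hkl.symm hkn.symm hkm.symm t₂.sy t₂.zi2 e₂ e
    omega
  obtain ⟨z, t₃⟩ := (h.t3 n j).tri2 t₁.sy t₂.sy (t₁.orth2 t₂.sy (by omega)) e₁ e₂
  have u1 := (h.t3 k j).unit (h.t3 m j) (h.col m k j hkm.symm) t₁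
  have u2 := (h.t3 l j).unit (h.t3 m j) (h.col m l j hlm.symm) t₂
  have u3 := (h.t3 n j).unit (h.t3 m j) (h.col m n j hnm.symm) t₃
  have u4 := (h.t3 n j).unit (h.t3 k j) (h.col k n j hkn) t₃
  have u5 := (h.t3 n j).unit (h.t3 l j) (h.col l n j hln) t₃
  have := t₁.zi2
  have := t₂.zi2
  have t₄ := (h.t3 m j).tri3 t₁.sz t₂.sz t₃.sz (t₁.orth3 t₂.sz (by omega))
    (t₁.orth3 t₃.sz (by omega)) (t₂.orth3 t₃.sz (by omega)) (by omega) (by omega) (by omega)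
  have v := (h.t3 k j').virt
  have f1 := t₁.zi_eq v
  have f2 := t₂.zi_eq v
  have f3 := t₃.zi_eq v
  have f4 := t₄.zi_eq v
  rw [h.row k j' j hj] at f1
  rw [h.orth k l j' j hkl hj] at f2
  rw [h.orth k n j' j hkn hj] at f3
  rw [h.orth k m j' j hkm hj] at f4
  omega

/-- Peterfalvi (3.5.4). -/
theorem exists_col (h : GridHyp c β) (hI : ∀ a b d : I, ∃ e, e ≠ a ∧ e ≠ b ∧ e ≠ d) [Nonempty I]
    [Nontrivial J] (j : J) :
    ∃ x, IsSIrr G x ∧ (∀ i, zi (β i j) x = 1) ∧ ∀ i j', j' ≠ j → zi (β i j') x = 0 := by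
  obtain ⟨j', hj⟩ := exists_ne j
  obtain ⟨k⟩ := ‹Nonempty I›
  obtain ⟨l, hl, -⟩ := hI k k k
  obtain ⟨x, hx, h1, h2⟩ := (h.t3 k j).exists_common (h.t3 l j) (h.col l k j hl)
  have hall : ∀ i, zi (β i j) x = 1 := by
    intro n
    by_cases hkn : k = n
    · exact hkn ▸ h1
    by_cases hln : l = n
    · exact hln ▸ h2
    obtain ⟨m, m1, m2, m3⟩ := hI k l n
    exact h.four_rows hj hl.symm hkn hln m1.symm m2.symm m3.symm hx h1 h2
  refine ⟨x, hx, hall, fun i j' hj => ?_⟩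
  obtain ⟨k, hk, -⟩ := hI i i i
  obtain ⟨l, hl, hlk, -⟩ := hI i k k
  obtain ⟨n, hn, hnk, hnl⟩ := hI i k l
  obtain ⟨a₁, b₁, t₁⟩ := (h.t3 k j).tri1 hx (hall k)
  obtain ⟨a₂, b₂, t₂⟩ := (h.t3 l j).tri1 hx (hall l)
  obtain ⟨a₃, b₃, t₃⟩ := (h.t3 n j).tri1 hx (hall n)
  have b := h.seven_le hlk.symm hnk.symm hnl.symm t₁ t₂ t₃ i j'
  have v := (h.t3 i j').virt
  have e1 := t₁.zi_eq v
  have e2 := t₂.zi_eq v
  have e3 := t₃.zi_eq v
  rw [h.orth i k j' j hk.symm hj] at e1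
  rw [h.orth i l j' j hl.symm hj] at e2
  rw [h.orth i n j' j hn.symm hj] at e3
  omega

end GridHyp

/-- The conclusion of Peterfalvi (3.5). -/
structure GridSol {I J : Type*} (β : I → J → G → ℂ) (x : J → G → ℂ) (y : I → G → ℂ)
    (z : I → J → G → ℂ) : Prop where
  tri : ∀ i j, Tri (β i j) (x j) (y i) (z i j)
  xx : ∀ j l, j ≠ l → ⟪x j, x l⟫ = 0
  yy : ∀ i k, i ≠ k → ⟪y i, y k⟫ = 0
  xz : ∀ l i j, ⟪x l, z i j⟫ = 0
  yz : ∀ k i j, ⟪y k, z i j⟫ = 0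
  zz : ∀ i k j l, (i ≠ k ∨ j ≠ l) → ⟪z i j, z k l⟫ = 0

theorem GridSol.swap {I J : Type*} {β : I → J → G → ℂ} {x : J → G → ℂ} {y : I → G → ℂ}
    {z : I → J → G → ℂ} (h : GridSol β x y z) :
    GridSol (fun j i => β i j) y x (fun j i => z i j) :=
  ⟨fun j i => (h.tri i j).swap12, h.yy, h.xx, fun k j i => h.yz k i j, fun l j i => h.xz l i j,
    fun j l i k hne => h.zz i k j l hne.symm⟩

theorem GridHyp.exists_sol_aux {I J : Type*} {c : ℂ} {β : I → J → G → ℂ} (h : GridHyp c β)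
    (hI : ∀ a b d : I, ∃ e, e ≠ a ∧ e ≠ b ∧ e ≠ d) [Nonempty I] [Nontrivial J]
    (hJ : ∀ a b d : J, a ≠ b → a ≠ d → b ≠ d → ∃ e, e ≠ a ∧ e ≠ b ∧ e ≠ d) :
    ∃ x y z, GridSol β x y z := by
  choose x sx hx1 hx0 using h.exists_col hI
  have hy : ∀ i, ∃ y, IsSIrr G y ∧ (∀ j, zi (β i j) y = 1) ∧ ∀ j, ⟪x j, y⟫ = 0 := by
    intro i
    obtain ⟨j₁, j₂, h12⟩ := exists_pair_ne J
    obtain ⟨y, sy, h1, h2⟩ := (h.t3 i j₁).exists_common (h.t3 i j₂) (h.row i j₂ j₁ h12.symm)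
    have hxy : ∀ j, ⟪x j, y⟫ = 0 := by
      intro j
      refine (sx j).ci_eq_zero sy ?_ ?_
      · rintro rfl
        by_cases hj : j₁ = j
        · have := hx0 j i j₂ (hj ▸ h12.symm); omega
        · have := hx0 j i j₁ hj; omega
      · intro e
        have e' : y = -x j := by rw [e, neg_neg]
        rw [e', zi_neg_right (h.t3 _ _).virt (sx j).virt] at h1
        by_cases hj : j₁ = j
        · have := hx1 j i; rw [← hj] at this h1; omega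
        · have := hx0 j i j₁ hj; omega
    refine ⟨y, sy, fun j₃ => ?_, hxy⟩
    by_contra h3
    have n1 : j₁ ≠ j₃ := fun e => h3 (e ▸ h1)
    have n2 : j₂ ≠ j₃ := fun e => h3 (e ▸ h2)
    obtain ⟨j₄, m1, m2, m3⟩ := hJ j₁ j₂ j₃ h12 n1 n2
    obtain ⟨b₁, t₁⟩ := (h.t3 i j₁).tri2 (sx j₁) sy (hxy j₁) (hx1 j₁ i) h1
    obtain ⟨b₂, t₂⟩ := (h.t3 i j₂).tri2 (sx j₂) sy (hxy j₂) (hx1 j₂ i) h2
    have u1 := (h.t3 i j₁).unit (h.t3 i j₃) (h.row i j₃ j₁ n1.symm) t₁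
    have u2 := (h.t3 i j₂).unit (h.t3 i j₃) (h.row i j₃ j₂ n2.symm) t₂
    have u3 := (h.t3 i j₂).unit (h.t3 i j₁) (h.row i j₁ j₂ h12) t₂
    have z1 := hx0 j₁ i j₃ n1.symm
    have z2 := hx0 j₂ i j₃ n2.symm
    have t₃ := (h.t3 i j₃).tri3 (sx j₃) t₁.sz t₂.sz
      (ci_eq_zero_symm (t₁.orth3 (sx j₃) (hx0 j₃ i j₁ n1)))
      (ci_eq_zero_symm (t₂.orth3 (sx j₃) (hx0 j₃ i j₂ n2)))
      (t₁.orth3 t₂.sz (by omega)) (hx1 j₃ i) (by omega) (by omega)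
    have v := (h.t3 i j₄).virt
    have f1 := t₁.zi_eq v
    have f2 := t₂.zi_eq v
    have f3 := t₃.zi_eq v
    rw [h.row i j₄ j₁ m1, hx0 j₁ i j₄ m1] at f1
    rw [h.row i j₄ j₂ m2, hx0 j₂ i j₄ m2] at f2
    rw [h.row i j₄ j₃ m3, hx0 j₃ i j₄ m3] at f3
    omega
  choose y sy hy1 hxy using hy
  choose z t using fun i j => (h.t3 i j).tri2 (sx j) (sy i) (hxy i j) (hx1 j i) (hy1 i j)
  have hrow : ∀ i j l, j ≠ l → zi (β i l) (z i j) = 0 := by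
    intro i j l hjl
    have := (h.t3 i j).unit (h.t3 i l) (h.row i l j hjl.symm) (t i j)
    have := hy1 i l
    omega
  have hy0 : ∀ i k l, k ≠ i → zi (β k l) (y i) = 0 := by
    intro i k l hki
    have := (h.t3 i l).unit (h.t3 k l) (h.col k i l hki) (t i l)
    have := hx1 l k
    omega
  have hz0 : ∀ i k j l, (i ≠ k ∨ j ≠ l) → zi (β k l) (z i j) = 0 := by
    intro i k j l hne
    by_cases hik : i = k
    · subst hik; exact hrow i j l (hne.resolve_left (fun h => h rfl))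
    have e := (t i j).zi_eq (h.t3 k l).virt
    rw [hy0 i k l (Ne.symm hik)] at e
    by_cases hjl : j = l
    · subst hjl
      rw [h.col k i j (Ne.symm hik), hx1 j k] at e
      omega
    · rw [h.orth k i l j (Ne.symm hik) (Ne.symm hjl), hx0 j k l (Ne.symm hjl)] at e
      omega
  refine ⟨x, y, z, t, fun j l hjl => ?_, fun i k hik => ?_, fun l i j => ?_, fun k i j => ?_,
    fun i k j l hne => ?_⟩
  · obtain ⟨i⟩ := ‹Nonempty I›
    exact (t i j).orth1 (sx l) (hx0 l i j hjl)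
  · obtain ⟨j, -⟩ := exists_pair_ne J
    exact (t i j).orth2 (sy k) (hy0 k i j hik)
  · by_cases hjl : j = l
    · subst hjl; exact (t i j).xz
    · exact (t i l).orth1 (t i j).sz (hz0 i i j l (Or.inr hjl))
  · by_cases hik : i = k
    · subst hik; exact (t i j).yz
    · exact (t k j).orth2 (t i j).sz (hz0 i k j j (Or.inl hik))
  · exact ci_eq_zero_symm ((t k l).orth3 (t i j).sz (hz0 i k j l hne))

theorem exists_ne_three {I : Type*} [Finite I] (h : 4 ≤ Nat.card I) (a b d : I) :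
    ∃ e, e ≠ a ∧ e ≠ b ∧ e ≠ d := by
  classical
  have := Fintype.ofFinite I
  by_contra hn
  push Not at hn
  have : (Finset.univ : Finset I) ⊆ {a, b, d} := by
    intro e _
    by_cases h1 : e = a
    · simp [h1]
    by_cases h2 : e = b
    · simp [h2]
    simp [hn e h1 h2]
  have h1 := Finset.card_le_card this
  have h2 := Finset.card_le_three (a := a) (b := b) (c := d)
  rw [Finset.card_univ, ← Nat.card_eq_fintype_card] at h1
  omega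

theorem exists_ne_three_of_ne {I : Type*} [Finite I] (h : Nat.card I ≠ 3) (a b d : I)
    (hab : a ≠ b) (had : a ≠ d) (hbd : b ≠ d) : ∃ e, e ≠ a ∧ e ≠ b ∧ e ≠ d := by
  classical
  have := Fintype.ofFinite I
  refine exists_ne_three ?_ a b d
  have h1 := Finset.card_le_card (Finset.subset_univ ({a, b, d} : Finset I))
  rw [Finset.card_univ, ← Nat.card_eq_fintype_card, Finset.card_eq_three.2 ⟨a, b, d, hab, had, hbd, rfl⟩] at h1
  omega

/-- Peterfalvi (3.5), abstract form. -/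
theorem GridHyp.exists_sol {I J : Type*} [Finite I] [Finite J] {c : ℂ} {β : I → J → G → ℂ}
    (h : GridHyp c β) (hI : 2 ≤ Nat.card I) (hJ : 2 ≤ Nat.card J) (hI3 : Nat.card I ≠ 3)
    (hJ3 : Nat.card J ≠ 3) (h4 : 4 ≤ Nat.card I ∨ 4 ≤ Nat.card J) :
    ∃ x y z, GridSol β x y z := by
  have : Nontrivial I := Finite.one_lt_card_iff_nontrivial.1 hI
  have : Nontrivial J := Finite.one_lt_card_iff_nontrivial.1 hJ
  rcases h4 with h4 | h4
  · exact h.exists_sol_aux (exists_ne_three h4) (exists_ne_three_of_ne hJ3)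
  · obtain ⟨y, x, z, hs⟩ := h.swap.exists_sol_aux (exists_ne_three h4) (exists_ne_three_of_ne hI3)
    exact ⟨x, y, _, hs.swap⟩

end Cfsg.Agent.PF
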