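import Cfsg.Agent.Char.Clifford
import Cfsg.Agent.PF.LinChar
import Cfsg.Agent.PF.Coset

/-!
# More on characters of normal subgroups: (1.2), (1.5)(e), (1.7)(c), Brauer's lemma for coprime
actions
-/

set_option autoImplicit false
set_option linter.unusedSectionVars false

namespace Cfsg.Agent.PF

open Cfsg Cfsg.Agent.Char Cfsg.Agent.GT
open scoped ComplexConjugate

universe u v

section cosets
variable {G : Type u} [Group G] [Finite G]

theorem _root_.Cfsg.IsIrrCharacter.sum_coset_eq_zero {χ : G → ℂ} (hχ : IsIrrCharacter G χ)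
    (N : Subgroup G) [hN : N.Normal] [Fintype N] (h : ∃ n ∈ N, χ n ≠ χ 1) (x : G) :
    ∑ n : N, χ (x * n) = 0 := by
  classical
  have := Fintype.ofFinite G
  have hf : IsClassFunction G (fun g => if g ∈ N then (1 : ℂ) else 0) := by
    intro g y
    simp only [hN.mem_comm_iff (a := y * g), inv_mul_cancel_left]
  have h1 := hχ.sum_class_mul hf x
  have h2 := hχ.sum_normal_eq_zero N h
  rw [sum_subgroup_eq_sum_ite N (fun g => χ g)] at h2
  simp only [ite_mul, one_mul, zero_mul] at h1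
  rw [h2, zero_mul, mul_eq_zero, or_iff_right hχ.apply_one_ne_zero] at h1
  rw [sum_subgroup_eq_sum_ite N (fun g => χ (x * g))]
  simpa only [hχ.isClassFunction.mul_comm x] using h1

/-- Peterfalvi (1.2) -/
theorem _root_.Cfsg.IsIrrCharacter.eq_zero_of_cent {χ : G → ℂ} (hχ : IsIrrCharacter G χ)
    (N : Subgroup G) [hN : N.Normal] (h : ∃ n ∈ N, χ n ≠ χ 1) {x : G}
    (hx : ∀ n ∈ N, n * x = x * n → n = 1) : χ x = 0 := by
  have := Fintype.ofFinite N
  let φ : N → N := fun n => ⟨x⁻¹ * n⁻¹ * x * n,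
    mul_mem (by simpa using hN.conj_mem _ (inv_mem n.2) x⁻¹) n.2⟩
  have hφ : Function.Injective φ := by
    intro n m hnm
    have e : x⁻¹ * n⁻¹ * x * n = x⁻¹ * m⁻¹ * x * m := congrArg Subtype.val hnm
    have := hx (m * (n : G)⁻¹) (mul_mem m.2 (inv_mem n.2)) (by
      simp only [InvMemClass.coe_inv] at e
      calc _ = m * x * (x⁻¹ * (n : G)⁻¹ * x * n) * (n : G)⁻¹ := by group
        _ = _ := by rw [e]; group)
    exact Subtype.ext (mul_inv_eq_one.1 this).symm
  have h1 := hχ.sum_coset_eq_zero N h x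
  rw [← (Finite.injective_iff_bijective.1 hφ).sum_comp (fun n : N => χ (x * n))] at h1
  have h2 : ∀ n : N, χ (x * φ n) = χ x := fun n => by
    rw [← hχ.isClassFunction.conj' x n]; congr 1
    simp only [φ, InvMemClass.coe_inv]; group
  simp only [h2, Finset.sum_const, Finset.card_univ, nsmul_eq_mul, mul_eq_zero] at h1
  exact h1.resolve_left (by exact_mod_cast Fintype.card_ne_zero)

theorem _root_.Cfsg.IsIrrCharacter.cosAvg_eq_zero {χ : G → ℂ} (hχ : IsIrrCharacter G χ)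
    (N : Subgroup G) [hN : N.Normal] (h : ∃ n ∈ N, χ n ≠ χ 1) (x : G) : cosAvg N χ x = 0 := by
  have := Fintype.ofFinite N
  rw [cosAvg_eq_sum, hχ.sum_coset_eq_zero N h, mul_zero]

theorem _root_.Cfsg.Agent.Char.IsSIrr.lin_mul {χ : G → ℂ} (hχ : IsSIrr G χ) (f : G →* ℂˣ) :
    IsSIrr G (lc f * χ) := by
  rcases hχ with h | h
  · exact Or.inl (h.unitsHom_mul f)
  · refine Or.inr ?_
    rw [← mul_neg]; exact h.unitsHom_mul f

/-- a virtual character vanishing off `1` is a multiple of the regular character -/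
theorem _root_.Cfsg.IsGeneralizedCharacter.exists_one_eq_mul_card {γ : G → ℂ}
    (hγ : IsGeneralizedCharacter G γ) (h : ∀ x, x ≠ 1 → γ x = 0) :
    ∃ n : ℤ, γ 1 = n * (Nat.card G : ℂ) := by
  have := Fintype.ofFinite G
  obtain ⟨n, hn⟩ := hγ.ci_int virt_one
  refine ⟨n, ?_⟩
  rw [ci_one_right, Finset.sum_eq_single 1 (fun x _ hx => h x hx) (by simp)] at hn
  rw [← hn]; have := card_ne_zero_complex G; field_simp

theorem sum_lin_apply [IsMulCommutative G] [Fintype (G →* ℂˣ)] (a : G) [Decidable (a = 1)] :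
    ∑ i : G →* ℂˣ, (i a : ℂ) = if a = 1 then (Nat.card G : ℂ) else 0 := by
  split_ifs with ha
  · simp only [ha, map_one, Units.val_one, Finset.sum_const, Finset.card_univ, nsmul_eq_mul, mul_one]
    rw [← Nat.card_eq_fintype_card, card_linChar]
  · obtain ⟨ω, -, hω⟩ := exists_Ann_apply_ne (N := ⊥) (w := a) (by simpa using ha)
    have h1 := Equiv.sum_comp (Equiv.mulLeft ω) (fun i : G →* ℂˣ => (i a : ℂ))
    simp only [Equiv.coe_mulLeft, MonoidHom.mul_apply, Units.val_mul, ← Finset.mul_sum] at h1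
    have h2 : ((ω a : ℂ) - 1) * ∑ i : G →* ℂˣ, (i a : ℂ) = 0 := by rw [sub_mul, h1, one_mul, sub_self]
    refine (mul_eq_zero.1 h2).resolve_left fun h => hω (Units.ext ?_)
    rw [sub_eq_zero.1 h, Units.val_one]

/-- Brauer's lemma for an automorphism acting fixed-point-freely on a quotient -/
theorem eq_one_of_regular_quotient (N : Subgroup G) [N.Normal] (a : G →* G)
    (ha : Function.Surjective a) (hN : ∀ n ∈ N, a n ∈ N) (hreg : ∀ y, a y * y⁻¹ ∈ N → y ∈ N)
    {θ : G → ℂ} (hθ : IsIrrCharacter G θ) (hk : ∀ n ∈ N, θ n = θ 1) (hfix : ∀ y, θ (a y) = θ y) :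
    θ = fun _ => 1 := by
  obtain ⟨ψ, hψ, rfl⟩ := hθ.exists_deflation (QuotientGroup.mk' N) (QuotientGroup.mk'_surjective N)
    (fun g hg => hk g ((QuotientGroup.eq_one_iff g).1 hg))
  let b : G ⧸ N →* G ⧸ N := QuotientGroup.map N N a hN
  have hb : Function.Surjective b := by
    intro q
    obtain ⟨y, rfl⟩ := QuotientGroup.mk_surjective q
    obtain ⟨z, rfl⟩ := ha y
    exact ⟨z, rfl⟩
  have hreg' : ∀ q, b q = q → q = 1 := by
    intro q hq
    obtain ⟨y, rfl⟩ := QuotientGroup.mk_surjective q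
    refine (QuotientGroup.eq_one_iff y).2 (hreg y ((QuotientGroup.eq_one_iff _).1 ?_))
    rw [QuotientGroup.mk_mul, QuotientGroup.mk_inv, mul_inv_eq_one]; exact hq
  have hsurj : Function.Surjective (fun u => u⁻¹ * b u) := by
    refine Finite.injective_iff_surjective.1 fun u v huv => ?_
    have := hreg' (v * u⁻¹) (by
      have e : u⁻¹ * b u = v⁻¹ * b v := huv
      rw [map_mul, map_inv]
      calc b v * (b u)⁻¹ = v * (v⁻¹ * b v) * (b u)⁻¹ := by group
        _ = _ := by rw [← e]; group)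
    exact (mul_inv_eq_one.1 this).symm
  have := eq_one_of_brauer b (fun χ hχ => hχ.comp_surjective b hb) (fun q hq => by
    obtain ⟨c, hc⟩ := isConj_iff.1 hq
    obtain ⟨u, rfl⟩ := hsurj c
    have := hreg' (u * q * u⁻¹) (by
      rw [map_mul, map_mul, map_inv]
      calc b u * b q * (b u)⁻¹ = u * (u⁻¹ * b u * b q * (u⁻¹ * b u)⁻¹) * u⁻¹ := by group
        _ = _ := by rw [hc])
    simpa using this) hψ (by
      funext q
      obtain ⟨y, rfl⟩ := QuotientGroup.mk_surjective q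
      exact hfix y)
  rw [this]

/-- converse of `eq_one_of_brauer` -/
theorem exists_ne_one_of_brauer (π : G → G)
    (hπ : ∀ χ, IsIrrCharacter G χ → IsIrrCharacter G (fun g => χ (π g))) (h1 : π 1 = 1)
    (hc : ∀ g h, IsConj g h → IsConj (π g) (π h)) {g : G} (hg : g ≠ 1) (hP : IsConj (π g) g) :
    ∃ χ, IsIrrCharacter G χ ∧ χ ≠ (fun _ => 1) ∧ (fun g => χ (π g)) = χ := by
  have hb := brauer_permutation π hπ (fun C => ∃ g, ConjClasses.mk g = C ∧ IsConj (π g) g)
    (fun g => ⟨fun ⟨h, e, hh⟩ => by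
      have e' := ConjClasses.mk_eq_mk_iff_isConj.1 e
      exact ((hc _ _ e').symm.trans hh).trans e', fun h => ⟨g, rfl, h⟩⟩)
  by_contra hn
  push Not at hn
  have := finite_irrCharacter (G := G)
  have hs : Subsingleton {χ : IrrCharacter G // (fun g => χ.1 (π g)) = χ.1} := ⟨fun a b => by
    have ha : a.1.1 = fun _ => 1 := by_contra fun h => hn _ a.1.2 h a.2
    have hb : b.1.1 = fun _ => 1 := by_contra fun h => hn _ b.1.2 h b.2
    exact Subtype.ext (Subtype.ext (ha.trans hb.symm))⟩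
  have h2 := Finite.card_le_one_iff_subsingleton.2 hs
  rw [hb, Finite.card_le_one_iff_subsingleton] at h2
  have := h2.elim ⟨ConjClasses.mk g, g, rfl, hP⟩ ⟨ConjClasses.mk 1, 1, rfl, by rw [h1]⟩
  exact hg (isConj_one_left.1 (ConjClasses.mk_eq_mk_iff_isConj.1 (congrArg Subtype.val this)))

end cosets

end Cfsg.Agent.PF

namespace Cfsg.Agent.Char.NormalEmb

open Cfsg Cfsg.Agent.PF Cfsg.Agent.GT

universe u v

variable {G : Type u} [Group G] {H : Type v} [Group H] (E : NormalEmb H G)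

theorem act_eq_iff {g : G} {h : H} : E.act g h = h ↔ g * E.f h = E.f h * g := by
  rw [← E.inj.eq_iff, E.map_act, mul_inv_eq_iff_eq_mul]

include E in
theorem card_dvd [Finite H] : Nat.card H ∣ Nat.card G :=
  E.card_range ▸ Subgroup.card_subgroup_dvd_card _

theorem card_div_card [Finite G] [Finite H] :
    (Nat.card G : ℂ) / Nat.card H = E.f.range.index := by
  have := card_ne_zero_complex H
  rw [← E.f.range.card_mul_index, E.card_range]; push_cast; field_simp

variable [Finite G]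

/-- a class invariant under a coprime automorphism contains a fixed point -/
theorem exists_fixed_of_isConj {g : G} (hcop : Nat.Coprime (orderOf g) (Nat.card H)) {h : H}
    (hh : IsConj (E.act g h) h) : ∃ d, IsConj d h ∧ E.act g d = d := by
  have : Finite H := Finite.of_injective _ E.inj
  have := E.range_normal
  obtain ⟨c, hc⟩ := isConj_iff.1 hh
  obtain ⟨_, ⟨x, rfl⟩, _, ⟨c', rfl⟩, h1, h2⟩ := exists_conj_mul_eq_cent_mul (K := E.f.range) (g := g)
    (Subgroup.normalizer_eq_top E.f.range ▸ Subgroup.mem_top g) (E.card_range ▸ hcop) ⟨c, rfl⟩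
  refine ⟨x * h * x⁻¹, (isConj_iff.2 ⟨x, rfl⟩).symm, E.act_eq_iff.2 ?_⟩
  obtain ⟨k, hk1, hk2⟩ := exists_crt_pow hcop.symm
  have h3 := mul_pow_eq_of_crt h1.symm dvd_rfl
    ((orderOf_injective E.f E.inj c').dvd.trans (orderOf_dvd_natCard c')) hk2 hk1
  have h4 : Commute (g * E.f c') (E.f (x * h * x⁻¹)) := by
    have e := congrArg E.f hc
    rw [map_mul, map_mul, E.map_act, map_inv] at e
    change _ = _
    rw [← h1, ← h2, map_mul, map_mul, map_inv]
    calc _ = E.f x * (E.f c * (g * E.f h * g⁻¹) * (E.f c)⁻¹) * E.f c * g * (E.f x)⁻¹ := by group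
      _ = _ := by rw [e]; group
  rw [← h3]; exact h4.pow_left k

theorem card_fixed_classes_le {g : G} (hcop : Nat.Coprime (orderOf g) (Nat.card H)) :
    Nat.card {C : ConjClasses H // ConjClasses.map (E.act g).toMonoidHom C = C} ≤
      Nat.card {h : H // E.act g h = h} := by
  have : Finite H := Finite.of_injective _ E.inj
  refine Nat.card_le_card_of_surjective (fun h => ⟨ConjClasses.mk h.1, congrArg ConjClasses.mk h.2⟩) ?_
  rintro ⟨C, hC⟩
  obtain ⟨h, rfl⟩ := ConjClasses.mk_surjective C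
  obtain ⟨d, hd, hd'⟩ := E.exists_fixed_of_isConj hcop (ConjClasses.mk_eq_mk_iff_isConj.1 hC)
  exact ⟨⟨d, hd'⟩, Subtype.ext (ConjClasses.mk_eq_mk_iff_isConj.2 hd)⟩

theorem card_fixed_irr_le {g : G} (hcop : Nat.Coprime (orderOf g) (Nat.card H)) :
    Nat.card {χ : IrrCharacter H // E.cj χ.1 g = χ.1} ≤ Nat.card {h : H // E.act g h = h} := by
  have : Finite H := Finite.of_injective _ E.inj
  refine le_trans (le_of_eq ?_) (E.card_fixed_classes_le hcop)
  exact brauer_permutation (E.act g) (fun χ hχ => E.isIrr_cj hχ g) _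
    (fun h => ConjClasses.mk_eq_mk_iff_isConj)

theorem eq_one_of_fixed {g : G} (hcop : Nat.Coprime (orderOf g) (Nat.card H))
    (hreg : ∀ h, E.act g h = h → h = 1) {θ : H → ℂ} (hθ : IsIrrCharacter H θ)
    (hfix : E.cj θ g = θ) : θ = fun _ => 1 := by
  have : Finite H := Finite.of_injective _ E.inj
  refine eq_one_of_brauer (E.act g) (fun χ hχ => E.isIrr_cj hχ g) (fun h hh => ?_) hθ hfix
  obtain ⟨d, hd, hd'⟩ := E.exists_fixed_of_isConj hcop hh
  rw [hreg d hd'] at hd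
  exact isConj_one_right.1 hd

theorem exists_fixed_irr {g : G} {h : H} (hh : h ≠ 1) (hc : IsConj (E.act g h) h) :
    ∃ θ, IsIrrCharacter H θ ∧ θ ≠ (fun _ => 1) ∧ E.cj θ g = θ :=
  have : Finite H := Finite.of_injective _ E.inj
  exists_ne_one_of_brauer (E.act g) (fun _ hχ => E.isIrr_cj hχ g) (map_one _)
    (fun _ _ h => (E.act g).toMonoidHom.map_isConj h) hh hc

theorem card_orbit (θ : H → ℂ) : Nat.card (Set.range (E.cj θ)) = (E.inertia θ).index := by
  classical
  have := Fintype.ofFinite G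
  have h1 := Finset.card_eq_sum_card_fiberwise (s := Finset.univ)
    (t := Finset.univ.image (E.cj θ)) (f := E.cj θ)
    (fun x _ => Finset.mem_image_of_mem _ (Finset.mem_univ x))
  rw [Finset.sum_congr rfl (g := fun _ => Nat.card (E.inertia θ)) (fun ψ hψ => by
    obtain ⟨y, -, rfl⟩ := Finset.mem_image.1 hψ
    rw [← E.card_cj_eq θ y, Nat.card_eq_fintype_card, Fintype.card_subtype]), Finset.sum_const,
    Finset.card_univ, ← Nat.card_eq_fintype_card, ← (E.inertia θ).index_mul_card, smul_eq_mul] at h1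
  rw [Nat.eq_of_mul_eq_mul_right Nat.card_pos h1, ← Nat.card_eq_finsetCard]
  exact Nat.card_congr (Equiv.subtypeEquivRight fun ψ => by simp)

end Cfsg.Agent.Char.NormalEmb

namespace Cfsg.Agent.Char.NormalEmb

open Cfsg Cfsg.Agent.PF Cfsg.Agent.GT

universe u v

variable {G : Type u} [Group G] {H : Type v} [Group H] (E : NormalEmb H G)
  [Fintype G] [Fintype H]

/-- Peterfalvi (1.5)(e) -/
theorem conjFun_ind_ne (hodd : Odd (Nat.card G)) {θ : H → ℂ} (hθ : IsIrrCharacter H θ)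
    (hne : θ ≠ fun _ => 1) : conjFun (ind E.f θ) ≠ ind E.f θ := by
  intro h
  rw [conjFun_ind] at h
  obtain ⟨y, hy⟩ := E.exists_cj_of_ind_eq hθ hθ.conjFun h
  have h2 : y * y ∈ E.inertia θ := by
    rw [E.mem_inertia, E.cj_mul, ← hy, ← E.conjFun_cj, ← hy, conjFun_conjFun]
  obtain ⟨k, hk⟩ := hodd.of_dvd_nat (orderOf_dvd_natCard y)
  have h3 : y ∈ E.inertia θ := by
    have : y = (y * y) ^ (k + 1) := by
      rw [← sq, ← pow_mul, show 2 * (k + 1) = orderOf y + 1 by omega, pow_succ, pow_orderOf_eq_one,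
        one_mul]
    rw [this]; exact pow_mem h2 _
  rw [E.mem_inertia.1 h3] at hy
  exact hne (hθ.eq_one_of_odd_of_real (hodd.of_dvd_nat E.card_dvd) hy)

theorem ci_conjFun_ind (hodd : Odd (Nat.card G)) {θ : H → ℂ} (hθ : IsIrrCharacter H θ)
    (hne : θ ≠ fun _ => 1) : ⟪conjFun (ind E.f θ), ind E.f θ⟫ = 0 := by
  have := E.conjFun_ind_ne hodd hθ hne
  rw [conjFun_ind] at this ⊢
  exact (E.ind_eq_or_ci_eq_zero hθ hθ.conjFun).resolve_left this

theorem nsq_ind {θ : H → ℂ} (hθ : IsIrrCharacter H θ) :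
    nsq (ind E.f θ) = E.f.range.relIndex (E.inertia θ) := by
  refine nsq_eq_of_ci ?_
  rw [E.ci_ind_ind_self hθ, ← card_mul_relIndex (E.range_le_inertia hθ.isClassFunction),
    E.card_range]
  have := card_ne_zero_complex H
  push_cast; field_simp

theorem ind_apply_one' (θ : H → ℂ) : ind E.f θ 1 = E.f.range.index * θ 1 := by
  rw [ind_apply_one E.inj, E.card_div_card]

/-- `∑ φ(1)/‖φ‖² φ` over the characters induced from an invariant set -/
theorem sum_ind_image [DecidableEq (G → ℂ)] (X : Finset (H → ℂ)) (hX : ∀ θ ∈ X, IsIrrCharacter H θ)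
    (hc : ∀ θ ∈ X, ∀ g, E.cj θ g ∈ X) :
    ∑ φ ∈ X.image (ind E.f), (φ 1 / (nsq φ : ℂ)) • φ = ind E.f (∑ θ ∈ X, θ 1 • θ) := by
  classical
  rw [ind_sum, ← Finset.sum_fiberwise_of_maps_to (s := X) (t := X.image (ind E.f)) (g := ind E.f)
    (fun x hx => Finset.mem_image_of_mem _ hx)]
  refine Finset.sum_congr rfl fun φ hφ => ?_
  obtain ⟨θ, hθ, rfl⟩ := Finset.mem_image.1 hφ
  have hmem : ∀ θ', θ' ∈ X.filter (fun θ' => ind E.f θ' = ind E.f θ) ↔ θ' ∈ Set.range (E.cj θ) := by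
    intro θ'
    rw [Finset.mem_filter]
    refine ⟨fun h => ?_, ?_⟩
    · obtain ⟨y, hy⟩ := E.exists_cj_of_ind_eq (hX θ hθ) (hX θ' h.1) h.2
      exact ⟨y, hy.symm⟩
    · rintro ⟨y, rfl⟩; exact ⟨hc θ hθ y, E.ind_cj θ y⟩
  rw [Finset.sum_congr rfl (g := fun _ => θ 1 • ind E.f θ) (fun θ' h => by
    obtain ⟨y, rfl⟩ := (hmem θ').1 h
    rw [ind_smul, E.ind_cj, E.cj_apply_one]), Finset.sum_const, ← Nat.cast_smul_eq_nsmul ℂ, smul_smul,
    ← Nat.card_eq_finsetCard, Nat.card_congr (Equiv.subtypeEquivRight hmem), E.card_orbit,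
    E.nsq_ind (hX θ hθ), E.ind_apply_one',
    ← Subgroup.relIndex_mul_index (E.range_le_inertia (hX θ hθ).isClassFunction)]
  congr 1
  have : (E.f.range.relIndex (E.inertia θ) : ℂ) ≠ 0 := by
    exact_mod_cast Subgroup.FiniteIndex.index_ne_zero
  push_cast; field_simp

/-- counting the characters induced irreducibly from an invariant set -/
theorem card_eq_mul_card_image [DecidableEq (G → ℂ)] (X : Finset (H → ℂ))
    (hX : ∀ θ ∈ X, IsIrrCharacter H θ) (hI : ∀ θ ∈ X, IsIrrCharacter G (ind E.f θ))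
    (hc : ∀ θ ∈ X, ∀ g, E.cj θ g ∈ X) : X.card = E.f.range.index * (X.image (ind E.f)).card := by
  classical
  rw [Finset.card_eq_sum_card_fiberwise (s := X) (t := X.image (ind E.f)) (f := ind E.f)
    (fun x hx => Finset.mem_image_of_mem _ hx), mul_comm, ← smul_eq_mul, ← Finset.sum_const]
  refine Finset.sum_congr rfl fun φ hφ => ?_
  obtain ⟨θ, hθ, rfl⟩ := Finset.mem_image.1 hφ
  have hmem : ∀ θ', θ' ∈ X.filter (fun θ' => ind E.f θ' = ind E.f θ) ↔ θ' ∈ Set.range (E.cj θ) := by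
    intro θ'
    rw [Finset.mem_filter]
    refine ⟨fun h => ?_, ?_⟩
    · obtain ⟨y, hy⟩ := E.exists_cj_of_ind_eq (hX θ hθ) (hX θ' h.1) h.2
      exact ⟨y, hy.symm⟩
    · rintro ⟨y, rfl⟩; exact ⟨hc θ hθ y, E.ind_cj θ y⟩
  rw [← Nat.card_eq_finsetCard, Nat.card_congr (Equiv.subtypeEquivRight hmem), E.card_orbit,
    E.inertia_eq_of_isIrr_ind (hX θ hθ) (hI θ hθ)]

end Cfsg.Agent.Char.NormalEmb

namespace Cfsg.Agent.PF

open Cfsg Cfsg.Agent.Char Cfsg.Agent.GT

universe u v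

section extension
variable {T : Type u} [Group T] [Finite T]

theorem exists_prime_step (A M : Subgroup T) (h : ¬ A ≤ M) :
    ∃ a ∈ A, a ∉ M ∧ ∃ p k : ℕ, p.Prime ∧ p ∣ Nat.card A ∧ a ^ p ^ k = 1 ∧ a ^ p ∈ M := by
  classical
  have hex : ∃ n, ∃ a ∈ A, a ∉ M ∧ orderOf a = n := by
    obtain ⟨a, ha, ha'⟩ := SetLike.not_le_iff_exists.1 h
    exact ⟨_, a, ha, ha', rfl⟩
  obtain ⟨a, ha, ha', hn⟩ := Nat.find_spec hex
  have hmin : ∀ b ∈ A, orderOf b < orderOf a → b ∈ M := fun b hb hlt => by_contra fun hb' =>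
    Nat.find_min hex (hn ▸ hlt) ⟨b, hb, hb', rfl⟩
  obtain ⟨p, hp, hpd, hpm⟩ : ∃ p, p.Prime ∧ p ∣ orderOf a ∧ constt {p} a ∉ M := by
    by_contra hc; push Not at hc
    exact ha' (mem_of_forall_constt_mem hc)
  have h1 : orderOf (constt {p} a) = orderOf a :=
    le_antisymm (Nat.le_of_dvd (orderOf_pos a) (orderOf_dvd_of_mem_zpowers (constt_mem_zpowers _ _)))
      (not_lt.1 fun hlt => hpm (hmin _ (constt_mem _ ha) hlt))
  have h2 := piNat_constt {p} a
  rw [h1] at h2
  have h3 := Nat.eq_prime_pow_of_unique_prime_dvd (orderOf_pos a).ne' (p := p)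
    (fun {d} hd hda => h2 d hd hda)
  refine ⟨a, ha, ha', p, _, hp, hpd.trans (A.orderOf_dvd_natCard ha),
    by rw [← h3, pow_orderOf_eq_one], hmin _ (pow_mem ha p) ?_⟩
  rw [orderOf_pow_of_dvd hp.ne_zero hpd]
  exact Nat.div_lt_self (orderOf_pos a) hp.one_lt

/-- an invariant irreducible character of degree prime to the order of an abelian supplement
extends -/
theorem exists_extension_of_abelian (A : Subgroup T) (hA : ∀ a ∈ A, ∀ b ∈ A, a * b = b * a)
    (d : ℕ) (hd : d.Coprime (Nat.card A)) (n : ℕ) :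
    ∀ (M : Subgroup T) [M.Normal], M.index = n → M ⊔ A = ⊤ → ∀ θ : M → ℂ, IsIrrCharacter M θ →
      θ 1 = d → (∀ g, (NormalEmb.ofNormal M).cj θ g = θ) →
      ∃ η : T → ℂ, IsIrrCharacter T η ∧ ∀ m : M, η m = θ m := by
  induction n using Nat.strong_induction_on with
  | _ n ih =>
  intro M hM hn hsup θ hθ h1 hinv
  have := Fintype.ofFinite T
  have hmul : ∀ t : T, ∃ m ∈ M, ∃ a ∈ A, t = m * a := fun t =>
    (mem_sup_of_le_norm' le_norm_of_normal).1 (hsup ▸ Subgroup.mem_top t)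
  by_cases hAM : A ≤ M
  · have hM : M = ⊤ := by rwa [sup_eq_left.2 hAM] at hsup
    subst hM
    exact ⟨fun t => θ (Subgroup.topEquiv.symm t), hθ.comp_equiv _, fun m => rfl⟩
  obtain ⟨a, haA, haM, p, k, hp, hpA, hak, hap⟩ := exists_prime_step A M hAM
  have hcomm : ∀ x y : T, x * y * x⁻¹ * y⁻¹ ∈ M := by
    intro x y
    rw [← QuotientGroup.eq_one_iff]
    obtain ⟨m, hm, b, hb, rfl⟩ := hmul x
    obtain ⟨m', hm', b', hb', rfl⟩ := hmul y
    simp only [QuotientGroup.mk_mul, QuotientGroup.mk_inv, (QuotientGroup.eq_one_iff _).2 hm,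
      (QuotientGroup.eq_one_iff _).2 hm', one_mul]
    rw [← QuotientGroup.mk_mul, hA b hb b' hb', QuotientGroup.mk_mul]; group
  set M' := M ⊔ Subgroup.zpowers a with hM'
  have hle : M ≤ M' := le_sup_left
  have haM' : a ∈ M' := Subgroup.mem_sup_right (Subgroup.mem_zpowers a)
  have hM'n : M'.Normal := ⟨fun x hx g => by
    rw [show g * x * g⁻¹ = g * x * g⁻¹ * x⁻¹ * x by group]
    exact mul_mem (hle (hcomm g x)) hx⟩
  have hidx : M.relIndex M' = p := by
    have := Fact.mk hp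
    rw [hM', Subgroup.relIndex_sup_left]
    conv_lhs => rw [← QuotientGroup.ker_mk' M]
    rw [Subgroup.relIndex_ker, MonoidHom.map_zpowers, Nat.card_zpowers]
    refine orderOf_eq_prime ?_ fun h => haM ((QuotientGroup.eq_one_iff a).1 h)
    rw [← map_pow]; exact (QuotientGroup.eq_one_iff _).2 hap
  have := Fintype.ofFinite M
  have := Fintype.ofFinite M'
  let E := NormalEmb.ofLe M M' hle
  have hab : ∀ x y : M', x * y * x⁻¹ * y⁻¹ ∈ E.f.range := fun x y => ⟨⟨_, hcomm x y⟩, rfl⟩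
  obtain ⟨e, C, he, hC, hres, -, hcard⟩ := E.ind_eq_of_abelian hθ (fun t => hinv t) hab
  rw [← card_mul_relIndex hle, hidx, mul_comm (Nat.card M)] at hcard
  have hcard' := Nat.eq_of_mul_eq_mul_right Nat.card_pos hcard
  have he1 : e = 1 := by
    have := hp.squarefree e ⟨C.card, by rw [← hcard', sq]⟩
    simpa using this
  have hCne : C.Nonempty := Finset.card_pos.1 (Nat.pos_of_ne_zero fun h0 => by
    rw [h0, mul_zero] at hcard'; exact hp.ne_zero hcard'.symm)
  obtain ⟨θ', hθ'⟩ := hCne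
  have hr : ∀ m : M, θ' (E.f m) = θ m := fun m => by
    have := congrFun (hres θ' hθ') m
    simpa [he1] using this
  obtain ⟨iθ', cθ'⟩ := (hC θ').1 hθ'
  have h1' : θ' 1 = d := by rw [← h1, ← hr 1, map_one]
  have hne : θ' ⟨a, haM'⟩ ≠ 0 := by
    intro h0
    have := iθ'.isCharacter.prime_dvd_degree_sub hp (g := ⟨a, haM'⟩) (k := k)
      (Subtype.ext hak) (d := d) (n := 0) (by simpa using h1') (by simpa using h0)
    rw [sub_zero, Int.natCast_dvd_natCast] at this
    exact hp.one_lt.ne' (Nat.eq_one_of_dvd_coprimes hd this hpA)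
  let E' := NormalEmb.ofNormal M'
  have hinv' : ∀ g, E'.cj θ' g = θ' := by
    intro g
    obtain ⟨m, hm, b, hb, rfl⟩ := hmul g
    rw [E'.cj_mul, show m = E'.f ⟨m, hle hm⟩ from rfl, E'.cj_f iθ'.isClassFunction]
    have hr' : (fun h : M => E'.cj θ' b (E.f h)) = fun h => θ' (E.f h) := by
      funext h
      rw [hr, ← congrFun (hinv b) h, NormalEmb.cj_apply, NormalEmb.cj_apply, ← hr]; rfl
    obtain ⟨l, hl, hl'⟩ := E.exists_linear_of_abelian hθ (fun t => hinv t) hab iθ'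
      (E'.isIrr_cj iθ' b) cθ' (by rw [hr']; exact cθ')
    have hla : l ⟨a, haM'⟩ = 1 := by
      have e1 := congrFun hl' ⟨a, haM'⟩
      have e2 : E'.act b ⟨a, haM'⟩ = ⟨a, haM'⟩ := E'.act_eq_iff.2 (hA b hb a haA)
      rw [NormalEmb.cj_apply, e2] at e1
      exact Units.ext (mul_right_cancel₀ hne (by rw [← e1, Units.val_one, one_mul]))
    have hl1 : ∀ x, l x = 1 := by
      rintro ⟨x, hx⟩
      obtain ⟨m, hm, _, ⟨z, rfl⟩, rfl⟩ := (mem_sup_of_le_norm' le_norm_of_normal).1 hx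
      rw [show (⟨m * a ^ z, hx⟩ : M') = E.f ⟨m, hm⟩ * ⟨a, haM'⟩ ^ z from rfl, map_mul, map_zpow, hl,
        hla, one_zpow, one_mul]
    rw [hl']; funext x; rw [hl1, Units.val_one, one_mul]
  have hlt : M'.index < n := by
    rw [← hn, ← Subgroup.relIndex_mul_index hle, hidx]
    have := Nat.pos_of_ne_zero (Subgroup.FiniteIndex.index_ne_zero (H := M'))
    nlinarith [hp.one_lt]
  obtain ⟨η, hη, hη'⟩ := ih _ hlt M' rfl (eq_top_iff.2 (hsup ▸ sup_le_sup_right hle A)) θ' iθ' h1'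
    hinv'
  exact ⟨η, hη, fun m => (hη' (E.f m)).trans (hr m)⟩

/-- Gallagher-type extension theorem for an abelian coprime quotient -/
theorem exists_extension_of_coprime (M : Subgroup T) [M.Normal]
    (hab : ∀ x y : T, x * y * x⁻¹ * y⁻¹ ∈ M) (hc : (Nat.card M).Coprime M.index) {θ : M → ℂ}
    (hθ : IsIrrCharacter M θ) (hinv : ∀ g, (NormalEmb.ofNormal M).cj θ g = θ) :
    ∃ η : T → ℂ, IsIrrCharacter T η ∧ ∀ m : M, η m = θ m := by
  obtain ⟨A, hA⟩ := Subgroup.exists_right_complement'_of_coprime hc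
  obtain ⟨d, -, hd⟩ := hθ.exists_degree
  refine exists_extension_of_abelian A (fun a ha b hb => ?_) d ?_ _ M rfl hA.sup_eq_top θ hθ hd hinv
  · have : a * b * a⁻¹ * b⁻¹ ∈ M ⊓ A :=
      ⟨hab a b, A.mul_mem (A.mul_mem (A.mul_mem ha hb) (A.inv_mem ha)) (A.inv_mem hb)⟩
    rw [hA.disjoint.eq_bot, Subgroup.mem_bot] at this
    calc a * b = (a * b * a⁻¹ * b⁻¹) * b * a := by group
      _ = _ := by rw [this, one_mul]
  · rw [← hA.symm.index_eq_card]
    exact hc.coprime_dvd_left (hθ.degree_dvd_card hd)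

end extension

/-- Peterfalvi (1.7)(c) -/
theorem exists_indFun_eq_sum_of_coprime {G : Type u} [Group G] [Fintype G] (H T : Subgroup G)
    [hN : H.Normal] {θ : H → ℂ} (hθ : IsIrrCharacter H θ)
    (hT' : T = (NormalEmb.ofNormal H).inertia θ) (hab : ∀ x ∈ T, ∀ y ∈ T, x * y * x⁻¹ * y⁻¹ ∈ H)
    (hcop : Nat.Coprime (Nat.card H) (H.relIndex T)) :
    ∃ C : Finset (G → ℂ), (∀ χ ∈ C, IsIrrCharacter G χ) ∧ C.card = H.relIndex T ∧
      indFun H θ = ∑ χ ∈ C, χ ∧ ∀ χ ∈ C, χ 1 = (T.index : ℂ) * θ 1 := by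
  classical
  have := Fintype.ofFinite H
  have := Fintype.ofFinite T
  have hHT : H ≤ T := by
    rw [hT']
    exact (ofNormal_range H).ge.trans ((NormalEmb.ofNormal H).range_le_inertia hθ.isClassFunction)
  let E := NormalEmb.ofLe H T hHT
  obtain ⟨e, C, he, hC, hres, hind, hcard⟩ := E.ind_eq_of_abelian hθ (fun t => hT'.le t.2)
    (fun x y => ⟨⟨_, hab x x.2 y y.2⟩, rfl⟩)
  obtain ⟨η, hη, hη'⟩ := exists_extension_of_coprime (H.subgroupOf T)
    (fun x y => hab x x.2 y y.2) (by rwa [card_subgroupOf hHT])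
    (hθ.comp_equiv (Subgroup.subgroupOfEquivOfLe hHT))
    (fun t => funext fun x => congrFun (hT'.le t.2) (Subgroup.subgroupOfEquivOfLe hHT x))
  have hr : (fun h => η (E.f h)) = θ := funext fun h => hη' ⟨E.f h, h.2⟩
  have he1 : e = 1 := by
    have h1 := hres η ((hC η).2 ⟨hη, by rw [hr, hθ.ci_self]; exact one_ne_zero⟩)
    rw [hr] at h1
    have h2 := congrFun h1 1
    rw [Pi.smul_apply, smul_eq_mul] at h2
    exact_mod_cast (mul_right_cancel₀ hθ.apply_one_ne_zero (h2.symm.trans (one_mul _).symm))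
  subst he1
  have hinj : Set.InjOn (indFun T) (C : Set (T → ℂ)) := fun ψ hψ ψ' hψ' h =>
    clifford_correspondence_inj H hθ T hT' hHT ((hC ψ).1 hψ).1 ((hC ψ').1 hψ').1 ((hC ψ).1 hψ).2
      ((hC ψ').1 hψ').2 h
  refine ⟨C.image (indFun T), ?_, ?_, ?_, ?_⟩
  · intro χ hχ
    obtain ⟨ψ, hψ, rfl⟩ := Finset.mem_image.1 hχ
    exact (clifford_correspondence H hθ T hT' hHT ((hC ψ).1 hψ).1 ((hC ψ).1 hψ).2).1
  · rw [Finset.card_image_of_injOn hinj]
    rw [← card_mul_relIndex hHT, one_pow, one_mul, mul_comm] at hcard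
    exact Nat.eq_of_mul_eq_mul_left Nat.card_pos hcard
  · rw [Nat.cast_one, one_smul] at hind
    rw [Finset.sum_image hinj, ← indFun_sum, ← hind, ← indFun_ind_inclusion H hHT]
    rfl
  · intro χ hχ
    obtain ⟨ψ, hψ, rfl⟩ := Finset.mem_image.1 hχ
    have := congrFun (hres ψ hψ) 1
    simp only [map_one, Pi.smul_apply, smul_eq_mul, Nat.cast_one, one_mul] at this
    rw [indFun_apply_one, this]

end Cfsg.Agent.PF
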