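import Cfsg.Agent.PF.Defs
import Cfsg.Agent.PF.Normal

set_option autoImplicit false
set_option linter.unusedSectionVars false
set_option linter.unusedVariables false

namespace Cfsg.Agent.PF

open Subgroup Cfsg.Agent.GT Cfsg.Agent.BG Cfsg.Agent.Char

universe u v w

/-! Peterfalvi §1 and the lemmas on `seqInd` of §5, in ambient style. -/

variable {G : Type u} [Group G] [Fintype G] {L K H M N W₁ W₂ : Subgroup G} {A A₀ : Set G}
  {R : G → Subgroup G} {S S₁ : Set (L → ℂ)} {φ ψ χ ζ : L → ℂ} {θ : K → ℂ}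

/-- the projection of a semidirect product onto the complement -/
theorem _root_.Cfsg.Agent.GT.Sdprod.exists_proj (h : Sdprod K H L) :
    ∃ π : L →* H, (∀ x : L, π x = 1 ↔ (x : G) ∈ K) ∧ ∀ c : H, π (inclusion h.right_le c) = c := by
  have := normal_subgroupOf h.norm
  let f : H →* L ⧸ K.subgroupOf L := (QuotientGroup.mk' _).comp (inclusion h.right_le)
  have hf : Function.Bijective f := by
    refine ⟨(injective_iff_map_eq_one f).2 fun c hc => ?_, fun q => ?_⟩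
    · have h1 : (c : G) ∈ K ⊓ H := ⟨(QuotientGroup.eq_one_iff (N := K.subgroupOf L) _).1 hc, c.2⟩
      rw [h.inf_eq, mem_bot] at h1; exact Subtype.ext h1
    · obtain ⟨x, rfl⟩ := QuotientGroup.mk_surjective q
      obtain ⟨b, hb, a, ha, e⟩ := h.exists_mul' x.2
      refine ⟨⟨b, hb⟩, QuotientGroup.eq.2 ?_⟩
      change b⁻¹ * (x : G) ∈ K
      rw [e, inv_mul_cancel_left]; exact ha
  refine ⟨(MulEquiv.ofBijective f hf).symm.toMonoidHom.comp (QuotientGroup.mk' _), fun x => ?_,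
    fun c => (MulEquiv.ofBijective f hf).symm_apply_apply c⟩
  simp [mem_subgroupOf]

/-! ### Clifford theory, §1 -/

theorem IsIrrCharacter_cConj (hθ : IsIrrCharacter K θ) {y : G} (hy : y ∈ N[K]) :
    IsIrrCharacter K (cConj θ y) := by
  have := (nEmb (K := K) le_normalizer le_rfl).isIrr_cj hθ ⟨y, hy⟩
  rwa [nEmb_cj] at this

theorem cConj_of_mem (hθ : IsClassFunction K θ) {y : G} (hy : y ∈ K) : cConj θ y = θ := by
  funext x; rw [cConj_apply θ (le_normalizer hy)]; exact hθ x ⟨y, hy⟩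

theorem cConj_const (c : ℂ) {y : G} (hy : y ∈ N[K]) : cConj (fun _ : K => c) y = fun _ => c := by
  funext x; rw [cConj_apply _ hy]

theorem cConj_cRes (h : K ≤ L) (hn : L ≤ N[K]) (hχ : IsClassFunction L χ) {y : G} (hy : y ∈ L) :
    cConj (cRes K χ) y = cRes K χ := by
  rw [cRes_eq h, ← nEmb_cj h hn _ ⟨y, hy⟩]; exact (nEmb h hn).cj_res hχ _

theorem conjFun_cConj (θ : K → ℂ) {y : G} (hy : y ∈ N[K]) :
    conjFun (cConj θ y) = cConj (conjFun θ) y := by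
  funext x; simp only [conjFun_apply, cConj_apply _ hy]

theorem le_cInertia (h : K ≤ L) (hθ : IsClassFunction K θ) : K ≤ cInertia L θ := fun y hy =>
  mem_cInertia.2 ⟨h hy, le_normalizer hy, cConj_of_mem hθ hy⟩

theorem nEmb_index (h : K ≤ L) (hn : L ≤ N[K]) : (nEmb h hn).f.range.index = K.relIndex L := by
  rw [nEmb_range]; rfl

/-- (1.5)(b) -/
theorem nsq_cInd_irr (h : K ≤ L) (hn : L ≤ N[K]) (hθ : IsIrrCharacter K θ) :
    nsq (cInd L θ) = K.relIndex (cInertia L θ) := by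
  rw [cInd_eq_nEmb h hn, (nEmb h hn).nsq_ind hθ, nEmb_range, nEmb_inertia,
    relIndex_subgroupOf (cInertia_le θ)]

theorem cInd_irr_iff (h : K ≤ L) (hn : L ≤ N[K]) (hθ : IsIrrCharacter K θ) :
    IsIrrCharacter L (cInd L θ) ↔ cInertia L θ ≤ K := by
  rw [cInd_eq_nEmb h hn]
  refine ⟨fun hi y hy => ?_, fun hi => (nEmb h hn).isIrr_ind hθ ?_⟩
  · have := (nEmb h hn).inertia_eq_of_isIrr_ind hθ hi
    rw [nEmb_range, nEmb_inertia] at this
    exact this.le (x := ⟨y, cInertia_le θ hy⟩) hy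
  · rw [nEmb_range, nEmb_inertia]; exact fun y hy => hi hy

/-- (1.5)(c) -/
theorem cInd_eq_iff (h : K ≤ L) (hn : L ≤ N[K]) (hθ : IsIrrCharacter K θ) {θ' : K → ℂ}
    (hθ' : IsIrrCharacter K θ') : cInd L θ' = cInd L θ ↔ ∃ y ∈ L, θ' = cConj θ y := by
  refine ⟨fun e => ?_, ?_⟩
  · rw [cInd_eq_nEmb h hn, cInd_eq_nEmb h hn] at e
    obtain ⟨y, hy⟩ := (nEmb h hn).exists_cj_of_ind_eq hθ hθ' e
    exact ⟨y, y.2, by rw [hy, nEmb_cj]⟩
  · rintro ⟨y, hy, rfl⟩; exact cInd_cConj h hn θ hy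

theorem cInd_eq_or_ortho (h : K ≤ L) (hn : L ≤ N[K]) (hθ : IsIrrCharacter K θ) {θ' : K → ℂ}
    (hθ' : IsIrrCharacter K θ') : cInd L θ' = cInd L θ ∨ ⟪cInd L θ', cInd L θ⟫ = 0 := by
  rw [cInd_eq_nEmb h hn, cInd_eq_nEmb h hn]
  exact (nEmb h hn).ind_eq_or_ci_eq_zero hθ hθ'

/-- number of `θ'` inducing to the same character -/
theorem card_cInd_fiber (h : K ≤ L) (hn : L ≤ N[K]) (hθ : IsIrrCharacter K θ) :
    Nat.card {θ' : K → ℂ // IsIrrCharacter K θ' ∧ cInd L θ' = cInd L θ} =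
      (cInertia L θ).relIndex L := by
  have := (nEmb h hn).card_orbit θ
  rw [nEmb_inertia] at this
  refine Eq.trans (Nat.card_congr (Equiv.subtypeEquivRight fun θ' => ⟨fun h' => ?_, ?_⟩)) this
  · obtain ⟨y, hy, e⟩ := (cInd_eq_iff h hn hθ h'.1).1 h'.2
    exact ⟨⟨y, hy⟩, by rw [nEmb_cj, e]⟩
  · rintro ⟨y, rfl⟩
    rw [nEmb_cj]
    exact ⟨IsIrrCharacter_cConj hθ (hn y.2), cInd_cConj h hn θ y.2⟩

theorem coe_image_cInd (h : K ≤ L) (hn : L ≤ N[K]) [DecidableEq (L → ℂ)] (X : Finset (K → ℂ)) :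
    ((X.image (ind (nEmb h hn).f) : Finset (L → ℂ)) : Set (L → ℂ)) = seqInd L (X : Set (K → ℂ)) := by
  rw [Finset.coe_image, seqInd]
  congr 1; funext θ; exact (cInd_eq_nEmb h hn θ).symm

/-- `card_imset_Ind_irr` -/
theorem card_seqInd_irr (h : K ≤ L) (hn : L ≤ N[K]) {X : Set (K → ℂ)}
    (hX : ∀ θ ∈ X, IsIrrCharacter K θ) (hI : ∀ θ ∈ X, IsIrrCharacter L (cInd L θ))
    (hc : ∀ θ ∈ X, ∀ y ∈ L, cConj θ y ∈ X) :
    Nat.card X = K.relIndex L * Nat.card (seqInd L X) := by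
  classical
  obtain ⟨X, rfl⟩ := (finite_setOf_irr.subset hX).exists_finset_coe
  have := (nEmb h hn).card_eq_mul_card_image X hX
    (fun θ hθ => cInd_eq_nEmb h hn θ ▸ hI θ hθ) (fun θ hθ g => nEmb_cj h hn θ g ▸ hc θ hθ g g.2)
  rw [← coe_image_cInd h hn, ← nEmb_index h hn]
  simpa using this

theorem cRes_cInd_of_invariant (h : K ≤ L) (hn : L ≤ N[K]) (hinv : ∀ y ∈ L, cConj θ y = θ) :
    cRes K (cInd L θ) = (K.relIndex L : ℂ) • θ := by
  rw [cRes_eq h, cInd_eq_nEmb h hn, ← nEmb_index h hn, ← NormalEmb.card_div_card]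
  exact (nEmb h hn).res_ind_invariant fun g => by rw [nEmb_cj]; exact hinv g g.2

theorem cInd_apply_of_invariant (h : K ≤ L) (hn : L ≤ N[K]) (hinv : ∀ y ∈ L, cConj θ y = θ)
    {x : L} (hx : (x : G) ∈ K) : cInd L θ x = K.relIndex L * θ ⟨x, hx⟩ := by
  have := congrFun (cRes_cInd_of_invariant h hn hinv) ⟨x, hx⟩
  rwa [cRes_apply h] at this

theorem InKer.cConj (hk : InKer M θ) {y : G} (hy : y ∈ N[K]) (hyM : y ∈ N[M]) :
    InKer M (cConj θ y) := fun x hx => by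
  rw [cConj_apply_one, cConj_apply θ hy]
  exact hk _ (conj_mem_of_mem_norm hyM hx)

theorem inKer_cConj_iff {y : G} (hy : y ∈ N[K]) (hyM : y ∈ N[M]) :
    InKer M (cConj θ y) ↔ InKer M θ := by
  refine ⟨fun h => ?_, fun h => h.cConj hy hyM⟩
  have := h.cConj (inv_mem hy) (inv_mem hyM)
  rwa [← cConj_mul θ hy (inv_mem hy), mul_inv_cancel, cConj_one] at this

/-- (1.6)(a) -/
theorem inKer_cInd_iff (h : K ≤ L) (hn : L ≤ N[K]) (hM : M ≤ K) (hMn : L ≤ N[M])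
    (hθ : IsIrrCharacter K θ) : InKer M (cInd L θ) ↔ InKer M θ := by
  rw [cInd_eq_nEmb h hn]
  refine ⟨fun hk x hx => (nEmb h hn).apply_eq_of_ind_apply_eq hθ (hk _ hx), fun hk x hx => ?_⟩
  refine (nEmb h hn).ind_apply_eq_of_forall (a := ⟨x, hM hx⟩) fun y => ?_
  rw [nEmb_cj, ← cConj_apply_one θ y]
  exact hk.cConj (hn y.2) (hMn y.2) _ hx

theorem inKer_iff_le_chKer (hθ : IsCharacter K θ) (hM : M ≤ K) :
    InKer M θ ↔ M ≤ (chKer θ).map K.subtype :=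
  ⟨fun h x hx => ⟨⟨x, hM hx⟩, hθ.mem_chKer_iff.2 (h _ hx), rfl⟩, fun h x hx => by
    obtain ⟨y, hy, e⟩ := h hx
    rw [← Subtype.ext e]; exact hθ.mem_chKer_iff.1 hy⟩

theorem InKer.sup (hθ : IsCharacter K θ) (hM : M ≤ K) (hN : N ≤ K) (h₁ : InKer M θ)
    (h₂ : InKer N θ) : InKer (M ⊔ N) θ :=
  (inKer_iff_le_chKer hθ (sup_le hM hN)).2
    (sup_le ((inKer_iff_le_chKer hθ hM).1 h₁) ((inKer_iff_le_chKer hθ hN).1 h₂))

theorem InKer.mul (hθ : IsCharacter K θ) (hk : InKer M θ) {x : K} (hx : (x : G) ∈ M) (y : K) :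
    θ (x * y) = θ y := hθ.mul_of_apply_eq (hk x hx) y

theorem InKer.cRes (hk : InKer M χ) (h : K ≤ L) : InKer M (cRes K χ) := fun x hx => by
  rw [cRes_apply h, cRes_one]; exact hk _ hx

theorem inKer_cRes_iff (h : K ≤ L) (hM : M ≤ K) : InKer M (cRes K χ) ↔ InKer M χ :=
  ⟨fun hk x hx => by
    have := hk ⟨x, hM hx⟩ hx
    rwa [cRes_apply h, cRes_one] at this, fun hk => hk.cRes h⟩

theorem InKer.of_ci_ne_zero {θ' : K → ℂ} (hθ : IsCharacter K θ) (hθ' : IsIrrCharacter K θ')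
    (hne : ⟪θ, θ'⟫ ≠ 0) (hk : InKer M θ) : InKer M θ' := fun x hx =>
  hθ.apply_eq_of_ci_ne_zero hθ' hne (hk x hx)

theorem inKer_one (M : Subgroup G) : InKer M (fun _ : K => (1 : ℂ)) := fun _ _ => rfl

theorem inKer_conjFun_iff : InKer M (conjFun θ) ↔ InKer M θ :=
  forall_congr' fun x => imp_congr_right fun _ => (RingHom.injective (starRingEnd ℂ)).eq_iff

theorem inKer_cfAut_iff (σ : ℂ →+* ℂ) : InKer M (cfAut σ θ) ↔ InKer M θ :=
  forall_congr' fun x => imp_congr_right fun _ => σ.injective.eq_iff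

theorem inKer_self_iff (hθ : IsIrrCharacter K θ) : InKer K θ ↔ θ = fun _ => 1 :=
  ⟨fun h => hθ.eq_one_of_forall fun g => h g g.2, fun h => h ▸ inKer_one K⟩

theorem ne_one_of_not_inKer (hk : ¬ InKer H θ) : θ ≠ fun _ => 1 := fun h => hk (h ▸ inKer_one H)

theorem irr_one_of_inKer_der (hθ : IsIrrCharacter K θ) (hk : InKer ⁅K, K⁆ θ) : θ 1 = 1 :=
  hθ.degree_one_of_commutators fun x y => hk _ (commutator_mem_commutator x.2 y.2)

theorem inKer_der_of_one (hθ : IsCharacter K θ) (h1 : θ 1 = 1) : InKer ⁅K, K⁆ θ := by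
  refine (inKer_iff_le_chKer hθ (commutator_le_self K)).2 (commutator_le.2 fun x hx y hy => ?_)
  refine ⟨(⟨x, hx⟩ : K) * ⟨y, hy⟩ * (⟨x, hx⟩ : K)⁻¹ * (⟨y, hy⟩ : K)⁻¹, hθ.mem_chKer_iff.2 ?_, rfl⟩
  obtain ⟨f, rfl⟩ := hθ.exists_hom_of_degree_one h1
  simp only [map_mul, map_inv, map_one, mul_inv_cancel_comm, mul_inv_cancel]

theorem mem_IrrKer_subgroupOf : θ ∈ IrrKer (M.subgroupOf K) ↔ IsIrrCharacter K θ ∧ InKer M θ :=
  mem_IrrKer

/-- constituents of a restriction -/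
theorem exists_constt_cRes (h : K ≤ L) (hχ : IsIrrCharacter L χ) :
    ∃ θ : K → ℂ, IsIrrCharacter K θ ∧ ⟪cRes K χ, θ⟫ ≠ 0 :=
  (hχ.isCharacter.cRes h).exists_irr_ci_ne_zero fun e =>
    hχ.apply_one_ne_zero (by rw [← cRes_one (K := K) χ, e]; rfl)

theorem cInd_ne_zero (h : K ≤ L) (h1 : θ 1 ≠ 0) : cInd L θ ≠ 0 := fun e => by
  have := congrFun e 1
  rw [cInd_one h] at this
  exact mul_ne_zero (by exact_mod_cast (relIndex_pos K L).ne') h1 this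

theorem exists_constt_cInd (h : K ≤ L) (hθ : IsIrrCharacter K θ) :
    ∃ χ : L → ℂ, IsIrrCharacter L χ ∧ ⟪cInd L θ, χ⟫ ≠ 0 :=
  (hθ.isCharacter.cInd h).exists_irr_ci_ne_zero (cInd_ne_zero h hθ.apply_one_ne_zero)

theorem eq_cInd_of_ci_cRes (h : K ≤ L) (hχ : IsIrrCharacter L χ)
    (hi : IsIrrCharacter L (cInd L θ)) (hne : ⟪cRes K χ, θ⟫ ≠ 0) : χ = cInd L θ :=
  hχ.eq_of_ci_ne_zero hi (by rwa [ci_cInd_right h hχ.isClassFunction])

theorem exists_apply_ne_of_not_inKer (hk : ¬ InKer H χ) : ∃ n ∈ H.subgroupOf L, χ n ≠ χ 1 := by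
  by_contra hn; push Not at hn; exact hk hn

/-- (1.2) -/
theorem irr_reg_off_ker_0 (hχ : IsIrrCharacter L χ) (hH : H ≤ L) (hn : L ≤ N[H])
    (hk : ¬ InKer H χ) {x : L} (hx : H ⊓ C1[(x : G)] = ⊥) : χ x = 0 := by
  have := normal_subgroupOf hn
  refine hχ.eq_zero_of_cent (H.subgroupOf L) (exists_apply_ne_of_not_inKer hk) fun n hn' e => ?_
  have : (n : G) ∈ H ⊓ C1[(x : G)] := ⟨hn', mem_cent1.2 (congrArg Subtype.val e)⟩
  rw [hx, mem_bot] at this; exact Subtype.ext this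

/-- the number of irreducible characters with a normal subgroup in the kernel and abelian
quotient -/
theorem card_irr_inKer_of_der (hM : M ≤ K) (hn : K ≤ N[M]) (hd : ⁅K, K⁆ ≤ M) :
    Nat.card {θ : K → ℂ // IsIrrCharacter K θ ∧ InKer M θ} = M.relIndex K := by
  have := normal_subgroupOf hn
  have h1 := sum_irr_ker_degree_sq (M.subgroupOf K)
  rw [Finset.sum_congr rfl (g := fun _ => 1) (fun θ hθ => by
    obtain ⟨h1, h2⟩ := mem_IrrKer_subgroupOf.1 hθ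
    rw [irr_one_of_inKer_der h1 (h2.mono hd), one_pow]), Finset.sum_const, nsmul_eq_mul, mul_one,
    Nat.cast_inj, ← Nat.card_eq_finsetCard] at h1
  exact (Nat.card_congr (Equiv.subtypeEquivRight fun θ => mem_IrrKer_subgroupOf.symm)).trans h1

theorem degree_le_of_ci_cRes (h : K ≤ L) (hχ : IsIrrCharacter L χ) (hθ : IsIrrCharacter K θ)
    (hne : ⟪cRes K χ, θ⟫ ≠ 0) : (χ 1).re ≤ K.relIndex L * (θ 1).re := by
  have h3 := (hθ.isCharacter.cInd h).degree_le_of_ci_ne_zero hχ (by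
    rw [ci_cInd_left h _ hχ.isClassFunction]; exact mt ci_eq_zero_symm hne)
  rw [cInd_one h] at h3
  simpa using h3

/-- (1.8) `irr1_bound_quo` -/
theorem irr1_bound_quo {B C D : Subgroup G} (hχ : IsIrrCharacter L χ) (hBD : B ≤ D) (hDC : D ≤ C)
    (hCL : C ≤ L) (hn : C ≤ N[B]) (hz : ⁅D, C⁆ ≤ B) (hk : InKer B χ) :
    ‖χ 1‖ ^ 2 ≤ (C.relIndex L : ℝ) ^ 2 * D.relIndex C := by
  obtain ⟨θ, hθ, h1⟩ := exists_constt_cRes hCL hχ
  have hkθ : InKer B θ := InKer.of_ci_ne_zero (hχ.isCharacter.cRes hCL) hθ h1 (hk.cRes hCL)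
  have h2 := hθ.degree_sq_mul_card_le (D.subgroupOf C) (fun d hd c =>
    hkθ _ (hz (commutator_mem_commutator hd c.2)))
  rw [card_subgroupOf hDC, ← card_mul_relIndex hDC, Nat.cast_mul, mul_comm (Nat.card D : ℝ)] at h2
  have h2' := le_of_mul_le_mul_right h2 (card_pos_real D)
  have h3 := degree_le_of_ci_cRes hCL hχ hθ h1
  obtain ⟨n, hn, hn'⟩ := hχ.exists_degree
  obtain ⟨m, hm, hm'⟩ := hθ.exists_degree
  rw [hm'] at h2'
  rw [hn', hm'] at h3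
  rw [hn']
  simp only [Complex.natCast_re, Complex.norm_natCast] at h2' h3 ⊢
  calc (n : ℝ) ^ 2 ≤ (C.relIndex L * m) ^ 2 := by gcongr
    _ = (C.relIndex L : ℝ) ^ 2 * m ^ 2 := by ring
    _ ≤ _ := by gcongr

/-- (1.7)(c) `cfInd_Hall_central_Inertia` -/
theorem cInd_Hall_central_inertia (h : K ≤ L) (hn : L ≤ N[K]) (hθ : IsIrrCharacter K θ)
    (hab : ⁅cInertia L θ, cInertia L θ⁆ ≤ K)
    (hc : (Nat.card K).Coprime (K.relIndex (cInertia L θ))) :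
    ∃ C : Finset (L → ℂ), (∀ χ ∈ C, IsIrrCharacter L χ) ∧ C.card = K.relIndex (cInertia L θ) ∧
      cInd L θ = ∑ χ ∈ C, χ ∧ ∀ χ ∈ C, χ 1 = ((cInertia L θ).relIndex L : ℂ) * θ 1 := by
  have := normal_subgroupOf hn
  have key := exists_indFun_eq_sum_of_coprime (K.subgroupOf L) ((cInertia L θ).subgroupOf L)
    (hθ.comp_equiv (subgroupOfEquivOfLe h)) (by
      ext y
      rw [← nEmb_inertia h hn, NormalEmb.mem_inertia', NormalEmb.mem_inertia']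
      exact ⟨fun H x => H (subgroupOfEquivOfLe h x), fun H x => H ((subgroupOfEquivOfLe h).symm x)⟩)
    (fun x hx y hy => hab (commutator_mem_commutator hx hy))
    (by rwa [card_subgroupOf h, relIndex_subgroupOf (cInertia_le θ)])
  rw [relIndex_subgroupOf (cInertia_le θ)] at key
  exact key

/-- extension of an invariant linear character to a semidirect product (`cfSdprod`-like) -/
theorem exists_lin_extension (h : Sdprod K H L) (hθ : IsCharacter K θ) (h1 : θ 1 = 1)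
    (hinv : ∀ y ∈ H, cConj θ y = θ) :
    ∃ χ : L → ℂ, IsIrrCharacter L χ ∧ χ 1 = 1 ∧ cRes K χ = θ ∧ InKer H χ := by
  obtain ⟨π, hπ, hπ'⟩ := h.exists_proj
  obtain ⟨f, rfl⟩ := hθ.exists_hom_of_degree_one h1
  have hm : ∀ x : L, (x : G) * (π x : G)⁻¹ ∈ K := fun x =>
    (hπ (x * (inclusion h.right_le (π x))⁻¹)).1 (by rw [map_mul, map_inv, hπ', mul_inv_cancel])
  let l : L →* ℂˣ := MonoidHom.mk' (fun x => f ⟨_, hm x⟩) (by
    intro x y
    have e := congrFun (hinv _ (π x).2) ⟨_, hm y⟩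
    rw [cConj_apply _ (h.right_norm (π x).2)] at e
    rw [← Units.ext e, ← map_mul]
    congr 1
    ext; simp [mul_assoc])
  refine ⟨lc l, lc_irr l, lc_apply_one l, funext fun x => ?_, fun x hx => ?_⟩
  · rw [cRes_apply h.left_le]
    change ((f _ : ℂˣ) : ℂ) = _
    congr 2
    ext; simp [(hπ (inclusion h.left_le x)).2 x.2]
  · rw [lc_apply_one]
    change ((f _ : ℂˣ) : ℂ) = _
    have : π x = ⟨x, hx⟩ := hπ' ⟨x, hx⟩
    rw [show (⟨_, hm x⟩ : K) = 1 from Subtype.ext (by simp [this]), map_one, Units.val_one]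

/-- coprime action on characters: regular action on `K/M` gives trivial inertia -/
theorem cInertia_le_of_regular (h : Sdprod K H L) (hM : M ≤ K) (hn : L ≤ N[M])
    (hreg : ∀ x ∈ H, x ≠ 1 → ∀ y ∈ K, x * y * x⁻¹ * y⁻¹ ∈ M → y ∈ M)
    (hθ : IsIrrCharacter K θ) (hk : InKer M θ) (hne : θ ≠ fun _ => 1) : cInertia L θ ≤ K := by
  intro y hy
  obtain ⟨a, ha, b, hb, rfl⟩ := h.exists_mul (cInertia_le θ hy)
  by_cases hb1 : b = 1
  · rw [hb1, mul_one]; exact ha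
  have hb' : b ∈ cInertia L θ :=
    (mul_mem_cancel_left (le_cInertia h.left_le hθ.isClassFunction ha)).1 hy
  have := normal_subgroupOf (h.left_le.trans hn)
  let E := nEmb h.left_le h.norm
  refine absurd (eq_one_of_regular_quotient (M.subgroupOf K) (E.act ⟨b, h.right_le hb⟩).toMonoidHom
    (E.act _).surjective (fun n hn' => conj_mem_of_le_norm hn (h.right_le hb) hn')
    (fun y hy => hreg b hb hb1 y y.2 hy) hθ hk fun y => ?_) hne
  have := congrFun (mem_cInertia.1 hb').2.2 y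
  rwa [← nEmb_cj h.left_le h.norm θ ⟨b, h.right_le hb⟩] at this

/-- in a Frobenius group the non-trivial characters of the kernel induce irreducibly -/
theorem irr_induced_Frobenius_ker (h : FrobKer L K) (hθ : IsIrrCharacter K θ)
    (hne : θ ≠ fun _ => 1) : IsIrrCharacter L (cInd L θ) := by
  obtain ⟨R, h⟩ := h
  refine (cInd_irr_iff h.sdprod.left_le h.sdprod.norm hθ).2 (cInertia_le_of_regular h.sdprod
    (M := ⊥) bot_le (by rw [GT.norm_bot]; exact le_top) (fun x hx hx1 y hy e => ?_) hθ (inKer_bot θ) hne)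
  rw [mem_bot] at e ⊢
  refine semiregular_iff.1 h.reg x hx hx1 y hy ?_
  calc y * x = (x * y * x⁻¹ * y⁻¹) * (y * x) := by rw [e, one_mul]
    _ = _ := by group

theorem Frobenius_Ind_irrP (h : FrobKer L K) (hχ : IsIrrCharacter L χ) (hk : ¬ InKer K χ) :
    ∃ θ : K → ℂ, IsIrrCharacter K θ ∧ θ ≠ (fun _ => 1) ∧ χ = cInd L θ := by
  classical
  obtain ⟨R, h'⟩ := id h
  have hKL := h'.sdprod.left_le
  obtain ⟨θ, hθ, h1⟩ := exists_constt_cRes hKL hχ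
  have hne : θ ≠ fun _ => 1 := by
    rintro rfl
    have := normal_subgroupOf h'.sdprod.norm
    have h2 := hχ.ci_restrict_one (K.subgroupOf L)
    rw [if_neg (show ¬ ∀ n ∈ K.subgroupOf L, χ n = χ 1 from hk),
      ← ci_indFun_right _ hχ.isClassFunction] at h2
    rw [← ci_cInd_right hKL hχ.isClassFunction] at h1
    exact h1 h2
  exact ⟨θ, hθ, hne, eq_cInd_of_ci_cRes hKL hχ (irr_induced_Frobenius_ker h hθ hne) h1⟩

/-! ### `seqInd` -/

theorem seqIndT_char (h : K ≤ L) (hφ : φ ∈ seqIndT K L) : IsCharacter L φ := by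
  obtain ⟨θ, hθ, rfl⟩ := hφ; exact IsCharacter.cInd hθ.isCharacter h

theorem seqIndT_class (hφ : φ ∈ seqIndT K L) : IsClassFunction L φ := by
  obtain ⟨θ, hθ, rfl⟩ := hφ; exact isClassFunction_cInd θ

theorem seqIndT_on (h : K ≤ L) (hn : L ≤ N[K]) (hφ : φ ∈ seqIndT K L) : SuppOn (K : Set G) φ := by
  obtain ⟨θ, hθ, rfl⟩ := hφ; exact fun x hx => cInd_apply_of_not_mem h hn θ hx

theorem seqIndT_one (h : K ≤ L) (hφ : φ ∈ seqIndT K L) :
    ∃ d : ℕ, 0 < d ∧ φ 1 = (K.relIndex L : ℂ) * d := by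
  obtain ⟨θ, hθ, rfl⟩ := hφ
  obtain ⟨d, hd, hd'⟩ := IsIrrCharacter.exists_degree hθ
  exact ⟨d, hd, by rw [cInd_one h, hd']⟩

theorem seqIndT_ne_zero (h : K ≤ L) (hφ : φ ∈ seqIndT K L) : φ ≠ 0 := by
  obtain ⟨θ, hθ, rfl⟩ := hφ; exact cInd_ne_zero h (IsIrrCharacter.apply_one_ne_zero hθ)

theorem seqIndT_one_ne_zero (h : K ≤ L) (hφ : φ ∈ seqIndT K L) : φ 1 ≠ 0 := fun h0 =>
  seqIndT_ne_zero h hφ ((seqIndT_char h hφ).eq_zero_of_degree h0)

theorem seqIndT_ortho (h : K ≤ L) (hn : L ≤ N[K]) (hφ : φ ∈ seqIndT K L) (hψ : ψ ∈ seqIndT K L)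
    (hne : φ ≠ ψ) : ⟪φ, ψ⟫ = 0 := by
  obtain ⟨θ, hθ, rfl⟩ := hφ
  obtain ⟨θ', hθ', rfl⟩ := hψ
  exact (cInd_eq_or_ortho h hn hθ' hθ).resolve_left hne

theorem cfAut_seqIndT (h : K ≤ L) (σ : ℂ →+* ℂ) (hφ : φ ∈ seqIndT K L) :
    cfAut σ φ ∈ seqIndT K L := by
  obtain ⟨θ, hθ, rfl⟩ := hφ
  exact ⟨cfAut σ θ, IsIrrCharacter.map_ringHom hθ σ, (cfAut_cInd h σ θ).symm⟩

theorem cfAut_seqIndD (h : K ≤ L) (σ : ℂ →+* ℂ) (hφ : φ ∈ seqIndD K L H M) :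
    cfAut σ φ ∈ seqIndD K L H M := by
  obtain ⟨θ, ⟨h1, h2, h3⟩, rfl⟩ := hφ
  exact ⟨cfAut σ θ, ⟨h1.map_ringHom σ, mt (inKer_cfAut_iff σ).1 h2, (inKer_cfAut_iff σ).2 h3⟩,
    (cfAut_cInd h σ θ).symm⟩

theorem conj_seqIndT (hφ : φ ∈ seqIndT K L) : conjFun φ ∈ seqIndT K L := by
  obtain ⟨θ, hθ, rfl⟩ := hφ
  exact ⟨conjFun θ, IsIrrCharacter.conjFun hθ, (conjFun_cInd θ).symm⟩

theorem conj_seqIndD (hφ : φ ∈ seqIndD K L H M) : conjFun φ ∈ seqIndD K L H M := by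
  obtain ⟨θ, ⟨h1, h2, h3⟩, rfl⟩ := hφ
  exact ⟨conjFun θ, ⟨h1.conjFun, mt inKer_conjFun_iff.1 h2, inKer_conjFun_iff.2 h3⟩,
    (conjFun_cInd θ).symm⟩

theorem conjSub_seqIndD {H' M' : Subgroup G} (hH : H ≤ H') (hM : M' ≤ M) :
    ConjSub (seqIndD K L H M) (seqIndD K L H' M') :=
  ⟨seqIndD_mono hH hM, fun _ => conj_seqIndD⟩

theorem cInd_mem_seqIndT (hθ : IsIrrCharacter K θ) : cInd L θ ∈ seqIndT K L := ⟨θ, hθ, rfl⟩

/-- `mem_seqInd` -/
theorem cInd_mem_seqIndD (h : K ≤ L) (hn : L ≤ N[K]) (hH : L ≤ N[H]) (hM : L ≤ N[M])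
    (hθ : IsIrrCharacter K θ) : cInd L θ ∈ seqIndD K L H M ↔ ¬ InKer H θ ∧ InKer M θ := by
  refine ⟨?_, fun h' => ⟨θ, ⟨hθ, h'⟩, rfl⟩⟩
  rintro ⟨θ', ⟨h1, h2, h3⟩, e⟩
  obtain ⟨y, hy, rfl⟩ := (cInd_eq_iff h hn hθ h1).1 e
  rw [inKer_cConj_iff (hn hy) (hH hy)] at h2
  rw [inKer_cConj_iff (hn hy) (hM hy)] at h3
  exact ⟨h2, h3⟩

theorem mem_seqIndD_iff (h : K ≤ L) (hn : L ≤ N[K]) (hHK : H ≤ K) (hH : L ≤ N[H]) (hMK : M ≤ K)
    (hM : L ≤ N[M]) : φ ∈ seqIndD K L H M ↔ φ ∈ seqIndT K L ∧ ¬ InKer H φ ∧ InKer M φ := by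
  refine ⟨fun hφ => ⟨seqIndD_subset_T hφ, ?_⟩, ?_⟩
  · obtain ⟨θ, ⟨h1, h2, h3⟩, rfl⟩ := hφ
    rw [inKer_cInd_iff h hn hHK hH h1, inKer_cInd_iff h hn hMK hM h1]
    exact ⟨h2, h3⟩
  · rintro ⟨⟨θ, hθ, rfl⟩, h2, h3⟩
    rw [inKer_cInd_iff h hn hHK hH hθ] at h2
    rw [inKer_cInd_iff h hn hMK hM hθ] at h3
    exact ⟨θ, ⟨hθ, h2, h3⟩, rfl⟩

theorem cInd_one_not_mem_seqIndD (h : K ≤ L) (hn : L ≤ N[K]) :
    cInd L (fun _ : K => (1 : ℂ)) ∉ seqIndD K L H M := by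
  rintro ⟨θ', ⟨h1, h2, h3⟩, e⟩
  obtain ⟨y, hy, rfl⟩ := (cInd_eq_iff h hn isIrrCharacter_one h1).1 e
  exact ne_one_of_not_inKer h2 (cConj_const 1 (hn hy))

theorem seqIndT_eq (h : K ≤ L) (hn : L ≤ N[K]) :
    seqIndT K L = insert (cInd L (fun _ : K => (1 : ℂ))) (seqIndD K L K ⊥) := by
  ext φ
  refine ⟨?_, ?_⟩
  · rintro ⟨θ, hθ, rfl⟩
    by_cases h1 : θ = fun _ => 1
    · exact Or.inl (by rw [h1])
    · exact Or.inr ⟨θ, ⟨hθ, mt (inKer_self_iff hθ).1 h1, inKer_bot θ⟩, rfl⟩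
  · rintro (rfl | hφ)
    · exact cInd_mem_seqIndT isIrrCharacter_one
    · exact seqIndD_subset_T hφ

theorem cRes_const (h : K ≤ L) (c : ℂ) : cRes K (fun _ : L => c) = fun _ => c := cRes_eq h _

theorem seqIndD_ortho_one (h : K ≤ L) (hφ : φ ∈ seqIndD K L H M) : ⟪φ, fun _ => 1⟫ = 0 := by
  obtain ⟨θ, ⟨h1, h2, h3⟩, rfl⟩ := hφ
  rw [ci_cInd_left h _ (isClassFunction_const 1), cRes_const h]
  exact h1.ci_of_ne isIrrCharacter_one (ne_one_of_not_inKer h2)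

theorem seqIndD_ortho_Ind1 (h : K ≤ L) (hn : L ≤ N[K]) (hφ : φ ∈ seqIndD K L H M) :
    ⟪φ, cInd L (fun _ : K => (1 : ℂ))⟫ = 0 :=
  seqIndT_ortho h hn (seqIndD_subset_T hφ) (cInd_mem_seqIndT isIrrCharacter_one)
    fun e => cInd_one_not_mem_seqIndD h hn (e ▸ hφ)

theorem cInertia_one (hn : L ≤ N[K]) : cInertia L (fun _ : K => (1 : ℂ)) = L :=
  le_antisymm (cInertia_le _) fun y hy => mem_cInertia.2 ⟨hy, hn hy, cConj_const 1 (hn hy)⟩

theorem nsq_Ind1 (h : K ≤ L) (hn : L ≤ N[K]) :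
    nsq (cInd L (fun _ : K => (1 : ℂ))) = K.relIndex L := by
  rw [nsq_cInd_irr h hn isIrrCharacter_one, cInertia_one hn]

theorem ci_Ind1_one (h : K ≤ L) : ⟪cInd L (fun _ : K => (1 : ℂ)), fun _ => 1⟫ = 1 := by
  rw [ci_cInd_left h _ (isClassFunction_const 1), cRes_const h, ci_one_one]

theorem Ind1_apply (h : K ≤ L) (hn : L ≤ N[K]) {x : L} (hx : (x : G) ∈ K) :
    cInd L (fun _ : K => (1 : ℂ)) x = K.relIndex L := by
  rw [cInd_apply_of_invariant h hn (fun y hy => cConj_const 1 (hn hy)) hx, mul_one]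

/-- (1.5)(e) -/
theorem seqIndD_conj_ne (h : K ≤ L) (hn : L ≤ N[K]) (ho : Odd (Nat.card L))
    (hφ : φ ∈ seqIndD K L H M) : conjFun φ ≠ φ := by
  obtain ⟨θ, ⟨h1, h2, h3⟩, rfl⟩ := hφ
  rw [cInd_eq_nEmb h hn]
  exact (nEmb h hn).conjFun_ind_ne ho h1 (ne_one_of_not_inKer h2)

theorem seqIndD_conj_ortho (h : K ≤ L) (hn : L ≤ N[K]) (ho : Odd (Nat.card L))
    (hφ : φ ∈ seqIndD K L H M) : ⟪conjFun φ, φ⟫ = 0 :=
  seqIndT_ortho h hn (conj_seqIndT (seqIndD_subset_T hφ)) (seqIndD_subset_T hφ)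
    (seqIndD_conj_ne h hn ho hφ)

theorem exists_irr_inKer_not_inKer (hHK : H ≤ K) (hM : K ≤ N[M]) (hlt : ¬ H ≤ M) :
    ∃ θ : K → ℂ, IsIrrCharacter K θ ∧ ¬ InKer H θ ∧ InKer M θ := by
  classical
  have := normal_subgroupOf hM
  obtain ⟨x, hx, hx'⟩ := SetLike.not_le_iff_exists.1 hlt
  by_contra hn
  have h1 := sum_irr_ker_degree_mul (M.subgroupOf K) ⟨x, hHK hx⟩
  rw [if_neg (show (⟨x, hHK hx⟩ : K) ∉ M.subgroupOf K from hx'), Finset.sum_congr rfl (g := fun χ => χ 1 ^ 2) (fun θ hθ => by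
    obtain ⟨h1, h2⟩ := mem_IrrKer_subgroupOf.1 hθ
    have h3 : InKer H θ := by_contra fun h3 => hn ⟨θ, h1, h3, h2⟩
    rw [h3 ⟨x, hHK hx⟩ hx, sq]), sum_irr_ker_degree_sq] at h1
  exact Subgroup.FiniteIndex.index_ne_zero (by exact_mod_cast h1)

theorem seqIndD_nonempty (hHK : H ≤ K) (hH : K ≤ N[H]) (hM : K ≤ N[M]) (hlt : M < H) :
    (seqIndD K L H M).Nonempty := by
  obtain ⟨θ, hθ⟩ := exists_irr_inKer_not_inKer hHK hM hlt.not_ge
  exact ⟨_, θ, hθ, rfl⟩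

theorem der_sup_lt_of_solvable (hM : M < K) (hn : K ≤ N[M]) (hs : Group.IsSolvable K) :
    ⁅K, K⁆ ⊔ M < K := by
  obtain ⟨W, hW, hc⟩ := exists_chiefFactor_ge hM le_rfl hn le_normalizer
  obtain ⟨p, -, h1, -⟩ := hc.elementary hs
  exact lt_of_le_of_lt (sup_le h1 hW) hc.lt

/-- a member of degree `|L : K|` -/
theorem exists_linInd (h : K ≤ L) (hM : M < K) (hn : K ≤ N[M]) (hs : Group.IsSolvable K) :
    ∃ φ ∈ seqIndD K L K M, φ 1 = K.relIndex L := by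
  obtain ⟨θ, h1, h2, h3⟩ := exists_irr_inKer_not_inKer (H := K) le_rfl
    (le_norm_sup (norm_le_norm_commutator_self K |> le_trans le_normalizer) hn)
    (der_sup_lt_of_solvable hM hn hs).not_ge
  refine ⟨cInd L θ, ⟨θ, ⟨h1, h2, h3.mono le_sup_right⟩, rfl⟩, ?_⟩
  rw [cInd_one h, irr_one_of_inKer_der h1 (h3.mono le_sup_left), mul_one]

/-- `∑ φ(1)/‖φ‖² φ` over the characters induced from an invariant set -/
theorem sum_seqInd_eq_cInd (h : K ≤ L) (hn : L ≤ N[K]) (X : Finset (K → ℂ))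
    (hX : ∀ θ ∈ X, IsIrrCharacter K θ) (hc : ∀ θ ∈ X, ∀ y ∈ L, cConj θ y ∈ X)
    (T : Finset (L → ℂ)) (hT : (T : Set (L → ℂ)) = seqInd L (X : Set (K → ℂ))) :
    ∑ φ ∈ T, (φ 1 / (nsq φ : ℂ)) • φ = cInd L (∑ θ ∈ X, θ 1 • θ) := by
  classical
  rw [← coe_image_cInd h hn, Finset.coe_inj] at hT
  rw [hT, cInd_eq_nEmb h hn]
  exact (nEmb h hn).sum_ind_image X hX fun θ hθ g => nEmb_cj h hn θ g ▸ hc θ hθ g g.2

theorem sum_IrrKer_apply (hM : K ≤ N[M]) (x : K) [Decidable ((x : G) ∈ M)] :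
    (∑ θ ∈ IrrKer (M.subgroupOf K), θ 1 • θ) x = if (x : G) ∈ M then (M.relIndex K : ℂ) else 0 := by
  have := normal_subgroupOf hM
  have := @sum_irr_ker_degree_mul K _ _ (M.subgroupOf K) _ x ‹_›
  simp only [Finset.sum_apply, Pi.smul_apply, smul_eq_mul]
  exact this

/-- `sum_seqInd...`: the regular character of `K/M` induced to `L` -/
theorem sum_seqIndD_apply (h : K ≤ L) (hn : L ≤ N[K]) (hHK : H ≤ K) (hH : L ≤ N[H])
    (hM : L ≤ N[M]) (hMH : M ≤ H) (x : L) [Decidable ((x : G) ∈ M)] [Decidable ((x : G) ∈ H)] :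
    ∑ φ ∈ (seqIndD_finite K L H M).toFinset, φ 1 / (nsq φ : ℂ) * φ x =
      (K.relIndex L : ℂ) * ((if (x : G) ∈ M then (M.relIndex K : ℂ) else 0) -
        if (x : G) ∈ H then (H.relIndex K : ℂ) else 0) := by
  classical
  have hsub : IrrKer (H.subgroupOf K) ⊆ IrrKer (M.subgroupOf K) := IrrKer_anti fun y hy => hMH hy
  have hmem : ∀ θ, θ ∈ IrrKer (M.subgroupOf K) \ IrrKer (H.subgroupOf K) ↔ θ ∈ IrrKerD K H M := by
    intro θ
    rw [Finset.mem_sdiff, mem_IrrKer_subgroupOf, mem_IrrKer_subgroupOf]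
    exact ⟨fun h => ⟨h.1.1, fun h' => h.2 ⟨h.1.1, h'⟩, h.1.2⟩, fun h => ⟨⟨h.1, h.2.2⟩, fun h' => h.2.1 h'.2⟩⟩
  have key := congrFun (sum_seqInd_eq_cInd h hn (IrrKer (M.subgroupOf K) \ IrrKer (H.subgroupOf K))
    (fun θ hθ => ((hmem θ).1 hθ).1) (fun θ hθ y hy => (hmem _).2 ⟨IsIrrCharacter_cConj ((hmem θ).1 hθ).1 (hn hy),
      mt (inKer_cConj_iff (hn hy) (hH hy)).1 ((hmem θ).1 hθ).2.1, ((hmem θ).1 hθ).2.2.cConj (hn hy) (hM hy)⟩)
    (seqIndD_finite K L H M).toFinset (by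
      rw [Set.Finite.coe_toFinset, seqIndD]; congr 1; ext θ; exact (hmem θ).symm)) x
  simp only [Finset.sum_apply, Pi.smul_apply, smul_eq_mul] at key
  rw [key, Finset.sum_sdiff_eq_sub hsub]
  by_cases hx : (x : G) ∈ K
  · rw [cInd_apply_of_invariant h hn _ hx, Pi.sub_apply, sum_IrrKer_apply (h.trans hM),
      sum_IrrKer_apply (h.trans hH)]
    · intro y hy
      funext z
      rw [cConj_apply _ (hn hy), Pi.sub_apply, Pi.sub_apply, sum_IrrKer_apply (h.trans hM),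
        sum_IrrKer_apply (h.trans hH), sum_IrrKer_apply (h.trans hM), sum_IrrKer_apply (h.trans hH)]
      simp only [← mem_normalizer_iff.1 (hM hy) z, ← mem_normalizer_iff.1 (hH hy) z]
  · rw [cInd_apply_of_not_mem h hn _ hx, if_neg fun h' => hx (hHK (hMH h')),
      if_neg fun h' => hx (hHK h'), sub_zero, mul_zero]

/-- `sum_seqIndD_square` -/
theorem sum_seqIndD_square (h : K ≤ L) (hn : L ≤ N[K]) (hHK : H ≤ K) (hH : L ≤ N[H])
    (hM : L ≤ N[M]) (hMH : M ≤ H) :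
    ∑ φ ∈ (seqIndD_finite K L H M).toFinset, (φ 1).re ^ 2 / nsq φ =
      (K.relIndex L : ℝ) * H.relIndex K * ((M.relIndex H : ℝ) - 1) := by
  classical
  have := sum_seqIndD_apply h hn hHK hH hM hMH 1
  rw [if_pos (by simp), if_pos (by simp), ← relIndex_mul_relIndex M H K hMH hHK] at this
  apply Complex.ofReal_injective
  push_cast at this ⊢
  rw [Finset.sum_congr rfl (g := fun φ => φ 1 / (nsq φ : ℂ) * φ 1), this]
  · ring
  · intro φ hφ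
    obtain ⟨d, hd⟩ := (seqIndT_char h (seqIndD_subset_T ((Set.Finite.mem_toFinset _).1 hφ))).exists_degree
    rw [hd, Complex.natCast_re]; push_cast; ring

/-- `zcharD1_seqInd_Dade` -/
theorem zspan_supp (hS : ∀ φ ∈ S, IsClassFunction L φ ∧ SuppOn (insert 1 A) φ)
    (hφ : φ ∈ zspanOn S {1}ᶜ) : φ ∈ CF L A := by
  obtain ⟨h1, h2⟩ := mem_zspanOn_one.1 hφ
  have : IsClassFunction L φ ∧ SuppOn (insert 1 A) φ := by
    refine zspan_induction (P := fun φ => IsClassFunction L φ ∧ SuppOn (insert 1 A) φ) hS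
      ⟨isClassFunction_zero, fun _ _ => rfl⟩ (fun α β _ _ hα hβ => ⟨hα.1.add hβ.1, fun x hx => ?_⟩)
      (fun n α _ hα => ⟨hα.1.zsmul n, fun x hx => ?_⟩) h1
    · rw [Pi.add_apply, hα.2 x hx, hβ.2 x hx, add_zero]
    · rw [Pi.smul_apply, hα.2 x hx, smul_zero]
  refine ⟨this.1, fun x hx => ?_⟩
  by_cases hx1 : x = 1
  · rw [hx1, h2]
  · exact this.2 x fun h => h.elim (fun h => hx1 (Subtype.ext h)) hx

theorem SuppOn.insert_sharp (hφ : SuppOn (K : Set G) φ) : SuppOn (insert 1 (sharp K)) φ :=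
  hφ.mono fun x hx => by
    by_cases h1 : x = 1
    · exact Or.inl h1
    · exact Or.inr ⟨hx, h1⟩

/-- `zcharD1_seqInd_on` -/
theorem zspan_seqIndT_on (h : K ≤ L) (hn : L ≤ N[K]) (hS : S ⊆ seqIndT K L)
    (hφ : φ ∈ zspanOn S {1}ᶜ) : φ ∈ CF L (sharp K) :=
  zspan_supp (fun _ hψ => ⟨seqIndT_class (hS hψ), (seqIndT_on h hn (hS hψ)).insert_sharp⟩) hφ

theorem inducedIrrAbove_eq (h : K ≤ L) :
    inducedIrrAbove (K.subgroupOf L) (M.subgroupOf L) = seqIndD K L K M := by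
  ext φ
  constructor
  · rintro ⟨θ, h1, h2, h3, rfl⟩
    have h4 := h1.comp_equiv (subgroupOfEquivOfLe h).symm
    refine ⟨fun x => θ ((subgroupOfEquivOfLe h).symm x), ⟨h4, fun hk => h2 ?_, fun x hx => h3 _ hx⟩, rfl⟩
    have := (inKer_self_iff h4).1 hk
    funext x
    exact congrFun this (subgroupOfEquivOfLe h x)
  · rintro ⟨θ, ⟨h1, h2, h3⟩, rfl⟩
    refine ⟨fun x => θ (subgroupOfEquivOfLe h x), h1.comp_equiv _, fun e => ?_, fun x hx => h3 _ hx, rfl⟩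
    refine ne_one_of_not_inKer h2 (funext fun x => ?_)
    exact congrFun e ((subgroupOfEquivOfLe h).symm x)

end Cfsg.Agent.PF
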