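import Cfsg.Agent.PF.Eta

set_option autoImplicit false
set_option linter.unusedSectionVars false
set_option linter.unusedVariables false

namespace Cfsg.Agent.PF

open Subgroup Cfsg.Agent.GT Cfsg.Agent.BG Cfsg.Agent.Char

universe u v w

/-! Peterfalvi §3: the cyclic TI isometry. Index `1` is Coq's `0`, `i⁻¹` is `conjC_Iirr i`.
Most of the section is in `PF/Eta.lean`: `CycTI.comm₁`, `comm₂`, `coprime`, `inv_ne₁`, `inv_ne₂`,
`swap`, `eta_swap`, `eta_sirr`, `eta_virt`, `eta_class`, `eta_ne_neg`, `eta_one`, `ind_alpha`,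
`apply_eq_sum`, `NC_neg`, `NC_smul_le`, `NC_add_le`, `NC_sub_le`, `NC_eq_zero_iff`, `NC_eta`,
`NC_sirr`, `NC_le_nsq`, `small_NC`, `cfAut_eta`, `conj_eta`, and more. -/

section Abstract
variable {W₁ : Type u} {W₂ : Type v} {X : Type w} [Group W₁] [Group W₂] [Group X]
  [Finite W₁] [Finite W₂] [Fintype X] {e : W₁ × W₂ →* X} {i i' : Lin W₁} {j j' : Lin W₂}
  {φ ψ χ : X → ℂ}

theorem CycTI.card_lin₁ (h : CycTI e) : Nat.card (Lin W₁) = Nat.card W₁ := by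
  rw [Nat.card_eq_fintype_card, h.card_Lin₁]
theorem CycTI.card_lin₂ (h : CycTI e) : Nat.card (Lin W₂) = Nat.card W₂ := by
  rw [Nat.card_eq_fintype_card, h.card_Lin₂]
theorem CycTI.two_lt₁ (h : CycTI e) : 2 < Nat.card W₁ := h.three_le₁
theorem CycTI.two_lt₂ (h : CycTI e) : 2 < Nat.card W₂ := h.three_le₂
theorem CycTI.mem_range_iff (h : CycTI e) {x g : X} (hx : x ∈ tiSet e) :
    g * x * g⁻¹ ∈ tiSet e ↔ g ∈ e.range := by
  refine ⟨h.ti x hx g, ?_⟩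
  rintro ⟨w, rfl⟩
  obtain ⟨a, b, ha, hb, rfl⟩ := hx
  have := h.comm
  rw [← map_mul, ← map_inv, ← map_mul, mul_comm' w, mul_inv_cancel_right]
  exact mem_tiSet ha hb

/-- (3.2)(c): `cycTIiso_restrict` -/
theorem CycTI.eta_apply (h : CycTI e) (i : Lin W₁) (j : Lin W₂) {a : W₁} {b : W₂} (ha : a ≠ 1)
    (hb : b ≠ 1) : eta e i j (e (a, b)) = (i a : ℂ) * (j b : ℂ) := h.eta_on i j ha hb

/-- `cfdot_cycTIiso` -/
theorem CycTI.ci_eta (h : CycTI e) (i i' : Lin W₁) (j j' : Lin W₂) :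
    ⟪eta e i j, eta e i' j'⟫ = if i = i' ∧ j = j' then 1 else 0 := h.eta_ci i i' j j'

theorem CycTI.nsq_eta (h : CycTI e) (i : Lin W₁) (j : Lin W₂) : nsq (eta e i j) = 1 :=
  (h.eta_sirr i j).nsq

theorem CycTI.eta_inj (h : CycTI e) (he : eta e i j = eta e i' j') : i = i' ∧ j = j' :=
  h.eta_inj_iff.1 he

theorem ci_sum_om [Fintype (W₁ × W₂)] (c : Lin W₁ → Lin W₂ → ℂ) (i : Lin W₁) (j : Lin W₂) :
    ⟪∑ i', ∑ j', c i' j' • om i' j', om i j⟫ = c i j := by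
  simp only [ci_sum_left, ci_smul_left, ci_om, mul_ite, mul_one, mul_zero]
  rw [Finset.sum_eq_single i, Finset.sum_eq_single j]
  · rw [if_pos ⟨rfl, rfl⟩]
  · intro b _ hb; rw [if_neg fun H => hb H.2]
  · intro H; exact absurd (Finset.mem_univ _) H
  · intro b _ hb; exact Finset.sum_eq_zero fun c _ => if_neg fun H => hb H.1
  · intro H; exact absurd (Finset.mem_univ _) H

/-- (3.2)(a): `cycTIiso_Ind` -/
theorem CycTI.ind_eq (h : CycTI e) [Fintype (W₁ × W₂)] (c : Lin W₁ → Lin W₂ → ℂ)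
    (hc : ∀ w : W₁ × W₂, w.1 = 1 ∨ w.2 = 1 → ∑ i, ∑ j, c i j * om i j w = 0) :
    ind e (∑ i, ∑ j, c i j • om i j) = ∑ i, ∑ j, c i j • eta e i j := by
  rw [h.ind_eq_sum (fun a b hab => by
    simpa only [Finset.sum_apply, Pi.smul_apply, smul_eq_mul] using hc (a, b) hab)]
  simp only [ci_sum_om]

/-- (3.2)(e): `ortho_cycTIiso_vanish` -/
theorem CycTI.ortho_vanish (h : CycTI e) (hφ : IsClassFunction X φ)
    (ho : ∀ i j, ⟪φ, eta e i j⟫ = 0) {x : X} (hx : x ∈ tiSet e) : φ x = 0 :=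
  h.vanish_of_orth hφ ho x hx

/-- (3.7): `cycTIiso_cfdot_exchange` -/
theorem CycTI.cfdot_exchange (h : CycTI e) (hφ : IsClassFunction X φ)
    (h0 : ∀ x ∈ tiSet e, φ x = 0) (i i' : Lin W₁) (j j' : Lin W₂) :
    ⟪φ, eta e i j⟫ + ⟪φ, eta e i' j'⟫ = ⟪φ, eta e i j'⟫ + ⟪φ, eta e i' j⟫ :=
  h.exchange hφ h0 i i' j j'

/-- `cycTI_NC_minn` -/
theorem CycTI.NC_minn (h : CycTI e) (hφ : IsClassFunction X φ) (h0 : ∀ x ∈ tiSet e, φ x = 0)
    (hpos : 0 < NC e φ) (hlt : NC e φ < 2 * min (Nat.card W₁) (Nat.card W₂)) :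
    min (Nat.card W₁) (Nat.card W₂) ≤ NC e φ := h.min_le_NC hφ h0 hpos hlt

/-- `eq_signed_sub_cTIiso` -/
theorem CycTI.eq_signed_sub (h : CycTI e) (hφ : IsGeneralizedCharacter X φ) (h2 : nsq φ = 2)
    {ε : ℂ} (hε : ε = 1 ∨ ε = -1) (hj : j ≠ j')
    (hV : ∀ x ∈ tiSet e, φ x = ε * (eta e i j x - eta e i j' x)) :
    φ = ε • (eta e i j - eta e i j') := h.eq_signed_sub' hφ h2 hε i hj hV

/-- (3.9)(a): `eq_in_cycTIiso` -/
theorem CycTI.eq_eta (h : CycTI e) (hχ : IsSIrr X χ)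
    (hV : ∀ a b, a ≠ 1 → b ≠ 1 → χ (e (a, b)) = (i a : ℂ) * (j b : ℂ)) : χ = eta e i j :=
  h.eq_eta_of_on hχ hV

theorem orderOf_cop_dvd (i : Lin W₁) (j : Lin W₂) : orderOf (cop i j) ∣ orderOf i * orderOf j := by
  refine orderOf_dvd_of_pow_eq_one ?_
  rw [cop_pow, (orderOf_dvd_iff_pow_eq_one (x := i)).1 (Dvd.intro _ rfl),
    (orderOf_dvd_iff_pow_eq_one (x := j)).1 (Dvd.intro_left _ rfl), cop_one_one]

/-- (3.9)(b): `cycTIiso_aut_exists` -/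
theorem CycTI.aut_exists (h : CycTI e) (i : Lin W₁) (j : Lin W₂) {k : ℕ}
    (hk : k.Coprime (orderOf i * orderOf j)) :
    (∃ σ : ℂ ≃+* ℂ, eta e (i ^ k) (j ^ k) = cfAut σ (eta e i j)) ∧
    ∀ x : X, (orderOf x).Coprime (orderOf i * orderOf j) →
      eta e (i ^ k) (j ^ k) x = eta e i j x := by
  have hk' := hk.coprime_dvd_right (orderOf_cop_dvd i j)
  refine ⟨(h.exists_pow i j hk' one_pos (Nat.coprime_one_right _)).imp fun σ hσ => hσ.1,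
    fun x hx => ?_⟩
  obtain ⟨σ, -, hσ⟩ := h.exists_pow i j hk' (orderOf_pos x)
    (hx.coprime_dvd_right (orderOf_cop_dvd i j)).symm
  exact hσ x dvd_rfl

/-- (3.9)(c): `Cint_cycTIiso_coprime` -/
theorem CycTI.eta_int (h : CycTI e) (i : Lin W₁) (j : Lin W₂) {x : X}
    (hx : (orderOf x).Coprime (orderOf i * orderOf j)) : ∃ n : ℤ, eta e i j x = n :=
  h.exists_int i j (hx.coprime_dvd_right (orderOf_cop_dvd i j))

/-- `cfExp_prime_transitive`: for `|W|` prime the non-trivial linear characters are powers of each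
other and Galois conjugate -/
theorem exists_linAut_of_prime {W : Type u} [Group W] [Finite W] (hp : (Nat.card W).Prime)
    {j k : Lin W} (hj : j ≠ 1) (hk : k ≠ 1) :
    ∃ n : ℕ, n.Coprime (Nat.card W) ∧ k = j ^ n := by
  have := Fact.mk hp
  have : IsCyclic W := isCyclic_of_prime_card rfl
  have hc : Nat.card (Lin W) = Nat.card W := card_linChar W
  have htop : Subgroup.zpowers j = ⊤ := zpowers_eq_top_of_prime_card hc hj
  have hmem : k ∈ Submonoid.powers j := by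
    rw [mem_powers_iff_mem_zpowers, htop]; trivial
  obtain ⟨n, hn⟩ := hmem
  refine ⟨n, ((Nat.Prime.coprime_iff_not_dvd hp).2 fun hd => hk ?_).symm, hn.symm⟩
  rw [← hn]
  exact (orderOf_dvd_iff_pow_eq_one (x := j)).1 ((hc ▸ orderOf_dvd_natCard j).trans hd)

theorem lin_pow_card {W : Type u} [Group W] (j : Lin W) (w : W) :
    (j w : ℂ) ^ Nat.card W = 1 := by
  rw [← Units.val_pow_eq_pow_val, ← map_pow, pow_card_eq_one', map_one, Units.val_one]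

/-- a Galois automorphism moving `j` to `j ^ n` and fixing the characters of a coprime group -/
theorem exists_linAut_pow {W W' : Type*} [Group W] [Finite W] [Group W'] [Finite W']
    (hc : (Nat.card W).Coprime (Nat.card W')) {n : ℕ} (hn : n.Coprime (Nat.card W)) :
    ∃ σ : ℂ ≃+* ℂ, (∀ j : Lin W, linAut σ j = j ^ n) ∧ ∀ i : Lin W', linAut σ i = i := by
  obtain ⟨σ, h1, h2⟩ := exists_ringEquiv_pow_coprime Nat.card_pos Nat.card_pos hc hn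
  refine ⟨σ, fun j => MonoidHom.ext fun w => Units.ext ?_, fun i => MonoidHom.ext fun w => Units.ext ?_⟩
  · rw [linAut_apply, MonoidHom.pow_apply, Units.val_pow_eq_pow_val]
    exact h1 _ (lin_pow_card j w)
  · rw [linAut_apply]; exact h2 _ (lin_pow_card i w)

end Abstract

section Ambient
variable {G : Type u} [Group G] [Fintype G] {L W₁ W₂ : Subgroup G}

theorem isCyclic_prod_iff_sup (hc : W₁ ≤ C[W₂]) (hi : W₁ ⊓ W₂ = ⊥) :
    IsCyclic (W₁ × W₂) ↔ IsCyclic ↥(W₁ ⊔ W₂) := by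
  rw [← wG_range hc]
  exact (MonoidHom.ofInjective (wG_injective hc hi)).isCyclic

theorem cycTI_of_selfNormalizing (h : IsSelfNormalizingCyclic W₁ W₂)
    (ho : Odd (Nat.card W₁ * Nat.card W₂)) : CycTI (wG W₁ W₂) := by
  have hT := cycTI_of_isSelfNormalizingCyclic h
  obtain ⟨h1, h2, hi, hc, hcyc, -⟩ := h
  have hc' : W₁ ≤ C[W₂] := fun a ha b hb => (hc a ha b hb).symm
  refine ⟨wG_injective hc' hi, (isCyclic_prod_iff_sup hc' hi).2 hcyc, ho,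
    (nontrivial_iff_ne_bot _).2 h1, (nontrivial_iff_ne_bot _).2 h2, fun x hx g hg => ?_⟩
  rw [tiSet_wG hc' hi] at hx hg
  have := hT.TI ⟨x, hx.1⟩ hx.2.1 hx.2.2 g⁻¹ ⟨_, hg.1⟩ (by simp)
  rw [range_subtype, inv_mem_iff] at this
  rwa [wG_range hc']

theorem CycTI.dprod (h : CycTI (wG W₁ W₂)) : Dprod W₁ W₂ (W₁ ⊔ W₂) := by
  have hc : W₁ ≤ C[W₂] := by
    by_contra hn
    have := h.nt₁
    obtain ⟨a, ha⟩ := exists_ne (1 : W₁)
    have e1 : wG W₁ W₂ (a, 1) = wG W₁ W₂ 1 := by simp [wG, hn]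
    exact ha (congrArg Prod.fst (h.inj e1))
  refine dprod_sup hc (eq_bot_iff.2 fun x hx => mem_bot.2 ?_)
  have e1 : wG W₁ W₂ (⟨x, hx.1⟩, ⟨x, hx.2⟩⁻¹) = wG W₁ W₂ 1 := by simp [wG_apply hc]
  exact congrArg Subtype.val (congrArg Prod.fst (h.inj e1))

theorem CycTI.tiSet_eq (h : CycTI (wG W₁ W₂)) : tiSet (wG W₁ W₂) = cycTI W₁ W₂ :=
  tiSet_wG h.dprod.cent h.dprod.inf_eq

theorem wG_swap (hc : W₁ ≤ C[W₂]) :
    wG W₂ W₁ = (wG W₁ W₂).comp (MulEquiv.prodComm : W₂ × W₁ ≃* W₁ × W₂).toMonoidHom := by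
  refine MonoidHom.ext fun ⟨b, a⟩ => ?_
  rw [wG_apply (le_centralizer_iff.1 hc)]
  exact (hc a.2 b b.2).trans (wG_apply hc a b).symm

theorem CycTI.symm (h : CycTI (wG W₁ W₂)) : CycTI (wG W₂ W₁) := by
  rw [wG_swap h.dprod.cent]; exact h.swap

theorem CycTI.normedTI (h : CycTI (wG W₁ W₂)) : NormedTI (cycTI W₁ W₂) ⊤ (W₁ ⊔ W₂) := by
  have := h.nt₁; have := h.nt₂
  obtain ⟨a, ha⟩ := exists_ne (1 : W₁)
  obtain ⟨b, hb⟩ := exists_ne (1 : W₂)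
  rw [← h.tiSet_eq, ← wG_range h.dprod.cent]
  exact ⟨⟨_, mem_tiSet ha hb⟩, le_top, fun x hx g _ => h.mem_range_iff hx⟩

theorem CycTI.isCyclic (h : CycTI (wG W₁ W₂)) : IsCyclic ↥(W₁ ⊔ W₂) :=
  (isCyclic_prod_iff_sup h.dprod.cent h.dprod.inf_eq).1 h.cyc

theorem mem_range_wL (h₁ : W₁ ≤ L) (h₂ : W₂ ≤ L) {g : L} :
    g ∈ (wL L W₁ W₂).range ↔ (g : G) ∈ (wG W₁ W₂).range :=
  ⟨fun ⟨w, hw⟩ => ⟨w, by rw [← hw, coe_wL h₁ h₂]⟩,
    fun ⟨w, hw⟩ => ⟨w, Subtype.ext (by rw [coe_wL h₁ h₂, hw])⟩⟩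

theorem CycTI.restrict (h : CycTI (wG W₁ W₂)) (h₁ : W₁ ≤ L) (h₂ : W₂ ≤ L) :
    CycTI (wL L W₁ W₂) := by
  refine ⟨fun v w hvw => h.inj (by rw [← coe_wL h₁ h₂, hvw, coe_wL h₁ h₂]), h.cyc, h.odd, h.nt₁,
    h.nt₂, fun x hx g hg => ?_⟩
  rw [mem_tiSet_wL h₁ h₂] at hx hg
  exact (mem_range_wL h₁ h₂).2 (h.ti x hx g hg)

theorem CycTI.etaG_apply (h : CycTI (wG W₁ W₂)) (i : Lin W₁) (j : Lin W₂) {a : W₁} {b : W₂}
    (ha : a ≠ 1) (hb : b ≠ 1) : etaG W₁ W₂ i j (a * b) = (i a : ℂ) * (j b : ℂ) := by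
  rw [← wG_apply h.dprod.cent]; exact h.eta_apply i j ha hb

theorem NC_swap (h : W₁ ≤ C[W₂]) (φ : G → ℂ) : NC (wG W₂ W₁) φ = NC (wG W₁ W₂) φ := by
  unfold NC
  refine Nat.card_congr ((Equiv.prodComm _ _).subtypeEquiv fun p => ?_)
  have := etaG_swap h p.2 p.1
  unfold etaG at this
  rw [this]; rfl

theorem card_cycTI (h : Dprod W₁ W₂ (W₁ ⊔ W₂)) :
    Nat.card (cycTI W₁ W₂) = (Nat.card W₁ - 1) * (Nat.card W₂ - 1) := by
  rw [← card_ne_one_subtype, ← card_ne_one_subtype, ← Nat.card_prod, ← tiSet_wG h.cent h.inf_eq]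
  refine (Nat.card_eq_of_bijective (fun p : {a : W₁ // a ≠ 1} × {b : W₂ // b ≠ 1} =>
    (⟨wG W₁ W₂ (p.1.1, p.2.1), mem_tiSet p.1.2 p.2.2⟩ : tiSet (wG W₁ W₂))) ⟨?_, ?_⟩).symm
  · intro p q hpq
    have := wG_injective h.cent h.inf_eq (congrArg Subtype.val hpq)
    exact Prod.ext (Subtype.ext (congrArg Prod.fst this)) (Subtype.ext (congrArg Prod.snd this))
  · rintro ⟨_, a, b, ha, hb, rfl⟩
    exact ⟨(⟨a, ha⟩, ⟨b, hb⟩), rfl⟩

end Ambient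

end Cfsg.Agent.PF
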