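import Cfsg.Agent.PF.S04a

set_option autoImplicit false
set_option linter.unusedSectionVars false
set_option linter.unusedVariables false

namespace Cfsg.Agent.PF

open Subgroup Cfsg.Agent.GT Cfsg.Agent.BG Cfsg.Agent.Char

universe u v w

/-! Peterfalvi §4: prime TI hypothesis and the Dade isometry. (4.1)–(4.5) (namespace `PrimeTI`)
are in `PF/S04a.lean`. -/

variable {G : Type u} [Group G] [Fintype G] {L K H M W₁ W₂ : Subgroup G} {A A₀ : Set G}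
  {R : G → Subgroup G} {i i' : Lin W₁} {j j' k : Lin W₂}

theorem SuppOn.add {A : Set G} {α β : L → ℂ} (hα : SuppOn A α) (hβ : SuppOn A β) :
    SuppOn A (α + β) := fun x hx => by rw [Pi.add_apply, hα x hx, hβ x hx, add_zero]

theorem SuppOn.sub {A : Set G} {α β : L → ℂ} (hα : SuppOn A α) (hβ : SuppOn A β) :
    SuppOn A (α - β) := fun x hx => by rw [Pi.sub_apply, hα x hx, hβ x hx, sub_zero]

theorem SuppOn.neg {A : Set G} {α : L → ℂ} (hα : SuppOn A α) : SuppOn A (-α) :=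
  fun x hx => by rw [Pi.neg_apply, hα x hx, neg_zero]

theorem SuppOn.smul {A : Set G} {α : L → ℂ} (c : ℂ) (hα : SuppOn A α) : SuppOn A (c • α) :=
  fun x hx => by rw [Pi.smul_apply, hα x hx, smul_zero]

theorem SuppOn.conjFun {A : Set G} {α : L → ℂ} (hα : SuppOn A α) : SuppOn A (conjFun α) :=
  fun x hx => by rw [conjFun_apply, hα x hx, map_zero]

theorem SuppOn.cfAut {A : Set G} {α : L → ℂ} (σ : ℂ →+* ℂ) (hα : SuppOn A α) :
    SuppOn A (cfAut σ α) := fun x hx => by rw [PF.cfAut, hα x hx, map_zero]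

theorem suppOn_sum {A : Set G} {ι : Type v} {s : Finset ι} {f : ι → L → ℂ}
    (h : ∀ i ∈ s, SuppOn A (f i)) : SuppOn A (∑ i ∈ s, f i) := fun x hx => by
  rw [Finset.sum_apply]; exact Finset.sum_eq_zero fun i hi => h i hi x hx

theorem SuppOn.of_insert {A : Set G} {α : L → ℂ} (hα : SuppOn (insert 1 A) α) (h1 : α 1 = 0) :
    SuppOn A α := fun x hx => by
  by_cases hx1 : x = 1
  · rw [hx1, h1]
  · exact hα x fun h => h.elim (fun h => hx1 (Subtype.ext h)) hx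

theorem SuppOn.cInd {A : Set G} {θ : K → ℂ} (hθ : SuppOn A θ) (h : K ≤ L)
    (hn : ∀ x ∈ L, ∀ a ∈ A, x * a * x⁻¹ ∈ A) : SuppOn A (cInd L θ) := fun x hx => by
  rw [cInd_eq h]
  refine ind_eq_zero_of_forall fun y a e => hθ a fun ha => hx ?_
  have e' : (a : G) = (y : G)⁻¹ * x * y := congrArg Subtype.val e
  have := hn y y.2 a ha
  rwa [e', show (y : G) * ((y : G)⁻¹ * x * y) * (y : G)⁻¹ = x by group] at this

theorem conj_mem_insert_one {A : Set G} (hn : ∀ x ∈ L, ∀ a ∈ A, x * a * x⁻¹ ∈ A) :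
    ∀ x ∈ L, ∀ a ∈ insert 1 A, x * a * x⁻¹ ∈ insert 1 A := by
  rintro x hx a (rfl | ha)
  · exact Or.inl (by simp)
  · exact Or.inr (hn x hx a ha)

theorem cfAut_dadeL (A : Set G) (L : Subgroup G) (R : G → Subgroup G) (σ : ℂ →+* ℂ) (α : L → ℂ) :
    cfAut σ (dadeL A L R α) = dadeL A L R (cfAut σ α) :=
  funext fun g => map_dade A L R σ (map_zero σ) α g

theorem conjFun_dadeL (A : Set G) (L : Subgroup G) (R : G → Subgroup G) (α : L → ℂ) :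
    conjFun (dadeL A L R α) = dadeL A L R (conjFun α) := conjFun_dade A L R α

theorem isClassFunction_dadeL (A : Set G) (L : Subgroup G) (R : G → Subgroup G) (α : L → ℂ) :
    IsClassFunction G (dadeL A L R α) := isClassFunction_dade A L R α

section dadeL
variable {α β : L → ℂ}

theorem dadeL_virt (hD : DadeHypothesis A L R) (hα : IsGeneralizedCharacter L α)
    (hs : SuppOn A α) : IsGeneralizedCharacter G (dadeL A L R α) := hD.virt_dade hα hs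

theorem dadeL_ci (hD : DadeHypothesis A L R) (hα : IsClassFunction L α) (hs : SuppOn A α)
    (hβ : IsClassFunction L β) : ⟪dadeL A L R α, dadeL A L R β⟫ = ⟪α, β⟫ :=
  hD.ci_dade_dade hα hs hβ

theorem dadeL_nsq (hD : DadeHypothesis A L R) (hα : IsClassFunction L α) (hs : SuppOn A α) :
    nsq (dadeL A L R α) = nsq α := hD.nsq_dade hα hs

theorem dadeL_one (hD : DadeHypothesis A L R) (α : L → ℂ) : dadeL A L R α 1 = 0 := hD.dade_one α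

theorem dadeL_self (hD : DadeHypothesis A L R) (hα : IsClassFunction L α) {a : L}
    (ha : (a : G) ∈ A) : dadeL A L R α a = α a := hD.dade_apply_self hα ha

theorem dadeL_mul (hD : DadeHypothesis A L R) (hα : IsClassFunction L α) {a : L} {u : G}
    (ha : (a : G) ∈ A) (hu : u ∈ R a) : dadeL A L R α (a * u) = α a := hD.dade_apply_mul hα ha hu

theorem dadeL_of_not_mem (α : L → ℂ) {g : G} (hg : g ∉ dadeSupp A R) : dadeL A L R α g = 0 :=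
  dade_apply_of_not_mem α hg

theorem dadeL_ci_one (hD : DadeHypothesis A L R) (hα : IsClassFunction L α) (hs : SuppOn A α) :
    ⟪dadeL A L R α, fun _ => 1⟫ = ⟪α, fun _ => 1⟫ := hD.ci_dade_one hα hs

theorem dadeL_ci_rho (hD : DadeHypothesis A L R) (hα : IsClassFunction L α) (hs : SuppOn A α)
    {χ : G → ℂ} (hχ : IsClassFunction G χ) : ⟪dadeL A L R α, χ⟫ = ⟪α, dadeRho A L R χ⟫ :=
  hD.ci_dade_rho hα hs hχ

theorem dadeL_ci_res (hD : DadeHypothesis A L R) (hα : IsClassFunction L α) (hs : SuppOn A α)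
    {χ : G → ℂ} (hχ : IsClassFunction G χ) (hc : ∀ a ∈ A, ∀ u ∈ R a, χ (a * u) = χ a) :
    ⟪dadeL A L R α, χ⟫ = ⟪α, fun x : L => χ x⟫ := hD.ci_dade_res hα hs hχ hc

theorem dadeL_restrict (hD : DadeHypothesis A L R) {A₁ : Set G} (h₁ : A₁ ⊆ A)
    (hn : ∀ x ∈ L, ∀ a ∈ A₁, x * a * x⁻¹ ∈ A₁) (hα : IsClassFunction L α) (hs : SuppOn A₁ α) :
    dadeL A₁ L R α = dadeL A L R α := hD.dade_restrict h₁ hn hα hs

theorem dadeL_eq_indFun (hD : DadeHypothesis A L R) (hα : IsClassFunction L α) (hs : SuppOn A α)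
    (hR : ∀ x : L, (x : G) ∈ A → α x ≠ 0 → R x = ⊥) : dadeL A L R α = indFun L α :=
  hD.dade_eq_indFun hα hs hR

end dadeL

/-! ### Hypothesis (4.6) -/

theorem PrDade.one_not_mem (h : PrDade L K H A A₀ R W₁ W₂) : (1 : G) ∉ A := fun h1 => (h.AK h1).2 rfl
theorem PrDade.subset (h : PrDade L K H A A₀ R W₁ W₂) : A ⊆ A₀ := h.defA₀ ▸ Set.subset_union_left
theorem PrDade.cycTI_subset (h : PrDade L K H A A₀ R W₁ W₂) : cycTI W₁ W₂ ⊆ A₀ :=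
  h.defA₀ ▸ (subset_classSupp _ _).trans Set.subset_union_right
theorem PrDade.classSupp_subset (h : PrDade L K H A A₀ R W₁ W₂) : classSupp (cycTI W₁ W₂) L ⊆ A₀ :=
  h.defA₀ ▸ Set.subset_union_right
theorem PrDade.sharp_subset (h : PrDade L K H A A₀ R W₁ W₂) : sharp H ⊆ A := fun x hx =>
  h.centA x hx.1 hx.2 x ⟨h.HK hx.1, self_mem_cent1 x⟩ hx.2

theorem PrimeTI.wL_mem_cycTI (h : PrimeTI L K W₁ W₂) {a : W₁} {b : W₂} (ha : a ≠ 1) (hb : b ≠ 1) :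
    ((wL L W₁ W₂ (a, b) : L) : G) ∈ BG.cycTI W₁ W₂ := by
  rw [← tiSet_wG h.dprod.cent h.dprod.inf_eq, ← mem_tiSet_wL h.W₁_le h.W₂_le]
  exact mem_tiSet ha hb

theorem PrimeTI.exists_of_mem_cycTI (h : PrimeTI L K W₁ W₂) {x : G} (hx : x ∈ BG.cycTI W₁ W₂) :
    ∃ (a : W₁) (b : W₂), a ≠ 1 ∧ b ≠ 1 ∧ x = wL L W₁ W₂ (a, b) := by
  rw [← tiSet_wG h.dprod.cent h.dprod.inf_eq] at hx
  obtain ⟨a, b, ha, hb, rfl⟩ := hx
  exact ⟨a, b, ha, hb, (coe_wL h.W₁_le h.W₂_le _).symm⟩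

/-- `prDade_supp_disjoint` -/
theorem PrimeTI.not_mem_of_mem_cycTI (h : PrimeTI L K W₁ W₂) {x : G} (hx : x ∈ BG.cycTI W₁ W₂) :
    x ∉ K := by
  obtain ⟨a, b, ha, hb, rfl⟩ := h.exists_of_mem_cycTI hx
  exact fun hK => ha (h.wL_mem_K_iff.1 hK)

theorem PrimeTI.not_mem_of_mem_classSupp (h : PrimeTI L K W₁ W₂) {x : G}
    (hx : x ∈ classSupp (BG.cycTI W₁ W₂) L) : x ∉ K := by
  obtain ⟨v, hv, g, hg, rfl⟩ := hx
  exact fun hK => h.not_mem_of_mem_cycTI hv ((mem_normalizer_iff.1 (h.norm hg) v).2 hK)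

theorem PrDade.mem_A_of_mem_K (h : PrDade L K H A A₀ R W₁ W₂) {x : G} (hx : x ∈ A₀) (hK : x ∈ K) :
    x ∈ A := by
  rw [h.defA₀] at hx
  exact hx.resolve_right fun hv => h.pti.not_mem_of_mem_classSupp hv hK

theorem PrDade.dade_apply_wL (h : PrDade L K H A A₀ R W₁ W₂) {α : L → ℂ}
    (hα : IsClassFunction L α) {a : W₁} {b : W₂} (ha : a ≠ 1) (hb : b ≠ 1) :
    dadeL A₀ L R α (wG W₁ W₂ (a, b)) = α (wL L W₁ W₂ (a, b)) := by
  rw [← coe_wL h.pti.W₁_le h.pti.W₂_le]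
  exact h.dade.dade_apply_self hα (h.cycTI_subset (h.pti.wL_mem_cycTI ha hb))

/-- on `V` the signalizer is trivial and the Dade map does not change values (`prDade_def`,
`Dade_id`): if `α ∈ CF(L, A)` then `α^τ` vanishes on `V` -/
theorem PrDade.dade_vanish (h : PrDade L K H A A₀ R W₁ W₂) {α : L → ℂ} (hα : α ∈ CF L A)
    {x : G} (hx : x ∈ cycTI W₁ W₂) : dadeL A₀ L R α x = 0 := by
  obtain ⟨a, b, ha, hb, rfl⟩ := h.pti.exists_of_mem_cycTI hx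
  rw [dadeL_apply, h.dade.dade_apply_self hα.1 (h.cycTI_subset hx)]
  exact hα.2 _ fun hA => h.pti.not_mem_of_mem_cycTI hx (h.AK hA).1

theorem PrDade.dade_vanish' (h : PrDade L K H A A₀ R W₁ W₂) {α : L → ℂ}
    (hα : IsClassFunction L α) (hK : SuppOn (K : Set G) α) :
    ∀ x ∈ tiSet (wG W₁ W₂), dadeL A₀ L R α x = 0 :=
  forall_tiSet.2 fun a b ha hb => by
    rw [h.dade_apply_wL hα ha hb]; exact hK _ fun hm => ha (h.pti.wL_mem_K_iff.1 hm)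

theorem PrDade.signalizer_eq_bot (h : PrDade L K H A A₀ R W₁ W₂) {x : G}
    (hx : x ∈ classSupp (cycTI W₁ W₂) L) : R x = ⊥ := by
  have hx₀ := h.classSupp_subset hx
  refine eq_bot_iff.2 fun u hu => mem_bot.2 (h.dade.eq_one_of_mem_L hx₀ hu ?_)
  obtain ⟨v, hv, g, hg, rfl⟩ := hx
  have h1 := h.dade.comm hx₀ hu
  have h2 : g⁻¹ * u * g ∈ W₁ ⊔ W₂ := h.cti.normedTI.mem_of_conj_mem hv trivial (by
    rw [show g⁻¹ * u * g * v * (g⁻¹ * u * g)⁻¹ = g⁻¹ * (u * (g * v * g⁻¹)) * u⁻¹ * g by group, ← h1]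
    simpa [mul_assoc] using hv)
  have h3 := sup_le h.pti.W₁_le h.pti.W₂_le h2
  rwa [mul_mem_cancel_right hg, mul_mem_cancel_left (inv_mem hg)] at h3

/-- on functions supported on `V^L` the Dade map is induction -/
theorem PrDade.dade_eq_ind (h : PrDade L K H A A₀ R W₁ W₂) {α : L → ℂ}
    (hα : IsClassFunction L α) (hV : SuppOn (classSupp (cycTI W₁ W₂) L) α) :
    dadeL A₀ L R α = indFun L α :=
  h.dade.dade_eq_indFun hα (hV.mono h.classSupp_subset) fun x _ hx =>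
    h.signalizer_eq_bot (by_contra fun hn => hx (hV x hn))

/-- (4.7): `prDade_irr_on` -/
theorem PrDade.irr_on (h : PrDade L K H A A₀ R W₁ W₂) {θ : K → ℂ} (hθ : IsIrrCharacter K θ)
    (hk : ¬ InKer H θ) : SuppOn (insert 1 A) θ := fun x hx => by
  refine irr_reg_off_ker_0 hθ h.HK (h.pti.K_le.trans h.normH) hk (eq_bot_iff.2 fun y hy => ?_)
  by_contra hy1
  exact hx (Or.inr (h.centA y hy.1 hy1 x ⟨x.2, mem_cent1_comm.1 hy.2⟩ fun e => hx (Or.inl e)))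

theorem PrDade.ind_irr_on (h : PrDade L K H A A₀ R W₁ W₂) {θ : K → ℂ} (hθ : IsIrrCharacter K θ)
    (hk : ¬ InKer H θ) : SuppOn (insert 1 A) (cInd L θ) :=
  (h.irr_on hθ hk).cInd h.pti.K_le (conj_mem_insert_one h.normA)

theorem PrDade.seqIndD_on (h : PrDade L K H A A₀ R W₁ W₂) {φ : L → ℂ} (hφ : φ ∈ seqIndD K L H M) :
    SuppOn (insert 1 A) φ := by
  obtain ⟨θ, hθ, rfl⟩ := hφ; exact h.ind_irr_on hθ.1 hθ.2.1

/-- `cfker_prTIres` -/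
theorem PrDade.not_inKer_chiR (h : PrDade L K H A A₀ R W₁ W₂) (hj : j ≠ 1) :
    ¬ InKer H (chiR L K W₁ W₂ j) := fun hk =>
  hj (MonoidHom.ext fun x => (h.pti.inKer_chiR_iff h.HK h.normH j).1 hk x (h.W₂H x.2))

theorem PrDade.chiR_on (h : PrDade L K H A A₀ R W₁ W₂) (hj : j ≠ 1) :
    SuppOn (insert 1 A) (chiR L K W₁ W₂ j) := h.irr_on (h.pti.chiR_irr j) (h.not_inKer_chiR hj)

theorem PrDade.muR_mem (h : PrDade L K H A A₀ R W₁ W₂) (hj : j ≠ 1) :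
    muR L W₁ W₂ j ∈ seqIndD K L H ⊥ :=
  ⟨_, ⟨h.pti.chiR_irr j, h.not_inKer_chiR hj, inKer_bot _⟩, h.pti.cInd_chiR j⟩

theorem PrDade.muR_on (h : PrDade L K H A A₀ R W₁ W₂) (hj : j ≠ 1) :
    SuppOn (insert 1 A) (muR L W₁ W₂ j) := h.seqIndD_on (h.muR_mem hj)

theorem PrimeTI.ne_one_of_muR_mem (h : PrimeTI L K W₁ W₂) (hj : muR L W₁ W₂ j ∈ seqIndD K L H M) :
    j ≠ 1 := by
  rintro rfl
  rw [h.muR_zero] at hj
  exact cInd_one_not_mem_seqIndD h.K_le h.norm hj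

theorem PrimeTI.dl_eq (h : PrimeTI L K W₁ W₂) (hd : mu2 L W₁ W₂ i j 1 = mu2 L W₁ W₂ i' k 1) :
    dl L W₁ W₂ j = dl L W₁ W₂ k := by
  obtain ⟨n, hn⟩ := h.mu2_one_mod i j
  obtain ⟨m, hm⟩ := h.mu2_one_mod i' k
  rw [hn, hm] at hd
  have h1 : dl L W₁ W₂ j + n * Nat.card W₁ = dl L W₁ W₂ k + m * Nat.card W₁ := by exact_mod_cast hd
  have h3 : (3 : ℤ) ≤ Nat.card W₁ := by exact_mod_cast h.cycTI.three_le₁
  have h2 : dl L W₁ W₂ j - dl L W₁ W₂ k = (m - n) * Nat.card W₁ := by linarith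
  rcases lt_trichotomy (m - n) 0 with h4 | h4 | h4
  · rcases dl_cases L W₁ W₂ j with e | e <;> rcases dl_cases L W₁ W₂ k with e' | e' <;> nlinarith
  · rw [h4, zero_mul] at h2; linarith
  · rcases dl_cases L W₁ W₂ j with e | e <;> rcases dl_cases L W₁ W₂ k with e' | e' <;> nlinarith

theorem PrimeTI.dl_eq_of_muR (h : PrimeTI L K W₁ W₂) (hd : muR L W₁ W₂ j 1 = muR L W₁ W₂ k 1) :
    dl L W₁ W₂ j = dl L W₁ W₂ k := h.dl_eq (h.mu2_one_eq_of_muR 1 hd)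

/-- (4.8) -/
theorem PrDade.dl_eq (h : PrDade L K H A A₀ R W₁ W₂) (i : Lin W₁)
    (hd : mu2 L W₁ W₂ i j 1 = mu2 L W₁ W₂ i k 1) : dl L W₁ W₂ j = dl L W₁ W₂ k := h.pti.dl_eq hd

theorem PrDade.sub_mu2_on (h : PrDade L K H A A₀ R W₁ W₂) (i : Lin W₁) (hj : j ≠ 1) (hk : k ≠ 1)
    (hd : mu2 L W₁ W₂ i j 1 = mu2 L W₁ W₂ i k 1) :
    SuppOn A₀ (mu2 L W₁ W₂ i j - mu2 L W₁ W₂ i k) := by
  intro x hx
  rw [Pi.sub_apply, sub_eq_zero]
  by_cases hK : (x : G) ∈ K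
  · by_cases h1 : x = 1
    · rw [h1, hd]
    · have : (x : G) ∉ insert 1 A := fun h' => h'.elim (fun e => h1 (Subtype.ext e))
        fun hA => hx (h.subset hA)
      rw [h.pti.mu2_eq_chiR i j hK, h.pti.mu2_eq_chiR i k hK, h.chiR_on hj _ this, h.chiR_on hk _ this]
  · obtain ⟨a, b, g, ha, rfl⟩ := h.pti.exists_conj hK
    by_cases hb : b = 1
    · rw [h.pti.mu2_class, h.pti.mu2_class, h.pti.mu2_apply i j b ha, h.pti.mu2_apply i k b ha, hb,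
        map_one, map_one, h.pti.dl_eq hd]
    · exact absurd (h.classSupp_subset ⟨_, h.pti.wL_mem_cycTI ha hb, g, g.2, rfl⟩) hx

theorem PrDade.dade_sub_mu2 (h : PrDade L K H A A₀ R W₁ W₂) (i : Lin W₁) (hj : j ≠ 1) (hk : k ≠ 1)
    (hd : mu2 L W₁ W₂ i j 1 = mu2 L W₁ W₂ i k 1) :
    dadeL A₀ L R (mu2 L W₁ W₂ i j - mu2 L W₁ W₂ i k) =
      (dl L W₁ W₂ j : ℂ) • (etaG W₁ W₂ i j - etaG W₁ W₂ i k) := by
  by_cases hjk : j = k
  · simp [hjk]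
  have hv := (h.pti.mu2_irr i j).virt.sub (h.pti.mu2_irr i k).virt
  have hs := h.sub_mu2_on i hj hk hd
  refine h.cti.eq_signed_sub' (dadeL_virt h.dade hv hs) ?_ (dl_sign L W₁ W₂ j) i hjk
    (forall_tiSet.2 fun a b ha hb => ?_)
  · rw [dadeL_nsq h.dade hv.isClassFunction hs,
      nsq_sub_of_orth (by rw [h.pti.ci_mu2, if_neg fun e => hjk e.2]), (h.pti.mu2_irr i j).nsq,
      (h.pti.mu2_irr i k).nsq]
    norm_num
  · rw [h.dade_apply_wL hv.isClassFunction ha hb, Pi.sub_apply, h.pti.mu2_apply i j b ha,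
      h.pti.mu2_apply i k b ha, Pi.smul_apply, Pi.sub_apply, h.cti.eta_on i j ha hb,
      h.cti.eta_on i k ha hb, h.pti.dl_eq hd, smul_eq_mul, mul_sub]

theorem PrDade.dade_sub_muR (h : PrDade L K H A A₀ R W₁ W₂) (hj : j ≠ 1) (hk : k ≠ 1)
    (hd : muR L W₁ W₂ j 1 = muR L W₁ W₂ k 1) :
    dadeL A₀ L R (muR L W₁ W₂ j - muR L W₁ W₂ k) =
      (dl L W₁ W₂ k : ℂ) • (∑ i, etaG W₁ W₂ i j - ∑ i, etaG W₁ W₂ i k) := by
  rw [muR, muR, ← Finset.sum_sub_distrib, map_sum, ← Finset.sum_sub_distrib, Finset.smul_sum,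
    ← h.pti.dl_eq_of_muR hd]
  exact Finset.sum_congr rfl fun i _ => h.dade_sub_mu2 i hj hk (h.pti.mu2_one_eq_of_muR i hd)

/-- the set of the `μ_j`, `j ≠ 0`, of the degree of `μ_k` -/
def uniformMu (L W₁ W₂ : Subgroup G) (k : Lin W₂) : Set (L → ℂ) :=
  {φ | ∃ j, j ≠ 1 ∧ muR L W₁ W₂ j 1 = muR L W₁ W₂ k 1 ∧ φ = muR L W₁ W₂ j}

/-- (4.9): `uniform_prTIred_coherent` -/
theorem PrDade.uniform_coherent (h : PrDade L K H A A₀ R W₁ W₂) (hk : k ≠ 1) :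
    ∃ ν, CohWith (uniformMu L W₁ W₂ k) (dadeL A₀ L R) ν ∧
      ∀ j, ν (muR L W₁ W₂ j) = (dl L W₁ W₂ k : ℂ) • ∑ i, etaG W₁ W₂ i j := by
  let f : (L → ℂ) → G → ℂ := fun φ => ∑ j, (⟪φ, muR L W₁ W₂ j⟫ / (Nat.card W₁ : ℂ)) •
    ((dl L W₁ W₂ k : ℂ) • ∑ i, etaG W₁ W₂ i j)
  have hf : ∀ j, f (muR L W₁ W₂ j) = (dl L W₁ W₂ k : ℂ) • ∑ i, etaG W₁ W₂ i j := by
    intro j
    simp only [f, h.pti.ci_muR]
    rw [Finset.sum_eq_single j (fun l _ hl => by rw [if_neg hl.symm, zero_div, zero_smul]) (by simp),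
      if_pos rfl, div_self (card_ne_zero_complex _), one_smul]
  obtain ⟨ν, h1, h2⟩ := exists_isometry_zspan (Set.range (muR L W₁ W₂)) f (by
    rintro _ ⟨j, rfl⟩ _ ⟨j', rfl⟩
    rw [hf, hf, ci_smul_left, ci_smul_right, conj_dl, ← mul_assoc, dl_mul_self, one_mul,
      h.cti.ci_col_col, h.pti.ci_muR]) (by
    rintro _ ⟨j, rfl⟩
    rw [hf]; exact (virt_sum _ _ fun i _ => h.cti.eta_virt i j).intCast_smul _)
  have h3 : ∀ j, ν (muR L W₁ W₂ j) = (dl L W₁ W₂ k : ℂ) • ∑ i, etaG W₁ W₂ i j := fun j => by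
    rw [h1 _ ⟨j, rfl⟩, hf]
  refine ⟨ν, ⟨h2.mono (zspan_mono ?_), fun α hα => linearMap_eq_on_degree_zero
    (h.pti.muR_one_ne k) ?_ hα⟩, h3⟩
  · rintro _ ⟨j, -, -, rfl⟩; exact ⟨j, rfl⟩
  · rintro _ ⟨j, hj, hd, rfl⟩
    rw [hd, ← smul_sub, map_smul, map_smul, map_sub, h3, h3, h.dade_sub_muR hj hk hd,
      smul_sub (dl L W₁ W₂ k : ℂ)]

theorem PrimeTI.sub2_eq (h : PrimeTI L K W₁ W₂) (i : Lin W₁) (j : Lin W₂) :
    (dl L W₁ W₂ j : ℂ) • mu2 L W₁ W₂ i j - (dl L W₁ W₂ j : ℂ) • mu2 L W₁ W₂ 1 j -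
      mu2 L W₁ W₂ i 1 + mu2 L W₁ W₂ 1 1 = ind (wL L W₁ W₂) (om 1 1 - om i 1 - om 1 j + om i j) := by
  rw [h.cycTI.ind_alpha, ← eta_wL_eq, ← eta_wL_eq, h.mu2_right_one, h.mu2_right_one]; abel

/-- (4.10) -/
theorem PrDade.sub2_on (h : PrDade L K H A A₀ R W₁ W₂) (i : Lin W₁) (j : Lin W₂) :
    SuppOn (classSupp (cycTI W₁ W₂) L) ((dl L W₁ W₂ j : ℂ) • mu2 L W₁ W₂ i j -
      (dl L W₁ W₂ j : ℂ) • mu2 L W₁ W₂ 1 j - mu2 L W₁ W₂ i 1 + mu2 L W₁ W₂ 1 1) := by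
  rw [h.pti.sub2_eq]
  refine fun x hx => ind_eq_zero_of_forall fun y ⟨a, b⟩ e => ?_
  by_cases ha : a = 1
  · simp [om, ha]
  by_cases hb : b = 1
  · simp [om, hb]
  exact absurd ⟨_, h.pti.wL_mem_cycTI ha hb, y, y.2, by rw [e]; simp [mul_assoc]⟩ hx

theorem PrDade.dade_sub2 (h : PrDade L K H A A₀ R W₁ W₂) (i : Lin W₁) (j : Lin W₂) :
    dadeL A₀ L R ((dl L W₁ W₂ j : ℂ) • mu2 L W₁ W₂ i j -
      (dl L W₁ W₂ j : ℂ) • mu2 L W₁ W₂ 1 j - mu2 L W₁ W₂ i 1 + mu2 L W₁ W₂ 1 1) =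
    etaG W₁ W₂ i j - etaG W₁ W₂ 1 j - etaG W₁ W₂ i 1 + etaG W₁ W₂ 1 1 := by
  have hs := h.sub2_on i j
  rw [h.pti.sub2_eq] at hs ⊢
  rw [h.dade_eq_ind (isClassFunction_ind _ _) hs, indFun_eq_ind, ind_comp,
    subtype_comp_wL h.pti.W₁_le h.pti.W₂_le, h.cti.ind_alpha]
  abel

end Cfsg.Agent.PF
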