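import Cfsg.Agent.PF.S03
import Cfsg.Agent.PF.S01

set_option autoImplicit false
set_option linter.unusedSectionVars false
set_option linter.unusedVariables false

namespace Cfsg.Agent.PF

open Subgroup Cfsg.Agent.GT Cfsg.Agent.BG Cfsg.Agent.Char

universe u v w

/-! Peterfalvi §4, (4.1)–(4.5): the prime TI hypothesis. -/

variable {G : Type u} [Group G] [Fintype G] {L K H M W₁ W₂ : Subgroup G} {A A₀ : Set G}
  {R : G → Subgroup G} {i i' : Lin W₁} {j j' k : Lin W₂}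

/-- `cfdot_real_vchar_even` -/
theorem cfdot_real_vchar_even {X : Type v} [Group X] [Fintype X] (ho : Odd (Nat.card X))
    {φ ψ : X → ℂ} (hφ : IsGeneralizedCharacter X φ) (hφr : conjFun φ = φ)
    (hψ : IsGeneralizedCharacter X ψ) (hψr : conjFun ψ = ψ) :
    ∃ n : ℤ, ⟪φ, ψ⟫ = ⟪φ, fun _ => 1⟫ * ⟪ψ, fun _ => 1⟫ + 2 * n := by
  classical
  have hz : ∀ {α : X → ℂ}, IsGeneralizedCharacter X α → conjFun α = α → ∀ χ, IsIrrCharacter X χ →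
      zi α (conjFun χ) = zi α χ := by
    intro α hα hr χ hχ
    refine zi_eq_of_ci ?_
    conv_lhs => rw [← hr]
    rw [ci_conjFun, hα.ci_eq_zi hχ.virt, map_intCast]
  have hsum : ((∑ χ ∈ (Irr X).erase (fun _ => 1), zi φ χ * zi ψ χ : ℤ) : ZMod 2) = 0 := by
    push_cast
    refine Finset.sum_involution (fun χ _ => conjFun χ) (fun χ hχ => ?_) (fun χ hχ _ e => ?_)
      (fun χ hχ => ?_) (fun χ _ => conjFun_conjFun χ)
    · have hχ' := mem_Irr.1 (Finset.mem_of_mem_erase hχ)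
      rw [hz hφ hφr χ hχ', hz hψ hψr χ hχ', ← two_mul]
      exact mul_eq_zero_of_left (by rfl) _
    · exact (Finset.mem_erase.1 hχ).1
        ((mem_Irr.1 (Finset.mem_of_mem_erase hχ)).eq_one_of_odd_of_real ho e)
    · refine Finset.mem_erase.2 ⟨fun e => (Finset.mem_erase.1 hχ).1 ?_,
        mem_Irr.2 (mem_Irr.1 (Finset.mem_of_mem_erase hχ)).conjFun⟩
      rw [← conjFun_conjFun χ, e, conjFun_one]
  obtain ⟨n, hn⟩ := (ZMod.intCast_zmod_eq_zero_iff_dvd _ 2).1 hsum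
  refine ⟨n, ?_⟩
  rw [hφ.isClassFunction.ci_eq_sum_irr, Finset.sum_congr rfl (g := fun χ => ((zi φ χ * zi ψ χ : ℤ) : ℂ))
    (fun χ hχ => by
      rw [hφ.ci_eq_zi (mem_Irr.1 hχ).virt, hψ.ci_eq_zi (mem_Irr.1 hχ).virt, map_intCast, Int.cast_mul]),
    ← Finset.add_sum_erase _ _ (mem_Irr.2 isIrrCharacter_one), ← Int.cast_sum, hn,
    hφ.ci_eq_zi virt_one, hψ.ci_eq_zi virt_one]
  push_cast; ring

theorem eq_sum_om {W₁ : Type u} {W₂ : Type v} [Group W₁] [Group W₂] [Finite W₁] [Finite W₂]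
    [Fintype (W₁ × W₂)] [IsMulCommutative (W₁ × W₂)] (γ : W₁ × W₂ → ℂ) :
    γ = ∑ i, ∑ j, ⟪γ, om i j⟫ • om i j := by
  conv_lhs => rw [eq_sum_lc γ]
  rw [← Fintype.sum_prod_type']
  refine (Fintype.sum_equiv (copEquiv W₁ W₂) _ _ fun p => ?_).symm
  rw [← lc_cop]; rfl

/-- functions orthogonal to all `ω_ij - ω_0j` vanish off `W₂` -/
theorem vanish_of_orth_om_sub {W₁ : Type u} {W₂ : Type v} [Group W₁] [Group W₂] [Finite W₁]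
    [Finite W₂] [Fintype (W₁ × W₂)] [IsMulCommutative W₁] [IsMulCommutative (W₁ × W₂)]
    {γ : W₁ × W₂ → ℂ} (h : ∀ i j, ⟪γ, om i j - om 1 j⟫ = 0) {a : W₁} (ha : a ≠ 1) (b : W₂) :
    γ (a, b) = 0 := by
  classical
  have h' : ∀ i j, ⟪γ, om i j⟫ = ⟪γ, om 1 j⟫ := fun i j => by
    rw [← sub_eq_zero, ← ci_sub_right, h]
  rw [eq_sum_om γ]
  simp only [h', Finset.sum_apply, Pi.smul_apply, smul_eq_mul, om_apply]
  rw [Finset.sum_comm]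
  refine Finset.sum_eq_zero fun j _ => ?_
  rw [← Finset.mul_sum, ← Finset.sum_mul, sum_lin_apply, if_neg ha, zero_mul, mul_zero]

theorem PrimeTI.W₁_le (h : PrimeTI L K W₁ W₂) : W₁ ≤ L := h.sdprod.right_le
theorem PrimeTI.K_le (h : PrimeTI L K W₁ W₂) : K ≤ L := h.sdprod.left_le
theorem PrimeTI.W₂_le (h : PrimeTI L K W₁ W₂) : W₂ ≤ L := h.le₂.trans h.K_le
theorem PrimeTI.norm (h : PrimeTI L K W₁ W₂) : L ≤ N[K] := h.sdprod.norm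
theorem PrimeTI.relIndex (h : PrimeTI L K W₁ W₂) : K.relIndex L = Nat.card W₁ := h.sdprod.relIndex

theorem PrimeTI.dprod (h : PrimeTI L K W₁ W₂) : Dprod W₁ W₂ (W₁ ⊔ W₂) := by
  refine dprod_sup (fun a ha b hb => ?_) (eq_bot_iff.2 ?_)
  · by_cases h1 : a = 1
    · simp [h1]
    · rw [← h.cent a ha h1] at hb; exact mem_cent1.1 hb.2
  · rw [← h.sdprod.inf_eq]; exact fun x hx => ⟨h.le₂ hx.2, hx.1⟩

theorem PrimeTI.coe_wL_apply (h : PrimeTI L K W₁ W₂) (a : W₁) (b : W₂) :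
    ((wL L W₁ W₂ (a, b) : L) : G) = a * b := by
  rw [coe_wL h.W₁_le h.W₂_le, wG_apply h.dprod.cent]

theorem PrimeTI.wL_mem_K_iff (h : PrimeTI L K W₁ W₂) {a : W₁} {b : W₂} :
    ((wL L W₁ W₂ (a, b) : L) : G) ∈ K ↔ a = 1 := by
  rw [h.coe_wL_apply, mul_mem_cancel_right (h.le₂ b.2)]
  refine ⟨fun ha => Subtype.ext (mem_bot.1 (h.sdprod.inf_eq ▸ ⟨ha, a.2⟩)), fun ha => by simp [ha]⟩

theorem PrimeTI.comm₁ (h : PrimeTI L K W₁ W₂) : IsMulCommutative W₁ := have := h.cyc₁; inferInstance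
theorem PrimeTI.comm₂ (h : PrimeTI L K W₁ W₂) : IsMulCommutative W₂ := have := h.cyc₂; inferInstance

theorem PrimeTI.coprime₁₂ (h : PrimeTI L K W₁ W₂) : (Nat.card W₁).Coprime (Nat.card W₂) :=
  h.coprime.symm.coprime_dvd_right (card_dvd_of_le h.le₂)

theorem PrimeTI.cyc (h : PrimeTI L K W₁ W₂) : IsCyclic (W₁ × W₂) :=
  Group.isCyclic_prod_iff.2 ⟨h.cyc₁, h.cyc₂, h.coprime₁₂⟩

theorem PrimeTI.coprime_orderOf (h : PrimeTI L K W₁ W₂) {a : G} (ha : a ∈ W₁) :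
    (orderOf a).Coprime (Nat.card K) :=
  h.coprime.symm.coprime_dvd_left (orderOf_dvd_card_of_mem ha)

/-- the strong TI property of `W ∖ W₂` -/
theorem PrimeTI.mem_of_conj_mem (h : PrimeTI L K W₁ W₂) {x g : G} (hx : x ∈ W₁ ⊔ W₂)
    (hx' : x ∉ W₂) (hg : g ∈ L) (hc : g * x * g⁻¹ ∈ W₁ ⊔ W₂) : g ∈ W₁ ⊔ W₂ := by
  obtain ⟨a, ha, b, hb, rfl⟩ := h.dprod.exists_mul hx
  obtain ⟨a', ha', b', hb', e⟩ := h.dprod.exists_mul hc
  have ha1 : a ≠ 1 := fun e => hx' (by rwa [e, one_mul])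
  have e1 := conj_eq_of_conj_mul_eq (h.dprod.cent ha b hb).symm (h.dprod.cent ha' b' hb').symm
    h.coprime (orderOf_dvd_card_of_mem ha) (orderOf_dvd_card_of_mem ha')
    (orderOf_dvd_card_of_mem (h.le₂ hb)) (orderOf_dvd_card_of_mem (h.le₂ hb')) e
  obtain ⟨k, hk, c, hc', rfl⟩ := h.sdprod.exists_mul hg
  have hcomm := isMulCommutative_iff_forall.1 h.comm₁ c hc' a ha
  have e2 : k * a * k⁻¹ = a' := by
    rw [← e1]
    calc k * a * k⁻¹ = k * (a * c) * c⁻¹ * k⁻¹ := by group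
      _ = _ := by rw [← hcomm]; group
  have e3 : k * (a * k⁻¹ * a⁻¹) ∈ K ⊓ W₁ := by
    refine ⟨mul_mem hk (conj_mem_of_le_norm h.sdprod.right_norm ha (inv_mem hk)), ?_⟩
    rw [← mul_assoc, ← mul_assoc, e2]; exact W₁.mul_mem ha' (W₁.inv_mem ha)
  rw [h.sdprod.inf_eq, mem_bot] at e3
  have e4 : k ∈ W₂ := h.cent a ha ha1 ▸ ⟨hk, mem_cent1.2 (by
    calc k * a = k * (a * k⁻¹ * a⁻¹) * (a * k) := by group
      _ = _ := by rw [e3, one_mul])⟩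
  exact mul_mem (mem_sup_right e4) (mem_sup_left hc')

theorem PrimeTI.inj (h : PrimeTI L K W₁ W₂) : Function.Injective (wL L W₁ W₂) := fun v w hvw =>
  wG_injective h.dprod.cent h.dprod.inf_eq
    (by rw [← coe_wL h.W₁_le h.W₂_le, hvw, coe_wL h.W₁_le h.W₂_le])

theorem PrimeTI.mem_range_iff (h : PrimeTI L K W₁ W₂) {g : L} :
    g ∈ (wL L W₁ W₂).range ↔ (g : G) ∈ W₁ ⊔ W₂ := by
  rw [mem_range_wL h.W₁_le h.W₂_le, wG_range h.dprod.cent]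

theorem PrimeTI.ti (h : PrimeTI L K W₁ W₂) {a : W₁} (ha : a ≠ 1) (b : W₂) {g : L}
    (hg : g * wL L W₁ W₂ (a, b) * g⁻¹ ∈ (wL L W₁ W₂).range) : g ∈ (wL L W₁ W₂).range :=
  h.mem_range_iff.2 (h.mem_of_conj_mem (h.mem_range_iff.1 ⟨(a, b), rfl⟩)
    (fun hm => ha (h.wL_mem_K_iff.1 (h.le₂ hm))) g.2 (h.mem_range_iff.1 hg))

/-- (4.3)(a) -/
theorem PrimeTI.cycTI (h : PrimeTI L K W₁ W₂) : CycTI (wL L W₁ W₂) := by
  refine ⟨h.inj, h.cyc, h.odd, (nontrivial_iff_ne_bot _).2 h.ne₁, (nontrivial_iff_ne_bot _).2 h.ne₂,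
    ?_⟩
  rintro _ ⟨a, b, ha, hb, rfl⟩ g ⟨a', b', -, -, e⟩
  exact h.ti ha b ⟨_, e.symm⟩

theorem PrimeTI.normedTI (h : PrimeTI L K W₁ W₂) :
    NormedTI {x | x ∈ W₁ ⊔ W₂ ∧ x ∉ W₂} L (W₁ ⊔ W₂) := by
  obtain ⟨a, ha, ha1⟩ := exists_ne_one_of_ne_bot h.ne₁
  refine ⟨⟨a, mem_sup_left ha, fun h2 => ha1 (mem_bot.1 (h.dprod.inf_eq ▸ ⟨ha, h2⟩))⟩,
    sup_le h.W₁_le h.W₂_le, fun x hx g hg => ⟨fun hc => h.mem_of_conj_mem hx.1 hx.2 hg hc.1, fun hW => ?_⟩⟩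
  rw [isMulCommutative_iff_forall.1 (h.dprod.comm h.comm₁ h.comm₂) g hW x hx.1, mul_inv_cancel_right]
  exact hx

/-- every element of `L ∖ K` is conjugate to an element of `W ∖ W₂` -/
theorem PrimeTI.exists_conj (h : PrimeTI L K W₁ W₂) {x : L} (hx : (x : G) ∉ K) :
    ∃ (a : W₁) (b : W₂) (g : L), a ≠ 1 ∧ x = g * wL L W₁ W₂ (a, b) * g⁻¹ := by
  obtain ⟨k, hk, a, ha, e⟩ := h.sdprod.exists_mul x.2
  have ha1 : a ≠ 1 := fun e' => hx (by rwa [e, e', mul_one])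
  obtain ⟨y, hy, c, hc, h1, h2⟩ := exists_conj_mul_eq_cent_mul (h.sdprod.right_norm ha)
    (h.coprime_orderOf ha) hk
  have hc' : c ∈ W₂ := h.cent a ha ha1 ▸ ⟨hc, mem_cent1.2 h1⟩
  refine ⟨⟨a, ha⟩, ⟨c, hc'⟩, ⟨y, h.K_le hy⟩⁻¹, fun e' => ha1 (congrArg Subtype.val e'), Subtype.ext ?_⟩
  simp only [inv_inv, coe_mul, InvMemClass.coe_inv, h.coe_wL_apply]
  rw [← h1, ← h2, e]; group

theorem PrimeTI.card_lin₁ (h : PrimeTI L K W₁ W₂) : Nat.card (Lin W₁) = Nat.card W₁ :=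
  h.cycTI.card_lin₁
theorem PrimeTI.card_lin₂ (h : PrimeTI L K W₁ W₂) : Nat.card (Lin W₂) = Nat.card W₂ :=
  h.cycTI.card_lin₂

theorem PrimeTI.exists_proj (h : PrimeTI L K W₁ W₂) : ∃ π : L →* W₁, Function.Surjective π ∧
    (∀ x : L, π x = 1 ↔ (x : G) ∈ K) ∧ ∀ a b, π (wL L W₁ W₂ (a, b)) = a := by
  obtain ⟨π, h1, h2⟩ := h.sdprod.exists_proj
  refine ⟨π, fun a => ⟨_, h2 a⟩, h1, fun a b => ?_⟩
  rw [show wL L W₁ W₂ (a, b) = inclusion h.W₁_le a * inclusion h.W₂_le b from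
    Subtype.ext (h.coe_wL_apply a b), map_mul, h2, (h1 _).2 (h.le₂ b.2), mul_one]

theorem PrimeTI.eta_eq_mul (h : PrimeTI L K W₁ W₂) {π : L →* W₁}
    (hπ : ∀ a b, π (wL L W₁ W₂ (a, b)) = a) (i : Lin W₁) (j : Lin W₂) :
    eta (wL L W₁ W₂) i j = lc (i.comp π) * eta (wL L W₁ W₂) 1 j :=
  (h.cycTI.eq_eta_of_on ((h.cycTI.eta_sirr 1 j).lin_mul _) fun a b ha hb => by
    rw [Pi.mul_apply, h.cycTI.eta_on 1 j ha hb]; simp [lc, hπ]).symm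

theorem PrimeTI.eta_one_eq (h : PrimeTI L K W₁ W₂) {π : L →* W₁}
    (hπ : ∀ a b, π (wL L W₁ W₂ (a, b)) = a) (i : Lin W₁) :
    eta (wL L W₁ W₂) i 1 = lc (i.comp π) := by
  rw [h.eta_eq_mul hπ, h.cycTI.eta_one]; exact mul_one _

theorem PrimeTI.eta_apply_of_mem (h : PrimeTI L K W₁ W₂) (i : Lin W₁) (j : Lin W₂) {x : L}
    (hx : (x : G) ∈ K) : eta (wL L W₁ W₂) i j x = eta (wL L W₁ W₂) 1 j x := by
  obtain ⟨π, -, h1, h2⟩ := h.exists_proj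
  rw [h.eta_eq_mul h2 i j, Pi.mul_apply]; simp [lc, (h1 x).2 hx]

theorem PrimeTI.ci_ind_ind (h : PrimeTI L K W₁ W₂) {α β : W₁ × W₂ → ℂ} (hα : ∀ b, α (1, b) = 0)
    (hβ : ∀ b, β (1, b) = 0) : ⟪ind (wL L W₁ W₂) α, ind (wL L W₁ W₂) β⟫ = ⟪α, β⟫ := by
  have := h.cycTI.comm
  refine ci_ind_ind_of_TI h.inj {w | w.1 ≠ 1} (fun a ha b _ x e => ?_) (fun w hw => ?_)
    (isClassFunction_of_comm β) (fun w hw => ?_)
  · exact (inv_mem_iff).1 (h.ti ha a.2 ⟨b, by rw [e, inv_inv]⟩)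
  · rw [show w = (1, w.2) from Prod.ext (not_not.1 hw) rfl, hα]
  · rw [show w = (1, w.2) from Prod.ext (not_not.1 hw) rfl, hβ]

theorem PrimeTI.ind_sub_one (h : PrimeTI L K W₁ W₂) (i : Lin W₁) :
    ind (wL L W₁ W₂) (om i 1 - om 1 1) = eta (wL L W₁ W₂) i 1 - eta (wL L W₁ W₂) 1 1 := by
  obtain ⟨π, -, h1, h2⟩ := h.exists_proj
  set α : W₁ × W₂ → ℂ := om i 1 - om 1 1 with hα
  set β := eta (wL L W₁ W₂) i 1 - eta (wL L W₁ W₂) 1 1 with hβ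
  have hα0 : ∀ b, α (1, b) = 0 := fun b => by simp [hα, om]
  have hβc : IsClassFunction L β := (h.cycTI.eta_class _ _).sub (h.cycTI.eta_class _ _)
  have hres : (fun w => β (wL L W₁ W₂ w)) = α := by
    funext ⟨a, b⟩
    rw [hβ, h.eta_one_eq h2, h.eta_one_eq h2]; simp [hα, om, lc, h2]
  have e1 := h.ci_ind_ind hα0 hα0
  have e2 : ⟪ind (wL L W₁ W₂) α, β⟫ = ⟪α, α⟫ := by rw [ci_ind_left _ _ hβc, hres]
  have e3 : ⟪β, ind (wL L W₁ W₂) α⟫ = ⟪α, α⟫ := by rw [ci_ind_right _ hβc, hres]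
  have e4 : ⟪β, β⟫ = ⟪α, α⟫ := by
    simp only [hα, hβ, ci_sub_left, ci_sub_right, h.cycTI.eta_ci, ci_om]
  clear_value α β
  rw [← sub_eq_zero, ← ci_self_eq_zero, ci_sub_left, ci_sub_right, ci_sub_right, e1, e2, e3, e4]
  ring

theorem PrimeTI.ind_sub_eta (h : PrimeTI L K W₁ W₂) (i : Lin W₁) (j : Lin W₂) :
    ind (wL L W₁ W₂) (om i j - om 1 j) = eta (wL L W₁ W₂) i j - eta (wL L W₁ W₂) 1 j := by
  rw [show om i j - om 1 j = (om 1 1 - om i 1 - om 1 j + om i j) + (om i 1 - om 1 1) by abel,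
    ind_add, h.cycTI.ind_alpha, h.ind_sub_one]
  abel

theorem PrimeTI.vanish_of_orth (h : PrimeTI L K W₁ W₂) {χ : L → ℂ} (hχ : IsClassFunction L χ)
    {γ : W₁ × W₂ → ℂ} (ho : ∀ i j, ⟪χ, eta (wL L W₁ W₂) i j - eta (wL L W₁ W₂) 1 j⟫ =
      ⟪γ, om i j - om 1 j⟫) {a : W₁} (ha : a ≠ 1) (b : W₂) : χ (wL L W₁ W₂ (a, b)) = γ (a, b) := by
  have := h.cycTI.comm; have := h.comm₁
  rw [← sub_eq_zero]
  refine vanish_of_orth_om_sub (γ := (fun w => χ (wL L W₁ W₂ w)) - γ) (fun i j => ?_) ha b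
  rw [ci_sub_left, ← ci_ind_right _ hχ, h.ind_sub_eta, ho, sub_self]

theorem PrimeTI.eta_apply (h : PrimeTI L K W₁ W₂) (i : Lin W₁) (j : Lin W₂) {a : W₁} (b : W₂)
    (ha : a ≠ 1) : eta (wL L W₁ W₂) i j (wL L W₁ W₂ (a, b)) = (i a : ℂ) * (j b : ℂ) :=
  h.vanish_of_orth (h.cycTI.eta_class i j) (γ := om i j) (fun i' j' => by
    simp only [ci_sub_right, h.cycTI.eta_ci, ci_om]) ha b

theorem dl_sign (L W₁ W₂ : Subgroup G) (j : Lin W₂) :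
    (dl L W₁ W₂ j : ℂ) = 1 ∨ (dl L W₁ W₂ j : ℂ) = -1 := by
  rcases dl_cases L W₁ W₂ j with h | h <;> simp [h]

theorem dl_ne_zero (L W₁ W₂ : Subgroup G) (j : Lin W₂) : (dl L W₁ W₂ j : ℂ) ≠ 0 := by
  rcases dl_cases L W₁ W₂ j with h | h <;> simp [h]

theorem conj_dl (L W₁ W₂ : Subgroup G) (j : Lin W₂) :
    (starRingEnd ℂ) (dl L W₁ W₂ j : ℂ) = dl L W₁ W₂ j := map_intCast _ _

/-- (4.3)(b) -/
theorem PrimeTI.mu2_irr (h : PrimeTI L K W₁ W₂) (i : Lin W₁) (j : Lin W₂) :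
    IsIrrCharacter L (mu2 L W₁ W₂ i j) := by
  refine ((h.cycTI.eta_sirr i j).smul (dl_sign L W₁ W₂ j)).isIrr_of_pos ?_
  rw [Pi.smul_apply, h.eta_apply_of_mem i j K.one_mem, dl]
  obtain ⟨n, hn⟩ := (h.cycTI.eta_virt 1 j).exists_int_one
  have h0 := (h.cycTI.eta_sirr 1 j).apply_one_ne_zero
  rw [hn] at h0 ⊢
  have h0' : (n : ℝ) ≠ 0 := by exact_mod_cast h0
  split_ifs with h1
  · simpa using h1
  · simp only [Complex.intCast_re, not_lt] at h1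
    simpa using lt_of_le_of_ne h1 h0'

theorem eta_wL_eq (L : Subgroup G) (i : Lin W₁) (j : Lin W₂) :
    eta (wL L W₁ W₂) i j = (dl L W₁ W₂ j : ℂ) • mu2 L W₁ W₂ i j := by
  rw [mu2, smul_smul, dl_mul_self, one_smul]

theorem PrimeTI.mu2_class (h : PrimeTI L K W₁ W₂) (i : Lin W₁) (j : Lin W₂) :
    IsClassFunction L (mu2 L W₁ W₂ i j) := (h.mu2_irr i j).isClassFunction

/-- `cfdot_prTIirr` -/
theorem PrimeTI.ci_mu2 (h : PrimeTI L K W₁ W₂) (i i' : Lin W₁) (j j' : Lin W₂) :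
    ⟪mu2 L W₁ W₂ i j, mu2 L W₁ W₂ i' j'⟫ = if i = i' ∧ j = j' then 1 else 0 := by
  rw [mu2, mu2, ci_smul_left, ci_smul_right, conj_dl, h.cycTI.eta_ci]
  split_ifs with h1
  · rw [h1.2, mul_one, dl_mul_self]
  · simp

theorem PrimeTI.mu2_inj (h : PrimeTI L K W₁ W₂) (he : mu2 L W₁ W₂ i j = mu2 L W₁ W₂ i' j') :
    i = i' ∧ j = j' := by
  by_contra hn
  have := h.ci_mu2 i i' j j'
  rw [if_neg hn, he, (h.mu2_irr _ _).ci_self] at this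
  exact one_ne_zero this

/-- `cfInd_sub_prTIirr` -/
theorem PrimeTI.ind_sub (h : PrimeTI L K W₁ W₂) (i : Lin W₁) (j : Lin W₂) :
    ind (wL L W₁ W₂) (om i j - om 1 j) =
      (dl L W₁ W₂ j : ℂ) • (mu2 L W₁ W₂ i j - mu2 L W₁ W₂ 1 j) := by
  rw [h.ind_sub_eta, eta_wL_eq, eta_wL_eq, smul_sub]

/-- (4.3)(c): `prTIirr_id` -/
theorem PrimeTI.mu2_apply (h : PrimeTI L K W₁ W₂) (i : Lin W₁) (j : Lin W₂) {a : W₁} (b : W₂)
    (ha : a ≠ 1) : mu2 L W₁ W₂ i j (wL L W₁ W₂ (a, b)) =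
      (dl L W₁ W₂ j : ℂ) * ((i a : ℂ) * (j b : ℂ)) := by
  rw [mu2, Pi.smul_apply, h.eta_apply i j b ha, smul_eq_mul]

/-- (4.3)(c): `not_prTIirr_vanish` -/
theorem PrimeTI.not_mu2_vanish (h : PrimeTI L K W₁ W₂) {χ : L → ℂ} (hχ : IsIrrCharacter L χ)
    (hne : ∀ i j, χ ≠ mu2 L W₁ W₂ i j) {a : W₁} (b : W₂) (ha : a ≠ 1) :
    χ (wL L W₁ W₂ (a, b)) = 0 :=
  h.vanish_of_orth hχ.isClassFunction (γ := 0) (fun i j => by
    rw [ci_zero_left, ci_sub_right, eta_wL_eq, eta_wL_eq, ci_smul_right, ci_smul_right,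
      hχ.ci_of_ne (h.mu2_irr _ _) (hne _ _), hχ.ci_of_ne (h.mu2_irr _ _) (hne _ _), sub_self]) ha b

theorem PrimeTI.not_mu2_supp (h : PrimeTI L K W₁ W₂) {χ : L → ℂ} (hχ : IsIrrCharacter L χ)
    (hne : ∀ i j, χ ≠ mu2 L W₁ W₂ i j) : SuppOn (K : Set G) χ := fun x hx => by
  obtain ⟨a, b, g, ha, rfl⟩ := h.exists_conj hx
  rw [hχ.isClassFunction, h.not_mu2_vanish hχ hne b ha]

/-- (4.3)(d): `prTIirr1_mod` -/
theorem PrimeTI.mu2_one_mod (h : PrimeTI L K W₁ W₂) (i : Lin W₁) (j : Lin W₂) :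
    ∃ n : ℤ, mu2 L W₁ W₂ i j 1 = (dl L W₁ W₂ j : ℂ) + n * (Nat.card W₁ : ℂ) := by
  obtain ⟨n, hn⟩ := (((h.cycTI.eta_virt i j).comp ((wL L W₁ W₂).comp (MonoidHom.inl W₁ W₂))).sub
    (lc_virt i)).exists_one_eq_mul_card (fun a ha => by
      have := h.eta_apply i j 1 ha
      simp only [map_one, Units.val_one, mul_one] at this
      rw [Pi.sub_apply, MonoidHom.comp_apply, MonoidHom.inl_apply, this, sub_self])
  refine ⟨dl L W₁ W₂ j * n, ?_⟩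
  rw [Pi.sub_apply, map_one, lc_apply_one, sub_eq_iff_eq_add'] at hn
  rw [mu2, Pi.smul_apply, hn, smul_eq_mul]; push_cast; ring

theorem PrimeTI.dl_aut (h : PrimeTI L K W₁ W₂) (σ : ℂ →+* ℂ) (j : Lin W₂) :
    dl L W₁ W₂ (linAut σ j) = dl L W₁ W₂ j := by
  have h1 := congrFun (h.cycTI.cfAut_eta σ 1 j) 1
  obtain ⟨n, hn⟩ := (h.cycTI.eta_virt 1 j).exists_int_one
  rw [linAut_one, cfAut, hn, map_intCast] at h1
  rw [dl, dl, ← h1, hn]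

theorem PrimeTI.dl_inv (h : PrimeTI L K W₁ W₂) (j : Lin W₂) :
    dl L W₁ W₂ j⁻¹ = dl L W₁ W₂ j := by rw [← linAut_conj, h.dl_aut]

theorem cfAut_intCast_smul {X : Type v} (σ : ℂ →+* ℂ) (n : ℤ) (φ : X → ℂ) :
    cfAut σ ((n : ℂ) • φ) = (n : ℂ) • cfAut σ φ := by
  funext x; simp [cfAut]

theorem cfAut_add {X : Type v} (σ : ℂ →+* ℂ) (φ ψ : X → ℂ) :
    cfAut σ (φ + ψ) = cfAut σ φ + cfAut σ ψ := by
  funext x; simp [cfAut]

theorem cfAut_sub {X : Type v} (σ : ℂ →+* ℂ) (φ ψ : X → ℂ) :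
    cfAut σ (φ - ψ) = cfAut σ φ - cfAut σ ψ := by
  funext x; simp [cfAut]

theorem cfAut_neg {X : Type v} (σ : ℂ →+* ℂ) (φ : X → ℂ) : cfAut σ (-φ) = -cfAut σ φ := by
  funext x; simp [cfAut]

theorem cfAut_smul {X : Type v} (σ : ℂ →+* ℂ) (c : ℂ) (φ : X → ℂ) :
    cfAut σ (c • φ) = σ c • cfAut σ φ := by
  funext x; simp [cfAut]

theorem cfAut_sum {X : Type v} {ι : Type w} (σ : ℂ →+* ℂ) (s : Finset ι) (f : ι → X → ℂ) :
    cfAut σ (∑ i ∈ s, f i) = ∑ i ∈ s, cfAut σ (f i) := by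
  funext x; simp [cfAut, Finset.sum_apply]

theorem cfAut_injective {X : Type v} (σ : ℂ →+* ℂ) :
    Function.Injective (cfAut σ : (X → ℂ) → X → ℂ) := fun _ _ h =>
  funext fun x => σ.injective (congrFun h x)

theorem linAut_bijective {W : Type v} [Group W] [Finite W] (σ : ℂ →+* ℂ) :
    Function.Bijective (linAut σ : Lin W → Lin W) :=
  Finite.injective_iff_bijective.1 (linAut_injective σ)

theorem PrimeTI.cfAut_mu2 (h : PrimeTI L K W₁ W₂) (σ : ℂ →+* ℂ) (i : Lin W₁) (j : Lin W₂) :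
    cfAut σ (mu2 L W₁ W₂ i j) = mu2 L W₁ W₂ (linAut σ i) (linAut σ j) := by
  rw [mu2, mu2, cfAut_intCast_smul, h.cycTI.cfAut_eta, h.dl_aut]

theorem PrimeTI.conj_mu2 (h : PrimeTI L K W₁ W₂) (i : Lin W₁) (j : Lin W₂) :
    conjFun (mu2 L W₁ W₂ i j) = mu2 L W₁ W₂ i⁻¹ j⁻¹ := by
  rw [← cfAut_conj, h.cfAut_mu2, linAut_conj, linAut_conj]

/-- (4.4) -/
theorem PrimeTI.dl_one (h : PrimeTI L K W₁ W₂) : dl L W₁ W₂ 1 = 1 := by
  rw [dl, h.cycTI.eta_one, if_pos (by simp)]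

theorem PrimeTI.mu2_right_one (h : PrimeTI L K W₁ W₂) (i : Lin W₁) :
    mu2 L W₁ W₂ i 1 = eta (wL L W₁ W₂) i 1 := by rw [mu2, h.dl_one, Int.cast_one, one_smul]

theorem PrimeTI.mu2_one_one (h : PrimeTI L K W₁ W₂) : mu2 L W₁ W₂ 1 1 = fun _ => 1 := by
  rw [h.mu2_right_one, h.cycTI.eta_one]

theorem PrimeTI.mu2_apply_of_mem (h : PrimeTI L K W₁ W₂) (i : Lin W₁) (j : Lin W₂) {x : L}
    (hx : (x : G) ∈ K) : mu2 L W₁ W₂ i j x = mu2 L W₁ W₂ 1 j x := by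
  rw [mu2, mu2, Pi.smul_apply, Pi.smul_apply, h.eta_apply_of_mem i j hx]

/-- `μ_ij = μ_i0 μ_0j` -/
theorem PrimeTI.mu2_split (h : PrimeTI L K W₁ W₂) (i : Lin W₁) (j : Lin W₂) :
    mu2 L W₁ W₂ i j = mu2 L W₁ W₂ i 1 * mu2 L W₁ W₂ 1 j := by
  obtain ⟨π, -, -, h2⟩ := h.exists_proj
  rw [h.mu2_right_one, h.eta_one_eq h2, mu2, mu2, h.eta_eq_mul h2 i j, mul_smul_comm]

/-- `prTIirr0P` -/
theorem PrimeTI.inKer_iff (h : PrimeTI L K W₁ W₂) {χ : L → ℂ} (hχ : IsIrrCharacter L χ) :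
    InKer K χ ↔ ∃ i, χ = mu2 L W₁ W₂ i 1 := by
  refine ⟨fun hk => ?_, ?_⟩
  · obtain ⟨π, hs, h1, h2⟩ := h.exists_proj
    obtain ⟨ψ, hψ, rfl⟩ := hχ.exists_deflation π hs fun g hg => hk g ((h1 g).1 hg)
    have := h.comm₁
    obtain ⟨i, rfl⟩ := hψ.exists_hom_of_comm
    exact ⟨i, by rw [h.mu2_right_one, h.eta_one_eq h2]; rfl⟩
  · rintro ⟨i, rfl⟩ x hx
    rw [h.mu2_apply_of_mem i 1 hx, h.mu2_apply_of_mem i 1 K.one_mem, h.mu2_one_one]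

/-- `prTIirr0_1` -/
theorem PrimeTI.mu2_zero_one (h : PrimeTI L K W₁ W₂) (i : Lin W₁) : mu2 L W₁ W₂ i 1 1 = 1 := by
  rw [h.mu2_apply_of_mem i 1 K.one_mem, h.mu2_one_one]

theorem PrimeTI.cRes_mu2 (h : PrimeTI L K W₁ W₂) (i : Lin W₁) (j : Lin W₂) :
    cRes K (mu2 L W₁ W₂ i j) = chiR L K W₁ W₂ j := by
  funext x
  rw [chiR, cRes_apply h.K_le, cRes_apply h.K_le, h.mu2_apply_of_mem i j x.2]

theorem PrimeTI.mu2_eq_chiR (h : PrimeTI L K W₁ W₂) (i : Lin W₁) (j : Lin W₂) {x : L}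
    (hx : (x : G) ∈ K) : mu2 L W₁ W₂ i j x = chiR L K W₁ W₂ j ⟨x, hx⟩ := by
  rw [← h.cRes_mu2 i j, cRes_apply h.K_le]; rfl

theorem PrimeTI.muR_zero (h : PrimeTI L K W₁ W₂) :
    muR L W₁ W₂ 1 = cInd L (fun _ : K => (1 : ℂ)) := by
  classical
  obtain ⟨π, -, h1, h2⟩ := h.exists_proj
  have := h.comm₁
  funext x
  simp only [muR, Finset.sum_apply, h.mu2_right_one, h.eta_one_eq h2, lc, MonoidHom.comp_apply]
  rw [sum_lin_apply]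
  split_ifs with hx
  · rw [Ind1_apply h.K_le h.norm ((h1 x).1 hx), h.relIndex]
  · rw [cInd_apply_of_not_mem h.K_le h.norm _ (mt (h1 x).2 hx)]

theorem PrimeTI.cInd_chiR (h : PrimeTI L K W₁ W₂) (j : Lin W₂) :
    cInd L (chiR L K W₁ W₂ j) = muR L W₁ W₂ j := by
  have := cInd_mul_cRes h.K_le (fun _ : K => (1 : ℂ)) (h.mu2_class 1 j)
  rw [← h.muR_zero, muR, Finset.sum_mul] at this
  simp only [← h.mu2_split] at this
  exact (congrArg (cInd L) (one_mul _).symm).trans this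

theorem PrimeTI.ci_mu2_muR (h : PrimeTI L K W₁ W₂) (i : Lin W₁) (j j' : Lin W₂) :
    ⟪mu2 L W₁ W₂ i j, muR L W₁ W₂ j'⟫ = if j = j' then 1 else 0 := by
  rw [muR, ci_sum_right]
  simp only [h.ci_mu2]
  by_cases hj : j = j'
  · simp [hj]
  · simp [hj]

theorem PrimeTI.ci_muR_mu2 (h : PrimeTI L K W₁ W₂) (i : Lin W₁) (j j' : Lin W₂) :
    ⟪muR L W₁ W₂ j, mu2 L W₁ W₂ i j'⟫ = if j = j' then 1 else 0 := by
  rw [muR, ci_sum_left]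
  simp only [h.ci_mu2]
  by_cases hj : j = j'
  · simp [hj]
  · simp [hj]

theorem PrimeTI.ci_chiR (h : PrimeTI L K W₁ W₂) (j j' : Lin W₂) :
    ⟪chiR L K W₁ W₂ j, chiR L K W₁ W₂ j'⟫ = if j = j' then 1 else 0 := by
  rw [← h.ci_mu2_muR 1, ← h.cInd_chiR, ci_cInd_right h.K_le (h.mu2_class 1 j)]; rfl

/-- (4.5)(a) -/
theorem PrimeTI.chiR_irr (h : PrimeTI L K W₁ W₂) (j : Lin W₂) :
    IsIrrCharacter K (chiR L K W₁ W₂ j) :=
  ((h.mu2_irr 1 j).isCharacter.cRes h.K_le).isIrr_of_ci_self (by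
    have := h.ci_chiR j j; rwa [if_pos rfl] at this)

theorem PrimeTI.cRes_muR (h : PrimeTI L K W₁ W₂) (j : Lin W₂) :
    cRes K (muR L W₁ W₂ j) = (Nat.card W₁ : ℂ) • chiR L K W₁ W₂ j := by
  rw [muR, cRes_sum]
  simp only [h.cRes_mu2]
  rw [Finset.sum_const, Finset.card_univ, h.cycTI.card_Lin₁, Nat.cast_smul_eq_nsmul]

theorem PrimeTI.mu2_one (h : PrimeTI L K W₁ W₂) (i : Lin W₁) (j : Lin W₂) :
    mu2 L W₁ W₂ i j 1 = chiR L K W₁ W₂ j 1 := by rw [← h.cRes_mu2 i j, cRes_one]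

theorem PrimeTI.muR_one (h : PrimeTI L K W₁ W₂) (i : Lin W₁) (j : Lin W₂) :
    muR L W₁ W₂ j 1 = (Nat.card W₁ : ℂ) * mu2 L W₁ W₂ i j 1 := by
  rw [← cRes_one (K := K) (muR L W₁ W₂ j), h.cRes_muR, h.mu2_one]; rfl

theorem PrimeTI.muR_char (h : PrimeTI L K W₁ W₂) (j : Lin W₂) :
    IsCharacter L (muR L W₁ W₂ j) := isCharacter_sum _ _ fun i _ => (h.mu2_irr i j).isCharacter

theorem PrimeTI.muR_one_ne (h : PrimeTI L K W₁ W₂) (j : Lin W₂) : muR L W₁ W₂ j 1 ≠ 0 := by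
  rw [h.muR_one 1]; exact mul_ne_zero (card_ne_zero_complex _) (h.mu2_irr 1 j).apply_one_ne_zero

theorem PrimeTI.mu2_one_eq_of_muR (h : PrimeTI L K W₁ W₂) (i : Lin W₁)
    (he : muR L W₁ W₂ j 1 = muR L W₁ W₂ k 1) : mu2 L W₁ W₂ i j 1 = mu2 L W₁ W₂ i k 1 := by
  rw [h.muR_one i, h.muR_one i] at he
  exact mul_left_cancel₀ (card_ne_zero_complex _) he

theorem PrimeTI.ci_muR (h : PrimeTI L K W₁ W₂) (j j' : Lin W₂) :
    ⟪muR L W₁ W₂ j, muR L W₁ W₂ j'⟫ = if j = j' then (Nat.card W₁ : ℂ) else 0 := by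
  conv_lhs => rw [muR, ci_sum_left]
  simp only [h.ci_mu2_muR]
  rw [Finset.sum_const, Finset.card_univ, h.cycTI.card_Lin₁]
  split_ifs <;> simp

theorem PrimeTI.nsq_muR (h : PrimeTI L K W₁ W₂) (j : Lin W₂) :
    nsq (muR L W₁ W₂ j) = Nat.card W₁ :=
  nsq_eq_of_ci (by rw [h.ci_muR, if_pos rfl, Complex.ofReal_natCast])

theorem PrimeTI.muR_inj (h : PrimeTI L K W₁ W₂) (he : muR L W₁ W₂ j = muR L W₁ W₂ j') : j = j' := by
  by_contra hn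
  have := h.ci_muR j j'
  rw [if_neg hn, he, h.ci_muR, if_pos rfl] at this
  exact card_ne_zero_complex _ this

theorem PrimeTI.chiR_inj (h : PrimeTI L K W₁ W₂) (he : chiR L K W₁ W₂ j = chiR L K W₁ W₂ j') :
    j = j' := h.muR_inj (by rw [← h.cInd_chiR, he, h.cInd_chiR])

theorem PrimeTI.muR_not_irr (h : PrimeTI L K W₁ W₂) (j : Lin W₂) :
    ¬ IsIrrCharacter L (muR L W₁ W₂ j) := fun hi => by
  have h1 := hi.nsq
  rw [h.nsq_muR, Nat.cast_eq_one] at h1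
  have := h.cycTI.three_le₁; omega

theorem PrimeTI.cfAut_muR (h : PrimeTI L K W₁ W₂) (σ : ℂ →+* ℂ) (j : Lin W₂) :
    cfAut σ (muR L W₁ W₂ j) = muR L W₁ W₂ (linAut σ j) := by
  rw [muR, muR, cfAut_sum]
  simp only [h.cfAut_mu2]
  exact (linAut_bijective σ).sum_comp (fun i => mu2 L W₁ W₂ i (linAut σ j))

theorem PrimeTI.conj_muR (h : PrimeTI L K W₁ W₂) (j : Lin W₂) :
    conjFun (muR L W₁ W₂ j) = muR L W₁ W₂ j⁻¹ := by
  rw [← cfAut_conj, h.cfAut_muR, linAut_conj]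

theorem PrimeTI.cfAut_chiR (h : PrimeTI L K W₁ W₂) (σ : ℂ →+* ℂ) (j : Lin W₂) :
    cfAut σ (chiR L K W₁ W₂ j) = chiR L K W₁ W₂ (linAut σ j) := by
  rw [chiR, cfAut_cRes, h.cfAut_mu2, h.cRes_mu2]

theorem PrimeTI.conj_chiR (h : PrimeTI L K W₁ W₂) (j : Lin W₂) :
    conjFun (chiR L K W₁ W₂ j) = chiR L K W₁ W₂ j⁻¹ := by
  rw [← cfAut_conj, h.cfAut_chiR, linAut_conj]

theorem PrimeTI.muR_not_real (h : PrimeTI L K W₁ W₂) (hj : j ≠ 1) :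
    conjFun (muR L W₁ W₂ j) ≠ muR L W₁ W₂ j := fun e =>
  h.cycTI.inv_ne₂ hj (h.muR_inj (by rw [← h.conj_muR, e]))

theorem PrimeTI.chiR_one (h : PrimeTI L K W₁ W₂) : chiR L K W₁ W₂ 1 = fun _ => 1 := by
  rw [chiR, h.mu2_one_one, cRes_const h.K_le]

theorem PrimeTI.muR_supp (h : PrimeTI L K W₁ W₂) (j : Lin W₂) :
    SuppOn (K : Set G) (muR L W₁ W₂ j) := fun x hx => by
  rw [← h.cInd_chiR, cInd_apply_of_not_mem h.K_le h.norm _ hx]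

theorem PrimeTI.muR_mem_T (h : PrimeTI L K W₁ W₂) (j : Lin W₂) : muR L W₁ W₂ j ∈ seqIndT K L :=
  ⟨_, h.chiR_irr j, h.cInd_chiR j⟩

theorem PrimeTI.cConj_chiR (h : PrimeTI L K W₁ W₂) (j : Lin W₂) {y : G} (hy : y ∈ L) :
    cConj (chiR L K W₁ W₂ j) y = chiR L K W₁ W₂ j :=
  cConj_cRes h.K_le h.norm (h.mu2_class 1 j) hy

/-- a character of `K` fixed by a nonidentity element of `W₁` is one of the `χ_j` -/
theorem PrimeTI.exists_chiR_of_fixed (h : PrimeTI L K W₁ W₂) {θ : K → ℂ} (hθ : IsIrrCharacter K θ)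
    {a : G} (ha : a ∈ W₁) (ha1 : a ≠ 1) (hfix : cConj θ a = θ) : ∃ j, θ = chiR L K W₁ W₂ j := by
  let E := nEmb h.K_le h.norm
  let a' : L := ⟨a, h.W₁_le ha⟩
  have h1 := E.card_fixed_irr_le (g := a') (by
    rw [← orderOf_coe]; exact h.coprime_orderOf ha)
  have h2 : Nat.card {x : K // E.act a' x = x} ≤ Nat.card W₂ := by
    refine Nat.card_le_card_of_injective (fun x => ⟨x.1, h.cent a ha ha1 ▸ ⟨x.1.2, mem_cent1.2
      (congrArg Subtype.val (E.act_eq_iff.1 x.2)).symm⟩⟩) fun x y hxy => ?_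
    have := congrArg Subtype.val hxy
    exact Subtype.ext (Subtype.ext this)
  have := finite_irrCharacter (G := K)
  let F : Lin W₂ → {χ : IrrCharacter K // E.cj χ.1 a' = χ.1} := fun j =>
    ⟨⟨_, h.chiR_irr j⟩, by rw [nEmb_cj]; exact h.cConj_chiR j a'.2⟩
  have hF : Function.Injective F := fun j j' e =>
    h.chiR_inj (congrArg (fun x => x.1.1) e)
  obtain ⟨j, hj⟩ := (hF.bijective_of_nat_card_le (by rw [h.card_lin₂]; exact h1.trans h2)).2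
    ⟨⟨θ, hθ⟩, by rw [nEmb_cj]; exact hfix⟩
  exact ⟨j, (congrArg (fun x => x.1.1) hj).symm⟩

theorem PrimeTI.eq_chiR_of_ci (h : PrimeTI L K W₁ W₂) {θ : K → ℂ} (hθ : IsIrrCharacter K θ)
    (hne : ⟪mu2 L W₁ W₂ i j, cInd L θ⟫ ≠ 0) : θ = chiR L K W₁ W₂ j := by
  rw [ci_cInd_right h.K_le (h.mu2_class i j), h.cRes_mu2] at hne
  exact ((h.chiR_irr j).eq_of_ci_ne_zero hθ hne).symm

/-- (4.5)(b): `prTIres_irr_cases` -/
theorem PrimeTI.irr_cases (h : PrimeTI L K W₁ W₂) {θ : K → ℂ} (hθ : IsIrrCharacter K θ) :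
    (∃ j, θ = chiR L K W₁ W₂ j) ∨
    (IsIrrCharacter L (cInd L θ) ∧ ∀ i j, cInd L θ ≠ mu2 L W₁ W₂ i j) := by
  refine or_iff_not_imp_left.2 fun hn => ⟨(cInd_irr_iff h.K_le h.norm hθ).2 fun y hy => ?_,
    fun i j e => hn ⟨j, h.eq_chiR_of_ci (i := i) hθ ?_⟩⟩
  · obtain ⟨k, hk, a, ha, rfl⟩ := h.sdprod.exists_mul (cInertia_le θ hy)
    by_cases ha1 : a = 1
    · rwa [ha1, mul_one]
    · exact absurd (h.exists_chiR_of_fixed hθ ha ha1 (mem_cInertia.1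
        ((mul_mem_cancel_left (le_cInertia h.K_le hθ.isClassFunction hk)).1 hy)).2.2) hn
  · rw [e, (h.mu2_irr i j).ci_self]; exact one_ne_zero

theorem PrimeTI.exists_mu2_of_ci_muR (h : PrimeTI L K W₁ W₂) {χ : L → ℂ} (hχ : IsIrrCharacter L χ)
    (hne : ⟪χ, muR L W₁ W₂ j⟫ ≠ 0) : ∃ i, χ = mu2 L W₁ W₂ i j := by
  rw [muR, ci_sum_right] at hne
  obtain ⟨i, -, hi⟩ := Finset.exists_ne_zero_of_sum_ne_zero hne
  exact ⟨i, hχ.eq_of_ci_ne_zero (h.mu2_irr i j) hi⟩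

/-- `prTIind_irr_cases` -/
theorem PrimeTI.ind_irr_cases (h : PrimeTI L K W₁ W₂) {χ : L → ℂ} (hχ : IsIrrCharacter L χ) :
    (∃ i j, χ = mu2 L W₁ W₂ i j) ∨ ∃ θ : K → ℂ, IsIrrCharacter K θ ∧ χ = cInd L θ := by
  obtain ⟨θ, hθ, h1⟩ := exists_constt_cRes h.K_le hχ
  rcases h.irr_cases hθ with ⟨j, rfl⟩ | ⟨hi, -⟩
  · rw [← ci_cInd_right h.K_le hχ.isClassFunction, h.cInd_chiR] at h1
    obtain ⟨i, hi⟩ := h.exists_mu2_of_ci_muR hχ h1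
    exact Or.inl ⟨i, j, hi⟩
  · exact Or.inr ⟨θ, hθ, eq_cInd_of_ci_cRes h.K_le hχ hi h1⟩

/-- the invariant characters of `K` are the `χ_j` -/
theorem PrimeTI.chiR_iff (h : PrimeTI L K W₁ W₂) {θ : K → ℂ} (hθ : IsIrrCharacter K θ) :
    (∃ j, θ = chiR L K W₁ W₂ j) ↔ cInertia L θ = L := by
  refine ⟨?_, fun hI => ?_⟩
  · rintro ⟨j, rfl⟩
    exact le_antisymm (cInertia_le _) fun y hy => mem_cInertia.2 ⟨hy, h.norm hy, h.cConj_chiR j hy⟩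
  · obtain ⟨a, ha, ha1⟩ := exists_ne_one_of_ne_bot h.ne₁
    exact h.exists_chiR_of_fixed hθ ha ha1 (mem_cInertia.1 (hI.ge (h.W₁_le ha))).2.2

/-- reducible members of `seqIndT` -/
theorem PrimeTI.seqIndT_cases (h : PrimeTI L K W₁ W₂) {φ : L → ℂ} (hφ : φ ∈ seqIndT K L) :
    (∃ j, φ = muR L W₁ W₂ j) ∨ (IsIrrCharacter L φ ∧ ∀ i j, φ ≠ mu2 L W₁ W₂ i j) := by
  obtain ⟨θ, hθ, rfl⟩ := hφ
  exact (h.irr_cases hθ).imp_left fun ⟨j, hj⟩ => ⟨j, by rw [hj, h.cInd_chiR]⟩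

theorem PrimeTI.ne_mu2_of_mem_T (h : PrimeTI L K W₁ W₂) {φ : L → ℂ} (hφ : φ ∈ seqIndT K L)
    (i : Lin W₁) (j : Lin W₂) : φ ≠ mu2 L W₁ W₂ i j := by
  rcases h.seqIndT_cases hφ with ⟨k, rfl⟩ | ⟨-, h1⟩
  · exact fun e => h.muR_not_irr k (e ▸ h.mu2_irr i j)
  · exact h1 i j

theorem PrimeTI.inKer_mu2_iff (h : PrimeTI L K W₁ W₂) (hMK : M ≤ K) (hn : L ≤ N[M])
    (i : Lin W₁) (j : Lin W₂) :
    InKer M (mu2 L W₁ W₂ i j) ↔ ∀ x : W₂, (x : G) ∈ M → j x = 1 := by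
  have := h.cycTI.nt₁
  obtain ⟨a, ha⟩ := exists_ne (1 : W₁)
  have hia : (dl L W₁ W₂ j : ℂ) * (i a : ℂ) ≠ 0 := mul_ne_zero (dl_ne_zero _ _ _ _) (Units.ne_zero _)
  refine ⟨fun hk b hb => ?_, fun hj => by_contra fun hk => ?_⟩
  · have e1 := hk.mul (h.mu2_irr i j).isCharacter (x := wL L W₁ W₂ (1, b))
      (by rw [h.coe_wL_apply]; simpa using hb) (wL L W₁ W₂ (a, 1))
    rw [← map_mul, Prod.mk_mul_mk, one_mul, mul_one, h.mu2_apply i j b ha, h.mu2_apply i j 1 ha,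
      ← mul_assoc, ← mul_assoc, map_one] at e1
    exact Units.ext (mul_left_cancel₀ hia e1)
  · have := normal_subgroupOf hn
    have e1 := (h.mu2_irr i j).cosAvg_eq_zero (M.subgroupOf L) (exists_apply_ne_of_not_inKer hk)
      (wL L W₁ W₂ (a, 1))
    rw [cosAvg_eq_cosAvg_cent (by rw [normalizer_eq_top]; trivial) (by
      rw [← orderOf_coe, h.coe_wL_apply, card_subgroupOf (hMK.trans h.K_le)]
      simpa using (h.coprime_orderOf a.2).coprime_dvd_right (card_dvd_of_le hMK))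
      (fun x _ y => h.mu2_class i j y x), cosAvg_of_forall (c := (dl L W₁ W₂ j : ℂ) * (i a : ℂ))] at e1
    · exact hia e1
    · intro u hu
      have hu' : (u : G) ∈ W₂ := h.cent a a.2 (fun e => ha (Subtype.ext e)) ▸ ⟨hMK hu.1, mem_cent1.2 (by
        have := congrArg Subtype.val (mem_cent1.1 hu.2)
        simpa [h.coe_wL_apply] using this)⟩
      rw [show wL L W₁ W₂ (a, 1) * u = wL L W₁ W₂ (a, ⟨u, hu'⟩) from Subtype.ext (by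
        simp [h.coe_wL_apply]), h.mu2_apply i j _ ha, hj ⟨u, hu'⟩ hu.1, Units.val_one, mul_one]

/-- kernels (replaces `primeTIhyp_quotient`, `prTIres_quo`): for `M ⊴ L`, `M ≤ K` -/
theorem PrimeTI.inKer_chiR_iff (h : PrimeTI L K W₁ W₂) (hMK : M ≤ K) (hn : L ≤ N[M])
    (j : Lin W₂) :
    InKer M (chiR L K W₁ W₂ j) ↔ ∀ x : W₂, (x : G) ∈ M → j x = 1 := by
  rw [chiR, inKer_cRes_iff h.K_le hMK, h.inKer_mu2_iff hMK hn]

theorem PrimeTI.inKer_muR_iff (h : PrimeTI L K W₁ W₂) (hMK : M ≤ K) (hn : L ≤ N[M])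
    (j : Lin W₂) :
    InKer M (muR L W₁ W₂ j) ↔ ∀ x : W₂, (x : G) ∈ M → j x = 1 := by
  rw [← h.cInd_chiR, inKer_cInd_iff h.K_le h.norm hMK hn (h.chiR_irr j), h.inKer_chiR_iff hMK hn]

end Cfsg.Agent.PF
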