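import Cfsg.Agent.PF.S04

set_option autoImplicit false
set_option linter.unusedSectionVars false
set_option linter.unusedVariables false

namespace Cfsg.Agent.PF

open Subgroup Cfsg.Agent.GT Cfsg.Agent.BG Cfsg.Agent.Char

universe u v w

/-! Peterfalvi §5, the part on induced characters in ambient style (the abstract part is in
`PF/Coherence`, `PF/CohSys`). -/

variable {G : Type u} [Group G] [Fintype G] {L K H M N W₁ W₂ : Subgroup G} {A A₀ : Set G}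
  {R : G → Subgroup G} {i i' : Lin W₁} {j j' k : Lin W₂} {S S₁ : Set (L → ℂ)} {φ ψ χ ζ : L → ℂ}
  {θ : K → ℂ}

/-! The lemmas of §1 and on `seqInd` are in `PF/S01.lean`. -/

/-! ### coherence -/

/-- the Dade map is an isometry on `ℤ[S, L^#]` when the members of `S` live on `1 ∪ A` -/
theorem dade_isometry_zspan (hD : DadeHypothesis A L R) (hS : ∀ φ ∈ S, IsCharacter L φ)
    (hA : ∀ φ ∈ S, SuppOn (insert 1 A) φ) :
    IsLinearIsometryOn (zspanOn S {1}ᶜ) (dadeL A L R) :=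
  hD.isLinearIsometryOn (fun α hα => virt_of_mem_zspan (fun φ hφ => (hS φ hφ).virt) hα.1)
    fun α hα => (zspan_supp (fun φ hφ => ⟨(hS φ hφ).isClassFunction, hA φ hφ⟩) hα).2

theorem CohWith.dade_congr {A₁ : Set G} (hD : DadeHypothesis A L R) (h₁ : A₁ ⊆ A)
    (hn : ∀ x ∈ L, ∀ a ∈ A₁, x * a * x⁻¹ ∈ A₁)
    (hS : ∀ φ ∈ S, IsClassFunction L φ ∧ SuppOn (insert 1 A₁) φ) {ν : (L → ℂ) →ₗ[ℂ] (G → ℂ)} :
    CohWith S (dadeL A₁ L R) ν ↔ CohWith S (dadeL A L R) ν :=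
  have key : ∀ α ∈ zspanOn S {1}ᶜ, dadeL A₁ L R α = dadeL A L R α := fun α hα =>
    dadeL_restrict hD h₁ hn (zspan_supp hS hα).1 (zspan_supp hS hα).2
  ⟨fun h => h.congr key, fun h => h.congr fun α hα => (key α hα).symm⟩

theorem ConjSub.refl {X : Type v} {S : Set (X → ℂ)} (h : ∀ φ ∈ S, conjFun φ ∈ S) : ConjSub S S :=
  ⟨subset_rfl, h⟩

theorem ConjSub.trans {X : Type v} {S₁ S₂ S₃ : Set (X → ℂ)} (h : ConjSub S₁ S₂) (h' : S₂ ⊆ S₃) :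
    ConjSub S₁ S₃ := ⟨h.1.trans h', h.2⟩

theorem conjSub_pair {X : Type v} {S : Set (X → ℂ)} {φ : X → ℂ} (h : φ ∈ S) (h' : conjFun φ ∈ S) :
    ConjSub {φ, conjFun φ} S := by
  refine ⟨?_, ?_⟩
  · rintro _ (rfl | rfl); exacts [h, h']
  · rintro _ (rfl | rfl)
    · exact Or.inr rfl
    · exact Or.inl (conjFun_conjFun _)

theorem ConjSub.union {X : Type v} {S₁ S₂ S : Set (X → ℂ)} (h : ConjSub S₁ S) (h' : ConjSub S₂ S) :
    ConjSub (S₁ ∪ S₂) S :=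
  ⟨Set.union_subset h.1 h'.1, fun φ hφ => hφ.imp (h.2 φ) (h'.2 φ)⟩

section Abstract
variable {X : Type v} [Group X] [Fintype X] {τ ν : (L → ℂ) →ₗ[ℂ] (X → ℂ)}
  {Q : (L → ℂ) → Finset (X → ℂ)}

theorem coh_empty : Coh (∅ : Set (L → ℂ)) τ :=
  ⟨τ, isLinearIsometryOn_zspan τ (fun _ h => h.elim) (fun _ h => h.elim), fun _ _ => rfl⟩

theorem Coh.subset (h : Coh S τ) (hS : S₁ ⊆ S) : Coh S₁ τ := let ⟨ν, h⟩ := h; ⟨ν, h.subset hS⟩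

theorem _root_.Cfsg.IsCoherenceSystem.conjSub (h : IsCoherenceSystem S τ Q) (hS : ConjSub S₁ S)
    (hne : S₁.Nonempty) : IsCoherenceSystem S₁ τ Q := h.subset hS.1 hne hS.2

/-- (5.7) without non-emptiness -/
theorem uniform_degree_coherence (h : IsCoherenceSystem S τ Q) (hS : ConjSub S₁ S)
    (hd : ∀ φ ∈ S₁, ∀ ψ ∈ S₁, φ 1 = ψ 1) : Coh S₁ τ := by
  rcases S₁.eq_empty_or_nonempty with rfl | hne
  · exact coh_empty
  · exact (h.conjSub hS hne).exists_cohWith_of_degree hd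

theorem pair_degree_coherence (h : IsCoherenceSystem S τ Q) (hφ : φ ∈ S) (hψ : ψ ∈ S)
    (hd : φ 1 = ψ 1) : ∃ S₁, φ ∈ S₁ ∧ ψ ∈ S₁ ∧ ConjSub S₁ S ∧ Coh S₁ τ := by
  have hc := (conjSub_pair hφ (h.conj_mem φ hφ)).union (conjSub_pair hψ (h.conj_mem ψ hψ))
  have key : ∀ α ∈ ({φ, conjFun φ} ∪ {ψ, conjFun ψ} : Set (L → ℂ)), α 1 = φ 1 := by
    rintro _ ((rfl | rfl) | (rfl | rfl))
    exacts [rfl, h.conj_one hφ, hd.symm, (h.conj_one hψ).trans hd.symm]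
  exact ⟨_, Or.inl (Or.inl rfl), Or.inr (Or.inl rfl), hc,
    uniform_degree_coherence h hc fun α hα β hβ => (key α hα).trans (key β hβ).symm⟩

/-- `dual_coherence` -/
theorem dual_coherence (h : IsCoherenceSystem S τ Q) (hχ : χ ∈ S)
    (hν : CohWith {χ, conjFun χ} τ ν) :
    ∃ ν', CohWith {χ, conjFun χ} τ ν' ∧ ν' χ = -ν (conjFun χ) ∧ ν' (conjFun χ) = -ν χ := by
  have hc := conjSub_pair hχ (h.conj_mem χ hχ)
  obtain ⟨ν', h1, h2⟩ := exists_cohWith_of_map (S := {χ, conjFun χ}) τ (fun α => -ν (conjFun α))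
    (fun α hα β hβ => by
      rw [ci_neg_left, ci_neg_right, neg_neg, hν.ci_mem (hc.2 α hα) (hc.2 β hβ), ci_conjFun',
        (h.virt (hc.1 hα)).ci_comm (h.virt (hc.1 hβ))])
    (fun α hα => (hν.virt_mem (hc.2 α hα)).neg) (Or.inl rfl) (h.apply_one_ne_zero hχ) (by
      rintro _ (rfl | rfl)
      · simp
      · rw [h.conj_one hχ, ← smul_sub, ← smul_sub, map_smul, conjFun_conjFun,
          ← hν.eq (sub_mem_zspan (mem_zspan_of_mem (Or.inr rfl)) (mem_zspan_of_mem (Or.inl rfl)))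
            (by rw [Pi.sub_apply, h.conj_one hχ, sub_self]), map_sub]
        congr 1; abel)
  exact ⟨ν', h1, h2 χ (Or.inl rfl), by rw [h2 _ (Or.inr rfl), conjFun_conjFun]⟩

/-- (5.4) `subcoherent_norm` -/
theorem subcoherent_norm (h : IsCoherenceSystem S τ Q) (hχ : χ ∈ S) {β Xc Y : X → ℂ}
    (hβ : IsGeneralizedCharacter X β) (h1 : ⟪β, τ (χ - conjFun χ)⟫ = ⟪χ, χ⟫) {n : ℝ}
    (hn : nsq β = nsq χ + n) (he : β = Xc - Y) (hX : Xc ∈ zspan (Q χ : Set (X → ℂ)))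
    (hY : ∀ α ∈ Q χ, ⟪Y, α⟫ = 0) :
    nsq χ ≤ nsq Xc ∧ (n ≤ nsq Y → nsq Xc = nsq χ ∧ nsq Y = n ∧ ∃ E ⊆ Q χ, Xc = ∑ α ∈ E, α) := by
  classical
  have hXv : IsGeneralizedCharacter X Xc := virt_of_mem_zspan (h.virtual χ hχ) hX
  have h2 : ⟪Xc, τ (χ - conjFun χ)⟫ = ⟪χ, χ⟫ := by
    rw [← h1, he, ci_sub_left, h.sum_eq χ hχ, ci_sum_right _ Y, Finset.sum_eq_zero hY, sub_zero]
  have h3 : nsq χ ≤ nsq Xc := (h.nsq_le_sum hχ hXv h2).trans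
    (bessel_orthonormal (Q χ) (fun α => α) (by convert h.orthonormal χ hχ) Xc)
  have h4 : ⟪Xc, Y⟫ = 0 := ci_eq_zero_of_mem_zspan (fun α hα => ci_eq_zero_symm (hY α hα)) hX
  rw [he, nsq_sub_of_orth h4] at hn
  refine ⟨h3, fun h5 => ⟨by linarith, by linarith, ?_⟩⟩
  obtain ⟨E, hE, e, -⟩ := h.exists_eq_sum hχ hXv h2 (by linarith)
  exact ⟨E, hE, e⟩

theorem _root_.Cfsg.IsCoherenceSystem.ci_sum_mem (h : IsCoherenceSystem S τ Q) (hχ : χ ∈ S)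
    {E : Finset (X → ℂ)} (hE : E ⊆ Q χ) {α : X → ℂ} (hα : α ∈ E) : ⟪∑ β ∈ E, β, α⟫ = 1 := by
  rw [ci_sum_left, Finset.sum_eq_single_of_mem α hα fun β hβ hne => by
    rw [h.orthonormal χ hχ β (hE hβ) α (hE hα), if_neg hne], h.orthonormal χ hχ α (hE hα) α (hE hα),
    if_pos rfl]

/-- if `τ (χ - χ̄)` is orthogonal to `±` an irreducible character, so is `R(χ)` -/
theorem _root_.Cfsg.IsCoherenceSystem.orth_R_of_sirr (h : IsCoherenceSystem S τ Q) (hχ : χ ∈ S)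
    {η : X → ℂ} (hη : IsSIrr X η) (h0 : ⟪τ (χ - conjFun χ), η⟫ = 0) {α : X → ℂ} (hα : α ∈ Q χ) :
    ⟪α, η⟫ = 0 := by
  by_contra hne
  have h1 := h.ci_sum_mem hχ subset_rfl hα
  rw [← h.sum_eq χ hχ] at h1
  rcases (h.isSIrr_R hχ hα).eq_or_eq_neg_of_ci_ne_zero hη hne with e | e
  · rw [e, h0] at h1; exact zero_ne_one h1
  · rw [e, ci_neg_right, h0, neg_zero] at h1; exact zero_ne_one h1

/-- `mem_coherent_sum_subseq` for an irreducible character -/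
theorem CohWith.mem_R (hν : CohWith S₁ τ ν) (h : IsCoherenceSystem S τ Q) (hχ : χ ∈ S)
    (hi : IsIrrCharacter L χ) (h₁ : χ ∈ zspan S₁) (h₂ : conjFun χ ∈ zspan S₁) : ν χ ∈ Q χ := by
  obtain ⟨E, hE, e, hc⟩ := hν.exists_eq_sum h hχ h₁ h₂
  rw [hi.nsq, Nat.cast_eq_one, Finset.card_eq_one] at hc
  obtain ⟨α, rfl⟩ := hc
  rw [e, Finset.sum_singleton]; exact hE (Finset.mem_singleton_self α)

end Abstract

open scoped Classical in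
/-- the set `R(μ_j)` of (5.3)(b) -/
noncomputable def Rmu (L W₁ W₂ : Subgroup G) (j : Lin W₂) : Finset (G → ℂ) :=
  (Finset.univ.image fun i => (dl L W₁ W₂ j : ℂ) • etaG W₁ W₂ i j) ∪
    Finset.univ.image fun i => -((dl L W₁ W₂ j : ℂ) • etaG W₁ W₂ i j⁻¹)

theorem mem_Rmu {α : G → ℂ} : α ∈ Rmu L W₁ W₂ j ↔
    ∃ i, α = (dl L W₁ W₂ j : ℂ) • etaG W₁ W₂ i j ∨ α = -((dl L W₁ W₂ j : ℂ) • etaG W₁ W₂ i j⁻¹) := by
  simp only [Rmu, Finset.mem_union, Finset.mem_image, Finset.mem_univ, true_and, exists_or,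
    eq_comm (a := α)]

theorem CycTI.sirr_Rmu (h : CycTI (wG W₁ W₂)) {α : G → ℂ} (hα : α ∈ Rmu L W₁ W₂ j) :
    IsSIrr G α := by
  obtain ⟨i, rfl | rfl⟩ := mem_Rmu.1 hα
  · exact (h.eta_sirr _ _).smul (dl_sign _ _ _ _)
  · exact ((h.eta_sirr _ _).smul (dl_sign _ _ _ _)).neg

theorem CycTI.ci_Rmu_eta (h : CycTI (wG W₁ W₂)) {α : G → ℂ} (hα : α ∈ Rmu L W₁ W₂ j) (i : Lin W₁)
    (h1 : j ≠ k) (h2 : j⁻¹ ≠ k) : ⟪α, etaG W₁ W₂ i k⟫ = 0 := by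
  obtain ⟨i', rfl | rfl⟩ := mem_Rmu.1 hα
  · rw [ci_smul_left, h.eta_ci_of_ne₂ _ _ h1, mul_zero]
  · rw [ci_neg_left, ci_smul_left, h.eta_ci_of_ne₂ _ _ h2, mul_zero, neg_zero]

theorem ci_Rmu_eq_zero {α β : G → ℂ} (hα : α ∈ Rmu L W₁ W₂ j)
    (h1 : ∀ i, ⟪β, etaG W₁ W₂ i j⟫ = 0) (h2 : ∀ i, ⟪β, etaG W₁ W₂ i j⁻¹⟫ = 0) : ⟪β, α⟫ = 0 := by
  obtain ⟨i', rfl | rfl⟩ := mem_Rmu.1 hα
  · rw [ci_smul_right, h1, mul_zero]
  · rw [ci_neg_right, ci_smul_right, h2, mul_zero, neg_zero]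

theorem CycTI.Rmu_orth (h : CycTI (wG W₁ W₂)) (hj : j ≠ 1) {α β : G → ℂ} (hα : α ∈ Rmu L W₁ W₂ j)
    (hβ : β ∈ Rmu L W₁ W₂ j) (hne : α ≠ β) : ⟪α, β⟫ = 0 := by
  have hj' := h.inv_ne₂ hj
  obtain ⟨i, rfl | rfl⟩ := mem_Rmu.1 hα <;> obtain ⟨i', rfl | rfl⟩ := mem_Rmu.1 hβ <;>
    simp only [ci_neg_left, ci_neg_right, ci_smul_left, ci_smul_right]
  · rw [h.eta_ci_of_ne₁ (fun e => hne (by rw [e]))]; simp
  · rw [h.eta_ci_of_ne₂ _ _ hj'.symm]; simp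
  · rw [h.eta_ci_of_ne₂ _ _ hj']; simp
  · rw [h.eta_ci_of_ne₁ (fun e => hne (by rw [e]))]; simp

theorem CycTI.sum_Rmu (h : CycTI (wG W₁ W₂)) (hj : j ≠ 1) :
    ∑ α ∈ Rmu L W₁ W₂ j, α = (dl L W₁ W₂ j : ℂ) • (∑ i, etaG W₁ W₂ i j - ∑ i, etaG W₁ W₂ i j⁻¹) := by
  classical
  have hd := dl_ne_zero L W₁ W₂ j
  rw [Rmu, Finset.sum_union, Finset.sum_image, Finset.sum_image, smul_sub, Finset.smul_sum,
    Finset.smul_sum, Finset.sum_neg_distrib, sub_eq_add_neg]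
  · intro a _ b _ e
    exact (h.eta_inj_iff.1 (smul_right_injective _ hd (neg_injective e))).1
  · intro a _ b _ e
    exact (h.eta_inj_iff.1 (smul_right_injective _ hd e)).1
  · rw [Finset.disjoint_left]
    intro α h1 h2
    obtain ⟨a, -, rfl⟩ := Finset.mem_image.1 h1
    obtain ⟨b, -, e⟩ := Finset.mem_image.1 h2
    rw [← smul_neg] at e
    exact h.eta_ne_neg _ _ _ _ (smul_right_injective _ hd e).symm

theorem PrimeTI.muR_inv_one (h : PrimeTI L K W₁ W₂) (j : Lin W₂) :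
    muR L W₁ W₂ j⁻¹ 1 = muR L W₁ W₂ j 1 := by
  rw [← h.conj_muR, conjFun_apply, (h.muR_char j).conj_one]

theorem PrDade.dade_sub_conj_muR (h : PrDade L K H A A₀ R W₁ W₂) (hj : j ≠ 1) :
    dadeL A₀ L R (muR L W₁ W₂ j - conjFun (muR L W₁ W₂ j)) = ∑ α ∈ Rmu L W₁ W₂ j, α := by
  rw [h.pti.conj_muR, h.dade_sub_muR hj (mt linv_eq_one.1 hj) (h.pti.muR_inv_one j).symm,
    h.cti.sum_Rmu hj, h.pti.dl_inv]

theorem PrDade.isometry (h : PrDade L K H A A₀ R W₁ W₂) (hS : S ⊆ seqIndD K L H M) :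
    IsLinearIsometryOn (zspanOn S {1}ᶜ) (dadeL A₀ L R) :=
  dade_isometry_zspan h.dade (fun φ hφ => seqIndT_char h.pti.K_le (seqIndD_subset_T (hS hφ)))
    fun φ hφ => (h.seqIndD_on (hS hφ)).mono (Set.insert_subset_insert h.subset)

theorem PrDade.zspan_CF (h : PrDade L K H A A₀ R W₁ W₂) (hS : S ⊆ seqIndD K L H M)
    (hφ : φ ∈ zspanOn S {1}ᶜ) : φ ∈ CF L A :=
  zspan_supp (fun ψ hψ => ⟨seqIndT_class (seqIndD_subset_T (hS hψ)), h.seqIndD_on (hS hψ)⟩) hφ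

theorem PrDade.dade_vanish_zspan (h : PrDade L K H A A₀ R W₁ W₂) (hS : S ⊆ seqIndD K L H M)
    (hφ : φ ∈ zspanOn S {1}ᶜ) : ∀ x ∈ tiSet (wG W₁ W₂), dadeL A₀ L R φ x = 0 := fun x hx =>
  h.dade_vanish (h.zspan_CF hS hφ) (h.cti.tiSet_eq ▸ hx)

/-- (5.3)(b) -/
theorem PrDade.subcoherent (h : PrDade L K H A A₀ R W₁ W₂) (hS : ConjSub S (seqIndD K L H ⊥))
    (hne : S.Nonempty) (hr : ∀ φ ∈ S, conjFun φ ≠ φ) :
    ∃ Q, IsCoherenceSystem S (dadeL A₀ L R) Q ∧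
      (∀ φ ∈ S, IsIrrCharacter L φ → ∀ α ∈ Q φ, ∀ i j, ⟪α, etaG W₁ W₂ i j⟫ = 0) ∧
      ∀ j, Q (muR L W₁ W₂ j) = Rmu L W₁ W₂ j := by
  classical
  have hT : S ⊆ seqIndT K L := hS.1.trans seqIndD_subset_T
  let S₀ : Set (L → ℂ) := {φ | φ ∈ S ∧ IsIrrCharacter L φ}
  have hS₀ : S₀ ⊆ S := fun φ hφ => hφ.1
  obtain ⟨Q₀, hQ₀⟩ : ∃ Q₀, S₀.Nonempty → IsCoherenceSystem S₀ (dadeL A₀ L R) Q₀ := by
    by_cases h0 : S₀.Nonempty
    · obtain ⟨Q₀, hQ₀⟩ := exists_coherenceSystem_irr h0 (fun φ hφ => hφ.2)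
        (fun φ hφ => ⟨hS.2 φ hφ.1, hφ.2.conjFun⟩) (fun φ hφ => hr φ hφ.1)
        (h.isometry (hS₀.trans hS.1)) (fun α _ => dadeL_one h.dade α)
      exact ⟨Q₀, fun _ => hQ₀⟩
    · exact ⟨fun _ => ∅, fun h1 => absurd h1 h0⟩
  let Q : (L → ℂ) → Finset (G → ℂ) := fun φ =>
    if hφ : ∃ j, φ = muR L W₁ W₂ j then Rmu L W₁ W₂ hφ.choose else Q₀ φ
  have hQ1 : ∀ j, Q (muR L W₁ W₂ j) = Rmu L W₁ W₂ j := fun j => by
    have hex : ∃ j', muR L W₁ W₂ j = muR L W₁ W₂ j' := ⟨j, rfl⟩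
    simp only [Q]
    rw [dif_pos hex, ← h.pti.muR_inj hex.choose_spec]
  have hQ2 : ∀ φ, IsIrrCharacter L φ → Q φ = Q₀ φ := fun φ hφ =>
    dif_neg fun ⟨j, e⟩ => h.pti.muR_not_irr j (e ▸ hφ)
  have hcases : ∀ φ ∈ S, (∃ j, j ≠ 1 ∧ φ = muR L W₁ W₂ j) ∨ φ ∈ S₀ := fun φ hφ =>
    (h.pti.seqIndT_cases (hT hφ)).imp
      (fun ⟨j, e⟩ => ⟨j, h.pti.ne_one_of_muR_mem (e ▸ hS.1 hφ), e⟩) fun h' => ⟨hφ, h'.1⟩
  have horth : ∀ φ ∈ S₀, ∀ α ∈ Q₀ φ, ∀ i j, ⟪α, etaG W₁ W₂ i j⟫ = 0 := by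
    intro φ hφ α hα i j
    have h0 := hQ₀ ⟨φ, hφ⟩
    have hm := h0.sub_conj_mem hφ
    refine h0.orth_R_of_sirr hφ (h.cti.eta_sirr i j) (h.cti.orth_of_nsq_two (h0.isometry.virt hm) ?_
      (h.dade_vanish_zspan (hS₀.trans hS.1) hm) i j) hα
    rw [h0.isometry.nsq_eq hm, nsq_sub_of_orth (h0.ci_conj hφ), nsq_conjFun, hφ.2.nsq]; norm_num
  refine ⟨Q, ⟨hne, fun φ hφ => seqIndT_char h.pti.K_le (hT hφ), hS.2, hr, h.isometry hS.1,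
    fun α _ => dadeL_one h.dade α, fun φ hφ ψ hψ => seqIndT_ortho h.pti.K_le h.pti.norm (hT hφ) (hT hψ),
    fun φ hφ α hα β hβ => ?_, fun φ hφ α hα => ?_, fun φ hφ => ?_,
    fun φ hφ ψ hψ o1 o2 α hα β hβ => ?_⟩, fun φ hφ hi => hQ2 φ hi ▸ horth φ ⟨hφ, hi⟩, hQ1⟩
  · rcases hcases φ hφ with ⟨j, hj, rfl⟩ | h0
    · rw [hQ1] at hα hβ
      split_ifs with e
      · rw [e, (h.cti.sirr_Rmu hβ).ci_self]
      · exact h.cti.Rmu_orth hj hα hβ e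
    · rw [hQ2 φ h0.2] at hα hβ
      exact (hQ₀ ⟨φ, h0⟩).orthonormal φ h0 α hα β hβ
  · rcases hcases φ hφ with ⟨j, hj, rfl⟩ | h0
    · rw [hQ1] at hα; exact (h.cti.sirr_Rmu hα).virt
    · rw [hQ2 φ h0.2] at hα; exact (hQ₀ ⟨φ, h0⟩).virtual φ h0 α hα
  · rcases hcases φ hφ with ⟨j, hj, rfl⟩ | h0
    · rw [hQ1]; exact h.dade_sub_conj_muR hj
    · rw [hQ2 φ h0.2]; exact (hQ₀ ⟨φ, h0⟩).sum_eq φ h0
  · rcases hcases φ hφ with ⟨j, hj, rfl⟩ | h0 <;> rcases hcases ψ hψ with ⟨k, hk, rfl⟩ | h0'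
    · rw [hQ1] at hα hβ
      rw [h.pti.conj_muR] at o2
      rw [h.pti.ci_muR] at o1 o2
      have n1 : k ≠ j := fun e => card_ne_zero_complex _ (by rwa [if_pos e] at o1)
      have n2 : k ≠ j⁻¹ := fun e => card_ne_zero_complex _ (by rwa [if_pos e] at o2)
      exact ci_Rmu_eq_zero hβ
        (fun i => h.cti.ci_Rmu_eta hα i n1 fun e => n2 (by rw [← e, linv_inv]))
        (fun i => h.cti.ci_Rmu_eta hα i n2 fun e => n1 (linv_inj.1 e))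
    · rw [hQ1] at hβ; rw [hQ2 ψ h0'.2] at hα
      exact ci_Rmu_eq_zero hβ (fun i => horth ψ h0' α hα _ _) fun i => horth ψ h0' α hα _ _
    · rw [hQ1] at hα; rw [hQ2 φ h0.2] at hβ
      exact ci_eq_zero_symm
        (ci_Rmu_eq_zero hα (fun i => horth φ h0 β hβ _ _) fun i => horth φ h0 β hβ _ _)
    · rw [hQ2 ψ h0'.2] at hα; rw [hQ2 φ h0.2] at hβ
      exact (hQ₀ ⟨φ, h0⟩).disjoint φ h0 ψ h0' o1 o2 α hα β hβ

/-- a function of norm `w₁` having coefficient `ε` on a whole column is `ε` times the column -/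
theorem CycTI.eq_col {W₁ : Type u} {W₂ : Type v} {X : Type w} [Group W₁] [Group W₂] [Group X]
    [Finite W₁] [Finite W₂] [Fintype X] {e : W₁ × W₂ →* X} (h : CycTI e) {ψ : X → ℂ}
    (hn : nsq ψ = Nat.card W₁) {ε : ℂ} (hε : ε = 1 ∨ ε = -1) {j : Lin W₂}
    (h1 : ∀ i, ⟪ψ, eta e i j⟫ = ε) : ψ = ε • ∑ i, eta e i j := by
  have h2 : ⟪ψ, ε • ∑ i, eta e i j⟫ = Nat.card W₁ := by
    rw [ci_smul_right, ci_sum_right]
    simp only [h1]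
    rw [Finset.sum_const, Finset.card_univ, h.card_Lin₁]
    rcases hε with rfl | rfl <;> simp
  have h3 : nsq (ε • ∑ i, eta e i j) = Nat.card W₁ := by
    rw [nsq_smul, nsq_eq_of_ci (r := Nat.card W₁) (by rw [h.ci_col_col, if_pos rfl]; simp)]
    rcases hε with rfl | rfl <;> simp
  rw [← sub_eq_zero, ← nsq_eq_zero, nsq_sub, hn, h2, h3, Complex.natCast_re]; ring

/-- the image of an irreducible member is orthogonal to the `η_ij` -/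
theorem PrDade.coherent_irr_orth (h : PrDade L K H A A₀ R W₁ W₂)
    (hS : ConjSub S (seqIndD K L H ⊥)) (hr : ∀ φ ∈ S, conjFun φ ≠ φ)
    {ν : (L → ℂ) →ₗ[ℂ] (G → ℂ)} (hν : CohWith S (dadeL A₀ L R) ν) (hφ : φ ∈ S)
    (hi : IsIrrCharacter L φ) (i : Lin W₁) (j : Lin W₂) : ⟪ν φ, etaG W₁ W₂ i j⟫ = 0 := by
  obtain ⟨Q, hQ, h1, -⟩ := h.subcoherent hS ⟨φ, hφ⟩ hr
  exact h1 φ hφ hi _ (hν.mem_R hQ hφ hi (mem_zspan_of_mem hφ) (mem_zspan_of_mem (hS.2 φ hφ))) i j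

/-- if `S` has an irreducible member then all images vanish on `V` -/
theorem PrDade.coherent_vanish (h : PrDade L K H A A₀ R W₁ W₂)
    (hS : ConjSub S (seqIndD K L H ⊥)) (hr : ∀ φ ∈ S, conjFun φ ≠ φ)
    (hi : ∃ φ ∈ S, IsIrrCharacter L φ) {ν : (L → ℂ) →ₗ[ℂ] (G → ℂ)}
    (hν : CohWith S (dadeL A₀ L R) ν) (hψ : ψ ∈ zspan S) :
    ∀ x ∈ tiSet (wG W₁ W₂), ν ψ x = 0 := by
  obtain ⟨φ, hφ, hi⟩ := hi
  intro x hx
  have h1 := h.cti.vanish_of_orth (hν.virt_mem hφ).isClassFunction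
    (h.coherent_irr_orth hS hr hν hφ hi) x hx
  have hm := degree_comb_mem_zspanOn hψ (mem_zspan_of_mem hφ)
    (virt_of_mem_zspan (fun α hα => (seqIndT_char h.pti.K_le
      (seqIndD_subset_T (hS.1 hα))).virt) hψ).exists_int_one hi.virt.exists_int_one
  have h2 := h.dade_vanish_zspan hS.1 hm x hx
  rw [← hν.2 _ hm, map_sub, map_smul, map_smul, Pi.sub_apply, Pi.smul_apply, Pi.smul_apply, h1,
    smul_zero, sub_zero, smul_eq_mul] at h2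
  exact (mul_eq_zero.1 h2).resolve_left hi.apply_one_ne_zero

/-- (5.8) -/
theorem PrDade.coherent_muR (h : PrDade L K H A A₀ R W₁ W₂) (hS : ConjSub S (seqIndD K L H ⊥))
    (hr : ∀ φ ∈ S, conjFun φ ≠ φ) (hi : ∃ φ ∈ S, IsIrrCharacter L φ) (hk : muR L W₁ W₂ k ∈ S)
    {ν : (L → ℂ) →ₗ[ℂ] (G → ℂ)} (hν : CohWith S (dadeL A₀ L R) ν) :
    ν (muR L W₁ W₂ k) = (dl L W₁ W₂ k : ℂ) • ∑ i, etaG W₁ W₂ i k ∨
    (ν (muR L W₁ W₂ k) = -((dl L W₁ W₂ k : ℂ) • ∑ i, etaG W₁ W₂ i k⁻¹) ∧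
      ∀ l, muR L W₁ W₂ l ∈ S → muR L W₁ W₂ l 1 = muR L W₁ W₂ k 1 → l = k ∨ l = k⁻¹) := by
  obtain ⟨Q, hQ, -, h2⟩ := h.subcoherent hS ⟨_, hk⟩ hr
  have hk1 := h.pti.ne_one_of_muR_mem (hS.1 hk)
  obtain ⟨E, hE, e, hc⟩ := hν.exists_eq_sum hQ hk (mem_zspan_of_mem hk)
    (mem_zspan_of_mem (hS.2 _ hk))
  have hV := h.coherent_vanish hS hr hi hν (mem_zspan_of_mem hk)
  have hn : nsq (ν (muR L W₁ W₂ k)) = Nat.card W₁ := by
    rw [hν.nsq_eq (mem_zspan_of_mem hk), h.pti.nsq_muR]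
  have h0 : ∀ i, ⟪ν (muR L W₁ W₂ k), etaG W₁ W₂ i 1⟫ = 0 := fun i => by
    rw [e, ci_sum_left]
    exact Finset.sum_eq_zero fun α hα =>
      h.cti.ci_Rmu_eta (h2 k ▸ hE hα) i hk1 (mt linv_eq_one.1 hk1)
  have hconst : ∀ i i' l, ⟪ν (muR L W₁ W₂ k), etaG W₁ W₂ i l⟫ =
      ⟪ν (muR L W₁ W₂ k), etaG W₁ W₂ i' l⟫ := fun i i' l => by
    have := h.cti.exchange (hν.virt_mem hk).isClassFunction hV i i' l 1
    rwa [h0, h0, add_zero, zero_add] at this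
  obtain ⟨α, hα⟩ : E.Nonempty := Finset.card_pos.1 (by
    rw [h.pti.nsq_muR, Nat.cast_inj] at hc; rw [hc]; exact Nat.card_pos)
  have h1 := hQ.ci_sum_mem hk hE hα
  rw [← e] at h1
  have hdd := dl_mul_self L W₁ W₂ k
  obtain ⟨i₀, rfl | rfl⟩ := mem_Rmu.1 (h2 k ▸ hE hα)
  · refine Or.inl (h.cti.eq_col hn (dl_sign _ _ _ _) fun i => ?_)
    rw [ci_smul_right, conj_dl] at h1
    rw [hconst i i₀, ← one_mul ⟪_, _⟫, ← hdd, mul_assoc, h1, mul_one]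
  · have h3 : ν (muR L W₁ W₂ k) = -((dl L W₁ W₂ k : ℂ) • ∑ i, etaG W₁ W₂ i k⁻¹) := by
      rw [← neg_smul]
      refine h.cti.eq_col hn (by rcases dl_sign L W₁ W₂ k with e | e <;> simp [e]) fun i => ?_
      rw [ci_neg_right, ci_smul_right, conj_dl, neg_eq_iff_eq_neg] at h1
      rw [hconst i i₀, ← one_mul ⟪_, _⟫, ← hdd, mul_assoc, h1, mul_neg, mul_one]
    refine Or.inr ⟨h3, fun l hl hd => by_contra fun hn' => ?_⟩
    push Not at hn'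
    have h4 := h.dade_sub_muR (h.pti.ne_one_of_muR_mem (hS.1 hl)) hk1 hd
    rw [← hν.eq (sub_mem_zspan (mem_zspan_of_mem hl) (mem_zspan_of_mem hk))
      (by rw [Pi.sub_apply, hd, sub_self]), map_sub, sub_eq_iff_eq_add] at h4
    have h5 := hν.ci_mem hl hk
    rw [h.pti.ci_muR, if_neg hn'.1, h4, ci_add_left, hν.ci_mem hk hk, h.pti.ci_muR, if_pos rfl, h3,
      ci_neg_right, ci_smul_left, ci_smul_right, ci_sub_left, h.cti.ci_col_col, h.cti.ci_col_col,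
      if_neg hn'.2, if_neg (h.cti.inv_ne₂ hk1).symm] at h5
    simp only [sub_self, mul_zero, neg_zero, zero_add] at h5
    exact card_ne_zero_complex _ h5

/-- (5.9)(a) -/
theorem cfAut_Dade_coherent (hD : DadeHypothesis A L R) {ν : (L → ℂ) →ₗ[ℂ] (G → ℂ)}
    (hν : CohWith S (dadeL A L R) ν) (σ : ℂ →+* ℂ)
    (h2 : ∃ φ ∈ S, ∃ ψ ∈ S, IsIrrCharacter L φ ∧ IsIrrCharacter L ψ ∧ φ ≠ ψ)
    (hc : ∀ φ ∈ S, cfAut σ φ ∈ S) (hχ : IsIrrCharacter L χ) (hχS : χ ∈ S) :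
    cfAut σ (ν χ) = ν (cfAut σ χ) := by
  obtain ⟨ψ, hψS, hψ, hne⟩ : ∃ ψ ∈ S, IsIrrCharacter L ψ ∧ ψ ≠ χ := by
    obtain ⟨φ, h1, ψ, h2, h3, h4, h5⟩ := h2
    by_cases e : φ = χ
    · exact ⟨ψ, h2, h4, fun e' => h5 (e.trans e'.symm)⟩
    · exact ⟨φ, h1, h3, e⟩
  obtain ⟨ε, hε, hirr⟩ := (hν.subset (S₁ := {φ | φ ∈ S ∧ IsIrrCharacter L φ})
    fun φ hφ => hφ.1).exists_sign (fun α _ => dadeL_one hD α) fun φ hφ => hφ.2
  have hσε : σ ε = ε := by rcases hε with rfl | rfl <;> simp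
  have hε0 : ε ≠ 0 := by rcases hε with rfl | rfl <;> simp
  obtain ⟨p, hp, hp'⟩ := hψ.exists_degree
  obtain ⟨q, hq, hq'⟩ := hχ.exists_degree
  have key : ∀ χ ∈ S, ∀ ψ ∈ S, χ 1 = q → ψ 1 = p →
      dadeL A L R ((p : ℂ) • χ - (q : ℂ) • ψ) = (p : ℂ) • ν χ - (q : ℂ) • ν ψ := by
    intro χ h1 ψ h2 h3 h4
    rw [← hν.eq (sub_mem_zspan (natCast_smul_mem_zspan p (mem_zspan_of_mem h1))
      (natCast_smul_mem_zspan q (mem_zspan_of_mem h2))) (by simp [h3, h4, mul_comm]), map_sub,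
      map_smul, map_smul]
  have e1 := congrArg (fun α => ε • cfAut σ α) (key χ hχS ψ hψS hq' hp')
  simp only [cfAut_dadeL, cfAut_sub, cfAut_smul, map_natCast] at e1
  rw [key _ (hc χ hχS) _ (hc ψ hψS) (by rw [cfAut, hq', map_natCast]) (by rw [cfAut, hp', map_natCast]),
    smul_sub, smul_sub, smul_comm ε, smul_comm ε (q : ℂ), smul_comm ε (p : ℂ), smul_comm ε (q : ℂ)] at e1
  have ia : IsIrrCharacter G (ε • cfAut σ (ν χ)) := by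
    have := (hirr χ ⟨hχS, hχ⟩).map_ringHom σ
    rwa [← hσε, ← cfAut_smul]
  have ib : IsIrrCharacter G (ε • cfAut σ (ν ψ)) := by
    have := (hirr ψ ⟨hψS, hψ⟩).map_ringHom σ
    rwa [← hσε, ← cfAut_smul]
  have ic := hirr _ ⟨hc χ hχS, hχ.map_ringHom σ⟩
  have id := hirr _ ⟨hc ψ hψS, hψ.map_ringHom σ⟩
  have hab : ε • cfAut σ (ν ψ) ≠ ε • cfAut σ (ν χ) := fun e => by
    have e' := cfAut_injective σ (smul_right_injective _ hε0 e)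
    have := hν.ci_mem hψS hχS
    rw [e', hν.ci_mem hχS hχS, hχ.ci_self, hψ.ci_of_ne hχ hne] at this
    exact one_ne_zero this
  refine smul_right_injective _ hε0 (by_contra fun hn => ?_)
  have e2 := congrArg (fun α => ⟪α, ε • cfAut σ (ν χ)⟫) e1
  simp only [ci_sub_left, ci_smul_left (p : ℂ), ci_smul_left (q : ℂ)] at e2
  rw [ia.ci_self, ib.ci_of_ne ia hab, ic.ci_of_ne ia (Ne.symm hn)] at e2
  obtain ⟨n, hn⟩ := id.isCharacter.ci_irr_nat ia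
  erw [hn] at e2
  have e3 : (p : ℂ) + q * n = 0 := by linear_combination -e2
  have : p + q * n = 0 := by exact_mod_cast e3
  omega

theorem cfConjC_Dade_coherent (hD : DadeHypothesis A L R) {ν : (L → ℂ) →ₗ[ℂ] (G → ℂ)}
    (hν : CohWith S (dadeL A L R) ν) (hc : ∀ φ ∈ S, conjFun φ ∈ S) (hχ : IsIrrCharacter L χ)
    (hχS : χ ∈ S) (hne : conjFun χ ≠ χ) : conjFun (ν χ) = ν (conjFun χ) :=
  cfAut_Dade_coherent hD hν (starRingEnd ℂ) ⟨_, hc χ hχS, χ, hχS, hχ.conjFun, hχ, hne⟩ hc hχ hχS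

/-- (5.9)(b) -/
theorem Dade_irr_sub_conjC (hD : DadeHypothesis A L R) (hχ : IsIrrCharacter L χ)
    (hA : SuppOn (insert 1 A) χ) :
    ∃ μ, IsIrrCharacter G μ ∧ dadeL A L R (χ - conjFun χ) = μ - conjFun μ := by
  by_cases hr : conjFun χ = χ
  · exact ⟨fun _ => 1, isIrrCharacter_one, by rw [hr, conjFun_one, sub_self, sub_self, map_zero]⟩
  have hv := hχ.virt.sub hχ.virt.conjFun
  have hs : SuppOn A (χ - conjFun χ) := (hA.sub hA.conjFun).of_insert (by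
    rw [Pi.sub_apply, conjFun_apply, hχ.isCharacter.conj_one, sub_self])
  obtain ⟨μ, h1, -, h2⟩ := exists_sub_conjFun (dadeL_virt hD hv hs) (by
    rw [dadeL_nsq hD hv.isClassFunction hs, nsq_sub_of_orth (hχ.ci_of_ne hχ.conjFun (Ne.symm hr)),
      nsq_conjFun, hχ.nsq]; norm_num) (dadeL_one hD _) (by
    rw [conjFun_dadeL, conjFun_sub, conjFun_conjFun, ← map_neg, neg_sub])
  exact ⟨μ, h1, h2⟩

end Cfsg.Agent.PF
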