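import Cfsg.Agent.PF.S06c

set_option autoImplicit false
set_option linter.unusedSectionVars false
set_option linter.unusedVariables false

namespace Cfsg.Agent.PF

open Subgroup Cfsg.Agent.GT Cfsg.Agent.BG Cfsg.Agent.Char

universe u v w

/-! Peterfalvi §6 in ambient style. -/

variable {G : Type u} [Group G] [Fintype G] {L K H H₁ M Z W₁ W₂ : Subgroup G}

section
variable {X : Type v} [Group X] [Fintype X] {τ : (L → ℂ) →ₗ[ℂ] (X → ℂ)}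
  {Q : (L → ℂ) → Finset (X → ℂ)}

/-- (6.2) -/
theorem coherent_seqIndD_bound (hKL : K ≤ L) (hn : L ≤ N[K]) (hs : Group.IsSolvable K)
    (hS : IsCoherenceSystem (seqIndD K L K ⊥) τ Q) {A B C D : Subgroup G} (hA : L ≤ N[A])
    (hB : L ≤ N[B]) (hC : L ≤ N[C]) (hD : L ≤ N[D]) (hAK : A < K) (hBD : B ≤ D) (hDC : D ≤ C)
    (hCK : C ≤ K) (hz : ⁅D, C⁆ ≤ B) (hcoh : Coh (seqIndD K L K A) τ)
    (hnc : ¬ Coh (seqIndD K L K B) τ) :
    (A.relIndex K - 1) ^ 2 ≤ 4 * C.relIndex L ^ 2 * D.relIndex C :=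
  hS.cohProp.seqIndD_bound hKL hn hs hA hB hAK hBD hDC hCK hz hcoh hnc

/-- (6.3) -/
theorem bounded_seqIndD_coherence (hKL : K ≤ L) (hn : L ≤ N[K]) (hs : Group.IsSolvable K)
    (hS : IsCoherenceSystem (seqIndD K L K ⊥) τ Q) (hM : L ≤ N[M]) (hH : L ≤ N[H])
    (hH₁ : L ≤ N[H₁]) (hMH₁ : M ≤ H₁) (hH₁H : H₁ ≤ H) (hHK : H ≤ K)
    (hnil : Group.IsNilpotent (quo H M)) (hcoh : Coh (seqIndD K L K H₁) τ)
    (hlt : 4 * K.relIndex L ^ 2 + 1 < H₁.relIndex H) : Coh (seqIndD K L K M) τ :=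
  hS.cohProp.bounded hKL hn hs hM hH hH₁ hMH₁ hH₁H hHK hnil hcoh hlt

/-- (6.4) -/
def OddFrobQuo (K L M : Subgroup G) : Prop :=
  Odd (Nat.card L) ∧ L ≤ N[M] ∧ M ≤ K ∧ Group.IsNilpotent (quo K M) ∧
    FrobKer (quo L (⁅K, K⁆ ⊔ M)) (quo K (⁅K, K⁆ ⊔ M))

/-- a Frobenius quotient with abelian kernel, in terms of elements -/
theorem regMod_of_frobKer_quo (hKL : K ≤ L) (hH : L ≤ N[H₁]) (hd : ⁅K, K⁆ ≤ H₁) (hH₁ : H₁ ≤ K)
    (hF : FrobKer (quo L H₁) (quo K H₁)) :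
    K < L ∧ H₁ < K ∧ ∀ k ∈ K, k ∉ H₁ → ∀ x ∈ L, x * k * x⁻¹ * k⁻¹ ∈ H₁ → x ∈ K := by
  obtain ⟨R, hF⟩ := hF
  have := Fintype.ofFinite (QuoT H₁)
  refine ⟨hKL.lt_of_ne fun e => hF.compl_ne_bot (hF.sdprod.eq_left_iff.1 (by rw [e])),
    hH₁.lt_of_ne fun e => hF.ker_ne_bot (by rw [← e, quo_self]), fun k hk hkH x hx hm => ?_⟩
  have hxM := hH hx
  have hkM := hH (hKL hk)
  rw [← mem_im_iff_of_le (f := coset H₁) hxM (hKL.trans hH) (by rwa [kr_coset])]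
  refine regMod_of_regular (M := ⊥) hF.sdprod
    (le_cent_iff_commutator_eq_bot.1 (isMulCommutative_iff_le_cent.1
      ((comm_quo_iff (hKL.trans hH)).2 hd))).le
    (fun w hw hw1 y hy h => semiregular_iff.1 hF.reg w hw hw1 y hy ?_) (coset H₁ ⟨k, hkM⟩)
    (mem_im_of_mem hkM hk) (fun h => hkH (kr_coset H₁ ▸ (mem_kr' hkM).2 h)) _
    (mem_im_of_mem hxM hx) ?_
  · rw [mem_bot, mul_inv_eq_one, mul_inv_eq_iff_eq_mul] at h; exact h.symm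
  · rw [← kr_coset H₁, mem_kr' (mul_mem (mul_mem (mul_mem hxM hkM) (inv_mem hxM)) (inv_mem hkM))]
      at hm
    rw [mem_bot, ← map_inv, ← map_inv, ← map_mul, ← map_mul, ← map_mul]
    exact hm

/-- (6.5) -/
theorem non_coherent_chief (hKL : K ≤ L) (hn : L ≤ N[K]) (hs : Group.IsSolvable K)
    (hS : IsCoherenceSystem (seqIndD K L K ⊥) τ Q) (hF : OddFrobQuo K L M)
    (hnc : ¬ Coh (seqIndD K L K M) τ) :
    ChiefFactor L (⁅K, K⁆ ⊔ M) K ∧ (⁅K, K⁆ ⊔ M).relIndex K ≤ 4 * K.relIndex L ^ 2 + 1 ∧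
    ∃ p : ℕ, p.Prime ∧ IsPGroup p (quo K M) ∧ ¬ ⁅K, K⁆ ≤ M ∧ ¬ K.relIndex L ∣ p - 1 := by
  obtain ⟨ho, hM, hMK, hnil, hF⟩ := hF
  obtain ⟨h1, h2, h3⟩ := regMod_of_frobKer_quo hKL (le_norm_sup (le_norm_commutator hn hn) hM)
    le_sup_left (sup_le (commutator_le_of_le_norm_left le_normalizer) hMK) hF
  exact hS.cohProp.non_coherent_chief h1 hn hs ho hM hMK hnil h2 h3 hnc

/-- (6.6), with the Frobenius hypothesis in terms of elements -/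
theorem CohProp.seqIndD_irr (hS : CohProp (seqIndD K L K ⊥) τ) (hKL : K < L) (hn : L ≤ N[K])
    (ho : Odd (Nat.card L)) (hnil : Group.IsNilpotent K) (hlt : ⁅K, K⁆ < K)
    (hreg : ∀ k ∈ K, k ∉ ⁅K, K⁆ → ∀ x ∈ L, x * k * x⁻¹ * k⁻¹ ∈ ⁅K, K⁆ → x ∈ K) (hZ : L ≤ N[Z])
    (hZK : Z ≤ K ⊓ C[K]) (hi : ∀ φ ∈ seqIndD K L Z ⊥, IsIrrCharacter L φ) :
    Coh (seqIndD K L Z ⊥) τ := by
  by_cases hc : Coh (seqIndD K L K ⊥) τ
  · exact hc.subset (seqIndD_mono (hZK.trans inf_le_left) le_rfl)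
  obtain ⟨-, -, p, hp, hP, -, -⟩ := hS.non_coherent_chief (M := ⊥) hKL hn inferInstance ho
    le_norm_of_normal bot_le (nilpotent_im hnil) (by rwa [sup_bot_eq]) (by rwa [sup_bot_eq]) hc
  obtain ⟨eq⟩ := nonempty_equiv_quo_of_inf_eq_bot (H := K) (K := ⊥) le_norm_of_normal (inf_bot_eq _)
  have hK : IsPGroup p K := hP.of_equiv eq.symm
  haveI := Fact.mk hp
  have hn' : L ≤ N[⁅K, K⁆] := le_norm_commutator hn hn
  have h1 := relIndex_dvd_pred hn' hn (hKL.le.trans hn') hreg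
  have h2 := PG.dvd_relIndex_of_not_le hK hlt.not_ge
  refine hS.coh_central hKL.le hn hp (PG.ne_two_of_odd_of_dvd ho
    (h2.trans ((relIndex_dvd_card' _ _).trans (card_dvd_of_le hKL.le)))) hK
    (hp.coprime_iff_not_dvd.2 fun h => hp.one_lt.ne' (Nat.dvd_one.1 ?_)) hZ hZK hi
  have := Nat.dvd_sub h2 (h.trans h1)
  rwa [Nat.sub_sub_self (relIndex_pos _ _)] at this

/-- (6.6) -/
theorem seqIndD_irr_coherence (hKL : K ≤ L) (hn : L ≤ N[K]) (hs : Group.IsSolvable K)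
    (hS : IsCoherenceSystem (seqIndD K L K ⊥) τ Q) (hF : OddFrobQuo K L ⊥) (hZ : L ≤ N[Z])
    (hZ1 : Z ≠ ⊥) (hZK : Z ≤ K ⊓ C[K]) (hi : ∀ φ ∈ seqIndD K L Z ⊥, IsIrrCharacter L φ) :
    seqIndD K L Z ⊥ = {χ | IsIrrCharacter L χ ∧ ¬ InKer Z χ} ∧ Coh (seqIndD K L Z ⊥) τ := by
  obtain ⟨ho, hM, hMK, hnil, hF⟩ := hF
  obtain ⟨h1, h2, h3⟩ := regMod_of_frobKer_quo hKL (le_norm_sup (le_norm_commutator hn hn) hM)
    le_sup_left (sup_le (commutator_le_of_le_norm_left le_normalizer) hMK) hF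
  rw [sup_bot_eq] at h2 h3
  obtain ⟨eq⟩ := nonempty_equiv_quo_of_inf_eq_bot (H := K) (K := ⊥) le_norm_of_normal (inf_bot_eq _)
  exact ⟨seqIndD_eq_irr hKL hn hZ (hZK.trans inf_le_left) hi, hS.cohProp.seqIndD_irr h1 hn ho
    (Group.nilpotent_of_surjective eq.symm.toMonoidHom eq.symm.surjective) h2 h3 hZ hZK hi⟩

end

theorem frob_card_dvd_pred (h : Frob H W₁ L) : Nat.card W₁ ∣ Nat.card H - 1 := by
  rw [← relIndex_bot_left H]
  refine card_dvd_pred_of_regular le_norm_of_normal h.sdprod.right_norm le_norm_of_normal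
    fun x hx hx1 y hy e => semiregular_iff.1 h.reg x hx hx1 y hy ?_
  rw [mem_bot, mul_inv_eq_one, mul_inv_eq_iff_eq_mul] at e; exact e.symm

theorem coprime_of_dvd_pred {a b : ℕ} (hb : 0 < b) (h : a ∣ b - 1) : b.Coprime a := by
  obtain ⟨b, rfl⟩ : ∃ c, b = c + 1 := ⟨b - 1, by omega⟩
  exact Nat.Coprime.coprime_dvd_right h (by simp)

theorem frob_coprime (h : Frob H W₁ L) : (Nat.card H).Coprime (Nat.card W₁) :=
  coprime_of_dvd_pred (card_pos' H) (frob_card_dvd_pred h)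

theorem dadeL_bot_eq_indFun (hTI : NormedTI (sharp H) ⊤ L) (hHL : H ≤ L) {α : L → ℂ}
    (hα : α ∈ zspanOn (seqIndT H L) {1}ᶜ) : dadeL (sharp H) L (fun _ => ⊥) α = indFun L α :=
  have h := zspan_seqIndT_on hHL (normedTI_sharp_iff.1 hTI).2.2.ge subset_rfl hα
  dadeL_eq_indFun (dade_of_normedTI hTI) h.1 h.2 fun _ _ _ => rfl

/-- (6.8), for the Dade map with trivial signalizers -/
theorem Sibley_coherence_dade (ho : Odd (Nat.card L)) (hnil : Group.IsNilpotent H)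
    (hTI : NormedTI (sharp H) ⊤ L)
    (hc : Frob H W₁ L ∨ ∃ (W₂ : Subgroup G) (A₀ : Set G) (R : G → Subgroup G),
      (Nat.card W₂).Prime ∧ W₂ ≤ ⁅H, H⁆ ∧ PrDade L H H (sharp H) A₀ R W₁ W₂) :
    Coh (seqIndD H L H ⊥) (dadeL (sharp H) L fun _ => ⊥) := by
  have hD := dade_of_normedTI hTI
  have hn : L ≤ N[H] := (normedTI_sharp_iff.1 hTI).2.2.ge
  have hH1 : H ≠ ⊥ := sharp_nonempty.1 hTI.nonempty
  have hne : (seqIndD H L H ⊥).Nonempty :=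
    seqIndD_nonempty le_rfl le_normalizer le_norm_of_normal (bot_lt_iff_ne_bot.2 hH1)
  rcases hc with hF | ⟨W₂, A₀, R, hq, hW₂, hP⟩
  · have hHL := hF.sdprod.left_le
    have hi : ∀ Z, ∀ φ ∈ seqIndD H L Z ⊥, IsIrrCharacter L φ := by
      rintro Z _ ⟨θ, ⟨hθ, hk, -⟩, rfl⟩
      exact irr_induced_Frobenius_ker hF.frobKer hθ (ne_one_of_not_inKer hk)
    obtain ⟨Q, hQ⟩ := exists_coherenceSystem_irr (τ := dadeL (sharp H) L fun _ => ⊥) hne (hi H)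
      (fun _ => conj_seqIndD) (fun _ => seqIndD_conj_ne hHL hn ho)
      (dade_isometry_zspan hD (fun φ hφ => (hi H φ hφ).isCharacter) fun φ hφ =>
        (seqIndT_on hHL hn (seqIndD_subset_T hφ)).insert_sharp) fun α _ => dadeL_one hD α
    exact sibley_aux ho hnil hTI hF.sdprod hF.compl_ne_bot bot_le hF.reg (frob_coprime hF)
      (Or.inl rfl) hQ fun Z _ _ _ => hi Z
  · have hHL := hP.pti.K_le
    obtain ⟨Q, hQ, -⟩ := hP.subcoherent (ConjSub.refl fun _ => conj_seqIndD) hne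
      fun _ => seqIndD_conj_ne hHL hn ho
    refine sibley_aux ho hnil hTI hP.pti.sdprod hP.pti.ne₁ hW₂ hP.pti.cent hP.pti.coprime
      (Or.inr hq) (hQ.congr (dade_isometry_zspan hD hQ.isCharacter fun φ hφ =>
        (seqIndT_on hHL hn (seqIndD_subset_T hφ)).insert_sharp) fun α hα => ?_)
      fun Z hZH hZ hZW φ hφ => ?_
    · have h := hP.zspan_CF subset_rfl hα
      rw [dadeL_bot_eq_indFun hTI hHL (zspanOn_mono seqIndD_subset_T _ hα),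
        dadeL_eq_indFun hP.dade h.1 (h.2.mono hP.subset) fun x hx hx0 => ?_]
      have hxA : (x : G) ∈ sharp H := by by_contra h'; exact hx0 (h.2 x h')
      exact eq_bot_iff.2 fun u hu => hP.dade.eq_one_of_mem_L hx hu
        (hTI.cent1_le hxA ⟨mem_top _, hP.dade.le_centralizer _ hx hu⟩)
    · refine ((hP.pti.seqIndT_cases (seqIndD_subset_T hφ)).resolve_left ?_).1
      rintro ⟨j, rfl⟩
      refine ((mem_seqIndD_iff hHL hn hZH hZ bot_le le_norm_of_normal).1 hφ).2.1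
        ((hP.pti.inKer_muR_iff hZH hZ j).2 fun x hx => ?_)
      rw [show x = 1 from Subtype.ext (mem_bot.1 (hZW ▸ ⟨hx, x.2⟩ : (x : G) ∈ ⊥)), map_one]

/-- (6.8) -/
theorem Sibley_coherence (ho : Odd (Nat.card L)) (hnil : Group.IsNilpotent H)
    (hTI : NormedTI (sharp H) ⊤ L)
    (hc : Frob H W₁ L ∨ ∃ (W₂ : Subgroup G) (A₀ : Set G) (R : G → Subgroup G),
      (Nat.card W₂).Prime ∧ W₂ ≤ ⁅H, H⁆ ∧ PrDade L H H (sharp H) A₀ R W₁ W₂) :
    Coh (seqIndD H L H ⊥) (indFunL L) :=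
  let ⟨ν, hν⟩ := Sibley_coherence_dade ho hnil hTI hc
  ⟨ν, hν.congr fun α hα => dadeL_bot_eq_indFun hTI
    ((normedTI_sharp_iff.1 hTI).2.2 ▸ le_normalizer) (zspanOn_mono seqIndD_subset_T _ hα)⟩

end Cfsg.Agent.PF
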