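import Cfsg.Agent.PF.S05
import Cfsg.Agent.PG.Frattini

set_option autoImplicit false
set_option linter.unusedSectionVars false
set_option linter.unusedVariables false

namespace Cfsg.Agent.PF

open Subgroup Cfsg.Agent.GT Cfsg.Agent.BG Cfsg.Agent.Char

universe u v w

/-! Peterfalvi (6.2)–(6.6), for any set of characters with the extension property `CohProp`. -/

/-! ### orbit sums -/

theorem sum_mem_of_orbits {A : Type u} [Group A] [Finite A] {X : Type v} [MulAction A X]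
    (T : Finset X) (hT : ∀ a : A, ∀ x ∈ T, a • x ∈ T) {M : Type w} [AddCommMonoid M] (g : X → M)
    (hg : ∀ a : A, ∀ x ∈ T, g (a • x) = g x) (P : AddSubmonoid M)
    (h : ∀ x ∈ T, (MulAction.stabilizer A x).index • g x ∈ P) : ∑ x ∈ T, g x ∈ P := by
  classical
  rw [← Finset.sum_fiberwise_of_maps_to (s := T)
    (t := T.image fun x : X => (Quotient.mk'' x : MulAction.orbitRel.Quotient A X))
    (g := fun x : X => (Quotient.mk'' x : MulAction.orbitRel.Quotient A X))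
    fun x hx => Finset.mem_image_of_mem _ hx]
  refine P.sum_mem fun ω hω => ?_
  obtain ⟨x₀, hx₀, rfl⟩ := Finset.mem_image.1 hω
  have hmem : ∀ x, x ∈ T.filter
      (fun x : X => (Quotient.mk'' x : MulAction.orbitRel.Quotient A X) = Quotient.mk'' x₀)
      ↔ x ∈ MulAction.orbit A x₀ := by
    intro x
    rw [Finset.mem_filter, Quotient.eq'', MulAction.orbitRel_apply]
    exact ⟨fun h => h.2, fun h => ⟨by obtain ⟨a, rfl⟩ := h; exact hT a x₀ hx₀, h⟩⟩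
  rw [Finset.sum_congr rfl (g := fun _ => g x₀) (fun x hx => by
    obtain ⟨a, rfl⟩ := (hmem x).1 hx; exact hg a x₀ hx₀), Finset.sum_const]
  convert h x₀ hx₀ using 2
  rw [MulAction.index_stabilizer, ← Set.ncard_coe_finset]
  congr 1; ext x; exact hmem x

theorem sum_mem_of_conj {A : Type u} [Group A] [Finite A] {X : Type v} [Group X] (f : A →* X)
    (T : Finset X) (hT : ∀ a : A, ∀ x ∈ T, f a * x * (f a)⁻¹ ∈ T) {M : Type w} [AddCommMonoid M]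
    (g : X → M) (hg : ∀ a : A, ∀ x ∈ T, g (f a * x * (f a)⁻¹) = g x) (P : AddSubmonoid M)
    (h : ∀ x ∈ T, (C1[x].comap f).index • g x ∈ P) : ∑ x ∈ T, g x ∈ P := by
  letI : MulAction A X := MulAction.compHom X (MulAut.conj.comp f)
  refine sum_mem_of_orbits (A := A) T hT g hg P fun x hx => ?_
  convert h x hx using 3
  ext a
  rw [MulAction.mem_stabilizer_iff, mem_comap, mem_cent1]
  exact mul_inv_eq_iff_eq_mul

variable {G : Type u} [Group G] [Fintype G] {L K H H₁ H₂ M Z W₁ W₂ A : Subgroup G}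

/-- if the stabilisers in `A` of the non-trivial elements of `H / M` lie in `K`, then
`|H : M| ≡ 1` modulo `|A : A ∩ K|` -/
theorem relIndex_dvd_pred (hA : A ≤ N[M]) (hA' : A ≤ N[H]) (hH : H ≤ N[M])
    (h : ∀ k ∈ H, k ∉ M → ∀ x ∈ A, x * k * x⁻¹ * k⁻¹ ∈ M → x ∈ K) :
    K.relIndex A ∣ M.relIndex H - 1 := by
  classical
  have := Fintype.ofFinite (QuoT M)
  have key := sum_mem_of_conj ((coset M).comp (inclusion hA))
    ((Finset.univ.filter (· ∈ quo H M)).erase 1) (fun a x hx => by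
      simp only [Finset.mem_erase, Finset.mem_filter, Finset.mem_univ, true_and] at hx ⊢
      refine ⟨by simpa using hx.1, conj_mem_of_le_norm (im_norm hA') ?_ hx.2⟩
      exact mem_im_of_mem (hA a.2) a.2) (fun _ => (1 : ℕ)) (fun _ _ _ => rfl)
    (AddSubmonoid.multiples (K.relIndex A)) (fun x hx => by
      simp only [Finset.mem_erase, Finset.mem_filter, Finset.mem_univ, true_and] at hx
      obtain ⟨h1, hx⟩ := hx
      obtain ⟨y, hy, hyH, rfl⟩ := mem_im.1 hx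
      have : C1[coset M ⟨y, hy⟩].comap ((coset M).comp (inclusion hA)) ≤ K.subgroupOf A := by
        intro a ha
        rw [mem_comap, mem_cent1] at ha
        refine h y hyH (fun hm => h1 ((mem_kr' hy).1 (by rwa [kr_coset]))) a a.2 ?_
        rw [← kr_coset M, mem_kr' (mul_mem (mul_mem (mul_mem (hA a.2) hy) (inv_mem (hA a.2)))
          (inv_mem hy))]
        have e : (⟨a * y * (a : G)⁻¹ * y⁻¹, mul_mem (mul_mem (mul_mem (hA a.2) hy)
          (inv_mem (hA a.2))) (inv_mem hy)⟩ : N[M]) =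
          inclusion hA a * ⟨y, hy⟩ * (inclusion hA a)⁻¹ * (⟨y, hy⟩ : N[M])⁻¹ := rfl
        rw [e, map_mul, map_mul, map_mul, map_inv, map_inv]
        simp only [MonoidHom.comp_apply] at ha
        rw [ha]; group
      obtain ⟨c, hc⟩ := index_dvd_of_le this
      exact ⟨c, by simp only [smul_eq_mul, mul_one, hc, mul_comm c]; rfl⟩)
  obtain ⟨c, hc⟩ := key
  simp only [Finset.sum_const, smul_eq_mul, mul_one] at hc
  rw [Finset.card_erase_of_mem (by simp [one_mem]), ← Nat.card_eq_finsetCard] at hc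
  rw [← card_quo hH]
  refine ⟨c, ?_⟩
  rw [mul_comm, hc]
  congr 1
  exact Nat.card_congr (Equiv.subtypeEquivRight (by simp))

theorem two_mul_add_one_le {e x : ℕ} (he : Odd e) (hx : Odd x) (h1 : 1 < x) (h : e ∣ x - 1) :
    2 * e + 1 ≤ x := by
  have h2 : 2 ∣ x - 1 := (Nat.Odd.sub_odd hx odd_one).two_dvd
  have := Nat.le_of_dvd (by omega) ((Nat.coprime_two_left.2 he).mul_dvd_of_dvd_of_dvd h2 h)
  omega

theorem dvd_pred_of_mul {e a b : ℕ} (ha : 0 < a) (h1 : e ∣ a - 1) (h : e ∣ a * b - 1) :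
    e ∣ b - 1 := by
  rcases b with _ | b
  · simp
  obtain ⟨a, rfl⟩ : ∃ c, a = c + 1 := ⟨a - 1, by omega⟩
  simp only [Nat.add_sub_cancel] at h1 ⊢
  rw [show (a + 1) * (b + 1) - 1 = a * (b + 1) + b by rw [add_mul]; omega] at h
  exact (Nat.dvd_add_right (h1.mul_right _)).1 h

theorem one_lt_relIndex (h : ¬ K ≤ H) : 1 < H.relIndex K := by
  have h1 := relIndex_pos H K
  have h2 : H.relIndex K ≠ 1 := fun e => h (relIndex_eq_one.1 e)
  omega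

/-- a chief factor of `L` is central in a normal subgroup `H` that is nilpotent modulo `M` -/
theorem chief_commutator_le_of_nil_quo {A B : Subgroup G} (h : ChiefFactor L B A) (hAH : A ≤ H)
    (hHL : H ≤ L) (hH : L ≤ N[H]) (hM : L ≤ N[M]) (hMB : M ≤ B)
    (hnil : Group.IsNilpotent (quo H M)) : ⁅A, H⁆ ≤ B := by
  have hAL := h.le
  have hBL := h.lt.le.trans hAL
  have hAH' : ⁅A, H⁆ ≤ A := commutator_le_of_le_norm_left (hHL.trans h.norm_top)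
  rcases h.eq_or_eq (W := ⁅A, H⁆ ⊔ B) le_sup_right (sup_le hAH' h.lt.le)
    (le_norm_sup (le_norm_commutator h.norm_top hH) h.norm_bot) with e | e
  · exact le_sup_left.trans e.le
  · exfalso
    refine PG.not_le_commutator_sup_of_nilpotent hnil (N := quo A M) (K := quo B M) (im_mono hAH)
      (im_norm (hHL.trans h.norm_bot)) (fun hle => h.lt.not_ge ?_) ?_
    · exact (im_le_im_iff_of_le (hAL.trans hM) (hBL.trans hM) (by rwa [kr_coset])).1 hle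
    · rw [← im_commutator (hAL.trans hM) (hHL.trans hM),
        ← im_sup ((hAH'.trans hAL).trans hM) (hBL.trans hM), e]

/-! ### the extension property -/

section
variable {Y : Type w} [Group Y] [Fintype Y] {X : Type v} [Group X] [Fintype X]
  {τ : (Y → ℂ) →ₗ[ℂ] (X → ℂ)} {S S₁ T : Set (Y → ℂ)} {Q : (Y → ℂ) → Finset (X → ℂ)}

theorem Coh.elim_subset (h : Coh S τ) (hS : S₁ ⊆ S) : Coh S₁ τ :=
  let ⟨ν, hν⟩ := h; ⟨ν, hν.subset hS⟩

/-- the conclusions of (5.6) and (5.7) -/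
structure CohProp (S : Set (Y → ℂ)) (τ : (Y → ℂ) →ₗ[ℂ] (X → ℂ)) : Prop where
  fin : S.Finite
  conj : ∀ χ ∈ S, conjFun χ ∈ S
  char : ∀ χ ∈ S, IsCharacter Y χ
  step : ∀ S₁ : Finset (Y → ℂ), ConjSub S₁ S → Coh (S₁ : Set (Y → ℂ)) τ → ∀ χ₁ ∈ S₁, ∀ χ ∈ S,
    χ ∉ S₁ → (∃ a : ℤ, χ 1 = a * χ₁ 1) →
    2 * (χ 1).re * (χ₁ 1).re < ∑ φ ∈ S₁, (φ 1).re ^ 2 / nsq φ →
    Coh ((S₁ : Set (Y → ℂ)) ∪ {χ, conjFun χ}) τ
  unif : ∀ S₁, ConjSub S₁ S → (∀ φ ∈ S₁, ∀ ψ ∈ S₁, φ 1 = ψ 1) → Coh S₁ τ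

theorem _root_.Cfsg.IsCoherenceSystem.cohProp (h : IsCoherenceSystem S τ Q) : CohProp S τ where
  fin := h.finite
  conj := h.conj_mem
  char := h.isCharacter
  step := fun S₁ hS ⟨ν, hν⟩ χ₁ h₁ χ hχ hχ' ⟨a, ha⟩ hlt =>
    let ⟨ν', h', _⟩ := hν.extend h hS.1 hS.2 hχ hχ' h₁ ha hlt
    ⟨ν', h'⟩
  unif S₁ hS hd := by
    rcases S₁.eq_empty_or_nonempty with rfl | hne
    · exact ⟨0, isLinearIsometryOn_zspan 0 (by simp) (by simp), fun α hα => by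
        have : α = 0 := by simpa [zspan] using hα.1
        simp [this]⟩
    · exact (h.subset hS.1 hne hS.2).exists_cohWith_of_degree hd

theorem CohProp.extend (h : CohProp S τ) (hS₁ : ConjSub S₁ S) (hc : Coh S₁ τ) {χ₁ : Y → ℂ}
    (h₁ : χ₁ ∈ S₁) (hT : T ⊆ S) (F : Finset (Y → ℂ)) (hF : (F : Set (Y → ℂ)) ⊆ S₁)
    (hlt : ∀ χ ∈ T, χ ∉ S₁ → (∃ a : ℤ, χ 1 = a * χ₁ 1) ∧
      2 * (χ 1).re * (χ₁ 1).re < ∑ φ ∈ F, (φ 1).re ^ 2 / nsq φ) : Coh (S₁ ∪ T) τ := by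
  classical
  suffices ∃ S₂, S₁ ∪ T ⊆ S₂ ∧ ConjSub S₂ S ∧ Coh S₂ τ by
    obtain ⟨S₂, h1, -, ν, h3⟩ := this; exact ⟨ν, h3.subset h1⟩
  induction T, h.fin.subset hT using Set.Finite.induction_on with
  | empty => exact ⟨S₁, by simp, hS₁, hc⟩
  | @insert χ T hχT hfin ih =>
    obtain ⟨S₂, h1, h2, h3⟩ := ih (Set.subset_insert _ _ |>.trans hT)
      fun φ hφ => hlt φ (Or.inr hφ)
    by_cases hχ : χ ∈ S₂
    · exact ⟨S₂, by rw [Set.union_insert]; exact Set.insert_subset hχ h1, h2, h3⟩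
    have hS₁₂ : S₁ ⊆ S₂ := Set.subset_union_left.trans h1
    obtain ⟨ha, hb⟩ := hlt χ (Or.inl rfl) fun e => hχ (hS₁₂ e)
    have hχS := hT (Or.inl rfl)
    lift S₂ to Finset (Y → ℂ) using h.fin.subset h2.1
    refine ⟨_, ?_, ⟨Set.union_subset h2.1 (Set.insert_subset hχS (by simpa using h.conj χ hχS)),
      ?_⟩, h.step S₂ h2 h3 χ₁ (hS₁₂ h₁) χ hχS hχ ha (hb.trans_le ?_)⟩
    · rw [Set.union_insert]
      exact Set.insert_subset (Or.inr (Or.inl rfl)) (h1.trans Set.subset_union_left)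
    · rintro φ (hφ | rfl | rfl)
      · exact Or.inl (h2.2 φ hφ)
      · exact Or.inr (Or.inr rfl)
      · exact Or.inr (Or.inl (conjFun_conjFun _))
    · exact Finset.sum_le_sum_of_subset_of_nonneg (fun φ hφ => hS₁₂ (hF hφ))
        fun φ _ _ => div_nonneg (sq_nonneg _) (nsq_nonneg _)

open scoped Classical in
/-- extension by increasing degrees -/
theorem CohProp.chain (h : CohProp S τ) {T : Finset (Y → ℂ)} (hT : ConjSub T S) {χ₁ : Y → ℂ}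
    (h₁ : χ₁ ∈ T) (hmin : ∀ χ ∈ T, (χ₁ 1).re ≤ (χ 1).re)
    (hlt : ∀ χ ∈ T, (χ₁ 1).re < (χ 1).re → (∃ a : ℤ, χ 1 = a * χ₁ 1) ∧
      2 * (χ 1).re * (χ₁ 1).re <
        ∑ φ ∈ T.filter fun φ => (φ 1).re < (χ 1).re, (φ 1).re ^ 2 / nsq φ) :
    Coh (T : Set (Y → ℂ)) τ := by
  have hd : ∀ χ ∈ T, ∃ d : ℕ, χ 1 = d := fun χ hχ => (h.char χ (hT.1 hχ)).exists_degree
  have hcs : ∀ r : ℝ, ConjSub {χ | χ ∈ T ∧ (χ 1).re ≤ r} S := fun r =>
    ⟨fun χ hχ => hT.1 hχ.1, fun χ hχ => ⟨hT.2 χ hχ.1, by simpa [conjFun_apply] using hχ.2⟩⟩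
  have key : ∀ n : ℕ, Coh {χ | χ ∈ T ∧ (χ 1).re ≤ (χ₁ 1).re + n} τ := by
    intro n
    induction n with
    | zero =>
      refine h.unif _ (hcs _) fun φ hφ ψ hψ => ?_
      obtain ⟨a, ha⟩ := hd φ hφ.1
      obtain ⟨b, hb⟩ := hd ψ hψ.1
      have h1 := hmin φ hφ.1; have h2 := hmin ψ hψ.1; have h3 := hφ.2; have h4 := hψ.2
      rw [ha] at h1 h3 ⊢; rw [hb] at h2 h4 ⊢
      simp only [Complex.natCast_re, Nat.cast_zero, add_zero] at h1 h2 h3 h4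
      exact_mod_cast (show (a : ℝ) = b by linarith)
    | succ n ih =>
      have h0 : (0 : ℝ) ≤ n := Nat.cast_nonneg n
      refine Coh.elim_subset (h.extend (T := {χ | χ ∈ T ∧ (χ 1).re ≤ (χ₁ 1).re + (n + 1 : ℕ)})
        (hcs _) ih (χ₁ := χ₁) ⟨h₁, by linarith⟩ (hcs _).1
        (T.filter fun φ => (φ 1).re ≤ (χ₁ 1).re + n) (fun φ hφ => by simpa using hφ)
        fun χ hχ hχ' => ?_) Set.subset_union_right
      have h1 : (χ₁ 1).re + n < (χ 1).re := by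
        by_contra hn; exact hχ' ⟨hχ.1, not_lt.1 hn⟩
      obtain ⟨ha, hb⟩ := hlt χ hχ.1 (by linarith)
      refine ⟨ha, hb.trans_eq (Finset.sum_congr (Finset.filter_congr fun φ hφ => ?_) fun _ _ => rfl)⟩
      obtain ⟨a, ha⟩ := hd φ hφ
      obtain ⟨b, hb⟩ := hd χ hχ.1
      obtain ⟨c, hc⟩ := hd χ₁ h₁
      have h2 := hχ.2
      rw [hb, hc] at h1 h2; rw [ha, hb, hc]
      simp only [Complex.natCast_re] at h1 h2 ⊢
      norm_cast at h1 h2 ⊢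
      omega
  obtain ⟨n, hn⟩ := exists_nat_ge (∑ χ ∈ T, ((χ 1).re - (χ₁ 1).re))
  refine Coh.elim_subset (key n) fun χ hχ => ⟨hχ, ?_⟩
  have := Finset.single_le_sum (f := fun χ : Y → ℂ => (χ 1).re - (χ₁ 1).re)
    (fun χ hχ => sub_nonneg.2 (hmin χ hχ)) hχ
  linarith

end

section
variable {X : Type v} [Group X] [Fintype X] {τ : (L → ℂ) →ₗ[ℂ] (X → ℂ)}

/-- (6.2) -/
theorem CohProp.seqIndD_bound (hS : CohProp (seqIndD K L K ⊥) τ) (hKL : K ≤ L) (hn : L ≤ N[K])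
    (hs : Group.IsSolvable K) {A B C D : Subgroup G} (hA : L ≤ N[A])
    (hB : L ≤ N[B]) (hAK : A < K) (hBD : B ≤ D) (hDC : D ≤ C)
    (hCK : C ≤ K) (hz : ⁅D, C⁆ ≤ B) (hcoh : Coh (seqIndD K L K A) τ)
    (hnc : ¬ Coh (seqIndD K L K B) τ) :
    (A.relIndex K - 1) ^ 2 ≤ 4 * C.relIndex L ^ 2 * D.relIndex C := by
  by_contra hlt
  obtain ⟨φ, hφ, hφ1⟩ := exists_linInd hKL hAK (hKL.trans hA) hs
  refine hnc (Coh.elim_subset (hS.extend (conjSub_seqIndD le_rfl bot_le) hcoh hφ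
    (seqIndD_mono le_rfl bot_le) (seqIndD_finite K L K A).toFinset (by simp) ?_)
    Set.subset_union_right)
  rintro _ ⟨θ, ⟨hθ, -, hk⟩, rfl⟩ -
  obtain ⟨t, -, ht⟩ := hθ.exists_degree
  have hb := irr1_bound_quo hθ hBD hDC hCK ((hCK.trans hKL).trans hB) hz hk
  rw [cInd_one hKL, hφ1, ht, sum_seqIndD_square hKL hn le_rfl hn hA hAK.le, relIndex_self]
  refine ⟨⟨t, by push_cast; ring⟩, ?_⟩
  rw [ht, Complex.norm_natCast] at hb
  rw [← relIndex_mul_relIndex C K L hCK hKL] at hlt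
  have he := relIndex_pos K L
  have hk := relIndex_pos A K
  generalize K.relIndex L = e at *
  generalize A.relIndex K = k at *
  obtain ⟨k, rfl⟩ : ∃ c, k = c + 1 := ⟨k - 1, by omega⟩
  have h1 : t ^ 2 ≤ C.relIndex K ^ 2 * D.relIndex C := by exact_mod_cast hb
  have h2 : 2 * e * t < k := lt_of_pow_lt_pow_left₀ 2 (Nat.zero_le _) (by
    simp only [Nat.add_sub_cancel, not_le] at hlt
    calc (2 * e * t) ^ 2 = 4 * e ^ 2 * t ^ 2 := by ring
      _ ≤ 4 * e ^ 2 * (C.relIndex K ^ 2 * D.relIndex C) := by gcongr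
      _ = _ := by ring
      _ < _ := hlt)
  have h3 : 2 * (e * t) * e < e * k := by nlinarith
  simp only [← Nat.cast_mul, Complex.natCast_re, Nat.cast_one, mul_one, Nat.cast_add,
    add_sub_cancel_right]
  exact_mod_cast h3

/-- the descent along a chief series used in (6.3) -/
theorem coh_of_chief_steps (hM : L ≤ N[M]) (hH₁ : L ≤ N[H₁]) (hL : H₁ ≤ L) (hMH₁ : M ≤ H₁)
    (hcoh : Coh (seqIndD K L K H₁) τ)
    (h : ∀ A B : Subgroup G, M ≤ B → A ≤ H₁ → ChiefFactor L B A → Coh (seqIndD K L K A) τ →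
      Coh (seqIndD K L K B) τ) : Coh (seqIndD K L K M) τ := by
  obtain ⟨A, ⟨h1, h2, h3, h4⟩, -, hmin⟩ := exists_minimal_le
    (S := {A | M ≤ A ∧ A ≤ H₁ ∧ L ≤ N[A] ∧ Coh (seqIndD K L K A) τ}) ⟨hMH₁, le_rfl, hH₁, hcoh⟩
  rcases h1.eq_or_lt with rfl | hlt
  · exact h4
  obtain ⟨B, hMB, hB⟩ := exists_chiefFactor_ge hlt (h2.trans hL) hM h3
  exact absurd (hmin B ⟨hMB, hB.lt.le.trans h2, hB.norm_bot, h A B hMB h2 hB h4⟩ hB.lt.le) hB.lt.ne

/-- (6.3) -/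
theorem CohProp.bounded (hS : CohProp (seqIndD K L K ⊥) τ) (hKL : K ≤ L) (hn : L ≤ N[K])
    (hs : Group.IsSolvable K) (hM : L ≤ N[M]) (hH : L ≤ N[H])
    (hH₁ : L ≤ N[H₁]) (hMH₁ : M ≤ H₁) (hH₁H : H₁ ≤ H) (hHK : H ≤ K)
    (hnil : Group.IsNilpotent (quo H M)) (hcoh : Coh (seqIndD K L K H₁) τ)
    (hlt : 4 * K.relIndex L ^ 2 + 1 < H₁.relIndex H) : Coh (seqIndD K L K M) τ := by
  refine coh_of_chief_steps hM hH₁ ((hH₁H.trans hHK).trans hKL) hMH₁ hcoh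
    fun A B hMB hA hch hc => ?_
  by_contra hnc
  have hAH := hA.trans hH₁H
  have hx : 4 * K.relIndex L ^ 2 + 1 < A.relIndex H := hlt.trans_le
    (Nat.le_of_dvd (relIndex_pos _ _) (relIndex_dvd_of_le_left H hA))
  have hAK : A < K := (hAH.lt_of_ne fun e => by
    rw [e, relIndex_self] at hx; omega).trans_le hHK
  have key := hS.seqIndD_bound hKL hn hs hch.norm_top hch.norm_bot hAK hch.lt.le hAH hHK
    (chief_commutator_le_of_nil_quo hch hAH (hHK.trans hKL) hH hM hMB hnil) hc hnc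
  rw [← relIndex_mul_relIndex A H K hAH hHK, ← relIndex_mul_relIndex H K L hHK hKL] at key
  have hk := relIndex_pos H K
  generalize K.relIndex L = e at *
  generalize A.relIndex H = x at *
  generalize H.relIndex K = k at *
  obtain ⟨y, rfl⟩ : ∃ y, x = y + 2 := ⟨x - 2, by omega⟩
  have h1 : (k * (y + 1)) ^ 2 ≤ ((y + 2) * k - 1) ^ 2 :=
    Nat.pow_le_pow_left (by rw [mul_comm, show y + 2 = y + 1 + 1 from rfl, add_mul (y + 1)]; omega) 2
  have h2 : k ^ 2 * (y + 1) ^ 2 ≤ k ^ 2 * (4 * e ^ 2 * (y + 2)) := by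
    calc _ = (k * (y + 1)) ^ 2 := by ring
      _ ≤ _ := h1.trans key
      _ = _ := by ring
  have h3 := Nat.le_of_mul_le_mul_left h2 (by positivity)
  have h4 : 4 * e ^ 2 * (y + 2) ≤ y * (y + 2) := Nat.mul_le_mul_right _ (by omega)
  nlinarith

theorem CohProp.coh_der (hS : CohProp (seqIndD K L K ⊥) τ) (hKL : K ≤ L) (hM : ⁅K, K⁆ ≤ M) :
    Coh (seqIndD K L K M) τ := by
  refine hS.unif _ (conjSub_seqIndD le_rfl bot_le) ?_
  rintro _ ⟨θ, ⟨hθ, -, hk⟩, rfl⟩ _ ⟨θ', ⟨hθ', -, hk'⟩, rfl⟩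
  rw [cInd_one hKL, cInd_one hKL, irr_one_of_inKer_der hθ (hk.mono hM),
    irr_one_of_inKer_der hθ' (hk'.mono hM)]

/-- a nilpotent group with a `π`-group as abelianisation is a `π`-group -/
theorem isPi_of_nil_of_der {Q : Type v} [Group Q] [Finite Q] {P : Subgroup Q} {π : Set ℕ}
    (hnil : Group.IsNilpotent P) (h : PiNat π (⁅P, P⁆.relIndex P)) : IsPiSubgroup π P := by
  have h1 := nil_isPiHallOf_piCoreOf hnil π
  have h2 := h1.sup_eq_of_idx (commutator_le_of_le_norm_left le_normalizer) h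
  rw [← PG.eq_of_sup_commutator_eq_of_nilpotent hnil h1.le (by rw [sup_comm, h2])]
  exact h1.isPi

theorem der_quo_relIndex (hn : K ≤ N[M]) :
    ⁅quo K M, quo K M⁆.relIndex (quo K M) = (⁅K, K⁆ ⊔ M).relIndex K := by
  have hd : ⁅K, K⁆ ≤ N[M] := (commutator_le_of_le_norm_left le_normalizer).trans hn
  rw [← im_commutator hn hn, ← relIndex_im_of_le (f := coset M) (sup_le hd le_normalizer) hn
    (by rw [kr_coset]; exact le_sup_right)]
  congr 1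
  exact (quo_sup_self hd).symm

/-- (6.5) -/
theorem CohProp.non_coherent_chief (hS : CohProp (seqIndD K L K ⊥) τ) (hKL : K < L)
    (hn : L ≤ N[K]) (hs : Group.IsSolvable K) (ho : Odd (Nat.card L)) (hM : L ≤ N[M])
    (hMK : M ≤ K) (hnil : Group.IsNilpotent (quo K M)) (hlt : ⁅K, K⁆ ⊔ M < K)
    (hreg : ∀ k ∈ K, k ∉ ⁅K, K⁆ ⊔ M → ∀ x ∈ L, x * k * x⁻¹ * k⁻¹ ∈ ⁅K, K⁆ ⊔ M → x ∈ K)
    (hnc : ¬ Coh (seqIndD K L K M) τ) :
    ChiefFactor L (⁅K, K⁆ ⊔ M) K ∧ (⁅K, K⁆ ⊔ M).relIndex K ≤ 4 * K.relIndex L ^ 2 + 1 ∧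
    ∃ p : ℕ, p.Prime ∧ IsPGroup p (quo K M) ∧ ¬ ⁅K, K⁆ ≤ M ∧ ¬ K.relIndex L ∣ p - 1 := by
  have hd := der_quo_relIndex (hKL.le.trans hM)
  have hna : ¬ ⁅K, K⁆ ≤ M := fun h => hnc (hS.coh_der hKL.le h)
  have hH₁ : L ≤ N[⁅K, K⁆ ⊔ M] := le_norm_sup (le_norm_commutator hn hn) hM
  have hub : (⁅K, K⁆ ⊔ M).relIndex K ≤ 4 * K.relIndex L ^ 2 + 1 := not_lt.1 fun h =>
    hnc (hS.bounded hKL.le hn hs hM hn hH₁ le_sup_right hlt.le le_rfl hnil
      (hS.coh_der hKL.le le_sup_left) h)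
  generalize ⁅K, K⁆ ⊔ M = H₁ at *
  have he : Odd (K.relIndex L) := ho.of_dvd_nat (relIndex_dvd_card' _ _)
  have he1 := relIndex_pos K L
  have hoK : Odd (Nat.card K) := ho.of_dvd_nat (card_dvd_of_le hKL.le)
  have hoH : Odd (H₁.relIndex K) := hoK.of_dvd_nat (relIndex_dvd_card' _ _)
  have hmod : ∀ H₂, H₂ ≤ K → L ≤ N[H₂] → K.relIndex L ∣ H₁.relIndex H₂ - 1 := fun H₂ h1 h2 =>
    relIndex_dvd_pred hH₁ h2 ((h1.trans hKL.le).trans hH₁) fun k hk => hreg k (h1 hk)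
  have hch : ChiefFactor L H₁ K := by
    refine ⟨hlt, hKL.le, hH₁, hn, fun W h1 h2 h3 => ?_⟩
    by_contra hc
    push Not at hc
    have e := relIndex_mul_relIndex H₁ W K h1 h2
    have ha := hmod W h2 h3
    have hb := dvd_pred_of_mul (relIndex_pos _ _) ha (e ▸ hmod K le_rfl hn)
    rw [← e] at hoH hub
    have h4 := two_mul_add_one_le he (Nat.odd_mul.1 hoH).1
      (one_lt_relIndex fun h => hc.1 (le_antisymm h h1)) ha
    have h5 := two_mul_add_one_le he (Nat.odd_mul.1 hoH).2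
      (one_lt_relIndex fun h => hc.2 (le_antisymm h2 h)) hb
    have := Nat.mul_le_mul h4 h5
    nlinarith
  obtain ⟨p, hp, -, -, hπ⟩ := hch.elementary hs
  have hP : IsPGroup p (quo K M) := (isPi_of_nil_of_der hnil (hd ▸ hπ)).isPGroup hp
  refine ⟨hch, hub, p, hp, hP, hna, fun hdv => hna ?_⟩
  obtain ⟨k, hk⟩ := (piNat_single_iff hp (relIndex_pos _ _).ne').1 hπ
  have h1 := one_lt_relIndex hlt.not_ge
  have hk0 : k ≠ 0 := by rintro rfl; simp [hk] at h1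
  have h2 := two_mul_add_one_le he (hoH.of_dvd_nat (hk ▸ dvd_pow_self p hk0)) hp.one_lt hdv
  have hk1 : k = 1 := by
    by_contra h
    have : p ^ 2 ≤ p ^ k := Nat.pow_le_pow_right hp.pos (by omega)
    nlinarith
  haveI := Fact.mk hp
  rw [← comm_quo_iff (hKL.le.trans hM)]
  refine isMulCommutative_of_isCyclic (PG.isCyclic_of_card_le_mul_card_phi hP ?_)
  rw [← card_mul_relIndex (H := ⁅quo K M, quo K M⁆) (commutator_le_of_le_norm_left le_normalizer),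
    hd, hk, hk1, pow_one, mul_comm]
  exact Nat.mul_le_mul_left _ (card_le_of_le (PG.commutator_le_phi hP))

/-- the first half of (6.6) -/
theorem seqIndD_eq_irr (hKL : K ≤ L) (hn : L ≤ N[K]) (hZ : L ≤ N[Z]) (hZK : Z ≤ K)
    (hi : ∀ φ ∈ seqIndD K L Z ⊥, IsIrrCharacter L φ) :
    seqIndD K L Z ⊥ = {χ | IsIrrCharacter L χ ∧ ¬ InKer Z χ} := by
  ext χ
  refine ⟨fun h => ⟨hi χ h, ((mem_seqIndD_iff hKL hn hZK hZ bot_le le_norm_of_normal).1 h).2.1⟩,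
    fun ⟨h1, h2⟩ => ?_⟩
  obtain ⟨θ, hθ, hne⟩ := exists_constt_cRes hKL h1
  have h3 : ⟪cInd L θ, χ⟫ ≠ 0 := by
    rw [ci_cInd_left hKL θ h1.isClassFunction]; exact fun h => hne (ci_eq_zero_symm h)
  have h4 : cInd L θ ∈ seqIndD K L Z ⊥ := ⟨θ, ⟨hθ, fun hk => h2 (InKer.of_ci_ne_zero
    (hθ.isCharacter.cInd hKL) h1 h3 ((inKer_cInd_iff hKL hn hZK hZ hθ).2 hk)), inKer_bot _⟩, rfl⟩
  rwa [eq_cInd_of_ci_cRes hKL h1 (hi _ h4) hne]

theorem irr_degree_pow {p : ℕ} (hp : p.Prime) (hK : IsPGroup p K) {θ : K → ℂ}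
    (hθ : IsIrrCharacter K θ) : ∃ a : ℕ, θ 1 = (p ^ a : ℕ) := by
  haveI := Fact.mk hp
  obtain ⟨t, -, ht⟩ := hθ.exists_degree
  obtain ⟨n, hn⟩ := PG.exists_card_eq_pow hK
  obtain ⟨a, -, rfl⟩ := (Nat.dvd_prime_pow hp).1 (hn ▸ hθ.degree_dvd_card ht)
  exact ⟨a, ht⟩

/-- the second half of (6.6) -/
theorem CohProp.coh_central (hS : CohProp (seqIndD K L K ⊥) τ) (hKL : K ≤ L) (hn : L ≤ N[K])
    {p : ℕ} (hp : p.Prime) (hp2 : p ≠ 2) (hK : IsPGroup p K) (he : p.Coprime (K.relIndex L))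
    (hZ : L ≤ N[Z]) (hZK : Z ≤ K ⊓ C[K]) (hi : ∀ φ ∈ seqIndD K L Z ⊥, IsIrrCharacter L φ) :
    Coh (seqIndD K L Z ⊥) τ := by
  classical
  haveI := Fact.mk hp
  have hZK' : Z ≤ K := hZK.trans inf_le_left
  rcases (seqIndD K L Z ⊥).eq_empty_or_nonempty with h0 | hne
  · rw [h0]; exact coh_empty
  have hsum := sum_seqIndD_square hKL hn hZK' hZ (M := ⊥) le_norm_of_normal bot_le
  rw [← (seqIndD_finite K L Z ⊥).coe_toFinset] at hne hi ⊢
  have hT : ConjSub ((seqIndD_finite K L Z ⊥).toFinset : Set (L → ℂ)) (seqIndD K L K ⊥) := by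
    rw [Set.Finite.coe_toFinset]; exact conjSub_seqIndD hZK' le_rfl
  obtain ⟨m, hm⟩ := PG.exists_relIndex_eq_pow hK Z
  have hdeg : ∀ χ ∈ (seqIndD_finite K L Z ⊥).toFinset, ∃ a : ℕ,
      χ 1 = (K.relIndex L * p ^ a : ℕ) ∧ p ^ (2 * a) ∣ Z.relIndex K := by
    intro χ hχ
    obtain ⟨θ, ⟨hθ, -, -⟩, rfl⟩ := (Set.Finite.mem_toFinset _).1 hχ
    obtain ⟨a, ha⟩ := irr_degree_pow hp hK hθ
    refine ⟨a, by rw [cInd_one hKL, ha, Nat.cast_mul], ?_⟩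
    have hb := irr1_bound_quo hθ bot_le hZK' le_rfl le_norm_of_normal
      (le_cent_iff_commutator_eq_bot.1 (hZK.trans inf_le_right)).le (inKer_bot _)
    rw [ha, Complex.norm_natCast, relIndex_self, hm] at hb
    rw [hm]
    refine pow_dvd_pow _ ((Nat.pow_le_pow_iff_right hp.one_lt).1 ?_)
    rw [mul_comm, pow_mul]
    exact_mod_cast (by simpa using hb : ((p : ℝ) ^ a) ^ 2 ≤ (p : ℝ) ^ m)
  generalize (seqIndD_finite K L Z ⊥).toFinset = T at *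
  choose! a ha hdv using hdeg
  have he0 := relIndex_pos K L
  generalize K.relIndex L = e at *
  have hre : ∀ χ ∈ T, (χ 1).re = (e * p ^ a χ : ℕ) := fun χ hχ => by
    rw [ha χ hχ, Complex.natCast_re]
  have hlt : ∀ χ ∈ T, ∀ φ ∈ T, (φ 1).re < (χ 1).re ↔ a φ < a χ := fun χ hχ φ hφ => by
    rw [hre χ hχ, hre φ hφ, Nat.cast_lt, Nat.mul_lt_mul_left he0, Nat.pow_lt_pow_iff_right hp.one_lt]
  obtain ⟨χ₁, h₁, hmin⟩ := T.exists_min_image a hne
  refine hS.chain hT h₁ (fun χ hχ => not_lt.1 fun h => (hmin χ hχ).not_gt ((hlt χ₁ h₁ χ hχ).1 h))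
    fun χ hχ h => ?_
  rw [hlt χ hχ χ₁ h₁] at h
  refine ⟨⟨p ^ (a χ - a χ₁), ?_⟩, ?_⟩
  · rw [ha χ hχ, ha χ₁ h₁]; push_cast
    rw [mul_left_comm, ← pow_add, Nat.sub_add_cancel h.le]
  have hsq : ∀ U : Finset (L → ℂ), U ⊆ T → ∑ φ ∈ U, (φ 1).re ^ 2 / nsq φ =
      (∑ φ ∈ U, (e * p ^ a φ) ^ 2 : ℕ) := fun U hU => by
    push_cast
    exact Finset.sum_congr rfl fun φ hφ => by
      rw [(hi φ (hU hφ)).nsq, hre φ (hU hφ)]; simp
  rw [Finset.filter_congr (fun φ hφ => hlt χ hχ φ hφ), hsq _ (Finset.filter_subset _ _),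
    hre χ hχ, hre χ₁ h₁]
  rw [hsq T subset_rfl, ← Nat.cast_pred (relIndex_pos _ _)] at hsum
  have h1 : p ^ (2 * a χ) ∣ ∑ φ ∈ T, (e * p ^ a φ) ^ 2 := by
    rw [show ∑ φ ∈ T, (e * p ^ a φ) ^ 2 = e * Z.relIndex K * ((⊥ : Subgroup G).relIndex Z - 1) by
      exact_mod_cast hsum]
    exact ((hdv χ hχ).mul_left _).mul_right _
  rw [← Finset.sum_filter_add_sum_filter_not T fun φ => a φ < a χ] at h1
  have h2 := (Nat.dvd_add_left (Finset.dvd_sum fun φ hφ => by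
    rw [mul_pow, ← pow_mul, mul_comm (a φ)]
    exact (pow_dvd_pow _ (by have := (Finset.mem_filter.1 hφ).2; omega)).mul_left _)).1 h1
  have h3 : e ^ 2 ∣ ∑ φ ∈ T.filter fun φ => a φ < a χ, (e * p ^ a φ) ^ 2 :=
    Finset.dvd_sum fun φ _ => by rw [mul_pow]; exact dvd_mul_right _ _
  have h4 := Nat.le_of_dvd (Finset.sum_pos (fun φ _ => by have := hp.pos; positivity)
    ⟨χ₁, Finset.mem_filter.2 ⟨h₁, h⟩⟩) ((he.pow _ _).mul_dvd_of_dvd_of_dvd h2 h3)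
  have h5 : 2 * p ^ a χ₁ < p ^ a χ := by
    calc 2 * p ^ a χ₁ < p * p ^ a χ₁ :=
          Nat.mul_lt_mul_of_pos_right (lt_of_le_of_ne hp.two_le hp2.symm) (Nat.pow_pos hp.pos)
      _ = p ^ (a χ₁ + 1) := by ring
      _ ≤ _ := Nat.pow_le_pow_right hp.pos h
  have h6 : 2 * (e * p ^ a χ) * (e * p ^ a χ₁) < p ^ (2 * a χ) * e ^ 2 := by
    calc _ = e ^ 2 * p ^ a χ * (2 * p ^ a χ₁) := by ring
      _ < e ^ 2 * p ^ a χ * p ^ a χ :=
          Nat.mul_lt_mul_of_pos_left h5 (by have := hp.pos; positivity)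
      _ = _ := by ring
  exact_mod_cast h6.trans_le h4

end

end Cfsg.Agent.PF
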