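import Cfsg.Agent.PF.S06a

set_option autoImplicit false
set_option linter.unusedSectionVars false
set_option linter.unusedVariables false

namespace Cfsg.Agent.PF

open Subgroup Cfsg.Agent.GT Cfsg.Agent.BG Cfsg.Agent.Char

universe u v w

/-! Peterfalvi (6.7). -/

variable {G : Type u} [Group G] [Fintype G] {L K H P M Z W₁ W₂ A : Subgroup G}

open scoped Classical in
theorem sum_conj_eq_card_mul (x : G) (f : G → ℂ) :
    ∑ g : G, f (g * x * g⁻¹) = Nat.card C1[x] * ∑ u ∈ Finset.univ.filter (IsConj x ·), f u := by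
  rw [← Fintype.sum_equiv (Equiv.inv G) (fun g => f (g⁻¹ * x * g)) _ (fun g => by simp),
    ← Finset.sum_fiberwise_of_maps_to (s := Finset.univ) (t := Finset.univ.filter (IsConj x ·))
      (g := fun g => g⁻¹ * x * g) (fun g _ => Finset.mem_filter.2 ⟨Finset.mem_univ _,
        isConj_iff.2 ⟨g⁻¹, by simp⟩⟩), Finset.mul_sum]
  refine Finset.sum_congr rfl fun u hu => ?_
  rw [Finset.sum_congr rfl (g := fun _ => f u) (fun g hg => by rw [(Finset.mem_filter.1 hg).2]),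
    Finset.sum_const, nsmul_eq_mul, ← card_conj_eq_of_isConj (Finset.mem_filter.1 hu).2,
    ← Nat.card_eq_finsetCard]
  congr 2
  exact Nat.card_congr (Equiv.subtypeEquivRight (by simp))

/-- the multiples of `n` in the algebraic integers -/
def intMultiples (n : ℕ) : AddSubmonoid ℂ where
  carrier := {c | ∃ ω, IsIntegral ℤ ω ∧ c = n * ω}
  zero_mem' := ⟨0, isIntegral_zero, by simp⟩
  add_mem' := by
    rintro _ _ ⟨a, ha, rfl⟩ ⟨b, hb, rfl⟩; exact ⟨a + b, ha.add hb, by ring⟩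

theorem exists_int_of_const_sharp {ψ : G → ℂ} (hψ : IsGeneralizedCharacter G ψ)
    (hc : ∀ z ∈ Z, z ≠ 1 → ∀ z' ∈ Z, z' ≠ 1 → ψ z = ψ z') {z : G} (hz : z ∈ Z) (hz1 : z ≠ 1) :
    ∃ n : ℤ, ψ z = n := by
  classical
  obtain ⟨m, hm⟩ := (hψ.restrict Z).ci_int virt_one
  obtain ⟨d, hd⟩ := hψ.exists_int_one
  have h1 : 1 < Nat.card Z := ne_bot_iff_one_lt_card.1 (ne_bot_of_mem hz hz1)
  rw [ci_one_right, ← Finset.add_sum_erase _ _ (Finset.mem_univ (1 : Z)),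
    Finset.sum_congr rfl (g := fun _ => ψ z) (fun (y : Z) hy => hc y y.2
      (fun e => (Finset.mem_erase.1 hy).1 (Subtype.ext e)) z hz hz1), Finset.sum_const,
    Finset.card_erase_of_mem (Finset.mem_univ _), Finset.card_univ, ← Nat.card_eq_fintype_card,
    OneMemClass.coe_one, hd, nsmul_eq_mul, Nat.cast_pred (by omega)] at hm
  have h2 : (Nat.card Z : ℂ) - 1 ≠ 0 := by
    rw [sub_ne_zero]; exact_mod_cast h1.ne'
  have h3 := card_ne_zero_complex Z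
  refine exists_int_of_isIntegral_of_rat (hψ.isIntegral z)
    ⟨(Nat.card Z * m - d) / (Nat.card Z - 1), ?_⟩
  push_cast
  rw [← hm]; field_simp; ring

/-- (6.7), for a Hall subgroup instead of a Sylow subgroup -/
theorem constant_irr_mod_TI_Sylow {π : Set ℕ} (hP : IsPiHallOf π P L) (ho : Odd (Nat.card L))
    (hTI : NormedTI (sharp P) ⊤ L) (hZ : L ≤ N[Z]) (hZP : Z ≤ P ⊓ C[P]) {ψ : G → ℂ}
    (hψ : IsIrrCharacter G ψ) (hc : ∀ z ∈ Z, z ≠ 1 → ∀ z' ∈ Z, z' ≠ 1 → ψ z = ψ z') {z : G}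
    (hz : z ∈ Z) (hz1 : z ≠ 1) : ∃ n d : ℤ, ψ z = n ∧ ψ 1 = d ∧ (Nat.card P : ℤ) ∣ d - n := by
  classical
  have hN : L ≤ N[P] := (normedTI_sharp_iff.1 hTI).2.2.ge
  have hzi : z⁻¹ ≠ 1 := inv_ne_one.2 hz1
  have hzP : ∀ y ∈ P, y * z = z * y := fun y hy => (hZP hz).2 y hy
  have key : ∀ x ∈ Z, x ≠ 1 → ∃ a : ℕ, ∀ χ : G → ℂ, IsGeneralizedCharacter G χ →
      (∀ y ∈ Z, y ≠ 1 → χ y = χ z) → ∃ ω, IsIntegral ℤ ω ∧
      ∑ u ∈ Finset.univ.filter (IsConj x ·), χ (u * z) =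
        (if IsConj x z⁻¹ then χ 1 else 0) + a * χ z + Nat.card P * ω := by
    intro x hx hx1
    set U := Finset.univ.filter (IsConj x ·) with hU
    refine ⟨((U.filter fun u => ¬ u = z⁻¹).filter
      fun u => u * z ∈ classSupp (sharp Z) ⊤).card, fun χ hχ hχc => ?_⟩
    have hcl := hχ.isClassFunction
    have h2 := sum_mem_of_conj P.subtype (((U.filter fun u => ¬ u = z⁻¹)).filter
      fun u => ¬ u * z ∈ classSupp (sharp Z) ⊤) (fun a u hu => by
        simp only [hU, Finset.mem_filter, Finset.mem_univ, true_and, coe_subtype] at hu ⊢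
        have e : (a : G) * u * (a : G)⁻¹ * z = a * (u * z) * (a : G)⁻¹ := by
          rw [mul_assoc, hzP _ (inv_mem a.2)]; group
        refine ⟨⟨hu.1.1.trans (isConj_iff.2 ⟨a, rfl⟩), fun h => hu.1.2 ?_⟩, fun h => hu.2 ?_⟩
        · rw [← mul_eq_one_iff_eq_inv] at h ⊢
          simpa [e] using h
        · have := conj_mem_classSupp (mem_top (a : G)⁻¹) h
          rw [e] at this
          simpa [mul_assoc] using this)
      (fun u => χ (u * z)) (fun a u _ => by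
        rw [← hcl (u * z) a, coe_subtype, mul_assoc, hzP _ (inv_mem a.2)]; congr 1; group)
      (intMultiples (Nat.card P)) (fun u hu => by
        simp only [hU, Finset.mem_filter, Finset.mem_univ, true_and] at hu
        obtain ⟨⟨h1, h2⟩, h3⟩ := hu
        have : C1[u].comap P.subtype = ⊥ := by
          rw [eq_bot_iff]
          intro a ha
          rw [mem_comap, mem_cent1, coe_subtype] at ha
          by_contra ha1
          have ha1' : (a : G) ≠ 1 := fun e => ha1 (Subtype.ext e)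
          obtain ⟨g, rfl⟩ := isConj_iff.1 h1
          have h4 : g⁻¹ * a * g⁻¹⁻¹ ∈ L := hTI.cent1_le (a := x) ⟨(hZP hx).1, hx1⟩
            ⟨mem_top _, mem_cent1.2 (by
              calc g⁻¹ * a * g⁻¹⁻¹ * x = g⁻¹ * (a * (g * x * g⁻¹)) * g := by group
                _ = _ := by rw [ha]; group)⟩
          have h5 := hP.mem_of_normal hN h4 (by rw [orderOf_conj]; exact hP.isPi.orderOf a.2)
          have h6 : g⁻¹ ∈ L := hTI.mem_of_conj_mem (a := a) ⟨a.2, ha1'⟩ (mem_top _)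
            ⟨h5, fun e => ha1' (conj_eq_one_iff.1 e)⟩
          exact h3 (subset_classSupp _ _ ⟨mul_mem (conj_mem_of_le_norm hZ (inv_mem_iff.1 h6) hx) hz,
            fun e => h2 (mul_eq_one_iff_eq_inv.1 e)⟩)
        exact ⟨_, hχ.isIntegral _, by rw [this, index_bot, nsmul_eq_mul]⟩)
    obtain ⟨ω, hω, e⟩ := h2
    refine ⟨ω, hω, ?_⟩
    rw [← Finset.sum_filter_add_sum_filter_not U (fun u => u = z⁻¹),
      ← Finset.sum_filter_add_sum_filter_not (U.filter fun u => ¬ u = z⁻¹)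
        (fun u => u * z ∈ classSupp (sharp Z) ⊤), e, add_assoc]
    congr 2
    · rw [Finset.sum_filter, Finset.sum_ite_eq']
      simp only [hU, Finset.mem_filter, Finset.mem_univ, true_and, inv_mul_cancel]
    · rw [Finset.sum_congr rfl (g := fun _ => χ z) (fun u hu => by
        obtain ⟨y, hy, g, -, e⟩ := (Finset.mem_filter.1 hu).2
        rw [e, hcl, hχc y hy.1 hy.2]), Finset.sum_const, nsmul_eq_mul]
  have key2 : ∀ χ : G → ℂ, IsIrrCharacter G χ → χ z⁻¹ = χ z →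
      ∑ u ∈ Finset.univ.filter (IsConj z ·), χ (u * z) =
      ∑ u ∈ Finset.univ.filter (IsConj z⁻¹ ·), χ (u * z) := by
    intro χ hχ e
    have h1 := hχ.sum_conj_mul z z
    have h2 := hχ.sum_conj_mul z⁻¹ z
    rw [sum_conj_eq_card_mul z fun u => χ (u * z)] at h1
    rw [sum_conj_eq_card_mul z⁻¹ fun u => χ (u * z), e, ← h1, ← cent_zpowers, zpowers_inv,
      cent_zpowers] at h2
    exact (mul_left_cancel₀ (card_ne_zero_complex _) (mul_left_cancel₀ hχ.apply_one_ne_zero h2)).symm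
  have hnc : ¬ IsConj z z⁻¹ := by
    intro h
    obtain ⟨g, hg⟩ := isConj_iff.1 h
    have hgL : g ∈ L := hTI.mem_of_conj_mem (a := z) ⟨(hZP hz).1, hz1⟩ (mem_top _)
      (hg ▸ ⟨inv_mem (hZP hz).1, hzi⟩)
    exact hz1 (congrArg Subtype.val (eq_one_of_isConj_inv_of_odd ho (g := ⟨z, hP.le (hZP hz).1⟩)
      (isConj_iff.2 ⟨⟨g, hgL⟩, Subtype.ext hg⟩ : IsConj _ _).symm))
  obtain ⟨a₁, h₁⟩ := key z hz hz1
  obtain ⟨a₂, h₂⟩ := key z⁻¹ (inv_mem hz) hzi
  obtain ⟨ω₁, i₁, e₁⟩ := h₁ ψ hψ.virt fun y hy hy1 => hc y hy hy1 z hz hz1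
  obtain ⟨ω₂, i₂, e₂⟩ := h₂ ψ hψ.virt fun y hy hy1 => hc y hy hy1 z hz hz1
  obtain ⟨ω₃, i₃, e₃⟩ := h₁ _ virt_one fun _ _ _ => rfl
  obtain ⟨ω₄, i₄, e₄⟩ := h₂ _ virt_one fun _ _ _ => rfl
  rw [key2 ψ hψ (hc _ (inv_mem hz) hzi z hz hz1), e₂, if_neg hnc, if_pos (IsConj.refl _)] at e₁
  rw [key2 _ isIrrCharacter_one rfl, e₄, if_neg hnc, if_pos (IsConj.refl _)] at e₃
  obtain ⟨n, hn⟩ := exists_int_of_const_sharp hψ.virt hc hz hz1
  obtain ⟨d, hd⟩ := hψ.virt.exists_int_one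
  refine ⟨n, d, hn, hd, int_dvd_of_isIntegral (ω := (ω₄ - ω₃) * n + (ω₁ - ω₂))
    (((i₄.sub i₃).mul (Char.isIntegral_intCast n)).add (i₁.sub i₂)) (by
      exact_mod_cast (card_pos' P).ne') ?_⟩
  rw [hn, hd] at e₁
  push_cast
  linear_combination e₁ - n * e₃

/-- (6.7) for signed irreducible characters -/
theorem constant_sirr_mod_TI_Sylow {π : Set ℕ} (hP : IsPiHallOf π P L) (ho : Odd (Nat.card L))
    (hTI : NormedTI (sharp P) ⊤ L) (hZ : L ≤ N[Z]) (hZP : Z ≤ P ⊓ C[P]) {ψ : G → ℂ}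
    (hψ : IsSIrr G ψ) (hc : ∀ z ∈ Z, z ≠ 1 → ∀ z' ∈ Z, z' ≠ 1 → ψ z = ψ z') {z : G}
    (hz : z ∈ Z) (hz1 : z ≠ 1) : ∃ n : ℤ, ψ 1 - ψ z = Nat.card P * n := by
  obtain ⟨ε, χ, hε, hχ, rfl⟩ := hψ.exists_sign
  have hε0 : (ε : ℂ) ≠ 0 := by rcases hε with rfl | rfl <;> simp
  obtain ⟨n, d, h1, h2, k, hk⟩ := constant_irr_mod_TI_Sylow hP ho hTI hZ hZP hχ
    (fun y hy hy1 y' hy' hy1' => mul_left_cancel₀ hε0 (hc y hy hy1 y' hy' hy1')) hz hz1
  refine ⟨ε * k, ?_⟩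
  have : (d : ℂ) - n = Nat.card P * k := by exact_mod_cast hk
  simp only [Pi.smul_apply, smul_eq_mul, h1, h2]
  push_cast
  linear_combination ε * this

end Cfsg.Agent.PF
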