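import Cfsg.Agent.PF.S06b

set_option autoImplicit false
set_option linter.unusedSectionVars false
set_option linter.unusedVariables false

namespace Cfsg.Agent.PF

open Subgroup Cfsg.Agent.GT Cfsg.Agent.BG Cfsg.Agent.Char

universe u v w

/-! Peterfalvi (6.8). -/

variable {G : Type u} [Group G] [Fintype G] {L K H P M Z W₁ W₂ : Subgroup G}

theorem bessel_two {X : Type v} [Group X] [Fintype X] {φ ψ : X → ℂ} (hφ : ⟪φ, φ⟫ = 1)
    (hψ : ⟪ψ, ψ⟫ = 1) (h : ⟪φ, ψ⟫ = 0) (α : X → ℂ) :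
    ‖⟪α, φ⟫‖ ^ 2 + ‖⟪α, ψ⟫‖ ^ 2 ≤ nsq α := by
  have h1 := norm_ci_sq_le (α - ⟪α, φ⟫ • φ) ψ
  rw [nsq_sub_ci_smul hφ, nsq_eq_of_ci (φ := ψ) (r := 1) (by simpa using hψ), ci_sub_left, ci_smul_left, h,
    mul_zero, sub_zero] at h1
  linarith

section
variable {X : Type v} [Group X] [Fintype X] {τ ν : (L → ℂ) →ₗ[ℂ] (X → ℂ)}
  {Q : (L → ℂ) → Finset (X → ℂ)} {S T U : Set (L → ℂ)} {η χ : L → ℂ}

/-- the common step of (6.8.1) and (6.8.2.2) -/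
theorem exists_cohWith_pivot_eq (h : IsCoherenceSystem S τ Q) (hT : ConjSub T S)
    (hi : ∀ φ ∈ T, IsIrrCharacter L φ) (hd : ∀ φ ∈ T, φ 1 = η 1) (hν : CohWith T τ ν)
    (hη : η ∈ T) {A : Set (L → ℂ)} {a : ℕ} (ha : 0 < a) {k : ℤ}
    (hA : ∀ α ∈ A, α ∈ zspanOn S {1}ᶜ ∧ ⟪α, η⟫ = -a ∧ (∀ η' ∈ T, η' ≠ η → ⟪α, η'⟫ = 0) ∧
      nsq α < 2 * a ^ 2 ∧ ⟪τ α, ν η⟫ = a * k) :
    ∃ ν', CohWith T τ ν' ∧ ∀ α ∈ A, ⟪τ α, ν' η⟫ = -a := by
  by_cases hk : k = -1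
  · exact ⟨ν, hν, fun α hα => by rw [(hA α hα).2.2.2.2, hk]; simp⟩
  rcases A.eq_empty_or_nonempty with rfl | ⟨α₀, h₀⟩
  · exact ⟨ν, hν, by simp⟩
  have h1 : ∀ α ∈ A, ∀ η' ∈ T, η' ≠ η → ⟪τ α, ν η'⟫ = (a * (k + 1) : ℤ) := by
    intro α hα η' h' hne
    obtain ⟨h1, h2, h3, -, h5⟩ := hA α hα
    have hm := sub_mem_zspanOn_one (mem_zspan_of_mem h') (mem_zspan_of_mem hη) (hd η' h')
    have := h.isometry.ci_eq h1 (zspanOn_mono hT.1 _ hm)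
    rw [← hν.2 _ hm, map_sub, ci_sub_right, ci_sub_right, h2, h3 η' h' hne, h5] at this
    push_cast
    linear_combination this
  have hb : ∀ φ ∈ T, ∀ ψ ∈ T, φ ≠ ψ →
      ‖⟪τ α₀, ν φ⟫‖ ^ 2 + ‖⟪τ α₀, ν ψ⟫‖ ^ 2 < 2 * a ^ 2 := fun φ hφ ψ hψ hne =>
    (bessel_two (by rw [hν.ci_mem hφ hφ, (hi φ hφ).ci_self]) (by
      rw [hν.ci_mem hψ hψ, (hi ψ hψ).ci_self]) (by
      rw [hν.ci_mem hφ hψ, (hi φ hφ).ci_of_ne (hi ψ hψ) hne]) _).trans_lt (by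
      rw [h.isometry.nsq_eq (hA α₀ h₀).1]; exact (hA α₀ h₀).2.2.2.1)
  have hc := hT.2 η hη
  have hne := h.conj_ne η (hT.1 hη)
  have ha' : (0 : ℝ) < a ^ 2 := by positivity
  have hk0 : k = 0 := by
    have h2 := hb η hη _ hc hne.symm
    rw [norm_sq_of_eq_int (h1 α₀ h₀ _ hc hne),
      norm_sq_of_eq_int (n := a * k) (by rw [(hA α₀ h₀).2.2.2.2]; simp)] at h2
    push_cast at h2
    have h3 : (k : ℝ) ^ 2 + (k + 1) ^ 2 < 2 := by nlinarith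
    have h4 : k ^ 2 + (k + 1) ^ 2 < 2 := by exact_mod_cast h3
    by_contra h0
    rcases lt_or_gt_of_ne h0 with h5 | h5
    · have : k ≤ -2 := by omega
      nlinarith
    · nlinarith
  subst hk0
  have hT' : T = {η, conjFun η} := by
    refine Set.Subset.antisymm (fun φ hφ => ?_) (Set.insert_subset hη (by simpa using hc))
    by_contra hn
    simp only [Set.mem_insert_iff, Set.mem_singleton_iff, not_or] at hn
    have h2 := hb φ hφ _ hc hn.2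
    rw [norm_sq_of_eq_int (h1 α₀ h₀ _ hc hne), norm_sq_of_eq_int (h1 α₀ h₀ _ hφ hn.1)] at h2
    push_cast at h2
    nlinarith
  subst hT'
  obtain ⟨ν', h2, h3, -⟩ := dual_coherence h (hT.1 hη) hν
  exact ⟨ν', h2, fun α hα => by rw [h3, ci_neg_right, h1 α hα _ hc hne]; simp⟩

theorem coh_union_of_pivot (h : IsCoherenceSystem S τ Q) (hT : T ⊆ S) (hU : U ⊆ S)
    (hd : ∀ φ ∈ T, φ 1 = η 1) (hν : CohWith T τ ν) (hη : η ∈ T) (hi : IsIrrCharacter L η)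
    (hη' : η ∉ U) (hb : ∀ χ ∈ U, ∃ a : ℤ, χ 1 = a * η 1 ∧ ⟪τ (χ - (a : ℂ) • η), ν η⟫ = -a) :
    Coh (U ∪ T) τ := by
  obtain ⟨ν', h', -⟩ := exists_cohWith_pivot (S := U ∪ T) τ
    (h.isometry.mono (zspanOn_mono (Set.union_subset hU hT) _)) (Or.inr hη)
    hi.apply_one_ne_zero (hν.virt_mem hη) (hν.ci_mem hη hη) (by
      rintro φ (hφ | hφ)
      · obtain ⟨a, h1, h2⟩ := hb φ hφ
        refine ⟨a, h1, ?_⟩
        rw [h2, ci_sub_left, ci_smul_left, hi.ci_self,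
          h.orthogonal φ (hU hφ) η (hT hη) fun e => hη' (e ▸ hφ)]
        simp
      · refine ⟨1, by simp [hd φ hφ], ?_⟩
        have hm := sub_mem_zspanOn_one (mem_zspan_of_mem hφ) (mem_zspan_of_mem hη) (hd φ hφ)
        rw [Int.cast_one, one_smul, ← hν.2 _ hm, hν.ci_eq hm.1 (mem_zspan_of_mem hη)])
  exact ⟨ν', h'⟩

/-- a consequence of (5.4) -/
theorem pivot_ci_bound (h : IsCoherenceSystem S τ Q) (hT : ConjSub T S) (hν : CohWith T τ ν)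
    (hη : η ∈ T) (hi : IsIrrCharacter L η) (hχ : χ ∈ S) (hχ' : χ ∉ T) {a : ℕ}
    (ha : χ 1 = a * η 1) : ∃ b : ℤ, ⟪τ (χ - (a : ℂ) • η), ν η⟫ = b ∧ -(a : ℤ) ≤ b := by
  have hηS := hT.1 hη
  have hm : χ - (a : ℂ) • η ∈ zspanOn S {1}ᶜ :=
    sub_mem_zspanOn_one (mem_zspan_of_mem hχ) (natCast_smul_mem_zspan _ (mem_zspan_of_mem hηS)) ha
  have hv := h.isometry.virt hm
  obtain ⟨b, hb⟩ := hv.ci_int (hν.virt_mem hη)
  refine ⟨b, hb, ?_⟩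
  have h0 : ⟪χ, η⟫ = 0 := h.orthogonal χ hχ η hηS fun e => hχ' (e ▸ hη)
  have h0' : ⟪η, conjFun χ⟫ = 0 := h.orthogonal η hηS _ (h.conj_mem χ hχ) fun e =>
    hχ' (by rw [← conjFun_conjFun χ, ← e]; exact hT.2 η hη)
  have h1 := h.nsq_le_sum hχ hv (by
    rw [h.isometry.ci_eq hm (h.sub_conj_mem hχ), ci_sub_left, ci_sub_right, ci_smul_left,
      ci_sub_right, h.ci_conj hχ, h0', ci_eq_zero_symm h0]; simp)
  obtain ⟨Xc, Y, hX, -, -, -, e, h2, h3, -⟩ := h.exists_proj hχ hv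
  rw [h.isometry.nsq_eq hm, nsq_sub_of_orth (by rw [ci_smul_right, h0, mul_zero]), nsq_smul,
    hi.nsq, Complex.norm_natCast] at h3
  have h4 := norm_ci_sq_le Y (ν η)
  rw [e, ci_add_left, ci_eq_zero_of_mem_zspan (fun α hα => ci_eq_zero_symm
    (hν.orth_R h hT.1 hT.2 hχ hχ' (mem_zspan_of_mem hη) hα)) hX, zero_add] at hb
  rw [norm_sq_of_eq_int hb, hν.nsq_eq (mem_zspan_of_mem hη), hi.nsq] at h4
  have h5 : (b : ℝ) ^ 2 ≤ (a : ℝ) ^ 2 := by linarith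
  have h6 : b ^ 2 ≤ (a : ℤ) ^ 2 := by exact_mod_cast h5
  nlinarith [abs_le_of_sq_le_sq' h6 (by positivity)]

end

theorem sub_apply_eq_of_ci {f : L → ℂ} (hf : IsClassFunction L f) {s : ℂ}
    (h : ∀ χ, IsIrrCharacter L χ → ¬ InKer Z χ → ⟪f, χ⟫ = s * χ 1) {z : L} (hz : (z : G) ∈ Z)
    (hz1 : z ≠ 1) : f 1 - f z = s * Nat.card L := by
  classical
  have h1 := sum_irr_degree_mul (1 : L)
  have h2 := sum_irr_degree_mul z
  rw [if_pos rfl] at h1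
  rw [if_neg hz1] at h2
  rw [hf.apply_eq_sum_irr 1, hf.apply_eq_sum_irr z, ← h1, ← sub_zero (∑ χ ∈ Irr L, χ 1 * χ 1), ← h2,
    ← Finset.sum_sub_distrib, ← Finset.sum_sub_distrib, Finset.mul_sum]
  refine Finset.sum_congr rfl fun χ hχ => ?_
  by_cases hk : InKer Z χ
  · rw [hk z hz]; simp
  · rw [h χ (mem_Irr.1 hχ) hk]; ring

theorem dade_of_normedTI (hTI : NormedTI (sharp H) ⊤ L) :
    DadeHypothesis (sharp H) L fun _ => ⊥ :=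
  dadeHypothesis_of_TI (fun h => h.2 rfl)
    (fun x hx => (normedTI_sharp_iff.1 hTI).2.2 ▸ le_normalizer hx.1)
    (fun x hx a ha => hTI.conj_mem ha hx) fun a ha g hg => hTI.mem_of_conj_mem ha (mem_top g) hg

/-- regular action on a quotient -/
theorem regular_quo_of_cent (h : Sdprod H W₁ L) (hc : (Nat.card H).Coprime (Nat.card W₁))
    (hM : L ≤ N[M]) (hcent : ∀ x ∈ W₁, x ≠ 1 → H ⊓ C1[x] ≤ M) :
    ∀ x ∈ W₁, x ≠ 1 → ∀ y ∈ H, x * y * x⁻¹ * y⁻¹ ∈ M → y ∈ M := by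
  intro x hx hx1 y hy hm
  have hxM := hM (h.right_le hx)
  have hyM := hM (h.left_le hy)
  have key := im_inf_cent1_of_coprime (f := coset M) (h.left_le.trans hM) hxM (h.right_norm hx)
    ((hc.coprime_dvd_left (card_dvd_of_le inf_le_left)).coprime_dvd_right
      (orderOf_dvd_card_of_mem hx))
  have h1 : coset M ⟨y, hyM⟩ ∈ im (coset M) (H ⊓ C1[x]) := by
    rw [key]
    refine ⟨mem_im_of_mem hyM hy, mem_cent1.2 ?_⟩
    rw [← kr_coset M, mem_kr' (mul_mem (mul_mem (mul_mem hxM hyM) (inv_mem hxM)) (inv_mem hyM))]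
      at hm
    have e : (⟨x * y * x⁻¹ * y⁻¹, mul_mem (mul_mem (mul_mem hxM hyM) (inv_mem hxM))
      (inv_mem hyM)⟩ : N[M]) = ⟨x, hxM⟩ * ⟨y, hyM⟩ * (⟨x, hxM⟩ : N[M])⁻¹ * (⟨y, hyM⟩ : N[M])⁻¹ := rfl
    rw [e, map_mul, map_mul, map_mul, map_inv, map_inv, mul_inv_eq_one, mul_inv_eq_iff_eq_mul] at hm
    exact hm.symm
  have h2 := im_mono (f := coset M) (hcent x hx hx1) h1
  rwa [mem_im_iff_of_le hyM le_normalizer (kr_coset M).le] at h2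

/-- the form of the regularity condition used in (6.5) -/
theorem regMod_of_regular (h : Sdprod H W₁ L) (hM : ⁅H, H⁆ ≤ M)
    (hreg : ∀ x ∈ W₁, x ≠ 1 → ∀ y ∈ H, x * y * x⁻¹ * y⁻¹ ∈ M → y ∈ M) :
    ∀ k ∈ H, k ∉ M → ∀ x ∈ L, x * k * x⁻¹ * k⁻¹ ∈ M → x ∈ H := by
  intro k hk hkM x hx hm
  obtain ⟨a, ha, w, hw, rfl⟩ := h.exists_mul hx
  by_cases hw1 : w = 1
  · rw [hw1, mul_one]; exact ha
  refine absurd (hreg w hw hw1 k hk ?_) hkM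
  have h1 := hM (commutator_mem_commutator ha (conj_mem_of_le_norm h.right_norm hw hk))
  rw [commutatorElement_def] at h1
  have e : a * w * k * (a * w)⁻¹ * k⁻¹ =
      a * (w * k * w⁻¹) * a⁻¹ * (w * k * w⁻¹)⁻¹ * (w * k * w⁻¹ * k⁻¹) := by group
  rwa [e, mul_mem_cancel_left h1] at hm

theorem card_dvd_pred_of_regular (hW : W₁ ≤ N[M]) (hW' : W₁ ≤ N[K]) (hK : K ≤ N[M])
    (hreg : ∀ x ∈ W₁, x ≠ 1 → ∀ y ∈ K, x * y * x⁻¹ * y⁻¹ ∈ M → y ∈ M) :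
    Nat.card W₁ ∣ M.relIndex K - 1 := by
  rw [← relIndex_bot_left]
  exact relIndex_dvd_pred hW hW' hK fun k hk hkM x hx hm => by
    by_contra h1; exact hkM (hreg x hx h1 k hk hm)

section
variable {Q : (L → ℂ) → Finset (G → ℂ)} {ν : (L → ℂ) →ₗ[ℂ] (G → ℂ)} {η : L → ℂ}

theorem ci_dade_TI (hTI : NormedTI (sharp H) ⊤ L) (hHL : H ≤ L) {α : L → ℂ}
    (hα : α ∈ zspanOn (seqIndD H L H ⊥) {1}ᶜ) {ψ : G → ℂ} (hψ : IsClassFunction G ψ) :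
    ⟪dadeL (sharp H) L (fun _ => ⊥) α, ψ⟫ = ⟪α, fun x : L => ψ x⟫ :=
  have h := zspan_seqIndT_on hHL (normedTI_sharp_iff.1 hTI).2.2.ge seqIndD_subset_T hα
  dadeL_ci_res (dade_of_normedTI hTI) h.1 h.2 hψ fun a _ u hu => by rw [mem_bot.1 hu, mul_one]

/-- (6.8.1) -/
theorem sibley_caseA (ho : Odd (Nat.card L)) (hTI : NormedTI (sharp H) ⊤ L) (hHL : H ≤ L)
    {p : ℕ} (hp : p.Prime) (hH : IsPGroup p H) (he : p.Coprime (H.relIndex L))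
    (hS : IsCoherenceSystem (seqIndD H L H ⊥) (dadeL (sharp H) L fun _ => ⊥) Q)
    (hY : ∀ φ ∈ seqIndD H L H ⁅H, H⁆, IsIrrCharacter L φ) (hη : η ∈ seqIndD H L H ⁅H, H⁆)
    (hZ : L ≤ N[Z]) (hZH : Z ≤ H ⊓ C[H]) (hZ' : Z ≤ ⁅H, H⁆) (hZ1 : Z ≠ ⊥)
    (hX : ∀ φ ∈ seqIndD H L Z ⊥, IsIrrCharacter L φ) :
    Coh (seqIndD H L Z ⊥ ∪ seqIndD H L H ⁅H, H⁆) (dadeL (sharp H) L fun _ => ⊥) := by
  haveI := Fact.mk hp
  have hn : L ≤ N[H] := (normedTI_sharp_iff.1 hTI).2.2.ge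
  have hZH' : Z ≤ H := hZH.trans inf_le_left
  have hHne : H ≠ ⊥ := ne_bot_of_le hZ1 hZH'
  have hp2 : p ≠ 2 := PG.ne_two_of_odd_of_dvd ho
    ((PG.dvd_card_of_ne_bot hH hHne).trans (card_dvd_of_le hHL))
  have hYd : ∀ φ ∈ seqIndD H L H ⁅H, H⁆, φ 1 = H.relIndex L := by
    rintro _ ⟨θ, ⟨hθ, -, hk⟩, rfl⟩
    rw [cInd_one hHL, irr_one_of_inKer_der hθ hk, mul_one]
  have hYs : ConjSub (seqIndD H L H ⁅H, H⁆) (seqIndD H L H ⊥) := conjSub_seqIndD le_rfl bot_le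
  have hXs : ConjSub (seqIndD H L Z ⊥) (seqIndD H L H ⊥) := conjSub_seqIndD hZH' le_rfl
  have hdis : Disjoint (seqIndD H L Z ⊥) (seqIndD H L H ⁅H, H⁆) := by
    rw [Set.disjoint_left]
    intro φ h1 h2
    exact ((mem_seqIndD_iff hHL hn hZH' hZ bot_le le_norm_of_normal).1 h1).2.1
      (((mem_seqIndD_iff hHL hn le_rfl hn (commutator_le_of_le_norm_left le_normalizer)
        (le_norm_commutator hn hn)).1 h2).2.2.mono hZ')
  obtain ⟨ν₁, h₁⟩ := hS.cohProp.coh_der hHL le_rfl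
  obtain ⟨ν₂, h₂⟩ := hS.cohProp.coh_central hHL hn hp hp2 hH he hZ hZH hX
  have hXe := seqIndD_eq_irr hHL hn hZ hZH' hX
  have hdeg : ∀ χ ∈ seqIndD H L Z ⊥, ∃ a : ℕ, 0 < a ∧ χ 1 = (H.relIndex L * p ^ a : ℕ) := by
    rintro _ ⟨θ, ⟨hθ, hk, -⟩, rfl⟩
    obtain ⟨a, ha⟩ := irr_degree_pow hp hH hθ
    refine ⟨a, Nat.pos_of_ne_zero ?_, by rw [cInd_one hHL, ha, Nat.cast_mul]⟩
    rintro rfl
    exact hk ((inKer_der_of_one hθ.isCharacter (by simpa using ha)).mono hZ')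
  choose! a ha0 ha using hdeg
  obtain ⟨χ₁, hχ₁, hmin⟩ := Set.exists_min_image _ a (seqIndD_finite H L Z ⊥)
    (seqIndD_nonempty hZH' (hHL.trans hZ) le_norm_of_normal (bot_lt_iff_ne_bot.2 hZ1))
  have hd : ∀ χ ∈ seqIndD H L Z ⊥, χ 1 = (p ^ (a χ - a χ₁) : ℕ) * χ₁ 1 := fun χ hχ => by
    rw [ha χ hχ, ha χ₁ hχ₁]; push_cast
    rw [mul_left_comm, ← pow_add, Nat.sub_add_cancel (hmin χ hχ)]
  have hm : ∀ χ ∈ seqIndD H L Z ⊥, χ - ((p ^ (a χ - a χ₁) : ℕ) : ℂ) • χ₁ ∈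
      zspanOn (seqIndD H L Z ⊥) {1}ᶜ := fun χ hχ => sub_mem_zspanOn_one (mem_zspan_of_mem hχ)
    (natCast_smul_mem_zspan _ (mem_zspan_of_mem hχ₁)) (hd χ hχ)
  have horth : ∀ ν, CohWith (seqIndD H L H ⁅H, H⁆) (dadeL (sharp H) L fun _ => ⊥) ν →
      ∀ α ∈ zspanOn (seqIndD H L Z ⊥) {1}ᶜ, ⟪dadeL (sharp H) L (fun _ => ⊥) α, ν η⟫ = 0 :=
    fun ν hν α hα => by
      rw [← h₂.2 α hα]
      exact h₂.orth hν hS hXs.1 hXs.2 hYs.1 hYs.2 hdis hα.1 (mem_zspan_of_mem hη)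
  have hψ := h₁.isSIrr hη (hY η hη)
  have hψL := hψ.virt.restrict L
  obtain ⟨c, hc⟩ := (hX χ₁ hχ₁).virt.ci_int hψL
  obtain ⟨m, hm'⟩ := (hY η hη).virt.ci_int hψL
  have he0 : (H.relIndex L : ℂ) ≠ 0 := Nat.cast_ne_zero.2 (relIndex_pos _ _).ne'
  have hp0 : (p : ℂ) ≠ 0 := Nat.cast_ne_zero.2 hp.ne_zero
  have key : ∀ z ∈ Z, z ≠ 1 → ν₁ η 1 - ν₁ η z = c / χ₁ 1 * Nat.card L := fun z hz hz1 =>
    sub_apply_eq_of_ci (Z := Z) (z := ⟨z, hHL (hZH' hz)⟩) hψL.isClassFunction (fun χ hχ hk => by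
      have h1 : χ ∈ seqIndD H L Z ⊥ := hXe ▸ ⟨hχ, hk⟩
      have h2 := horth ν₁ h₁ _ (hm χ h1)
      rw [ci_dade_TI hTI hHL (zspanOn_mono hXs.1 _ (hm χ h1)) hψ.isClassFunction, ci_sub_left,
        ci_smul_left, hc, sub_eq_zero] at h2
      rw [hψL.ci_comm hχ.virt, h2, hd χ h1]
      have := (hX χ₁ hχ₁).apply_one_ne_zero
      field_simp) hz fun e => hz1 (congrArg Subtype.val e)
  obtain ⟨z, hz, hz1⟩ := exists_ne_one_of_ne_bot hZ1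
  obtain ⟨n, hn'⟩ := constant_sirr_mod_TI_Sylow (syl_mk hp hHL hH (hp.coprime_iff_not_dvd.1 he))
    ho hTI hZ hZH hψ (fun y hy hy1 y' hy' hy1' => by
      linear_combination key y' hy' hy1' - key y hy hy1) hz hz1
  have hcn : (c : ℂ) = p ^ a χ₁ * n := by
    have := card_ne_zero_complex H
    rw [key z hz hz1, ← card_mul_relIndex hHL, ha χ₁ hχ₁] at hn'
    push_cast at hn'
    field_simp at hn'
    rw [hn']
  have hχη : χ₁ 1 = (p ^ a χ₁ : ℕ) * η 1 := by rw [ha χ₁ hχ₁, hYd η hη]; push_cast; ring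
  have hα : χ₁ - ((p ^ a χ₁ : ℕ) : ℂ) • η ∈ zspanOn (seqIndD H L H ⊥) {1}ᶜ :=
    sub_mem_zspanOn_one (mem_zspan_of_mem (hXs.1 hχ₁))
      (natCast_smul_mem_zspan _ (mem_zspan_of_mem (hYs.1 hη))) hχη
  have ho' : ∀ φ ∈ seqIndD H L H ⁅H, H⁆, ⟪χ₁, φ⟫ = 0 := fun φ hφ =>
    hS.orthogonal _ (hXs.1 hχ₁) _ (hYs.1 hφ) fun e => Set.disjoint_left.1 hdis hχ₁ (e ▸ hφ)
  obtain ⟨ν', h', hb⟩ := exists_cohWith_pivot_eq hS hYs hY
    (fun φ hφ => (hYd φ hφ).trans (hYd η hη).symm) h₁ hη (A := {χ₁ - ((p ^ a χ₁ : ℕ) : ℂ) • η})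
    (a := p ^ a χ₁) (Nat.pow_pos hp.pos) (k := n - m) (by
      rintro _ rfl
      refine ⟨hα, ?_, fun φ hφ hne => ?_, ?_, ?_⟩
      · rw [ci_sub_left, ci_smul_left, ho' η hη, (hY η hη).ci_self]; simp
      · rw [ci_sub_left, ci_smul_left, ho' φ hφ, (hY η hη).ci_of_ne (hY φ hφ) hne.symm]; simp
      · rw [nsq_sub_of_orth (by rw [ci_smul_right, ho' η hη, mul_zero]), nsq_smul, (hY η hη).nsq,
          (hX χ₁ hχ₁).nsq, Complex.norm_natCast]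
        have : (1 : ℝ) < (p ^ a χ₁ : ℕ) := by
          exact_mod_cast Nat.one_lt_pow (ha0 χ₁ hχ₁).ne' hp.one_lt
        nlinarith
      · rw [ci_dade_TI hTI hHL hα hψ.isClassFunction, ci_sub_left, ci_smul_left, hc, hm', hcn]
        push_cast; ring)
  refine coh_union_of_pivot hS hYs.1 hXs.1 (fun φ hφ => (hYd φ hφ).trans (hYd η hη).symm) h' hη
    (hY η hη) (fun h => Set.disjoint_left.1 hdis h hη) fun χ hχ =>
    ⟨p ^ (a χ - a χ₁) * p ^ a χ₁, by rw [hd χ hχ, hχη]; push_cast; ring, ?_⟩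
  have e : χ - ((p ^ (a χ - a χ₁) * p ^ a χ₁ : ℤ) : ℂ) • η = (χ - ((p ^ (a χ - a χ₁) : ℕ) : ℂ) • χ₁) +
      ((p ^ (a χ - a χ₁) : ℕ) : ℂ) • (χ₁ - ((p ^ a χ₁ : ℕ) : ℂ) • η) := by
    rw [smul_sub, smul_smul]; push_cast; abel
  rw [e, map_add, map_smul, ci_add_left, ci_smul_left, horth ν' h' _ (hm χ hχ), hb _ rfl]
  push_cast; ring

/-- (6.8.2) -/
theorem sibley_caseB (ho : Odd (Nat.card L)) (hTI : NormedTI (sharp H) ⊤ L) {π : Set ℕ}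
    (hH : IsPiHallOf π H L)
    (hS : IsCoherenceSystem (seqIndD H L H ⊥) (dadeL (sharp H) L fun _ => ⊥) Q)
    (hY : ∀ φ ∈ seqIndD H L H ⁅H, H⁆, IsIrrCharacter L φ) (hη : η ∈ seqIndD H L H ⁅H, H⁆)
    (hZL : L ≤ C[Z]) (hZ' : Z ≤ ⁅H, H⁆) (hZp : (Nat.card Z).Prime)
    (hlt : H.relIndex L < Z.relIndex H) :
    Coh (seqIndD H L Z ⊥ ∪ seqIndD H L H ⁅H, H⁆) (dadeL (sharp H) L fun _ => ⊥) := by
  classical
  have hHL := hH.le
  have hD := dade_of_normedTI hTI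
  have hn : L ≤ N[H] := (normedTI_sharp_iff.1 hTI).2.2.ge
  have hZ : L ≤ N[Z] := le_norm_of_cent hZL
  have hH' : ⁅H, H⁆ ≤ H := commutator_le_of_le_norm_left le_normalizer
  have hZH : Z ≤ H := hZ'.trans hH'
  have hYd : ∀ φ ∈ seqIndD H L H ⁅H, H⁆, φ 1 = H.relIndex L := by
    rintro _ ⟨θ, ⟨hθ, -, hk⟩, rfl⟩
    rw [cInd_one hHL, irr_one_of_inKer_der hθ hk, mul_one]
  have hYd' : ∀ φ ∈ seqIndD H L H ⁅H, H⁆, φ 1 = η 1 := fun φ hφ =>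
    (hYd φ hφ).trans (hYd η hη).symm
  have hYs : ConjSub (seqIndD H L H ⁅H, H⁆) (seqIndD H L H ⊥) := conjSub_seqIndD le_rfl bot_le
  have hXs : ConjSub (seqIndD H L Z ⊥) (seqIndD H L H ⊥) := conjSub_seqIndD hZH le_rfl
  have hYk : ∀ φ ∈ seqIndD H L H ⁅H, H⁆, InKer Z φ := fun φ hφ =>
    ((mem_seqIndD_iff hHL hn le_rfl hn hH' (le_norm_commutator hn hn)).1 hφ).2.2.mono hZ'
  have hdis : ∀ φ ∈ seqIndD H L Z ⊥, φ ∉ seqIndD H L H ⁅H, H⁆ := fun φ h1 h2 =>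
    ((mem_seqIndD_iff hHL hn hZH hZ bot_le le_norm_of_normal).1 h1).2.1 (hYk φ h2)
  obtain ⟨ν₁, h₁⟩ := hS.cohProp.coh_der hHL le_rfl
  have hψ := h₁.isSIrr hη (hY η hη)
  have hψL := hψ.virt.restrict L
  -- (6.8.2.1)
  have hconst : ∀ z ∈ Z, z ≠ 1 → ∀ z' ∈ Z, z' ≠ 1 → ν₁ η z = ν₁ η z' := by
    intro z hz hz1 z' hz' hz1'
    have hoz : orderOf z = Nat.card Z := by
      rw [← Nat.card_zpowers, ← eq_zpowers_of_card_prime hZp hz hz1]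
    obtain ⟨k, rfl⟩ := PG.exists_nat_pow_of_mem_zpowers
      (eq_zpowers_of_card_prime hZp hz hz1 ▸ hz' : z' ∈ zpowers z)
    obtain ⟨σ, hσ⟩ := exists_ringEquiv_pow (k := k) hZp.pos
      (((Nat.Prime.coprime_iff_not_dvd hZp).2 fun h =>
        hz1' (orderOf_dvd_iff_pow_eq_one.1 (hoz ▸ h))).symm)
    have h1 := cfAut_seqIndD hHL (σ : ℂ →+* ℂ) hη
    have h2 := cfAut_Dade_coherent hD h₁ (σ : ℂ →+* ℂ) ⟨η, hη, _, hYs.2 η hη, hY η hη,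
      (hY η hη).conjFun, (hS.conj_ne η (hYs.1 hη)).symm⟩ (fun φ hφ => cfAut_seqIndD hHL _ hφ)
      (hY η hη) hη
    have h3 := sub_mem_zspanOn_one (mem_zspan_of_mem h1) (mem_zspan_of_mem hη) (hYd' _ h1)
    have h4 := congrFun (h₁.2 _ h3) z
    have hzL : z ∈ L := hHL (hZH hz)
    rw [dadeL_self hD (a := ⟨z, hzL⟩) ((hY _ h1).isClassFunction.sub (hY _ hη).isClassFunction)
      ⟨hZH hz, hz1⟩, map_sub, ← h2, Pi.sub_apply, Pi.sub_apply, hYk _ h1 ⟨z, hzL⟩ hz,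
      hYk _ hη ⟨z, hzL⟩ hz, hYd' _ h1, sub_self, sub_eq_zero] at h4
    rw [← hψ.virt.ringHom_apply (σ : ℂ →+* ℂ) (by rw [hoz]; exact hσ)]
    exact h4.symm
  obtain ⟨z, hz, hz1⟩ := exists_ne_one_of_ne_bot (ne_bot_of_card_prime hZp)
  obtain ⟨n, hn'⟩ := constant_sirr_mod_TI_Sylow hH ho hTI hZ
    (le_inf hZH (le_cent_symm (hHL.trans hZL))) hψ hconst hz hz1
  obtain ⟨m, hm⟩ := (hY η hη).virt.ci_int hψL
  haveI : IsMulCommutative Z := isMulCommutative_of_isCyclic (isCyclic_of_card_prime hZp)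
  have hres : ∀ φ : Z → ℂ, IsIrrCharacter Z φ → φ ≠ (fun _ => 1) → ∀ f : L → ℂ, ∀ t : ℂ,
      (∀ y : L, (y : G) ∈ Z → y ≠ 1 → f 1 - f y = t) →
      IsClassFunction L f → ⟪f, cInd L φ⟫ = t / Nat.card Z := by
    intro φ hφ hφ1 f t hf hfc
    have h0 : ⟪(fun _ => 1 : Z → ℂ), φ⟫ = 0 := isIrrCharacter_one.ci_of_ne hφ hφ1.symm
    have e : cRes Z f = (f 1 - t) • (fun _ => 1 : Z → ℂ) + t • Pi.single 1 1 := by
      funext y
      rw [cRes_apply' _ y (hHL (hZH y.2))]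
      by_cases hy : y = 1
      · subst hy; simp; rfl
      · rw [← hf ⟨y, hHL (hZH y.2)⟩ y.2 fun e => hy (Subtype.ext (congrArg (fun x : L => (x : G)) e))]
        simp [hy]
    rw [ci_cInd_right (hZH.trans hHL) hfc, e, ci_add_left, ci_smul_left, ci_smul_left, h0, ci_def,
      Finset.sum_eq_single 1 (fun y _ hy => by simp [hy]) (by simp), hφ.degree_one_of_comm]
    simp [div_eq_mul_inv]
  have hdec : ∀ φ : Z → ℂ, IsIrrCharacter Z φ → φ ≠ (fun _ => 1) → ∃ c d : (H → ℂ) → ℕ,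
      (∀ θ ∈ Irr H, ⟪cInd H φ, θ⟫ = c θ ∧ θ 1 = d θ ∧
        (c θ ≠ 0 → cInd L θ ∈ seqIndD H L Z ⊥)) ∧
      ∑ θ ∈ Irr H, c θ * d θ = Z.relIndex H ∧
      cInd L φ - (Z.relIndex H : ℂ) • η =
        ∑ θ ∈ Irr H, (c θ : ℂ) • (cInd L θ - (d θ : ℂ) • η) := by
    intro φ hφ hφ1
    have h1 : ∀ θ ∈ Irr H, ∃ c : ℕ, ⟪cInd H φ, θ⟫ = c := fun θ hθ =>
      (hφ.isCharacter.cInd hZH).ci_irr_nat (mem_Irr.1 hθ)
    have h2 : ∀ θ ∈ Irr H, ∃ d : ℕ, θ 1 = d := fun θ hθ => (mem_Irr.1 hθ).isCharacter.exists_degree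
    choose! c hc using h1
    choose! d hd using h2
    have h3 : cInd H φ = ∑ θ ∈ Irr H, (c θ : ℂ) • θ := by
      rw [(isClassFunction_cInd φ).eq_sum_irr]
      exact Finset.sum_congr rfl fun θ hθ => by rw [hc θ hθ]
    have h4 : ∑ θ ∈ Irr H, (c θ : ℂ) * d θ = Z.relIndex H := by
      have := congrFun h3 1
      rw [cInd_one hZH, hφ.degree_one_of_comm, mul_one, Finset.sum_apply] at this
      rw [this]
      exact Finset.sum_congr rfl fun θ hθ => by rw [← hd θ hθ]; rfl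
    refine ⟨c, d, fun θ hθ => ⟨hc θ hθ, hd θ hθ, fun h0 => ⟨θ, ⟨mem_Irr.1 hθ, fun hk => hφ1 ?_,
      inKer_bot _⟩, rfl⟩⟩, by exact_mod_cast h4, ?_⟩
    · refine (inKer_self_iff hφ).1 (InKer.of_ci_ne_zero ((mem_Irr.1 hθ).isCharacter.cRes hZH) hφ
        (fun h => h0 ?_) (hk.cRes hZH))
      rw [← ci_cInd_right hZH (mem_Irr.1 hθ).isClassFunction, ci_eq_zero_comm, hc θ hθ] at h
      exact_mod_cast h
    · rw [← cInd_cInd hZH hHL, h3, cInd_sum, ← h4, Finset.sum_smul, ← Finset.sum_sub_distrib]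
      exact Finset.sum_congr rfl fun θ _ => by rw [cInd_smul, smul_sub, smul_smul]
  have hdη : ∀ θ : H → ℂ, ∀ d : ℕ, θ 1 = d → cInd L θ 1 = d * η 1 := fun θ d hd => by
    rw [cInd_one hHL, hd, hYd η hη, mul_comm]
  have hY0 : ∀ φ : Z → ℂ, IsIrrCharacter Z φ → φ ≠ (fun _ => 1) →
      ∀ η' ∈ seqIndD H L H ⁅H, H⁆, ⟪cInd L φ, η'⟫ = 0 := fun φ hφ hφ1 η' h' => by
    rw [ci_eq_zero_comm, hres φ hφ hφ1 η' 0 (fun y hy _ => by rw [hYk η' h' y hy, sub_self])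
      (hY _ h').isClassFunction, zero_div]
  -- (6.8.2.2)
  obtain ⟨ν', h', hb⟩ := exists_cohWith_pivot_eq hS hYs hY hYd' h₁ hη
    (A := {α | ∃ φ : Z → ℂ, IsIrrCharacter Z φ ∧ φ ≠ (fun _ => 1) ∧
      α = cInd L φ - (Z.relIndex H : ℂ) • η})
    (a := Z.relIndex H) (relIndex_pos _ _) (k := n - m) (by
      rintro _ ⟨φ, hφ, hφ1, rfl⟩
      have hα : cInd L φ - (Z.relIndex H : ℂ) • η ∈ zspanOn (seqIndD H L H ⊥) {1}ᶜ := by
        obtain ⟨c, d, h1, -, h3⟩ := hdec φ hφ hφ1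
        refine mem_zspanOn_one.2 ⟨?_, ?_⟩
        · rw [h3]
          refine sum_mem_zspan fun θ hθ => ?_
          by_cases h0 : c θ = 0
          · rw [h0, Nat.cast_zero, zero_smul]; exact zero_mem_zspan _
          · exact natCast_smul_mem_zspan _ (sub_mem_zspan
              (mem_zspan_of_mem (hXs.1 ((h1 θ hθ).2.2 h0)))
              (natCast_smul_mem_zspan _ (mem_zspan_of_mem (hYs.1 hη))))
        · rw [Pi.sub_apply, cInd_one (hZH.trans hHL), hφ.degree_one_of_comm, Pi.smul_apply,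
            hYd η hη, ← relIndex_mul_relIndex Z H L hZH hHL]
          simp
      refine ⟨hα, ?_, fun η' h' hne => ?_, ?_, ?_⟩
      · rw [ci_sub_left, ci_smul_left, hY0 φ hφ hφ1 η hη, (hY η hη).ci_self]; simp
      · rw [ci_sub_left, ci_smul_left, hY0 φ hφ hφ1 η' h', (hY η hη).ci_of_ne (hY η' h') hne.symm]
        simp
      · have hI : cInertia L φ = L := le_antisymm (cInertia_le φ) fun y hy =>
          mem_cInertia.2 ⟨hy, hZ hy, funext fun x => by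
            rw [cConj_apply φ (hZ hy)]; congr 1; ext
            simp only [← hZL hy x x.2, mul_inv_cancel_right]⟩
        rw [nsq_sub_of_orth (by rw [ci_smul_right, hY0 φ hφ hφ1 η hη, mul_zero]), nsq_smul,
          (hY η hη).nsq, nsq_cInd_irr (hZH.trans hHL) hZ hφ, hI, Complex.norm_natCast,
          ← relIndex_mul_relIndex Z H L hZH hHL]
        have h1 : (H.relIndex L : ℝ) < Z.relIndex H := by exact_mod_cast hlt
        have h2 : (0 : ℝ) < Z.relIndex H := by exact_mod_cast relIndex_pos _ _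
        push_cast
        nlinarith
      · rw [ci_dade_TI hTI hHL hα hψ.isClassFunction, ci_sub_left, ci_smul_left, hm,
          ← hψL.ci_comm (hφ.virt.cInd (hZH.trans hHL)), hres φ hφ hφ1 _ (Nat.card H * n)
            (fun y hy hy1 => by
              rw [← hn', hconst z hz hz1 y hy fun e => hy1 (Subtype.ext e)]; rfl)
            hψL.isClassFunction, ← card_mul_relIndex hZH]
        have := card_ne_zero_complex Z
        push_cast; field_simp)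
  -- (6.8.2.3)
  refine coh_union_of_pivot hS hYs.1 hXs.1 hYd' h' hη (hY η hη) (fun h => hdis η h hη) ?_
  rintro _ ⟨θ₀, ⟨hθ₀, hk, -⟩, rfl⟩
  obtain ⟨φ, hφ, hne⟩ := exists_constt_cRes hZH hθ₀
  rw [← ci_cInd_right hZH hθ₀.isClassFunction, ne_eq, ci_eq_zero_comm] at hne
  have hφ1 : φ ≠ fun _ => 1 := by
    rintro rfl
    exact hk (InKer.of_ci_ne_zero (hφ.isCharacter.cInd hZH) hθ₀ hne
      ((inKer_cInd_iff hZH (hHL.trans hZ) le_rfl (hHL.trans hZ) hφ).2 (inKer_one _)))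
  obtain ⟨c, d, h1, h2, h3⟩ := hdec φ hφ hφ1
  have h4 : ∀ θ ∈ Irr H, ∃ b : ℤ, c θ ≠ 0 →
      ⟪dadeL (sharp H) L (fun _ => ⊥) (cInd L θ - (d θ : ℂ) • η), ν' η⟫ = b ∧ -(d θ : ℤ) ≤ b := by
    intro θ hθ
    by_cases h0 : c θ = 0
    · exact ⟨0, fun h => absurd h0 h⟩
    · obtain ⟨b, hb⟩ := pivot_ci_bound hS hYs h' hη (hY η hη) (hXs.1 ((h1 θ hθ).2.2 h0))
        (hdis _ ((h1 θ hθ).2.2 h0)) (hdη θ _ (h1 θ hθ).2.1)
      exact ⟨b, fun _ => hb⟩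
  choose! b hb' using h4
  have h5 := hb _ ⟨φ, hφ, hφ1, rfl⟩
  rw [h3, map_sum, ci_sum_left, Finset.sum_congr rfl (g := fun θ => (c θ : ℂ) * b θ) (fun θ hθ => by
    rw [map_smul, ci_smul_left]
    by_cases h0 : c θ = 0
    · simp [h0]
    · rw [(hb' θ hθ h0).1]), ← h2] at h5
  have h6 : ∑ θ ∈ Irr H, (c θ : ℤ) * (b θ + d θ) = 0 := by
    have : ∑ θ ∈ Irr H, (c θ : ℤ) * b θ = -∑ θ ∈ Irr H, (c θ : ℤ) * d θ := by exact_mod_cast h5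
    simp only [mul_add, Finset.sum_add_distrib, this, neg_add_cancel]
  have hθ₀' := mem_Irr.2 hθ₀
  have h0 : c θ₀ ≠ 0 := fun h => hne (by rw [(h1 θ₀ hθ₀').1, h, Nat.cast_zero])
  have h7 := (Finset.sum_eq_zero_iff_of_nonneg fun θ hθ => by
    by_cases h0 : c θ = 0
    · simp [h0]
    · have := (hb' θ hθ h0).2
      exact mul_nonneg (by positivity) (by linarith)).1 h6 θ₀ hθ₀'
  refine ⟨d θ₀, by simpa using hdη θ₀ _ (h1 θ₀ hθ₀').2.1, ?_⟩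
  rw [Int.cast_natCast, (hb' θ₀ hθ₀' h0).1,
    eq_neg_of_add_eq_zero_left ((mul_eq_zero.1 h7).resolve_left (by exact_mod_cast h0))]
  simp

/-- (6.8.3) -/
theorem sibley_extend {X : Type v} [Group X] [Fintype X] {τ : (L → ℂ) →ₗ[ℂ] (X → ℂ)}
    (hS : CohProp (seqIndD H L H ⊥) τ) (hHL : H ≤ L) (hn : L ≤ N[H]) (hs : Group.IsSolvable H)
    (hH1 : H ≠ ⊥) (hZ : L ≤ N[Z]) (hZH : Z ≤ H ⊓ C[H])
    (hc : Coh (seqIndD H L Z ⊥ ∪ seqIndD H L H ⁅H, H⁆) τ)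
    (hb : Z = ⁅H, H⁆ ∨ 4 * H.relIndex L ^ 2 < Z.relIndex H * (Nat.card Z - 1) ^ 2) :
    Coh (seqIndD H L H ⊥) τ := by
  have hZH' : Z ≤ H := hZH.trans inf_le_left
  obtain ⟨η, hη, hη1⟩ := exists_linInd hHL (commutator_lt_of_solvable hs hH1)
    (le_norm_commutator le_normalizer le_normalizer) hs
  refine Coh.elim_subset (hS.extend ((conjSub_seqIndD hZH' le_rfl).union
    (conjSub_seqIndD le_rfl bot_le)) hc (Or.inr hη) subset_rfl (seqIndD_finite H L Z ⊥).toFinset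
    (by simp) ?_) Set.subset_union_right
  rintro _ ⟨θ, ⟨hθ, hk, -⟩, rfl⟩ hn'
  have hkZ : InKer Z θ := by
    by_contra h; exact hn' (Or.inl ⟨θ, ⟨hθ, h, inKer_bot _⟩, rfl⟩)
  rcases hb with rfl | hb
  · exact absurd (Or.inr ⟨θ, ⟨hθ, hk, hkZ⟩, rfl⟩) hn'
  obtain ⟨t, -, ht⟩ := hθ.exists_degree
  have h1 := irr1_bound_quo hθ bot_le hZH' le_rfl le_norm_of_normal
    (le_cent_iff_commutator_eq_bot.1 (hZH.trans inf_le_right)).le (inKer_bot _)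
  rw [cInd_one hHL, hη1, ht, sum_seqIndD_square hHL hn hZH' hZ le_norm_of_normal bot_le,
    relIndex_bot_left, ← Nat.cast_pred (card_pos' Z)]
  refine ⟨⟨t, by push_cast; ring⟩, ?_⟩
  rw [ht, Complex.norm_natCast, relIndex_self, Nat.cast_one, one_pow, one_mul] at h1
  have he := relIndex_pos H L
  have hx := relIndex_pos Z H
  generalize H.relIndex L = e at *
  generalize Z.relIndex H = x at *
  generalize Nat.card Z - 1 = y at *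
  have h2 : t ^ 2 ≤ x := by exact_mod_cast h1
  have h3 : 2 * e * t < x * y := lt_of_pow_lt_pow_left₀ 2 (Nat.zero_le _) (by
    calc (2 * e * t) ^ 2 = 4 * e ^ 2 * t ^ 2 := by ring
      _ ≤ 4 * e ^ 2 * x := by gcongr
      _ < x * y ^ 2 * x := by gcongr
      _ = _ := by ring)
  have h4 : 2 * (e * t) * e < e * x * y := by nlinarith
  simp only [← Nat.cast_mul, Complex.natCast_re]
  exact_mod_cast h4

theorem sibley_aux (ho : Odd (Nat.card L)) (hnil : Group.IsNilpotent H)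
    (hTI : NormedTI (sharp H) ⊤ L) (hsd : Sdprod H W₁ L) (hW : W₁ ≠ ⊥) (hW₂ : W₂ ≤ ⁅H, H⁆)
    (hcent : ∀ x ∈ W₁, x ≠ 1 → H ⊓ C1[x] = W₂) (hcop : (Nat.card H).Coprime (Nat.card W₁))
    (hp₂ : W₂ = ⊥ ∨ (Nat.card W₂).Prime)
    (hS : IsCoherenceSystem (seqIndD H L H ⊥) (dadeL (sharp H) L fun _ => ⊥) Q)
    (hirr : ∀ Z ≤ H, L ≤ N[Z] → Z ⊓ W₂ = ⊥ → ∀ φ ∈ seqIndD H L Z ⊥, IsIrrCharacter L φ) :
    Coh (seqIndD H L H ⊥) (dadeL (sharp H) L fun _ => ⊥) := by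
  by_contra hnc
  have hHL := hsd.left_le
  have hn := hsd.norm
  have hs : Group.IsSolvable H := inferInstance
  have hH1 : H ≠ ⊥ := sharp_nonempty.1 hTI.nonempty
  have hH' := commutator_lt_of_solvable hs hH1
  have hn' : L ≤ N[⁅H, H⁆] := le_norm_commutator hn hn
  have hreg : ∀ M, W₂ ≤ M → L ≤ N[M] → ∀ x ∈ W₁, x ≠ 1 → ∀ y ∈ H, x * y * x⁻¹ * y⁻¹ ∈ M → y ∈ M :=
    fun M h1 h2 => regular_quo_of_cent hsd hcop h2 fun x hx hx1 => (hcent x hx hx1).le.trans h1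
  have hdvd : ∀ M K, W₂ ≤ M → L ≤ N[M] → K ≤ H → L ≤ N[K] →
      H.relIndex L ∣ M.relIndex K - 1 := fun M K h1 h2 h3 h4 => by
    rw [hsd.relIndex]
    exact card_dvd_pred_of_regular (hsd.right_le.trans h2) (hsd.right_le.trans h4)
      ((h3.trans hHL).trans h2) fun x hx hx1 y hy => hreg M h1 h2 x hx hx1 y (h3 hy)
  obtain ⟨-, -, p, hp, hP, hna, -⟩ := hS.cohProp.non_coherent_chief (M := ⊥)
    (hHL.lt_of_ne fun e => hW (hsd.eq_left_iff.1 e)) hn hs ho le_norm_of_normal bot_le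
    (nilpotent_im hnil) (by rwa [sup_bot_eq])
    (by rw [sup_bot_eq]; exact regMod_of_regular hsd le_rfl (hreg _ hW₂ hn')) hnc
  obtain ⟨eq⟩ := nonempty_equiv_quo_of_inf_eq_bot (H := H) (K := ⊥) le_norm_of_normal (inf_bot_eq _)
  have hH : IsPGroup p H := hP.of_equiv eq.symm
  haveI := Fact.mk hp
  have he : p.Coprime (H.relIndex L) := by
    rw [hsd.relIndex]; exact hcop.coprime_dvd_left (PG.dvd_card_of_ne_bot hH hH1)
  have hY : ∀ φ ∈ seqIndD H L H ⁅H, H⁆, IsIrrCharacter L φ := by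
    rintro _ ⟨θ, ⟨hθ, hk, hk'⟩, rfl⟩
    exact (cInd_irr_iff hHL hn hθ).2 (cInertia_le_of_regular hsd hH'.le hn' (hreg _ hW₂ hn') hθ hk'
      (ne_one_of_not_inKer hk))
  obtain ⟨η, hη⟩ := seqIndD_nonempty le_rfl le_normalizer (hHL.trans hn') hH'
  have hoe : Odd (H.relIndex L) := ho.of_dvd_nat (relIndex_dvd_card' _ _)
  have hoH : ∀ M K : Subgroup G, K ≤ H → Odd (M.relIndex K) := fun M K h =>
    ho.of_dvd_nat ((relIndex_dvd_card' _ _).trans (card_dvd_of_le (h.trans hHL)))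
  by_cases hA : H ⊓ C[H] ⊓ W₂ = ⊥
  · have hZ1 : ⁅H, H⁆ ⊓ C[H] ≠ ⊥ := inf_cent_ne_bot_of_nilpotent hnil hH'.le (hHL.trans hn')
      fun e => hna e.le
    have hZ : L ≤ N[⁅H, H⁆ ⊓ C[H]] := le_norm_inf hn' (le_norm_cent hn)
    have hZH : ⁅H, H⁆ ⊓ C[H] ≤ H ⊓ C[H] := inf_le_inf_right _ hH'.le
    have hZW : ⁅H, H⁆ ⊓ C[H] ⊓ W₂ = ⊥ := eq_bot_iff.2 (hA ▸ inf_le_inf_right _ hZH)
    refine hnc (sibley_extend hS.cohProp hHL hn hs hH1 hZ hZH (sibley_caseA ho hTI hHL hp hH he hS hY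
      hη hZ hZH inf_le_left hZ1 (hirr _ (hZH.trans inf_le_left) hZ hZW)) (Or.inr ?_))
    have h1 : H.relIndex L ∣ Nat.card ↥(⁅H, H⁆ ⊓ C[H]) - 1 := by
      rw [hsd.relIndex, ← relIndex_bot_left (⁅H, H⁆ ⊓ C[H])]
      refine card_dvd_pred_of_regular le_norm_of_normal (hsd.right_le.trans hZ) le_norm_of_normal
        fun x hx hx1 y hy h => hZW ▸ ⟨hy, ?_⟩
      rw [← hcent x hx hx1]
      rw [mem_bot, mul_inv_eq_one, mul_inv_eq_iff_eq_mul] at h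
      exact ⟨(hZH hy).1, mem_cent1.2 h.symm⟩
    have h2 := two_mul_add_one_le hoe (relIndex_bot_left (⁅H, H⁆ ⊓ C[H]) ▸
      hoH ⊥ _ (hZH.trans inf_le_left)) (ne_bot_iff_one_lt_card.1 hZ1) h1
    have h3 : 1 < (⁅H, H⁆ ⊓ C[H]).relIndex H :=
      one_lt_relIndex fun h => hH'.not_ge (h.trans inf_le_left)
    have h4 := relIndex_pos H L
    have h5 : (2 * H.relIndex L) ^ 2 ≤ (Nat.card ↥(⁅H, H⁆ ⊓ C[H]) - 1) ^ 2 :=
      Nat.pow_le_pow_left (by omega) 2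
    nlinarith
  · have hq := hp₂.resolve_left fun e => hA (by rw [e, inf_bot_eq])
    have hWH : W₂ ≤ H ⊓ C[H] := (le_or_inf_eq_bot_of_card_prime hq _).resolve_right
      (by rwa [inf_comm])
    have hZL : L ≤ C[W₂] := by
      rw [← hsd.sup_eq]
      refine sup_le (le_cent_symm (hWH.trans inf_le_right)) fun x hx => ?_
      by_cases hx1 : x = 1
      · rw [hx1]; exact one_mem _
      · exact mem_cent_iff_le_cent1.2 ((hcent x hx hx1).ge.trans inf_le_right)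
    have hZ := le_norm_of_cent hZL
    have h1 := hdvd W₂ H le_rfl hZ le_rfl hn
    have h2 : 1 < W₂.relIndex H := one_lt_relIndex fun h => hH'.not_ge (h.trans hW₂)
    refine hnc (sibley_extend hS.cohProp hHL hn hs hH1 hZ hWH (sibley_caseB ho hTI
      (syl_mk hp hHL hH (hp.coprime_iff_not_dvd.1 he)) hS hY hη hZL hW₂ hq
      (by have := Nat.le_of_dvd (by omega) h1; omega)) ?_)
    refine hW₂.eq_or_lt.imp_right fun hlt => ?_
    have h3 := two_mul_add_one_le hoe (hoH _ _ hH'.le) (one_lt_relIndex hlt.not_ge)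
      (hdvd W₂ _ le_rfl hZ hH'.le hn')
    have h4 := two_mul_add_one_le hoe (hoH _ _ le_rfl) (one_lt_relIndex hH'.not_ge)
      (hdvd _ H hW₂ hn' le_rfl hn)
    have h5 := Nat.mul_le_mul h3 h4
    rw [relIndex_mul_relIndex _ _ _ hW₂ hH'.le] at h5
    have h6 : 1 ≤ (Nat.card W₂ - 1) ^ 2 := Nat.one_le_pow _ _ (by have := hq.one_lt; omega)
    nlinarith

end

end Cfsg.Agent.PF
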