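import Cfsg.Agent.PF.S07b

set_option autoImplicit false
set_option linter.unusedSectionVars false
set_option linter.unusedVariables false

namespace Cfsg.Agent.PF

open Subgroup Cfsg.Agent.GT Cfsg.Agent.BG Cfsg.Agent.Char

universe u v w

variable {G : Type u} [Group G] [Fintype G] {L H L₁ L₂ H₁ H₂ : Subgroup G} {A A₁ A₂ : Set G}
  {R R₁ R₂ : G → Subgroup G}

theorem card_sharp_real (H : Subgroup G) : (Nat.card (sharp H) : ℝ) = (Nat.card H : ℝ) - 1 := by
  rw [Nat.card_coe_set_eq, show sharp H = (H : Set G) \ {1} from rfl,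
    Set.ncard_sdiff_singleton_of_mem H.one_mem, ← Nat.card_coe_set_eq, SetLike.coe_sort_coe,
    Nat.cast_pred Nat.card_pos]

theorem disjoint_supp_of_coprime (hc : (Nat.card H₁).Coprime (Nat.card H₂)) :
    Disjoint (dadeSupp (sharp H₁) fun _ => ⊥) (dadeSupp (sharp H₂) fun _ => ⊥) := by
  rw [Set.disjoint_left]
  rintro g ⟨a, ha, u, hu, x, hx⟩ ⟨b, hb, v, hv, y, hy⟩
  rw [mem_bot.1 hu, mul_one] at hx
  rw [mem_bot.1 hv, mul_one] at hy
  have h1 : orderOf a = orderOf g := by rw [← hx]; exact orderOf_conj x g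
  have h2 : orderOf b = orderOf g := by rw [← hy]; exact orderOf_conj y g
  have h3 := Nat.eq_one_of_dvd_coprimes hc (h1 ▸ H₁.orderOf_dvd_natCard ha.1)
    (h2 ▸ H₂.orderOf_dvd_natCard hb.1)
  exact ha.2 (orderOf_eq_one_iff.1 (h1.trans h3))

theorem ci_s07Psi_of_orth {ν : (L → ℂ) →ₗ[ℂ] (G → ℂ)} (hHL : H ≤ L) (hn : L ≤ N[H])
    (hν : CohWith (seqIndD H L H ⊥) (dadeL (sharp H) L R) ν) {ζ : L → ℂ}
    (hζS : ζ ∈ seqIndD H L H ⊥) (hζ1 : ζ 1 = H.relIndex L) {β : G → ℂ}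
    (hβ : ∀ α, ⟪β, dadeL (sharp H) L R α⟫ = 0) :
    ⟪β, s07Psi H ν⟫ = ⟪β, ν ζ⟫ * nsq (s07Psi H ν) := by
  have h1 : ∀ ξ ∈ seqIndD H L H ⊥, ⟪ν ξ, β - ⟪β, ν ζ⟫ • s07Psi H ν⟫ = 0 := fun ξ hξ => by
    have h2 := hβ (ξ - (ξ 1 / ζ 1) • ζ)
    obtain ⟨⟨d, -, hd⟩, -⟩ := s07_sub_mem hHL hζS hζ1 hξ
    rw [s07_nu_sub hHL hν hζS hζ1 hξ, ci_sub_right, ci_smul_right, hd, map_natCast] at h2
    refine ci_eq_zero_symm ?_
    rw [ci_sub_left, ci_smul_left, ci_s07Psi hHL hn hν hξ, ← hζ1, hd]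
    linear_combination h2
  have h3 := ci_eq_zero_symm (ci_s07Psi_eq_zero h1)
  rwa [ci_sub_left, ci_smul_left, ci_self, sub_eq_zero] at h3

theorem s07_final {e h s : ℝ} (he : 1 < e) (hh : 2 * e + 1 ≤ h)
    (h1 : 1 - e / h - (h - 1) / (h * e) ≤ s) (h2 : s ≤ (e - 1) / (h + 1)) : False := by
  have h3 : 0 < h := by linarith
  have h4 : 1 - e / h - (h - 1) / (h * e) - (e - 1) / (h + 1) =
      (e - 1) * ((h - 2 * e - 1) * (h + 1) + e) / (e * h * (h + 1)) := by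
    field_simp
    ring
  have h5 : 0 < (e - 1) * ((h - 2 * e - 1) * (h + 1) + e) / (e * h * (h + 1)) := by
    have : 0 ≤ (h - 2 * e - 1) * (h + 1) := mul_nonneg (by linarith) (by linarith)
    exact div_pos (mul_pos (by linarith) (by linarith)) (by positivity)
  linarith

/-- (7.10)–(7.11) for coherent families -/
theorem no_coherent_Frobenius_partition (ho : Odd (Nat.card G)) {ι : Type v} [Fintype ι]
    [Nonempty ι] (L H : ι → Subgroup G) (hF : ∀ i, FrobKer (L i) (H i))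
    (hs : ∀ i, Group.IsSolvable (H i)) (hTI : ∀ i, NormedTI (sharp (H i)) ⊤ (L i))
    (hcoh : ∀ i, Coh (seqIndD (H i) (L i) (H i) ⊥) (dadeL (sharp (H i)) (L i) fun _ => ⊥))
    (hc : ∀ i j, i ≠ j → (Nat.card (H i)).Coprime (Nat.card (H j)))
    (hcover : ∀ g : G, g ≠ 1 → ∃ i, g ∈ classSupp (sharp (H i)) ⊤) : False := by
  classical
  choose W hW using hF
  have hD := fun i => dade_of_normedTI (hTI i)
  have hHL := fun i => (hW i).sdprod.left_le
  have hn := fun i => (hW i).sdprod.norm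
  choose ν hν using hcoh
  choose ζ hζS hζ1 using fun i =>
    exists_linInd (hHL i) (bot_lt_iff_ne_bot.2 (hW i).ker_ne_bot) le_norm_of_normal (hs i)
  have hirr : ∀ i, ∀ ξ ∈ seqIndD (H i) (L i) (H i) ⊥, IsIrrCharacter (L i) ξ := by
    intro i ξ hξ
    obtain ⟨θ, ⟨h1, h2, -⟩, rfl⟩ := mem_seqIndD.1 hξ
    exact irr_induced_Frobenius_ker (hW i).frobKer h1 (ne_one_of_not_inKer h2)
  have hd := fun i j h => disjoint_supp_of_coprime (hc i j h)
  have hnt := fun i => seqIndD_nontrivial_of_odd (hHL i) (hn i) (dade_sharp_odd ho _) (hζS i)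
  have h1 : ∀ i, 1 < Nat.card (H i) := fun i => (one_lt_card_iff_ne_bot _).2 (hW i).ker_ne_bot
  have e1 : ∀ i, 1 < (H i).relIndex (L i) := fun i => by
    rw [(hW i).sdprod.relIndex]; exact (one_lt_card_iff_ne_bot _).2 (hW i).compl_ne_bot
  have h2 : ∀ i, 2 * (H i).relIndex (L i) + 1 ≤ Nat.card (H i) := fun i => by
    rw [(hW i).sdprod.relIndex]
    exact two_mul_add_one_le (dade_sharp_odd ho _) (dade_sharp_odd ho _) (h1 i)
      (frob_card_dvd_pred (hW i))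
  obtain ⟨k, -, hk⟩ := Finset.exists_min_image Finset.univ (fun i => Nat.card (H i))
    Finset.univ_nonempty
  have hk' : ∀ i, i ≠ k → Nat.card (H k) + 1 ≤ Nat.card (H i) := fun i hi => by
    have := hk i (Finset.mem_univ _)
    have h3 : Nat.card (H k) ≠ Nat.card (H i) := fun h => by
      have h4 := hc i k hi
      rw [h, Nat.coprime_self] at h4
      have := h1 i
      omega
    omega
  set β : ι → G → ℂ := fun i => dadeL (sharp (H i)) (L i) (fun _ => ⊥)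
    (cInd (L i) (fun _ : H i => (1 : ℂ)) - ζ i) with hβ
  have hχ := (hν k).isSIrr (hζS k) (hirr k _ (hζS k))
  have horth : ∀ i j, i ≠ j → ∀ ξ ∈ seqIndD (H i) (L i) (H i) ⊥,
      ∀ μ ∈ seqIndD (H j) (L j) (H j) ⊥, ⟪ν i ξ, ν j μ⟫ = 0 := fun i j hij ξ hξ μ hμ =>
    disjoint_coherent_ortho ho (hD i) (hD j) (hd i j hij) (hν i) (hν j) (hirr i ξ hξ) hξ
      (hirr j μ hμ) hμ
  have hvβ : ∀ i, IsGeneralizedCharacter G (β i) := fun i => s07_beta_virt (hD i) (hζS i) (hζ1 i)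
  set B : Finset ι := Finset.univ.filter fun i => i ≠ k ∧ ⟪β i, ν k (ζ k)⟫ = 0 with hB
  obtain ⟨-, ⟨Γ, g1, g2, ⟨a, ga⟩, g3⟩, -⟩ :=
    Dade_Ind1_sub_lin (hD k) (hν k) (hnt k) (hirr k _ (hζS k)) (hζS k) (hζ1 k) (β := β k) rfl
  obtain ⟨g3, g4⟩ := g3 (h2 k)
  -- the cover inequality
  have c1 := Dade_cover_inequality L (fun i => sharp (H i)) (fun _ _ => ⊥) hD hd
    hχ.isClassFunction hχ.nsq {1} (fun g => by
      rw [Finset.mem_singleton]
      refine ⟨fun h i => h ▸ (hD i).one_not_mem_supp, fun h => by_contra fun hg => ?_⟩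
      obtain ⟨i, a, ha, x, -, rfl⟩ := hcover g hg
      exact h i (conj_mem_dadeSupp_iff.2 (subset_dadeSupp ha)))
  have c2 : 0 ≤ (Nat.card G : ℝ)⁻¹ * (∑ g ∈ ({1} : Finset G), ‖ν k (ζ k) g‖ ^ 2 -
      (({1} : Finset G).card : ℝ)) := by
    refine mul_nonneg (by positivity) ?_
    obtain ⟨n, hn⟩ := hχ.virt.exists_int_one
    have hn0 : n ≠ 0 := fun h => hχ.apply_one_ne_zero (by rw [hn, h, Int.cast_zero])
    rw [Finset.sum_singleton, Finset.card_singleton, norm_sq_of_eq_int hn, Nat.cast_one, sub_nonneg]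
    exact_mod_cast (one_le_sq_iff_one_le_abs n).2 (Int.one_le_abs hn0)
  have c3 : ∀ i, (if i = k then 1 - ((H k).relIndex (L k) : ℝ) / Nat.card (H k) -
        ((Nat.card (H k) : ℝ) - 1) / (Nat.card (H k) * (H k).relIndex (L k)) else 0) -
      (if i ∈ B then ((Nat.card (H i) : ℝ) - 1) / (H i).relIndex (L i) / (Nat.card (H k) + 1)
        else 0) ≤ nsq (dadeRho (sharp (H i)) (L i) (fun _ => ⊥) (ν k (ζ k))) -
          (Nat.card (sharp (H i)) : ℝ) / Nat.card (L i) := by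
    intro i
    rw [card_sharp_real, ← card_mul_relIndex (hHL i)]
    push_cast
    by_cases hi : i = k
    · subst hi
      rw [if_pos rfl, if_neg (by simp [hB]), sub_zero]
      linarith
    obtain ⟨b, hb⟩ := (hvβ i).ci_int hχ.virt
    have c4 := (s07_rho_orth (hD i) (hν i) (hζS i) (hζ1 i) (β := β i) rfl hχ.isClassFunction
      (fun ξ hξ => horth k i (Ne.symm hi) _ (hζS k) ξ hξ) hb).2
    rw [if_neg hi, c4, ← card_mul_relIndex (hHL i)]
    push_cast
    have p1 : (1 : ℝ) < Nat.card (H i) := by exact_mod_cast h1 i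
    have p2 : (1 : ℝ) < (H i).relIndex (L i) := by exact_mod_cast e1 i
    have p3 : (0 : ℝ) ≤ ((Nat.card (H i) : ℝ) - 1) / (Nat.card (H i) * (H i).relIndex (L i)) :=
      div_nonneg (by linarith) (by positivity)
    split_ifs with hiB
    · have p4 : (Nat.card (H k) : ℝ) + 1 ≤ Nat.card (H i) := by exact_mod_cast hk' i hi
      have p5 : ((Nat.card (H i) : ℝ) - 1) / (Nat.card (H i) * (H i).relIndex (L i)) ≤
          ((Nat.card (H i) : ℝ) - 1) / (H i).relIndex (L i) / (Nat.card (H k) + 1) := by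
        rw [div_div]
        refine div_le_div_of_nonneg_left (by linarith) (by positivity) ?_
        nlinarith
      have := mul_nonneg p3 (sq_nonneg (b : ℝ))
      linarith
    · have hb0 : b ≠ 0 := fun h => hiB (by simp [hB, hi, hb, h])
      have : (1 : ℝ) ≤ b ^ 2 := by
        exact_mod_cast (one_le_sq_iff_one_le_abs b).2 (Int.one_le_abs hb0)
      nlinarith
  have c5 := Finset.sum_le_sum fun i (_ : i ∈ Finset.univ) => c3 i
  rw [Finset.sum_sub_distrib, Finset.sum_ite_eq', if_pos (Finset.mem_univ _),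
    Finset.sum_ite_mem, Finset.univ_inter, ← Finset.sum_div] at c5
  -- Bessel
  have hΨ : ∀ i, nsq (s07Psi (H i) (ν i)) = ((Nat.card (H i) : ℝ) - 1) / (H i).relIndex (L i) :=
    fun i => nsq_s07Psi (hHL i) (hn i) (hν i)
  have hΨ0 : ∀ i, 0 < nsq (s07Psi (H i) (ν i)) := fun i => by
    rw [hΨ]
    have p1 : (1 : ℝ) < Nat.card (H i) := by exact_mod_cast h1 i
    have p2 : (1 : ℝ) < (H i).relIndex (L i) := by exact_mod_cast e1 i
    exact div_pos (by linarith) (by linarith)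
  have hΨo : ∀ i j, i ≠ j → ⟪s07Psi (H i) (ν i), s07Psi (H j) (ν j)⟫ = 0 := fun i j hij =>
    ci_s07Psi_eq_zero fun ξ hξ => ci_eq_zero_symm
      (ci_s07Psi_eq_zero fun μ hμ => horth j i hij.symm μ hμ ξ hξ)
  have c6 := bessel_orth B (fun i => s07Psi (H i) (ν i))
    (fun i _ h => (hΨ0 i).ne' (nsq_eq_zero.2 h)) (fun i _ j _ hij => hΨo i j hij) Γ
  have c7 : ∀ i ∈ B, ((Nat.card (H i) : ℝ) - 1) / (H i).relIndex (L i) ≤
      ‖⟪Γ, s07Psi (H i) (ν i)⟫‖ ^ 2 / nsq (s07Psi (H i) (ν i)) := by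
    intro i hi
    obtain ⟨hik, hi0⟩ := (Finset.mem_filter.1 hi).2
    have q1 := (Dade_sub_lin_nonorthogonal ho (hD i) (hD k) (hd i k hik) (hν i) (hν k)
      (hirr i _ (hζS i)) (hζS i) (hζ1 i) (hirr k _ (hζS k)) (hζS k) (hζ1 k)).resolve_left
      (not_not.2 hi0)
    obtain ⟨c, hc⟩ := (hvβ k).ci_int ((hν i).virt_mem (hζS i))
    have hc0 : c ≠ 0 := fun h => q1 (hc.trans (by rw [h, Int.cast_zero]))
    have q2 := ci_s07Psi_of_orth (hHL i) (hn i) (hν i) (hζS i) (hζ1 i) (β := β k)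
      fun α => disjoint_Dade_ortho (hd k i (Ne.symm hik)) _ _
    have q3 : ⟪Γ, s07Psi (H i) (ν i)⟫ = ⟪β k, s07Psi (H i) (ν i)⟫ := by
      rw [ga, ← s07Psi, ci_add_left, ci_add_left, ci_sub_left, ci_smul_left,
        hΨo k i (Ne.symm hik), ci_eq_zero_symm (ci_s07Psi_eq_zero fun ξ hξ =>
          s07_nu_one (hD i) (hν i) (hnt i) (hirr i _ (hζS i)) (hζS i) (hζ1 i) hξ),
        ci_eq_zero_symm (ci_s07Psi_eq_zero fun ξ hξ => horth i k hik ξ hξ _ (hζS k))]
      ring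
    have q4 : (1 : ℝ) ≤ c ^ 2 := by
      exact_mod_cast (one_le_sq_iff_one_le_abs c).2 (Int.one_le_abs hc0)
    have q5 := hΨ0 i
    rw [q3, q2, hc, norm_mul, mul_pow, Complex.norm_intCast, sq_abs, Complex.norm_real,
      Real.norm_eq_abs, sq_abs, ← hΨ, le_div_iff₀ q5]
    nlinarith [mul_pos q5 q5]
  have c8 := (Finset.sum_le_sum c7).trans (c6.trans g4)
  refine s07_final (e := (H k).relIndex (L k)) (h := Nat.card (H k)) (by exact_mod_cast e1 k)
    (by exact_mod_cast h2 k) (s := (∑ i ∈ B, ((Nat.card (H i) : ℝ) - 1) / (H i).relIndex (L i)) /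
      (Nat.card (H k) + 1)) (by linarith) (div_le_div_of_nonneg_right c8 (by positivity))

/-- (7.10)–(7.11) together with (6.8) (= S1526; solvability is available in all uses) -/
theorem no_Frobenius_partition (ho : Odd (Nat.card G)) {ι : Type v} [Fintype ι]
    (hι : 2 ≤ Fintype.card ι) (L H : ι → Subgroup G) (hF : ∀ i, FrobKer (L i) (H i))
    (hs : ∀ i, Group.IsNilpotent (H i)) (hTI : ∀ i, NormedTI (sharp (H i)) ⊤ (L i))
    (hc : ∀ i j, i ≠ j → (Nat.card (H i)).Coprime (Nat.card (H j)))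
    (hcover : ∀ g : G, g ≠ 1 → ∃ i, g ∈ classSupp (sharp (H i)) ⊤) : False := by
  have : Nonempty ι := Fintype.card_pos_iff.1 (by omega)
  refine no_coherent_Frobenius_partition ho L H hF (fun i => have := hs i; inferInstance) hTI
    (fun i => ?_) hc hcover
  obtain ⟨W, hW⟩ := hF i
  exact Sibley_coherence_dade (dade_sharp_odd ho _) (hs i) (hTI i) (Or.inl hW)

end Cfsg.Agent.PF
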