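import Cfsg.Agent.PF.S06

set_option autoImplicit false
set_option linter.unusedSectionVars false
set_option linter.unusedVariables false

namespace Cfsg.Agent.PF

open Subgroup Cfsg.Agent.GT Cfsg.Agent.BG Cfsg.Agent.Char

universe u v w

/-! Peterfalvi §7 in ambient style (`ρ = dadeRho`; (7.2), (7.3) are in `PF/DadeVirt`). -/

variable {G : Type u} [Group G] [Fintype G] {L H L₁ L₂ H₁ H₂ : Subgroup G} {A A₁ A₂ : Set G}
  {R R₁ R₂ : G → Subgroup G}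

/-- the number of elements of the Dade support: `|A^τ| / |G| = ∑ |H a| / |L|` specialised -/
theorem card_dadeSupp (hD : DadeHypothesis A L R) :
    (Nat.card (dadeSupp A R) : ℝ) / Nat.card G = (Nat.card A : ℝ) / Nat.card L := by
  classical
  have h := hD.sum_supp (isClassFunction_const (G := G) 1)
  have h2 : ∀ a : G, cosAvg (R a) (fun _ => (1 : ℂ)) a = 1 := fun a =>
    cosAvg_of_forall fun _ _ => rfl
  simp only [h2] at h
  have h3 := natCard_subtype_eq_sum_ite (fun g : G => g ∈ dadeSupp A R) ℂ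
  have h4 := natCard_subtype_eq_sum_ite (fun g : G => g ∈ A) ℂ
  have h5 : (Nat.card G : ℂ)⁻¹ * (Nat.card (dadeSupp A R) : ℂ) =
      (Nat.card L : ℂ)⁻¹ * (Nat.card A : ℂ) := by
    rw [show (Nat.card (dadeSupp A R) : ℂ) = _ from h3, show (Nat.card A : ℂ) = _ from h4]
    convert h
  have h6 : (((Nat.card G : ℝ)⁻¹ * (Nat.card (dadeSupp A R) : ℝ) : ℝ) : ℂ) =
      (((Nat.card L : ℝ)⁻¹ * (Nat.card A : ℝ) : ℝ) : ℂ) := by push_cast; exact h5
  have h7 := Complex.ofReal_injective h6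
  rw [div_eq_inv_mul, div_eq_inv_mul, h7]

open scoped Classical in
theorem sum_partition_supp {ι : Type v} [Fintype ι] (S : ι → Set G)
    (hd : ∀ i j, i ≠ j → Disjoint (S i) (S j)) (G₀ : Finset G) (hG₀ : ∀ g, g ∈ G₀ ↔ ∀ i, g ∉ S i)
    (f : G → ℝ) : ∑ g, f g = ∑ g ∈ G₀, f g + ∑ i, ∑ g, if g ∈ S i then f g else 0 := by
  rw [Finset.sum_comm, ← Finset.sum_filter_add_sum_filter_not Finset.univ (· ∈ G₀) f,
    ← Finset.sum_filter_add_sum_filter_not Finset.univ (· ∈ G₀)]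
  have h1 : ∑ g ∈ Finset.univ.filter (· ∈ G₀), ∑ i, (if g ∈ S i then f g else 0) = 0 :=
    Finset.sum_eq_zero fun g hg => Finset.sum_eq_zero fun i _ =>
      if_neg ((hG₀ g).1 (Finset.mem_filter.1 hg).2 i)
  rw [h1, zero_add, Finset.filter_mem_eq_inter, Finset.univ_inter]
  congr 1
  refine Finset.sum_congr rfl fun g hg => ?_
  have hg' := (Finset.mem_filter.1 hg).2
  rw [hG₀] at hg'
  push Not at hg'
  obtain ⟨i, hi⟩ := hg'
  rw [Finset.sum_eq_single i, if_pos hi]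
  · intro j _ hj
    exact if_neg fun h => Set.disjoint_left.1 (hd j i hj) h hi
  · simp

open scoped Classical in
/-- (7.5) -/
theorem Dade_cover_inequality {ι : Type v} [Fintype ι] (L : ι → Subgroup G) (A : ι → Set G)
    (R : ι → G → Subgroup G) (hD : ∀ i, DadeHypothesis (A i) (L i) (R i))
    (hd : ∀ i j, i ≠ j → Disjoint (dadeSupp (A i) (R i)) (dadeSupp (A j) (R j)))
    {χ : G → ℂ} (hχ : IsClassFunction G χ) (h1 : nsq χ = 1) (G₀ : Finset G)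
    (hG₀ : ∀ g, g ∈ G₀ ↔ ∀ i, g ∉ dadeSupp (A i) (R i)) :
    (Nat.card G : ℝ)⁻¹ * (∑ g ∈ G₀, ‖χ g‖ ^ 2 - G₀.card) +
      ∑ i, (nsq (dadeRho (A i) (L i) (R i) χ) - (Nat.card (A i) : ℝ) / Nat.card (L i)) ≤ 0 := by
  have hG := card_pos_real G
  have e1 := sum_partition_supp (fun i => dadeSupp (A i) (R i)) hd G₀ hG₀ (fun g => ‖χ g‖ ^ 2)
  have e2 := sum_partition_supp (fun i => dadeSupp (A i) (R i)) hd G₀ hG₀ (fun g => 1)
  have e3 : ∑ g : G, ‖χ g‖ ^ 2 = Nat.card G := by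
    have : (Nat.card G : ℝ)⁻¹ * ∑ g : G, ‖χ g‖ ^ 2 = 1 := h1
    field_simp at this
    exact this
  have e4 : ∑ g : G, (1 : ℝ) = Nat.card G := by simp
  have e5 : ∀ i, nsq (dadeRho (A i) (L i) (R i) χ) - (Nat.card (A i) : ℝ) / Nat.card (L i) ≤
      (Nat.card G : ℝ)⁻¹ * ((∑ g, if g ∈ dadeSupp (A i) (R i) then ‖χ g‖ ^ 2 else 0) -
        ∑ g, if g ∈ dadeSupp (A i) (R i) then (1 : ℝ) else 0) := by
    intro i
    have h2 := (hD i).nsq_rho_le_sum hχ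
    have h3 := natCard_subtype_eq_sum_ite (fun g : G => g ∈ dadeSupp (A i) (R i)) ℝ
    rw [← card_dadeSupp (hD i), mul_sub, div_eq_inv_mul,
      show (Nat.card (dadeSupp (A i) (R i)) : ℝ) = _ from h3]
    exact sub_le_sub_right h2 _
  have e6 := Finset.sum_le_sum fun i (_ : i ∈ Finset.univ) => e5 i
  rw [← Finset.mul_sum, Finset.sum_sub_distrib (s := Finset.univ)
    (f := fun i => ∑ g, if g ∈ dadeSupp (A i) (R i) then ‖χ g‖ ^ 2 else 0)] at e6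
  simp only [Finset.sum_const, nsmul_eq_mul, mul_one] at e2 e4
  have e7 : (∑ g ∈ G₀, ‖χ g‖ ^ 2 - G₀.card) +
      ((∑ i, ∑ g, if g ∈ dadeSupp (A i) (R i) then ‖χ g‖ ^ 2 else 0) -
        ∑ i, ∑ g, if g ∈ dadeSupp (A i) (R i) then (1 : ℝ) else 0) = 0 := by linarith
  have e8 := congrArg ((Nat.card G : ℝ)⁻¹ * ·) e7
  simp only [mul_add, mul_zero] at e8
  linarith

theorem dade_sharp_le (hD : DadeHypothesis (sharp H) L R) : H ≤ L := fun x hx => by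
  by_cases h : x = 1
  · rw [h]; exact L.one_mem
  · exact hD.subset ⟨hx, h⟩

theorem dade_sharp_norm (hD : DadeHypothesis (sharp H) L R) : L ≤ N[H] := by
  have key : ∀ x ∈ L, ∀ a ∈ H, x * a * x⁻¹ ∈ H := fun x hx a ha => by
    by_cases h : a = 1
    · simp [h]
    · exact (hD.conj_mem x hx a ⟨ha, h⟩).1
  intro x hx
  rw [mem_normalizer_iff]
  intro a
  refine ⟨key x hx a, fun h => ?_⟩
  simpa [mul_assoc] using key x⁻¹ (L.inv_mem hx) _ h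

/-- a class function orthogonal to the degree-zero combinations of induced characters vanishes
on `H^#` -/
theorem eq_zero_on_sharp (hHL : H ≤ L) {g : L → ℂ} (hg : IsClassFunction L g) {ξ₀ : L → ℂ}
    (h₀ : ξ₀ 1 ≠ 0) (h : ∀ ξ ∈ seqIndT H L, ⟪ξ - (ξ 1 / ξ₀ 1) • ξ₀, g⟫ = 0) {x : L}
    (hx : (x : G) ∈ sharp H) : g x = 0 := by
  classical
  set c : ℂ := (starRingEnd ℂ) ((H.relIndex L : ℂ) * (⟪ξ₀, g⟫ / ξ₀ 1)) with hc
  have key : ∀ θ, IsIrrCharacter H θ → ⟪cRes H g, θ⟫ = c * θ 1 := by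
    intro θ hθ
    have h1 := h _ (cInd_mem_seqIndT (L := L) hθ)
    rw [ci_sub_left, ci_smul_left, ci_cInd_left hHL θ hg, cInd_one hHL, sub_eq_zero] at h1
    rw [← ci_conj_symm, h1, hc, ← hθ.isCharacter.conj_one, ← map_mul, hθ.isCharacter.conj_one]
    congr 1
    ring
  have h2 := (hg.cRes hHL).apply_eq_sum_irr ⟨x, hx.1⟩
  rw [cRes_apply' g (⟨x, hx.1⟩ : H) x.2] at h2
  rw [show g x = _ from h2, Finset.sum_congr rfl fun θ hθ => by rw [key θ (mem_Irr.1 hθ), mul_assoc],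
    ← Finset.mul_sum, sum_irr_degree_mul, if_neg, mul_zero]
  intro h
  exact hx.2 (congrArg Subtype.val h)

theorem nsq_eq_sub_of_eq_off_one {X : Type v} [Group X] [Fintype X] {ρ φ : X → ℂ} (h1 : ρ 1 = 0)
    (h : ∀ x, x ≠ 1 → ρ x = φ x) : nsq ρ = nsq φ - ‖φ 1‖ ^ 2 / Nat.card X := by
  classical
  unfold nsq
  rw [← Finset.add_sum_erase _ _ (Finset.mem_univ (1 : X)),
    ← Finset.add_sum_erase _ _ (Finset.mem_univ (1 : X)), h1,
    Finset.sum_congr rfl fun x hx => by rw [h x (Finset.ne_of_mem_erase hx)]]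
  simp only [norm_zero]
  ring

theorem sub_mem_CF_sharp (hHL : H ≤ L) (hn : L ≤ N[H]) {ξ ξ₀ : L → ℂ} (hξ : ξ ∈ seqIndT H L)
    (h₀ : ξ₀ ∈ seqIndT H L) : ξ - (ξ 1 / ξ₀ 1) • ξ₀ ∈ CF L (sharp H) := by
  refine ⟨(seqIndT_class hξ).sub ((seqIndT_class h₀).smul _), fun x hx => ?_⟩
  by_cases h : x = 1
  · subst h
    have := seqIndT_one_ne_zero hHL h₀
    simp only [Pi.sub_apply, Pi.smul_apply, smul_eq_mul]
    field_simp
    ring
  · have hx' : (x : G) ∉ (H : Set G) := fun h' => hx ⟨h', fun h'' => h (Subtype.ext h'')⟩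
    simp [seqIndT_on hHL hn hξ x hx', seqIndT_on hHL hn h₀ x hx']

/-- determination of `ρ χ` from its scalar products -/
theorem rho_eq_of_ci (hD : DadeHypothesis (sharp H) L R) {ξ₀ : L → ℂ} (h₀ : ξ₀ ∈ seqIndT H L)
    {χ : G → ℂ} (hχ : IsClassFunction G χ) {φ : L → ℂ} (hφ : IsClassFunction L φ)
    (hs : SuppOn (H : Set G) φ)
    (h : ∀ ξ ∈ seqIndT H L, ξ ≠ ξ₀ → ⟪dadeL (sharp H) L R (ξ - (ξ 1 / ξ₀ 1) • ξ₀), χ⟫ =
      ⟪ξ - (ξ 1 / ξ₀ 1) • ξ₀, φ⟫) :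
    (∀ x : L, (x : G) ∈ sharp H → dadeRho (sharp H) L R χ x = φ x) ∧
      nsq (dadeRho (sharp H) L R χ) = nsq φ - ‖φ 1‖ ^ 2 / Nat.card L := by
  have hHL := dade_sharp_le hD
  have hn := dade_sharp_norm hD
  have h0 := seqIndT_one_ne_zero hHL h₀
  have h1 : ∀ x : L, (x : G) ∈ sharp H → dadeRho (sharp H) L R χ x = φ x := by
    intro x hx
    have := eq_zero_on_sharp hHL ((hD.isClassFunction_rho hχ).sub hφ) h0 (fun ξ hξ => ?_) hx
    · exact sub_eq_zero.1 this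
    by_cases he : ξ = ξ₀
    · rw [he, div_self h0, one_smul, sub_self, ci_zero_left]
    have hc := sub_mem_CF_sharp hHL hn hξ h₀
    rw [ci_sub_right, ← hD.ci_dade_rho hc.1 hc.2 hχ, ← h ξ hξ he, dadeL_apply, sub_self]
  refine ⟨h1, nsq_eq_sub_of_eq_off_one (dadeRho_of_not_mem χ fun h => h.2 rfl) fun x hx => ?_⟩
  by_cases hxH : (x : G) ∈ H
  · exact h1 x ⟨hxH, fun h => hx (Subtype.ext h)⟩
  · rw [dadeRho_of_not_mem χ fun h => hxH h.1, hs x hxH]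

theorem ci_sum_smul_orth {X : Type v} [Group X] [Fintype X] {ι : Type w} (S : Finset ι)
    (e : ι → X → ℂ) (he : ∀ i ∈ S, ∀ j ∈ S, i ≠ j → ⟪e i, e j⟫ = 0) (c : ι → ℂ) {j : ι}
    (hj : j ∈ S) : ⟪∑ i ∈ S, c i • e i, e j⟫ = c j * nsq (e j) := by
  rw [ci_sum_left, Finset.sum_eq_single j, ci_smul_left, ci_self]
  · intro i hi hij
    rw [ci_smul_left, he i hi j hj hij, mul_zero]
  · intro h; exact absurd hj h

theorem nsq_sum_smul_orth {X : Type v} [Group X] [Fintype X] {ι : Type w} (S : Finset ι)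
    (e : ι → X → ℂ) (he : ∀ i ∈ S, ∀ j ∈ S, i ≠ j → ⟪e i, e j⟫ = 0) (c : ι → ℂ) :
    nsq (∑ i ∈ S, c i • e i) = ∑ i ∈ S, ‖c i‖ ^ 2 * nsq (e i) := by
  rw [nsq_sum_of_orth S (fun i => c i • e i) fun i hi j hj hij => by
    rw [ci_smul_left, ci_smul_right, he i hi j hj hij, mul_zero, mul_zero]]
  exact Finset.sum_congr rfl fun i _ => nsq_smul _ _

theorem relIndex_mul_card_complex (hHL : H ≤ L) :
    (H.relIndex L : ℂ) * Nat.card H = Nat.card L := by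
  rw [← Nat.cast_mul, mul_comm, card_mul_relIndex hHL]

open scoped Classical in
/-- (7.7) -/
theorem invDade_seqInd_sum (hD : DadeHypothesis (sharp H) L R) {ξ₀ : L → ℂ}
    (h₀ : ξ₀ ∈ seqIndT H L) {χ : G → ℂ} (hχ : IsClassFunction G χ) (c : (L → ℂ) → ℂ)
    (S : Finset (L → ℂ)) (hS : ∀ ξ, ξ ∈ S ↔ ξ ∈ seqIndT H L ∧ ξ ≠ ξ₀)
    (hc : ∀ ξ ∈ S, c ξ = ⟪dadeL (sharp H) L R (ξ - (ξ 1 / ξ₀ 1) • ξ₀), χ⟫) :
    (∀ x : L, (x : G) ∈ sharp H → dadeRho (sharp H) L R χ x =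
      ∑ ξ ∈ S, (starRingEnd ℂ) (c ξ) / (nsq ξ : ℂ) * ξ x) ∧
    (nsq (dadeRho (sharp H) L R χ) : ℂ) = ∑ ξ ∈ S, ∑ μ ∈ S,
      ((nsq ξ : ℂ)⁻¹ * ((if ξ = μ then 1 else 0) -
        ξ 1 * μ 1 / ((H.relIndex L : ℂ) * Nat.card H * (nsq μ : ℂ)))) *
        (starRingEnd ℂ) (c ξ) * c μ := by
  have hHL := dade_sharp_le hD
  have hn := dade_sharp_norm hD
  have hT : ∀ ξ ∈ S, ξ ∈ seqIndT H L := fun ξ h => ((hS ξ).1 h).1
  have hnz : ∀ ξ ∈ S, (nsq ξ : ℂ) ≠ 0 := fun ξ h => by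
    exact_mod_cast (nsq_pos (seqIndT_ne_zero hHL (hT ξ h))).ne'
  have ho : ∀ ξ ∈ S, ∀ μ ∈ S, ξ ≠ μ → ⟪ξ, μ⟫ = 0 := fun ξ h μ h' hne =>
    seqIndT_ortho hHL hn (hT ξ h) (hT μ h') hne
  set φ : L → ℂ := ∑ ξ ∈ S, ((starRingEnd ℂ) (c ξ) / (nsq ξ : ℂ)) • ξ with hφ
  have hφx : ∀ x, φ x = ∑ ξ ∈ S, (starRingEnd ℂ) (c ξ) / (nsq ξ : ℂ) * ξ x := fun x => by
    simp [hφ, Finset.sum_apply]
  obtain ⟨h1, h2⟩ := rho_eq_of_ci hD h₀ hχ (φ := φ)
    (isClassFunction_sum _ _ fun ξ h => (seqIndT_class (hT ξ h)).smul _)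
    (fun x hx => by
      rw [hφx]
      exact Finset.sum_eq_zero fun ξ h => by rw [seqIndT_on hHL hn (hT ξ h) x hx, mul_zero])
    (fun ξ hξ hne => by
      have hξS := (hS ξ).2 ⟨hξ, hne⟩
      have h3 : ⟪ξ₀, φ⟫ = 0 := by
        rw [hφ, ci_sum_right]
        exact Finset.sum_eq_zero fun μ hμ => by
          rw [ci_smul_right, seqIndT_ortho hHL hn h₀ (hT μ hμ) ((hS μ).1 hμ).2.symm, mul_zero]
      have h4 := ci_sum_smul_orth S (fun ξ => ξ) ho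
        (fun ξ => (starRingEnd ℂ) (c ξ) / (nsq ξ : ℂ)) hξS
      rw [← hc ξ hξS, ci_sub_left, ci_smul_left, h3, mul_zero, sub_zero, ← ci_conj_symm, hφ, h4,
        div_mul_cancel₀ _ (hnz ξ hξS), Complex.conj_conj])
  refine ⟨fun x hx => by rw [h1 x hx, hφx], ?_⟩
  have h5 := nsq_sum_smul_orth S (fun ξ => ξ) ho (fun ξ => (starRingEnd ℂ) (c ξ) / (nsq ξ : ℂ))
  rw [h2, hφ, h5, ← hφ]
  push_cast
  rw [← Complex.mul_conj', hφx 1, map_sum, Finset.sum_mul_sum, Finset.sum_div,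
    ← Finset.sum_sub_distrib]
  refine Finset.sum_congr rfl fun ξ hξ => ?_
  simp only [mul_sub, sub_mul, Finset.sum_sub_distrib, mul_ite, ite_mul, mul_one, mul_zero, zero_mul,
    Finset.sum_ite_eq, if_pos hξ, Finset.sum_div]
  have hL : (Nat.card L : ℂ) ≠ 0 := card_ne_zero_complex L
  congr 1
  · rw [← Complex.mul_conj']
    simp only [map_div₀, Complex.conj_conj, Complex.conj_ofReal]
    have := hnz ξ hξ
    field_simp
  · refine Finset.sum_congr rfl fun μ hμ => ?_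
    simp only [map_mul, map_div₀, Complex.conj_conj, Complex.conj_ofReal,
      (seqIndT_char hHL (hT μ hμ)).conj_one, relIndex_mul_card_complex hHL]
    have := hnz ξ hξ
    have := hnz μ hμ
    field_simp

theorem disjoint_Dade_ortho (hd : Disjoint (dadeSupp A₁ R₁) (dadeSupp A₂ R₂)) (φ : L₁ → ℂ)
    (ψ : L₂ → ℂ) : ⟪dadeL A₁ L₁ R₁ φ, dadeL A₂ L₂ R₂ ψ⟫ = 0 := by
  rw [ci_def, Finset.sum_eq_zero, mul_zero]
  intro g _
  by_cases h : g ∈ dadeSupp A₁ R₁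
  · rw [dadeL_apply, dadeL_apply, dade_apply_of_not_mem ψ (Set.disjoint_left.1 hd h), map_zero,
      mul_zero]
  · rw [dadeL_apply, dade_apply_of_not_mem φ h, zero_mul]

end Cfsg.Agent.PF
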