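import Cfsg.Agent.PF.S07a

set_option autoImplicit false
set_option linter.unusedSectionVars false
set_option linter.unusedVariables false

namespace Cfsg.Agent.PF

open Subgroup Cfsg.Agent.GT Cfsg.Agent.BG Cfsg.Agent.Char

universe u v w

variable {G : Type u} [Group G] [Fintype G] {L H L₁ L₂ H₁ H₂ : Subgroup G} {A A₁ A₂ : Set G}
  {R R₁ R₂ : G → Subgroup G}

theorem Ind1_mem_seqIndT : cInd L (fun _ : H => (1 : ℂ)) ∈ seqIndT H L :=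
  cInd_mem_seqIndT isIrrCharacter_one

theorem Ind1_one (hHL : H ≤ L) : cInd L (fun _ : H => (1 : ℂ)) 1 = H.relIndex L := by
  rw [cInd_one hHL, mul_one]

theorem relIndex_ne_zero_complex (H L : Subgroup G) : (H.relIndex L : ℂ) ≠ 0 := by
  exact_mod_cast (relIndex_pos H L).ne'

section
variable {ν : (L → ℂ) →ₗ[ℂ] (G → ℂ)} {ζ ξ : L → ℂ}

theorem s07_sub_mem (hHL : H ≤ L) (hζS : ζ ∈ seqIndD H L H ⊥) (hζ1 : ζ 1 = H.relIndex L)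
    (hξ : ξ ∈ seqIndD H L H ⊥) : (∃ d : ℕ, 0 < d ∧ ξ 1 / ζ 1 = d) ∧
      ξ - (ξ 1 / ζ 1) • ζ ∈ zspan (seqIndD H L H ⊥) ∧ (ξ - (ξ 1 / ζ 1) • ζ) 1 = 0 := by
  obtain ⟨d, hd, he⟩ := seqIndT_one hHL (seqIndD_subset_T hξ)
  have h0 := relIndex_ne_zero_complex H L
  have h1 : ξ 1 / ζ 1 = d := by rw [he, hζ1]; field_simp
  refine ⟨⟨d, hd, h1⟩, ?_, ?_⟩
  · rw [h1]
    exact sub_mem_zspan (mem_zspan_of_mem hξ) (natCast_smul_mem_zspan d (mem_zspan_of_mem hζS))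
  · simp only [Pi.sub_apply, Pi.smul_apply, smul_eq_mul, hζ1]
    field_simp
    ring

theorem s07_nu_sub (hHL : H ≤ L) (hν : CohWith (seqIndD H L H ⊥) (dadeL (sharp H) L R) ν)
    (hζS : ζ ∈ seqIndD H L H ⊥) (hζ1 : ζ 1 = H.relIndex L) (hξ : ξ ∈ seqIndD H L H ⊥) :
    dadeL (sharp H) L R (ξ - (ξ 1 / ζ 1) • ζ) = ν ξ - (ξ 1 / ζ 1) • ν ζ := by
  obtain ⟨-, h1, h2⟩ := s07_sub_mem hHL hζS hζ1 hξ
  rw [← hν.eq h1 h2, map_sub, map_smul]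

theorem s07_beta_CF (hHL : H ≤ L) (hn : L ≤ N[H]) (hζS : ζ ∈ seqIndD H L H ⊥)
    (hζ1 : ζ 1 = H.relIndex L) : cInd L (fun _ : H => (1 : ℂ)) - ζ ∈ CF L (sharp H) := by
  have := sub_mem_CF_sharp hHL hn Ind1_mem_seqIndT (seqIndD_subset_T hζS)
  rwa [Ind1_one hHL, hζ1, div_self (relIndex_ne_zero_complex H L), one_smul] at this

theorem s07_nu_one (hD : DadeHypothesis (sharp H) L R)
    (hν : CohWith (seqIndD H L H ⊥) (dadeL (sharp H) L R) ν)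
    (h2 : (seqIndD H L H ⊥).Nontrivial) (hζ : IsIrrCharacter L ζ)
    (hζS : ζ ∈ seqIndD H L H ⊥) (hζ1 : ζ 1 = H.relIndex L) (hξ : ξ ∈ seqIndD H L H ⊥) :
    ⟪ν ξ, fun _ => 1⟫ = 0 := by
  have hHL := dade_sharp_le hD
  have hn := dade_sharp_norm hD
  have key : ∀ ξ ∈ seqIndD H L H ⊥, ⟪ν ξ, fun _ => 1⟫ = (ξ 1 / ζ 1) * ⟪ν ζ, fun _ => 1⟫ := by
    intro ξ hξ
    have hc := sub_mem_CF_sharp hHL hn (seqIndD_subset_T hξ) (seqIndD_subset_T hζS)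
    have h1 := hD.ci_dade_one hc.1 hc.2
    rw [← dadeL_apply, s07_nu_sub hHL hν hζS hζ1 hξ, ci_sub_left, ci_sub_left, ci_smul_left,
      ci_smul_left, seqIndD_ortho_one hHL hξ, seqIndD_ortho_one hHL hζS, mul_zero, sub_zero,
      sub_eq_zero] at h1
    exact h1
  suffices h : ⟪ν ζ, fun _ => 1⟫ = 0 by rw [key ξ hξ, h, mul_zero]
  by_contra hne
  obtain ⟨μ, hμ, hμζ⟩ := h2.exists_ne ζ
  have h3 : ⟪ν μ, ν ζ⟫ = 0 := by
    rw [hν.ci_mem hμ hζS]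
    exact seqIndT_ortho hHL hn (seqIndD_subset_T hμ) (seqIndD_subset_T hζS) hμζ
  have h4 : ⟪ν μ, fun _ => 1⟫ = 0 := by
    rcases (hν.isSIrr hζS hζ).eq_or_eq_neg_of_ci_ne_zero isIrrCharacter_one.isSIrr hne with h | h
    · rwa [h] at h3
    · rwa [h, ci_neg_right, neg_eq_zero] at h3
  obtain ⟨⟨d, hd, he⟩, -⟩ := s07_sub_mem hHL hζS hζ1 hμ
  rw [key μ hμ, he] at h4
  exact mul_ne_zero (by exact_mod_cast hd.ne') hne h4

theorem s07_beta_one (hD : DadeHypothesis (sharp H) L R) (hζS : ζ ∈ seqIndD H L H ⊥)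
    (hζ1 : ζ 1 = H.relIndex L) :
    ⟪dadeL (sharp H) L R (cInd L (fun _ : H => (1 : ℂ)) - ζ), fun _ => 1⟫ = 1 := by
  have hHL := dade_sharp_le hD
  have hc := s07_beta_CF hHL (dade_sharp_norm hD) hζS hζ1
  rw [dadeL_apply, hD.ci_dade_one hc.1 hc.2, ci_sub_left, ci_Ind1_one hHL,
    seqIndD_ortho_one hHL hζS, sub_zero]

theorem s07_beta_virt (hD : DadeHypothesis (sharp H) L R) (hζS : ζ ∈ seqIndD H L H ⊥)
    (hζ1 : ζ 1 = H.relIndex L) :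
    IsGeneralizedCharacter G (dadeL (sharp H) L R (cInd L (fun _ : H => (1 : ℂ)) - ζ)) := by
  have hHL := dade_sharp_le hD
  have hc := s07_beta_CF hHL (dade_sharp_norm hD) hζS hζ1
  exact hD.virt_dade ((seqIndT_char hHL Ind1_mem_seqIndT).virt.sub
    (seqIndT_char hHL (seqIndD_subset_T hζS)).virt) hc.2

theorem s07_beta_nsq (hD : DadeHypothesis (sharp H) L R) (hζ : IsIrrCharacter L ζ)
    (hζS : ζ ∈ seqIndD H L H ⊥) (hζ1 : ζ 1 = H.relIndex L) :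
    nsq (dadeL (sharp H) L R (cInd L (fun _ : H => (1 : ℂ)) - ζ)) = H.relIndex L + 1 := by
  have hHL := dade_sharp_le hD
  have hn := dade_sharp_norm hD
  have hc := s07_beta_CF hHL hn hζS hζ1
  rw [dadeL_apply, hD.nsq_dade hc.1 hc.2,
    nsq_sub_of_orth (ci_eq_zero_symm (seqIndD_ortho_Ind1 hHL hn hζS)), nsq_Ind1 hHL hn, hζ.nsq]

/-- the vector `Ψ = ∑ (ξ 1 / e ‖ξ‖²) ν ξ` -/
noncomputable def s07Psi (H : Subgroup G) {L : Subgroup G} (ν : (L → ℂ) →ₗ[ℂ] (G → ℂ)) : G → ℂ :=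
  ∑ ξ ∈ (seqIndD_finite H L H ⊥).toFinset, (ξ 1 / (H.relIndex L : ℂ) / (nsq ξ : ℂ)) • ν ξ

theorem s07_nu_orth (hHL : H ≤ L) (hn : L ≤ N[H]) {τ : (L → ℂ) → G → ℂ}
    (hν : CohWith (seqIndD H L H ⊥) τ ν) : ∀ ξ ∈ (seqIndD_finite H L H ⊥).toFinset,
      ∀ μ ∈ (seqIndD_finite H L H ⊥).toFinset, ξ ≠ μ → ⟪ν ξ, ν μ⟫ = 0 := fun ξ h μ h' hne => by
  rw [Set.Finite.mem_toFinset] at h h'
  rw [hν.ci_mem h h']
  exact seqIndT_ortho hHL hn (seqIndD_subset_T h) (seqIndD_subset_T h') hne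

theorem ci_s07Psi (hHL : H ≤ L) (hn : L ≤ N[H]) {τ : (L → ℂ) → G → ℂ}
    (hν : CohWith (seqIndD H L H ⊥) τ ν) (hξ : ξ ∈ seqIndD H L H ⊥) :
    ⟪s07Psi H ν, ν ξ⟫ = ξ 1 / H.relIndex L := by
  have h0 : (nsq ξ : ℂ) ≠ 0 := by
    exact_mod_cast (nsq_pos (seqIndT_ne_zero hHL (seqIndD_subset_T hξ))).ne'
  rw [s07Psi, ci_sum_smul_orth _ (fun ξ => ν ξ) (s07_nu_orth hHL hn hν) _
    ((Set.Finite.mem_toFinset _).2 hξ), hν.nsq_eq (mem_zspan_of_mem hξ), div_mul_cancel₀ _ h0]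

theorem nsq_s07Psi (hHL : H ≤ L) (hn : L ≤ N[H]) {τ : (L → ℂ) → G → ℂ}
    (hν : CohWith (seqIndD H L H ⊥) τ ν) :
    nsq (s07Psi H ν) = ((Nat.card H : ℝ) - 1) / H.relIndex L := by
  have h1 := sum_seqIndD_square hHL hn le_rfl hn (le_norm_of_normal) (bot_le : ⊥ ≤ H)
  rw [relIndex_self, relIndex_bot_left] at h1
  have he : (H.relIndex L : ℝ) ≠ 0 := by exact_mod_cast (relIndex_pos H L).ne'
  rw [s07Psi, nsq_sum_smul_orth _ (fun ξ => ν ξ) (s07_nu_orth hHL hn hν)]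
  have h2 : ∀ ξ ∈ (seqIndD_finite H L H ⊥).toFinset,
      ‖ξ 1 / (H.relIndex L : ℂ) / (nsq ξ : ℂ)‖ ^ 2 * nsq (ν ξ) =
        ((H.relIndex L : ℝ) ^ 2)⁻¹ * ((ξ 1).re ^ 2 / nsq ξ) := by
    intro ξ hξ
    rw [Set.Finite.mem_toFinset] at hξ
    have h0 := nsq_pos (seqIndT_ne_zero hHL (seqIndD_subset_T hξ))
    obtain ⟨n, hn⟩ := (seqIndT_char hHL (seqIndD_subset_T hξ)).exists_degree
    rw [hν.nsq_eq (mem_zspan_of_mem hξ), hn]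
    simp only [norm_div, Complex.norm_natCast, Complex.norm_real, Real.norm_eq_abs,
      abs_of_pos h0, Complex.natCast_re]
    field_simp
  rw [Finset.sum_congr rfl h2, ← Finset.mul_sum, h1]
  field_simp
  simp

theorem ci_s07Psi_eq_zero {α : G → ℂ} (h : ∀ ξ ∈ seqIndD H L H ⊥, ⟪ν ξ, α⟫ = 0) :
    ⟪s07Psi H ν, α⟫ = 0 := by
  rw [s07Psi, ci_sum_left]
  exact Finset.sum_eq_zero fun ξ hξ => by
    rw [ci_smul_left, h ξ ((Set.Finite.mem_toFinset _).1 hξ), mul_zero]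

theorem s07_beta_nu (hD : DadeHypothesis (sharp H) L R)
    (hν : CohWith (seqIndD H L H ⊥) (dadeL (sharp H) L R) ν) (hζ : IsIrrCharacter L ζ)
    (hζS : ζ ∈ seqIndD H L H ⊥) (hζ1 : ζ 1 = H.relIndex L) (hξ : ξ ∈ seqIndD H L H ⊥) :
    ⟪dadeL (sharp H) L R (cInd L (fun _ : H => (1 : ℂ)) - ζ), ν ξ⟫ = -⟪ζ, ξ⟫ +
      ξ 1 / H.relIndex L * (⟪dadeL (sharp H) L R (cInd L (fun _ : H => (1 : ℂ)) - ζ), ν ζ⟫ + 1) := by
  have hHL := dade_sharp_le hD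
  have hn := dade_sharp_norm hD
  have hc := s07_beta_CF hHL hn hζS hζ1
  have hc' := sub_mem_CF_sharp hHL hn (seqIndD_subset_T hξ) (seqIndD_subset_T hζS)
  have h1 := hD.ci_dade_dade hc.1 hc.2 hc'.1
  obtain ⟨⟨d, hd, he⟩, -⟩ := s07_sub_mem hHL hζS hζ1 hξ
  rw [← dadeL_apply, ← dadeL_apply, s07_nu_sub hHL hν hζS hζ1 hξ, he, ci_sub_right, ci_smul_right,
    ci_sub_right, ci_smul_right, ci_sub_left, ci_sub_left,
    ci_eq_zero_symm (seqIndD_ortho_Ind1 hHL hn hξ), ci_eq_zero_symm (seqIndD_ortho_Ind1 hHL hn hζS),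
    hζ.ci_self, map_natCast] at h1
  rw [← hζ1, he]
  linear_combination h1

/-- (7.8)(b), sharp form -/
theorem s07_gamma (hD : DadeHypothesis (sharp H) L R)
    (hν : CohWith (seqIndD H L H ⊥) (dadeL (sharp H) L R) ν)
    (h2 : (seqIndD H L H ⊥).Nontrivial) (hζ : IsIrrCharacter L ζ)
    (hζS : ζ ∈ seqIndD H L H ⊥) (hζ1 : ζ 1 = H.relIndex L) {β : G → ℂ}
    (hβ : β = dadeL (sharp H) L R (cInd L (fun _ : H => (1 : ℂ)) - ζ)) {a : ℤ}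
    (ha : ⟪β, ν ζ⟫ + 1 = a) {Γ : G → ℂ}
    (hΓ : Γ = β - (fun _ => 1) + ν ζ - (a : ℂ) • s07Psi H ν) :
    (∀ ξ ∈ seqIndD H L H ⊥, ⟪Γ, ν ξ⟫ = 0) ∧ ⟪Γ, fun _ => 1⟫ = 0 ∧
      nsq Γ = (H.relIndex L : ℝ) - 1 + 2 * a - a ^ 2 * ((Nat.card H : ℝ) - 1) / H.relIndex L ∧
      nsq (dadeRho (sharp H) L R (ν ζ)) = 1 - (H.relIndex L : ℝ) / Nat.card H +
        (a ^ 2 * ((Nat.card H : ℝ) - 1) - 2 * a * H.relIndex L) / (H.relIndex L * Nat.card H) := by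
  have hHL := dade_sharp_le hD
  have hn := dade_sharp_norm hD
  have he := relIndex_ne_zero_complex H L
  have he' : (H.relIndex L : ℝ) ≠ 0 := by exact_mod_cast (relIndex_pos H L).ne'
  have h1 : ∀ ξ ∈ seqIndD H L H ⊥, ⟪ν ξ, fun _ => 1⟫ = 0 := fun ξ hξ =>
    s07_nu_one hD hν h2 hζ hζS hζ1 hξ
  have g1 : ∀ ξ ∈ seqIndD H L H ⊥, ⟪Γ, ν ξ⟫ = 0 := fun ξ hξ => by
    rw [hΓ, ci_sub_left, ci_add_left, ci_sub_left, ci_smul_left, ci_s07Psi hHL hn hν hξ,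
      ci_eq_zero_symm (h1 ξ hξ), hν.ci_mem hζS hξ, hβ, s07_beta_nu hD hν hζ hζS hζ1 hξ, ← hβ, ha]
    ring
  have g2 : ⟪Γ, fun _ => 1⟫ = 0 := by
    rw [hΓ, ci_sub_left, ci_add_left, ci_sub_left, ci_smul_left, ci_s07Psi_eq_zero h1, h1 ζ hζS,
      hβ, s07_beta_one hD hζS hζ1, ci_one_one]
    ring
  refine ⟨g1, g2, ?_, ?_⟩
  · have e1 : β = Γ + ((fun _ => 1) + ((a : ℂ) • s07Psi H ν - ν ζ)) := by rw [hΓ]; abel
    have e2 := s07_beta_nsq hD hζ hζS hζ1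
    rw [← hβ, e1, nsq_add_of_orth, nsq_add_of_orth, nsq_sub, nsq_smul, nsq_s07Psi hHL hn hν,
      ci_smul_left, ci_s07Psi hHL hn hν hζS, hζ1, div_self he, (hν.isSIrr hζS hζ).nsq,
      isIrrCharacter_one.nsq] at e2
    · simp only [Complex.norm_intCast, sq_abs, mul_one, Complex.intCast_re] at e2
      rw [mul_div_assoc]
      linarith
    · rw [ci_sub_right, ci_smul_right, ci_eq_zero_symm (ci_s07Psi_eq_zero h1),
        ci_eq_zero_symm (h1 ζ hζS)]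
      ring
    · rw [ci_add_right, ci_sub_right, ci_smul_right, g2, g1 ζ hζS,
        ci_eq_zero_symm (ci_s07Psi_eq_zero fun ξ hξ => ci_eq_zero_symm (g1 ξ hξ))]
      ring
  · have hI : cInd L (fun _ : H => (1 : ℂ)) ∈ seqIndT H L := Ind1_mem_seqIndT
    have hζT := seqIndD_subset_T hζS
    have hIζ := seqIndD_ortho_Ind1 hHL hn hζS
    obtain ⟨-, e1⟩ := rho_eq_of_ci hD hζT (hν.virt_mem hζS).isClassFunction
      (φ := ((a : ℂ) / H.relIndex L) • cInd L (fun _ : H => (1 : ℂ)) + ζ)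
      (((seqIndT_class hI).smul _).add hζ.isClassFunction)
      (fun x hx => by simp [seqIndT_on hHL hn hI x hx, seqIndT_on hHL hn hζT x hx])
      (fun ξ hξ hne => by
        rw [seqIndT_eq hHL hn] at hξ
        rcases hξ with rfl | hξ
        · rw [Ind1_one hHL, hζ1, div_self he, one_smul, ← hβ, ci_add_right, ci_smul_right,
            ci_sub_left, ci_sub_left, ci_self, nsq_Ind1 hHL hn, hIζ, ci_eq_zero_symm hIζ,
            hζ.ci_self, map_div₀, map_intCast, map_natCast, ← ha]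
          push_cast
          field_simp
          ring
        · rw [s07_nu_sub hHL hν hζS hζ1 hξ, ci_sub_left, ci_smul_left, hν.ci_mem hξ hζS,
            hν.ci_mem hζS hζS, ci_add_right, ci_smul_right, ci_sub_left, ci_sub_left, ci_smul_left,
            ci_smul_left, seqIndD_ortho_Ind1 hHL hn hξ, hIζ]
          ring)
    rw [e1, nsq_add_of_orth (by rw [ci_smul_left, ci_eq_zero_symm hIζ, mul_zero]), nsq_smul,
      nsq_Ind1 hHL hn, hζ.nsq, Pi.add_apply, Pi.smul_apply, Ind1_one hHL, hζ1, smul_eq_mul,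
      div_mul_cancel₀ _ he, ← card_mul_relIndex hHL]
    have e2 : ‖(a : ℂ) + H.relIndex L‖ ^ 2 = ((a : ℝ) + H.relIndex L) ^ 2 := by
      rw [show (a : ℂ) + H.relIndex L = (((a : ℝ) + H.relIndex L : ℝ) : ℂ) by push_cast; ring,
        Complex.norm_real, Real.norm_eq_abs, sq_abs]
    have hH := card_ne_zero_real H
    rw [e2, norm_div, Complex.norm_intCast, Complex.norm_natCast, div_pow, sq_abs]
    push_cast
    field_simp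
    ring

/-- (7.8)(c) for an arbitrary virtual character -/
theorem s07_rho_orth (hD : DadeHypothesis (sharp H) L R)
    (hν : CohWith (seqIndD H L H ⊥) (dadeL (sharp H) L R) ν)
    (hζS : ζ ∈ seqIndD H L H ⊥) (hζ1 : ζ 1 = H.relIndex L) {β : G → ℂ}
    (hβ : β = dadeL (sharp H) L R (cInd L (fun _ : H => (1 : ℂ)) - ζ)) {χ : G → ℂ}
    (hχ : IsClassFunction G χ) (ho : ∀ ξ ∈ seqIndD H L H ⊥, ⟪χ, ν ξ⟫ = 0) {b : ℤ}
    (hb : ⟪β, χ⟫ = b) :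
    (∀ x : L, (x : G) ∈ sharp H → dadeRho (sharp H) L R χ x = b) ∧
      nsq (dadeRho (sharp H) L R χ) = ((Nat.card H : ℝ) - 1) / Nat.card L * b ^ 2 := by
  have hHL := dade_sharp_le hD
  have hn := dade_sharp_norm hD
  have he := relIndex_ne_zero_complex H L
  have he' : (H.relIndex L : ℝ) ≠ 0 := by exact_mod_cast (relIndex_pos H L).ne'
  have hI : cInd L (fun _ : H => (1 : ℂ)) ∈ seqIndT H L := Ind1_mem_seqIndT
  have hζT := seqIndD_subset_T hζS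
  have hIζ := seqIndD_ortho_Ind1 hHL hn hζS
  obtain ⟨e0, e1⟩ := rho_eq_of_ci hD hζT hχ
    (φ := ((b : ℂ) / H.relIndex L) • cInd L (fun _ : H => (1 : ℂ)))
    ((seqIndT_class hI).smul _)
    (fun x hx => by simp [seqIndT_on hHL hn hI x hx])
    (fun ξ hξ hne => by
      rw [seqIndT_eq hHL hn] at hξ
      rcases hξ with rfl | hξ
      · rw [Ind1_one hHL, hζ1, div_self he, one_smul, ← hβ, ci_smul_right,
          ci_sub_left, ci_self, nsq_Ind1 hHL hn, hIζ, map_div₀, map_intCast, map_natCast, hb]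
        push_cast
        field_simp
        ring
      · rw [s07_nu_sub hHL hν hζS hζ1 hξ, ci_sub_left, ci_smul_left, ci_eq_zero_symm (ho ξ hξ),
          ci_eq_zero_symm (ho ζ hζS), ci_smul_right, ci_sub_left, ci_smul_left,
          seqIndD_ortho_Ind1 hHL hn hξ, hIζ]
        ring)
  refine ⟨fun x hx => ?_, ?_⟩
  · rw [e0 x hx, Pi.smul_apply, Ind1_apply hHL hn hx.1, smul_eq_mul, div_mul_cancel₀ _ he]
  · have hH := card_ne_zero_real H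
    rw [e1, nsq_smul, nsq_Ind1 hHL hn, Pi.smul_apply, Ind1_one hHL, smul_eq_mul,
      div_mul_cancel₀ _ he, ← card_mul_relIndex hHL, norm_div, Complex.norm_intCast,
      Complex.norm_natCast, div_pow, sq_abs]
    push_cast
    field_simp

theorem s07_bound {e h : ℝ} (he : 0 < e) (hh : 2 * e + 1 ≤ h) (a : ℤ) :
    2 * a * e ≤ a ^ 2 * (h - 1) := by
  have h1 := int_le_sq a
  have h2 : (0 : ℝ) ≤ a ^ 2 := sq_nonneg _
  nlinarith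

end

/-- (7.8) -/
theorem Dade_Ind1_sub_lin (hD : DadeHypothesis (sharp H) L R) {ν : (L → ℂ) →ₗ[ℂ] (G → ℂ)}
    (hν : CohWith (seqIndD H L H ⊥) (dadeL (sharp H) L R) ν)
    (h2 : (seqIndD H L H ⊥).Nontrivial) {ζ : L → ℂ} (hζ : IsIrrCharacter L ζ)
    (hζS : ζ ∈ seqIndD H L H ⊥) (hζ1 : ζ 1 = H.relIndex L) {β : G → ℂ}
    (hβ : β = dadeL (sharp H) L R (cInd L (fun _ : H => (1 : ℂ)) - ζ)) :
    ((∀ ξ ∈ seqIndD H L H ⊥, ⟪ν ξ, fun _ => 1⟫ = 0) ∧ ⟪β, fun _ => 1⟫ = 1 ∧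
      IsGeneralizedCharacter G β) ∧
    (∃ Γ : G → ℂ, (∀ ξ ∈ seqIndD H L H ⊥, ⟪Γ, ν ξ⟫ = 0) ∧ ⟪Γ, fun _ => 1⟫ = 0 ∧
      (∃ a : ℤ, β = (fun _ => 1) - ν ζ + (a : ℂ) •
        (∑ ξ ∈ (seqIndD_finite H L H ⊥).toFinset,
          (ξ 1 / (H.relIndex L : ℂ) / (nsq ξ : ℂ)) • ν ξ) + Γ) ∧
      (2 * H.relIndex L + 1 ≤ Nat.card H →
        1 - (H.relIndex L : ℝ) / Nat.card H ≤ nsq (dadeRho (sharp H) L R (ν ζ)) ∧
        nsq Γ ≤ (H.relIndex L : ℝ) - 1)) ∧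
    ∀ χ, IsIrrCharacter G χ → (∀ ξ ∈ seqIndD H L H ⊥, ⟪χ, ν ξ⟫ = 0) →
      (∀ x : L, (x : G) ∈ sharp H → dadeRho (sharp H) L R χ x = ⟪β, χ⟫) ∧
      (nsq (dadeRho (sharp H) L R χ) : ℂ) =
        ((Nat.card H : ℂ) - 1) / Nat.card L * ⟪β, χ⟫ ^ 2 := by
  have hv : IsGeneralizedCharacter G β := hβ ▸ s07_beta_virt hD hζS hζ1
  refine ⟨⟨fun ξ hξ => s07_nu_one hD hν h2 hζ hζS hζ1 hξ, hβ ▸ s07_beta_one hD hζS hζ1, hv⟩, ?_,
    fun χ hχ ho => ?_⟩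
  · obtain ⟨n, hn⟩ := hv.ci_int (hν.virt_mem hζS)
    have ha : ⟪β, ν ζ⟫ + 1 = ((n + 1 : ℤ) : ℂ) := by rw [hn]; push_cast; ring
    obtain ⟨g1, g2, g3, g4⟩ := s07_gamma hD hν h2 hζ hζS hζ1 hβ ha rfl
    refine ⟨_, g1, g2, ⟨n + 1, ?_⟩, fun h => ?_⟩
    · rw [← s07Psi]; abel
    · have he : (0 : ℝ) < H.relIndex L := by exact_mod_cast relIndex_pos H L
      have hb := s07_bound (h := Nat.card H) he (by exact_mod_cast h) (n + 1)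
      have hH := card_pos_real H
      rw [g3, g4]
      constructor
      · have := div_nonneg (sub_nonneg.2 hb) (mul_pos he hH).le
        linarith
      · have := (le_div_iff₀ he).2 hb
        linarith
  · obtain ⟨b, hb⟩ := hv.ci_int hχ.virt
    obtain ⟨e1, e2⟩ := s07_rho_orth hD hν hζS hζ1 hβ hχ.isClassFunction ho hb
    rw [hb, e2]
    refine ⟨e1, ?_⟩
    push_cast
    ring

theorem dade_sharp_odd (ho : Odd (Nat.card G)) (L : Subgroup G) : Odd (Nat.card L) :=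
  ho.of_dvd_nat (card_subgroup_dvd_card L)

theorem s07_nu_sub_conj {ν : (L → ℂ) →ₗ[ℂ] (G → ℂ)} (hHL : H ≤ L) {τ : (L → ℂ) → G → ℂ}
    (hν : CohWith (seqIndD H L H ⊥) τ ν) {χ : L → ℂ} (hχ : χ ∈ seqIndD H L H ⊥) :
    ν χ - ν (conjFun χ) = τ (χ - conjFun χ) := by
  rw [← map_sub]
  refine hν.eq (sub_mem_zspan (mem_zspan_of_mem hχ) (mem_zspan_of_mem (conj_seqIndD hχ))) ?_
  rw [Pi.sub_apply, conjFun_apply, (seqIndT_char hHL (seqIndD_subset_T hχ)).conj_one, sub_self]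

theorem disjoint_coherent_ortho (ho : Odd (Nat.card G)) (h₁ : DadeHypothesis (sharp H₁) L₁ R₁)
    (h₂ : DadeHypothesis (sharp H₂) L₂ R₂)
    (hd : Disjoint (dadeSupp (sharp H₁) R₁) (dadeSupp (sharp H₂) R₂))
    {ν₁ : (L₁ → ℂ) →ₗ[ℂ] (G → ℂ)} {ν₂ : (L₂ → ℂ) →ₗ[ℂ] (G → ℂ)}
    (c₁ : CohWith (seqIndD H₁ L₁ H₁ ⊥) (dadeL (sharp H₁) L₁ R₁) ν₁)
    (c₂ : CohWith (seqIndD H₂ L₂ H₂ ⊥) (dadeL (sharp H₂) L₂ R₂) ν₂) {χ₁ : L₁ → ℂ} {χ₂ : L₂ → ℂ}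
    (i₁ : IsIrrCharacter L₁ χ₁) (s₁ : χ₁ ∈ seqIndD H₁ L₁ H₁ ⊥) (i₂ : IsIrrCharacter L₂ χ₂)
    (s₂ : χ₂ ∈ seqIndD H₂ L₂ H₂ ⊥) : ⟪ν₁ χ₁, ν₂ χ₂⟫ = 0 := by
  have l₁ := dade_sharp_le h₁
  have l₂ := dade_sharp_le h₂
  have e₁ := s07_nu_sub_conj l₁ c₁ s₁
  have e₂ := s07_nu_sub_conj l₂ c₂ s₂
  refine ci_eq_zero_of_split (c₁.isSIrr s₁ i₁) (c₁.isSIrr (conj_seqIndD s₁) i₁.conjFun)
    (c₂.isSIrr s₂ i₂) (c₂.isSIrr (conj_seqIndD s₂) i₂.conjFun) (s := 1) (t := 1) (u := 1) (v := 1)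
    one_ne_zero one_ne_zero ?_ ?_ ?_ ?_ ?_
  · rw [c₁.ci_mem s₁ (conj_seqIndD s₁)]
    exact ci_eq_zero_symm (seqIndD_conj_ortho l₁ (dade_sharp_norm h₁) (dade_sharp_odd ho _) s₁)
  · rw [c₂.ci_mem s₂ (conj_seqIndD s₂)]
    exact ci_eq_zero_symm (seqIndD_conj_ortho l₂ (dade_sharp_norm h₂) (dade_sharp_odd ho _) s₂)
  · simp only [Complex.ofReal_one, one_smul]
    rw [e₁, e₂]
    exact disjoint_Dade_ortho hd _ _
  · have := congrFun e₁ 1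
    rw [dadeL_apply, h₁.dade_one, Pi.sub_apply, sub_eq_zero] at this
    rw [this]
  · have := congrFun e₂ 1
    rw [dadeL_apply, h₂.dade_one, Pi.sub_apply, sub_eq_zero] at this
    rw [this]

theorem seqIndD_nontrivial_of_odd (hHL : H ≤ L) (hn : L ≤ N[H]) (ho : Odd (Nat.card L))
    {K M : Subgroup G} {ζ : L → ℂ} (hζ : ζ ∈ seqIndD H L K M) : (seqIndD H L K M).Nontrivial :=
  ⟨_, conj_seqIndD hζ, _, hζ, seqIndD_conj_ne hHL hn ho hζ⟩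

theorem s07_delta_real (ho : Odd (Nat.card G)) (hD : DadeHypothesis (sharp H) L R)
    {ν : (L → ℂ) →ₗ[ℂ] (G → ℂ)} (hν : CohWith (seqIndD H L H ⊥) (dadeL (sharp H) L R) ν)
    {ζ : L → ℂ} (hζ : IsIrrCharacter L ζ) (hζS : ζ ∈ seqIndD H L H ⊥) :
    conjFun (dadeL (sharp H) L R (cInd L (fun _ : H => (1 : ℂ)) - ζ) - (fun _ => 1) + ν ζ) =
      dadeL (sharp H) L R (cInd L (fun _ : H => (1 : ℂ)) - ζ) - (fun _ => 1) + ν ζ := by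
  have hHL := dade_sharp_le hD
  have hn := dade_sharp_norm hD
  have e := s07_nu_sub_conj hHL hν hζS
  rw [conjFun_add, conjFun_sub, conjFun_one, dadeL_apply, conjFun_dade, conjFun_sub, conjFun_cInd,
    conjFun_one, cfConjC_Dade_coherent hD hν (fun _ h => conj_seqIndD h) hζ hζS
      (seqIndD_conj_ne hHL hn (dade_sharp_odd ho _) hζS), ← dadeL_apply, ← dadeL_apply]
  have : cInd L (fun _ : H => (1 : ℂ)) - conjFun ζ =
      cInd L (fun _ : H => (1 : ℂ)) - ζ + (ζ - conjFun ζ) := by abel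
  rw [this, map_add, ← e]
  abel

/-- (7.9) -/
theorem Dade_sub_lin_nonorthogonal (ho : Odd (Nat.card G)) (h₁ : DadeHypothesis (sharp H₁) L₁ R₁)
    (h₂ : DadeHypothesis (sharp H₂) L₂ R₂)
    (hd : Disjoint (dadeSupp (sharp H₁) R₁) (dadeSupp (sharp H₂) R₂))
    {ν₁ : (L₁ → ℂ) →ₗ[ℂ] (G → ℂ)} {ν₂ : (L₂ → ℂ) →ₗ[ℂ] (G → ℂ)}
    (c₁ : CohWith (seqIndD H₁ L₁ H₁ ⊥) (dadeL (sharp H₁) L₁ R₁) ν₁)
    (c₂ : CohWith (seqIndD H₂ L₂ H₂ ⊥) (dadeL (sharp H₂) L₂ R₂) ν₂) {ζ₁ : L₁ → ℂ} {ζ₂ : L₂ → ℂ}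
    (i₁ : IsIrrCharacter L₁ ζ₁) (s₁ : ζ₁ ∈ seqIndD H₁ L₁ H₁ ⊥) (d₁ : ζ₁ 1 = H₁.relIndex L₁)
    (i₂ : IsIrrCharacter L₂ ζ₂) (s₂ : ζ₂ ∈ seqIndD H₂ L₂ H₂ ⊥) (d₂ : ζ₂ 1 = H₂.relIndex L₂) :
    ⟪dadeL (sharp H₁) L₁ R₁ (cInd L₁ (fun _ : H₁ => (1 : ℂ)) - ζ₁), ν₂ ζ₂⟫ ≠ 0 ∨
    ⟪dadeL (sharp H₂) L₂ R₂ (cInd L₂ (fun _ : H₂ => (1 : ℂ)) - ζ₂), ν₁ ζ₁⟫ ≠ 0 := by
  by_contra hc
  push Not at hc
  have n₁ := s07_nu_one h₁ c₁ (seqIndD_nontrivial_of_odd (dade_sharp_le h₁) (dade_sharp_norm h₁)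
    (dade_sharp_odd ho _) s₁) i₁ s₁ d₁ s₁
  have n₂ := s07_nu_one h₂ c₂ (seqIndD_nontrivial_of_odd (dade_sharp_le h₂) (dade_sharp_norm h₂)
    (dade_sharp_odd ho _) s₂) i₂ s₂ d₂ s₂
  have b₁ := s07_beta_one h₁ s₁ d₁
  have b₂ := s07_beta_one h₂ s₂ d₂
  obtain ⟨n, hn⟩ := cfdot_real_vchar_even ho
    (((s07_beta_virt h₁ s₁ d₁).sub virt_one).add (c₁.virt_mem s₁)) (s07_delta_real ho h₁ c₁ i₁ s₁)
    (((s07_beta_virt h₂ s₂ d₂).sub virt_one).add (c₂.virt_mem s₂)) (s07_delta_real ho h₂ c₂ i₂ s₂)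
  simp only [ci_add_left, ci_add_right, ci_sub_left, ci_sub_right, n₁, n₂, b₁, b₂, hc.1,
    ci_eq_zero_symm hc.2, ci_eq_zero_symm n₂, ci_one_one, disjoint_Dade_ortho hd,
    disjoint_coherent_ortho ho h₁ h₂ hd c₁ c₂ i₁ s₁ i₂ s₂,
    ci_symm_of_int (n := 1) (by exact_mod_cast b₂)] at hn
  have : ((2 * n + 1 : ℤ) : ℂ) = 0 := by push_cast; push_cast at hn; linear_combination -hn
  have h2 : (2 * n + 1 : ℤ) = 0 := by exact_mod_cast this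
  omega

end Cfsg.Agent.PF
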