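import Cfsg.Agent.PF.S03
import Cfsg.Agent.BG.S03c
import Cfsg.Agent.PG.Misc

set_option autoImplicit false
set_option linter.unusedSectionVars false
set_option linter.unusedVariables false

namespace Cfsg.Agent.PF

open Subgroup Cfsg.Agent.GT Cfsg.Agent.BG Cfsg.Agent.Char

universe u v w

/-! Peterfalvi §8, general facts on the types (no minimal counterexample). -/

variable {G : Type u} [Group G] [Finite G]
variable {H K L M R S T U V W₁ W₂ U₀ U₁ : Subgroup G} {A : Set G} {g x y : G} {p : ℕ}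

theorem der_le (M : Subgroup G) : ⁅M, M⁆ ≤ M := commutator_le_of_le_norm_left le_normalizer

theorem le_norm_der (M : Subgroup G) : M ≤ N[⁅M, M⁆] :=
  le_normalizer.trans (norm_le_norm_commutator_self M)

theorem solvable_of_der (h : Group.IsSolvable ↥⁅M, M⁆) : Group.IsSolvable M := by
  refine solvable_of_im (f := coset ⁅M, M⁆) (le_norm_der M) ?_ ?_
  · rw [kr_coset]; exact solv_of_le h inf_le_right
  · exact solvable_of_comm ((comm_quo_iff (le_norm_der M)).2 le_rfl)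

theorem semiregular_isZGroup (h : Semiregular K R) (hn : R ≤ N[K]) (hK : K ≠ ⊥)
    (ho : Odd (Nat.card R)) : IsZGroup R := by
  refine PG.isZGroup_of_rankLE_one ho fun p hp => ?_
  by_contra h'
  obtain ⟨A, hA⟩ := PG.exists_pnElem_of_not_pRankLE hp h'
  have h2 := h.mono le_rfl hA.le
  exact PG.pnElem_two_not_isCyclic hp hA (h2.isCyclic_of_comm hA.comm (hA.le.trans hn)
    (semiregular_coprime h2 (hA.le.trans hn)) hK)

theorem typeF_conj (h : OfTypeF M U) (g : G) : OfTypeF (cj[g] M) (cj[g] U) := by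
  obtain ⟨⟨h1, h2, h3⟩, ⟨U₁, h4, h5, h6, h7⟩, U₀, h8, h9, h10⟩ := h
  rw [OfTypeF, ← conj_fittingHallOf]
  refine ⟨⟨by rwa [Ne, conj_eq_bot_iff], by rwa [Ne, conj_eq_bot_iff], h3.conj g⟩,
    ⟨cj[g] U₁, conj_mono g h4, conj_le_norm_conj_iff.2 h5, isMulCommutative_conj_iff.2 h6, ?_⟩,
    cj[g] U₀, conj_mono g h8, ?_, by rw [← conj_sup]; exact h10.conj g⟩
  · intro x hx hx1
    obtain ⟨y, hy, rfl⟩ := mem_conj_iff_exists.1 hx
    rw [← conj_cent1, ← conj_inf]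
    exact conj_mono g (h7 y hy fun h => hx1 (by simp [h]))
  · rw [exponent_map_inj (conj_hom_injective g), exponent_map_inj (conj_hom_injective g), h9]

theorem _root_.Cfsg.Agent.BG.OfTypeF.conj (h : OfTypeF M U) (g : G) :
    OfTypeF (cj[g] M) (cj[g] U) := typeF_conj h g

theorem Fcore_sdprod_coprime (h : Sdprod MF[M] U M) : (Nat.card MF[M]).Coprime (Nat.card U) :=
  h.relIndex ▸ fittingHallOf_coprime M

theorem Fcore_compl_conj (h : Sdprod MF[M] U M) (h' : Sdprod MF[M] V M) :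
    ∃ x ∈ MF[M], V = cj[x] U :=
  sz_conj (Or.inl (haveI := fittingHallOf_nilpotent M; inferInstance)) h.norm
    (Fcore_sdprod_coprime h) h.compl h'.compl

theorem compl_of_typeF' (h : Sdprod MF[M] U M) (hV : OfTypeF M V) : OfTypeF M U := by
  obtain ⟨x, hx, rfl⟩ := Fcore_compl_conj hV.1.2.2 h
  have := hV.conj x
  rwa [conj_eq_self_of_mem (fittingHallOf_le M hx)] at this

theorem compl_of_typeF (hs : Group.IsSolvable M) (h : Sdprod MF[M] U M) (hV : OfTypeF M V) :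
    OfTypeF M U := compl_of_typeF' h hV

theorem Frobenius_of_typeF (h : Frob MF[M] U M) : OfTypeF M U :=
  ⟨⟨h.ker_ne_bot, h.compl_ne_bot, h.sdprod⟩,
    ⟨⊥, bot_le, by rw [norm_bot]; exact le_top, inferInstance, fun x hx h1 => (h.reg.symm x hx h1).le⟩,
    U, le_rfl, rfl, by rw [h.sdprod.sup_eq]; exact h⟩

theorem selfNormalizing_conj (h : IsSelfNormalizingCyclic W₁ W₂) (g : G) :
    IsSelfNormalizingCyclic (cj[g] W₁) (cj[g] W₂) := by
  obtain ⟨h1, h2, h3, h4, h5, h6⟩ := h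
  refine ⟨by rwa [Ne, conj_eq_bot_iff], by rwa [Ne, conj_eq_bot_iff],
    by rw [← conj_inf, h3, conj_bot], ?_, by rwa [← conj_sup, isCyclic_conj_iff], ?_⟩
  · intro a ha b hb
    obtain ⟨a, ha', rfl⟩ := mem_conj_iff_exists.1 ha
    obtain ⟨b, hb', rfl⟩ := mem_conj_iff_exists.1 hb
    calc g * a * g⁻¹ * (g * b * g⁻¹) = g * (a * b) * g⁻¹ := by group
      _ = g * (b * a) * g⁻¹ := by rw [h4 a ha' b hb']
      _ = _ := by group
  · intro X hX hne
    have := h6 {y | g * y * g⁻¹ ∈ X} (fun y hy => ?_) ?_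
    · rw [← conj_sup, ← this]
      ext z
      rw [mem_conj, mem_set_normalizer_iff, mem_set_normalizer_iff]
      constructor
      · intro h y
        have := h (g * y * g⁻¹)
        simp only [Set.mem_setOf_eq]
        rw [this]
        exact iff_of_eq (congrArg (· ∈ X) (by group))
      · intro h y
        have := h (g⁻¹ * y * g)
        simp only [Set.mem_setOf_eq] at this
        rw [show y = g * (g⁻¹ * y * g) * g⁻¹ by group, this]
        exact iff_of_eq (congrArg (· ∈ X) (by group))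
    · have := hX hy
      rw [← conj_sup] at this
      simpa only [Set.mem_diff, SetLike.mem_coe, Set.mem_union, conj_mem_conj] using this
    · obtain ⟨x, hx⟩ := hne
      exact ⟨g⁻¹ * x * g, by simpa [mul_assoc] using hx⟩

theorem typeP_conj (h : IsTypePWith M W₁ U W₂) (g : G) :
    IsTypePWith (cj[g] M) (cj[g] W₁) (cj[g] U) (cj[g] W₂) where
  W₁_ne := by rw [Ne, conj_eq_bot_iff]; exact h.W₁_ne
  W₁_cyclic := isCyclic_conj_iff.2 h.W₁_cyclic
  W₁_hall := by rw [card_conj, relIndex_conj]; exact h.W₁_hall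
  W₁_compl := by rw [← conj_commutator]; exact h.W₁_compl.conj g
  U_nilpotent := isNilpotent_conj_iff.2 h.U_nilpotent
  U_normal := conj_le_norm_conj_iff.2 h.U_normal
  U_compl := by rw [← conj_commutator, ← conj_fittingHallOf]; exact h.U_compl.conj g
  H_not_cyclic := by rw [← conj_fittingHallOf, isCyclic_conj_iff]; exact h.H_not_cyclic
  derived_two_le := by
    rw [← conj_commutator, ← conj_commutator, ← conj_fittingHallOf, ← conj_centralizer, ← conj_inf,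
      ← conj_sup]
    exact conj_mono g h.derived_two_le
  fitting_eq := by
    rw [← conj_fittingHallOf, ← conj_centralizer, ← conj_inf, ← conj_sup, ← conj_fittingOf,
      h.fitting_eq]
  fitting_le := by rw [← conj_commutator, ← conj_fittingOf]; exact conj_mono g h.fitting_le
  W₂_le := by
    rw [← conj_commutator, ← conj_commutator, ← conj_fittingHallOf, ← conj_inf]
    exact conj_mono g h.W₂_le
  W₂_centralizer := fun x hx hx1 => by
    obtain ⟨y, hy, rfl⟩ := mem_conj_iff_exists.1 hx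
    rw [← conj_commutator, ← conj_cent1, ← conj_inf,
      h.W₂_centralizer y hy fun h => hx1 (by simp [h])]
  selfNormalizing := selfNormalizing_conj h.selfNormalizing g

/-- (8.2)(a) -/
theorem typeF_card_compl (ho : Odd (Nat.card M)) (hs : Group.IsSolvable M) (h : OfTypeF M U)
    (h₀ : U₀ ≤ U) (he : Monoid.exponent U₀ = Monoid.exponent U)
    (hF : Frob MF[M] U₀ (MF[M] ⊔ U₀)) : Nat.card U₀ = Monoid.exponent U := by
  have := semiregular_isZGroup hF.reg hF.sdprod.right_norm hF.ker_ne_bot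
    (odd_card_of_le ho (h₀.trans h.1.2.2.right_le))
  rw [← he, IsZGroup.exponent_eq_card]

/-- (8.2)(b) -/
theorem typeF_Frobenius_iff (ho : Odd (Nat.card M)) (hs : Group.IsSolvable M) (h : OfTypeF M U) :
    Frob MF[M] U M ↔ IsZGroup U := by
  refine ⟨fun hF => semiregular_isZGroup hF.reg hF.sdprod.right_norm hF.ker_ne_bot
    (odd_card_of_le ho h.1.2.2.right_le), fun hZ => ?_⟩
  obtain ⟨U₀, h1, h2, h3⟩ := h.2.2
  have h4 := typeF_card_compl ho hs h h1 h2 h3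
  rw [IsZGroup.exponent_eq_card] at h4
  obtain rfl : U₀ = U := eq_of_le_of_card_ge h1 h4.ge
  rwa [h.1.2.2.sup_eq] at h3

/-- an irreducible character fixed by an element without non-trivial fixed points is trivial -/
theorem irr_eq_one_of_cConj {θ : K → ℂ} (hθ : IsIrrCharacter K θ) (hy : y ∈ N[K])
    (hc : K ⊓ C1[y] = ⊥) (hf : cConj θ y = θ) : θ = fun _ => 1 := by
  let σ : MulAut K := K.normalizerMonoidHom ⟨y, hy⟩
  have hσ : ∀ k : K, ((σ k : K) : G) = y * k * y⁻¹ := fun _ => rfl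
  refine eq_one_of_brauer σ (fun χ hχ => hχ.comp_surjective σ.toMonoidHom σ.surjective)
    (fun k hk => exists_conj_of_reg σ (fun k hk => ?_) hk.symm) hθ ?_
  · have : (k : G) ∈ K ⊓ C1[y] := ⟨k.2, mem_cent1.2 ?_⟩
    · rw [hc, mem_bot] at this; exact Subtype.ext this
    · have := congrArg Subtype.val hk
      rw [hσ] at this
      calc (k : G) * y = y * k * y⁻¹ * y := by rw [this]
        _ = _ := by group
  · funext k
    conv_rhs => rw [← hf, cConj_apply θ hy]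
    rfl

/-- (8.2)(c) -/
theorem typeF_inertia (h : OfTypeF M U) (h₁ : ∀ x ∈ MF[M], x ≠ 1 → U ⊓ C1[x] ≤ U₁)
    {θ : MF[M] → ℂ} (hθ : IsIrrCharacter MF[M] θ) (hne : θ ≠ fun _ => 1) :
    cInertia U θ ≤ U₁ := by
  intro y hy
  obtain ⟨hyU, hyn, hf⟩ := mem_cInertia.1 hy
  by_contra hn
  refine hne (irr_eq_one_of_cConj hθ hyn (eq_bot_iff.2 fun x hx => mem_bot.2 ?_) hf)
  by_contra hx1
  exact hn (h₁ x hx.1 hx1 ⟨hyU, mem_cent1_comm.1 hx.2⟩)

theorem typeP_sdprod (h : IsTypePWith M W₁ U W₂) : Sdprod ⁅M, M⁆ W₁ M :=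
  ⟨h.W₁_compl, le_norm_der M⟩
theorem typeP_sdprod_der (h : IsTypePWith M W₁ U W₂) : Sdprod MF[M] U ⁅M, M⁆ :=
  ⟨h.U_compl, (der_le M).trans (self_le_norm_fittingHallOf M)⟩
theorem typeP_W₁_le (h : IsTypePWith M W₁ U W₂) : W₁ ≤ M := h.W₁_compl.right_le
theorem typeP_U_le_der (h : IsTypePWith M W₁ U W₂) : U ≤ ⁅M, M⁆ := h.U_compl.right_le
theorem typeP_U_le (h : IsTypePWith M W₁ U W₂) : U ≤ M := h.U_compl.right_le.trans (der_le M)
theorem typeP_Fcore_le_der (h : IsTypePWith M W₁ U W₂) : MF[M] ≤ ⁅M, M⁆ := h.U_compl.left_le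
theorem typeP_sdprod_UW (h : IsTypePWith M W₁ U W₂) : Sdprod U W₁ (U ⊔ W₁) :=
  sdprod_sup h.U_normal (eq_bot_iff.2 (h.W₁_compl.inf_eq ▸ inf_le_inf_right _ (typeP_U_le_der h)))
theorem typeP_sdprod_Fcore (h : IsTypePWith M W₁ U W₂) : Sdprod MF[M] (U ⊔ W₁) M := by
  refine sdprod_mk ((sup_le (typeP_U_le h) (typeP_W₁_le h)).trans (self_le_norm_fittingHallOf M))
    ?_ (by rw [← sup_assoc, h.U_compl.sup_eq, h.W₁_compl.sup_eq])
  have h1 : (U ⊔ W₁) ⊓ ⁅M, M⁆ = U := by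
    rw [dedekind (Or.inr h.U_normal) (typeP_U_le_der h), inf_comm, h.W₁_compl.inf_eq, sup_bot_eq]
  rw [eq_bot_iff, ← h.U_compl.inf_eq]
  exact le_inf inf_le_left ((le_inf inf_le_right (inf_le_left.trans (typeP_Fcore_le_der h))).trans
    h1.le)
theorem typeP_dprod (h : IsTypePWith M W₁ U W₂) : Dprod W₁ W₂ (W₁ ⊔ W₂) :=
  dprod_sup (fun a ha b hb => (h.selfNormalizing.2.2.2.1 a ha b hb).symm) h.selfNormalizing.2.2.1
theorem typeP_W₂_ne (h : IsTypePWith M W₁ U W₂) : W₂ ≠ ⊥ := h.selfNormalizing.2.1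
theorem typeP_W_cyclic (h : IsTypePWith M W₁ U W₂) : IsCyclic ↥(W₁ ⊔ W₂) :=
  h.selfNormalizing.2.2.2.2.1
theorem typeP_W₂_cyclic (h : IsTypePWith M W₁ U W₂) : IsCyclic W₂ :=
  cyc_of_le (typeP_W_cyclic h) le_sup_right
theorem typeP_W₂_le_Fcore (h : IsTypePWith M W₁ U W₂) : W₂ ≤ MF[M] := h.W₂_le.trans inf_le_left
theorem typeP_W₂_le_der2 (h : IsTypePWith M W₁ U W₂) : W₂ ≤ ⁅⁅M, M⁆, ⁅M, M⁆⁆ :=
  h.W₂_le.trans inf_le_right
theorem typeP_W₂_le_der (h : IsTypePWith M W₁ U W₂) : W₂ ≤ ⁅M, M⁆ :=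
  (typeP_W₂_le_Fcore h).trans (typeP_Fcore_le_der h)
theorem typeP_W₂_le (h : IsTypePWith M W₁ U W₂) : W₂ ≤ M := (typeP_W₂_le_der h).trans (der_le M)
theorem typeP_W_le (h : IsTypePWith M W₁ U W₂) : W₁ ⊔ W₂ ≤ M :=
  sup_le (typeP_W₁_le h) (typeP_W₂_le h)
theorem typeP_Fcore_ne (h : IsTypePWith M W₁ U W₂) : MF[M] ≠ ⊥ :=
  ne_bot_of_le (typeP_W₂_ne h) (typeP_W₂_le_Fcore h)
theorem typeP_coprime (h : IsTypePWith M W₁ U W₂) :
    (Nat.card ↥⁅M, M⁆).Coprime (Nat.card W₁) := h.W₁_compl.relIndex_right ▸ h.W₁_hall.symm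
theorem typeP_coprime_HU (h : IsTypePWith M W₁ U W₂) :
    (Nat.card MF[M]).Coprime (Nat.card ↥(U ⊔ W₁)) := Fcore_sdprod_coprime (typeP_sdprod_Fcore h)
theorem typeP_coprime_U (h : IsTypePWith M W₁ U W₂) : (Nat.card MF[M]).Coprime (Nat.card U) :=
  coprime_card_of_le (typeP_coprime_HU h) le_rfl le_sup_left
theorem typeP_coprime_W₁ (h : IsTypePWith M W₁ U W₂) : (Nat.card MF[M]).Coprime (Nat.card W₁) :=
  coprime_card_of_le (typeP_coprime_HU h) le_rfl le_sup_right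
theorem typeP_coprime_UW (h : IsTypePWith M W₁ U W₂) : (Nat.card U).Coprime (Nat.card W₁) :=
  coprime_card_of_le (typeP_coprime h) (typeP_U_le_der h) le_rfl
theorem typeP_cent_compl (h : IsTypePWith M W₁ U W₂) : ⁅M, M⁆ ⊓ C[W₁] = W₂ := by
  obtain ⟨x, hx, hx1⟩ := exists_ne_one_of_ne_bot h.W₁_ne
  exact le_antisymm (h.W₂_centralizer x hx hx1 ▸ inf_le_inf_left _ (cent_le_cent1 hx))
    (le_inf (typeP_W₂_le_der h) (typeP_dprod h).cent')
theorem typeP_cent_core_compl (h : IsTypePWith M W₁ U W₂) : MF[M] ⊓ C[W₁] = W₂ :=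
  le_antisymm (typeP_cent_compl h ▸ inf_le_inf_right _ (typeP_Fcore_le_der h))
    (le_inf (typeP_W₂_le_Fcore h) (typeP_dprod h).cent')
theorem typeP_cent1_core (h : IsTypePWith M W₁ U W₂) (hx : x ∈ W₁) (hx1 : x ≠ 1) :
    MF[M] ⊓ C1[x] = W₂ :=
  le_antisymm (h.W₂_centralizer x hx hx1 ▸ inf_le_inf_right _ (typeP_Fcore_le_der h))
    (le_inf (typeP_W₂_le_Fcore h) ((typeP_dprod h).cent'.trans (cent_le_cent1 hx)))
theorem typeP_semiprime (h : IsTypePWith M W₁ U W₂) : Semiprime ⁅M, M⁆ W₁ := fun x hx hx1 => by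
  rw [h.W₂_centralizer x hx hx1, typeP_cent_compl h]
theorem typeP_regular_U (h : IsTypePWith M W₁ U W₂) : Semiregular U W₁ := fun x hx hx1 => by
  rw [eq_bot_iff, ← h.U_compl.inf_eq]
  refine le_inf (le_trans ?_ (typeP_W₂_le_Fcore h)) inf_le_left
  exact h.W₂_centralizer x hx hx1 ▸ inf_le_inf_right _ (typeP_U_le_der h)
theorem typeP_Frobenius_UW (h : IsTypePWith M W₁ U W₂) (hU : U ≠ ⊥) : Frob U W₁ (U ⊔ W₁) :=
  frob_sup h.U_normal hU h.W₁_ne (typeP_regular_U h)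
theorem typeP_der2_le_Fitting (h : IsTypePWith M W₁ U W₂) : ⁅⁅M, M⁆, ⁅M, M⁆⁆ ≤ F[M] :=
  h.fitting_eq ▸ h.derived_two_le
theorem typeP_solvable (h : IsTypePWith M W₁ U W₂) : Group.IsSolvable M :=
  solvable_of_der (solvable_of_der (solv_of_le (fittingOf_solvable M) (typeP_der2_le_Fitting h)))
theorem typeP_inf_Fitting (h : IsTypePWith M W₁ U W₂) : U ⊓ F[M] = U ⊓ C[MF[M]] := by
  refine le_antisymm (le_inf inf_le_left ?_) (le_inf inf_le_left ?_)
  · exact le_cent_of_nilpotent_of_coprime (fittingOf_nilpotent M) inf_le_right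
      (fittingHallOf_le_fittingOf M)
      (coprime_card_of_le (typeP_coprime_U h).symm inf_le_left le_rfl)
  · rw [← h.fitting_eq]
    exact le_sup_of_le_right (inf_le_inf_right _ (typeP_U_le h))
/-- (8.5)(a) -/
theorem typeP_Fitting (h : IsTypePWith M W₁ U W₂) : Dprod MF[M] (U ⊓ C[MF[M]]) F[M] := by
  have := (typeP_sdprod_der h).inf_of_left_le (fittingHallOf_le_fittingOf M)
  rw [inf_eq_right.2 h.fitting_le, typeP_inf_Fitting h] at this
  exact this.dprod (le_cent_symm inf_le_right)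
/-- (8.5)(b) -/
theorem typeP_der_cent (h : IsTypePWith M W₁ U W₂) : ⁅U, U⁆ ≤ C[MF[M]] := by
  refine le_trans ?_ ((typeP_inf_Fitting h).le.trans inf_le_right)
  exact le_inf (der_le U) ((commutator_mono (typeP_U_le_der h) (typeP_U_le_der h)).trans
    (typeP_der2_le_Fitting h))
theorem typeP_der_hall (h : IsTypePWith M W₁ U W₂) :
    IsPiHallOf (piOf (Nat.card ↥⁅M, M⁆)) ⁅M, M⁆ M :=
  isPiHallOf_piOf_of_isComplIn h.W₁_compl (typeP_coprime h)
theorem typeP_W₁_hall (h : IsTypePWith M W₁ U W₂) : IsPiHallOf (piOf (Nat.card W₁)) W₁ M :=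
  isPiHallOf_piOf (typeP_W₁_le h) h.W₁_hall
theorem typeP_not_cent (h : IsTypePWith M W₁ U W₂) (hU : U ≠ ⊥) : ¬ U ≤ C[MF[M]] := by
  intro hc
  have h1 : Group.IsNilpotent ↥⁅M, M⁆ := by
    rw [← h.U_compl.sup_eq]
    exact nilpotent_sup_of_le_cent (fittingHallOf_nilpotent M) h.U_nilpotent (le_cent_symm hc)
  have h2 := le_fittingHallOf (typeP_der_hall h) (le_norm_der M) h1
  exact hU (eq_bot_iff.2 (h.U_compl.inf_eq ▸ le_inf ((typeP_U_le_der h).trans h2) le_rfl))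

theorem selfNormalizing_normedTI (h : IsSelfNormalizingCyclic W₁ W₂) :
    NormedTI (cycTI W₁ W₂) ⊤ (W₁ ⊔ W₂) := by
  have hT := cycTI_of_isSelfNormalizingCyclic h
  obtain ⟨h1, h2, hi, hc, hcyc, -⟩ := h
  obtain ⟨a, ha, ha1⟩ := exists_ne_one_of_ne_bot h1
  obtain ⟨b, hb, hb1⟩ := exists_ne_one_of_ne_bot h2
  refine ⟨⟨a * b, mul_mem (mem_sup_left ha) (mem_sup_right hb), fun h => hb1 ?_, fun h => ha1 ?_⟩,
    le_top, fun x hx g _ => ⟨fun hg => ?_, fun hg => ?_⟩⟩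
  · exact mem_bot.1 (hi ▸ ⟨(mul_mem_cancel_left ha).1 h, hb⟩)
  · exact mem_bot.1 (hi ▸ ⟨ha, (mul_mem_cancel_right hb).1 h⟩)
  · have := hT.TI ⟨x, hx.1⟩ hx.2.1 hx.2.2 g⁻¹ ⟨_, hg.1⟩ (by simp)
    rwa [range_subtype, inv_mem_iff] at this
  · rw [isMulCommutative_iff_forall.1 (isMulCommutative_of_isCyclic hcyc) g hg x hx.1]
    simpa using hx

/-- (8.5)(c) -/
theorem typeP_normedTI (h : IsTypePWith M W₁ U W₂) : NormedTI (cycTI W₁ W₂) ⊤ (W₁ ⊔ W₂) :=
  selfNormalizing_normedTI h.selfNormalizing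

theorem compl_of_typeP (h : IsTypePWith M W₁ V W₂) (hU : Sdprod MF[M] U ⁅M, M⁆) (hn : W₁ ≤ N[U]) :
    IsTypePWith M W₁ U W₂ :=
  { h with
    U_nilpotent := by
      obtain ⟨e⟩ := hU.nonempty_equiv_quo
      obtain ⟨e'⟩ := (typeP_sdprod_der h).nonempty_equiv_quo
      exact isNilpotent_of_equiv (e'.trans e.symm) h.U_nilpotent
    U_normal := hn
    U_compl := hU.compl }

theorem typePF_exclusion' (h : IsTypePWith M W₁ U W₂) : ¬ OfTypeF M K := by
  rintro ⟨⟨-, -, hK⟩, -, U₀, h0, he, hF⟩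
  obtain ⟨p, hp, hd⟩ := exists_prime_dvd_card h.W₁_ne
  have h1 : p ∣ Nat.card K := by
    rw [← hK.relIndex, (typeP_sdprod_Fcore h).relIndex]
    exact hd.trans (card_dvd_of_le le_sup_right)
  have h2 : p ∣ Nat.card U₀ := by
    obtain ⟨x, hx, ho⟩ := exists_mem_orderOf_eq hp h1
    have : p ∣ Monoid.exponent K := by
      rw [← ho, ← orderOf_mk x hx]; exact Monoid.order_dvd_exponent _
    rw [← he] at this
    exact this.trans Group.exponent_dvd_nat_card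
  obtain ⟨x, hx, ho⟩ := exists_mem_orderOf_eq hp h2
  have hxM : x ∈ M := hK.right_le (h0 hx)
  obtain ⟨a, ha, hle⟩ := (typeP_W₁_hall h).exists_conj_le (typeP_solvable h) (zpowers_le.2 hxM)
    (isPiSubgroup_zpowers_iff.2 (ho ▸ (piNat_prime hp).2 ⟨hp, hd⟩))
  have hx1 : x ≠ 1 := fun h => hp.one_lt.ne' (by rw [← ho, h, orderOf_one])
  have h3 := typeP_cent1_core h (hle (conj_mem_conj.2 (mem_zpowers x))) (by simpa using hx1)
  rw [← conj_cent1, ← conj_eq_self (self_le_norm_fittingHallOf M ha), ← conj_inf, hF.reg x hx hx1,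
    conj_bot] at h3
  exact typeP_W₂_ne h h3.symm

theorem typePF_exclusion (ho : Odd (Nat.card M)) (h : IsTypePWith M W₁ U W₂) : ¬ OfTypeF M K :=
  typePF_exclusion' h

theorem of_typeP_compl_conj' (h : IsTypePWith M W₁ U W₂) (hK : Sdprod ⁅M, M⁆ K M) :
    ∃ x ∈ ⁅M, M⁆, K = cj[x] W₁ :=
  sz_conj (Or.inr (solvable_of_comm (isMulCommutative_of_isCyclic h.W₁_cyclic))) (le_norm_der M)
    (typeP_coprime h) h.W₁_compl hK.compl

theorem of_typeP_compl_conj (h : IsTypePWith M W₁ U W₂) (hK : Sdprod ⁅M, M⁆ K M) :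
    ∃ x ∈ M, K = cj[x] W₁ :=
  let ⟨x, hx, e⟩ := of_typeP_compl_conj' h hK; ⟨x, der_le M hx, e⟩

theorem typeP_U_hall (h : IsTypePWith M W₁ U W₂) :
    IsPiHallOf (piOf (Nat.card MF[M]))ᶜ U ⁅M, M⁆ :=
  ((isPiHallOf_fittingHallOf M).of_le (typeP_Fcore_le_der h) (der_le M)).compl h.U_compl

theorem of_typeP_conj {W₁' U' W₂' : Subgroup G} (h : IsTypePWith M W₁ U W₂)
    (h' : IsTypePWith M W₁' U' W₂') :
    ∃ x ∈ M, U' = cj[x] U ∧ W₁' = cj[x] W₁ ∧ W₂' = cj[x] W₂ := by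
  obtain ⟨x, hx, rfl⟩ := of_typeP_compl_conj h (typeP_sdprod h')
  have h1 := typeP_conj h x
  rw [conj_eq_self_of_mem hx] at h1
  obtain ⟨c, hc, e⟩ := coprime_hall_conj (solv_of_le (typeP_solvable h) (der_le M))
    ((typeP_W₁_le h').trans (le_norm_der M)) (typeP_coprime h') (typeP_U_hall h1) (typeP_U_hall h')
    h1.U_normal h'.U_normal
  have e2 : W₂' = cj[x] W₂ := by rw [← typeP_cent_compl h', typeP_cent_compl h1]
  refine ⟨c * x, mul_mem (der_le M hc.1) hx, by rw [mul_conj, e], ?_, ?_⟩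
  · rw [mul_conj, conj_eq_self_of_mem_cent hc.2]
  · rw [mul_conj, ← e2, conj_eq_self_of_mem (typeP_cent_compl h' ▸ hc)]

theorem selfNormalizing_coprime (h : IsSelfNormalizingCyclic W₁ W₂) :
    (Nat.card W₁).Coprime (Nat.card W₂) := by
  have hc : W₁ ≤ C[W₂] := fun a ha b hb => (h.2.2.2.1 a ha b hb).symm
  letI := Fintype.ofFinite G
  have := (isCyclic_prod_iff_sup hc h.2.2.1).2 h.2.2.2.2.1
  exact coprime_card_of_isCyclic_prod W₁ W₂

theorem typeP_W₂_eq {W₂' : Subgroup G} (hW : IsSelfNormalizingCyclic W₁ W₂) (h₂ : W₂ ≤ M)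
    (h : IsTypePWith M W₁ U W₂') : W₂' = W₂ := by
  have hc : W₂ ≤ C[W₁] := fun a ha b hb => hW.2.2.2.1 b hb a ha
  have h1 : W₂ ≤ ⁅M, M⁆ := ((typeP_W₁_hall h).compl h.W₁_compl.symm).le_of_normal (le_norm_der M) h₂
    (isPiSubgroup_piOf_compl_iff.2 (selfNormalizing_coprime hW).symm)
  have h2 : W₂ ≤ W₂' := typeP_cent_compl h ▸ le_inf h1 hc
  refine le_antisymm ?_ h2
  obtain ⟨v, hv⟩ := (selfNormalizing_normedTI hW).nonempty
  have h3 : W₂' ≤ W₁ ⊔ W₂ := by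
    refine le_trans ?_ ((selfNormalizing_normedTI hW).cent1_le hv)
    refine le_inf le_top (le_trans le_sup_right (le_trans
      (comm_iff_le_cent.1 (isMulCommutative_of_isCyclic (typeP_W_cyclic h))) (cent_le_cent1 ?_)))
    exact sup_le_sup_left h2 _ hv.1
  have h4 : (W₁ ⊔ W₂) ⊓ ⁅M, M⁆ = W₂ := by
    rw [dedekind' (Or.inr (le_norm_of_cent hc)) h1, inf_comm, h.W₁_compl.inf_eq, bot_sup_eq]
  exact h4 ▸ le_inf h3 (typeP_W₂_le_der h)

end Cfsg.Agent.PF
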