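import Cfsg.Agent.PF.S07
import Cfsg.Agent.PF.S08a
import Cfsg.Agent.BG.S16

set_option autoImplicit false
set_option linter.unusedSectionVars false
set_option linter.unusedVariables false

namespace Cfsg.Agent.PF

open Subgroup Cfsg.Agent.GT Cfsg.Agent.BG Cfsg.Agent.Char

universe u v w

/-! Peterfalvi §8. -/

variable {G : Type u} [Group G] [Fintype G]
variable {H K L M S T U V W₁ W₂ U₀ U₁ : Subgroup G} {A : Set G} {g x y : G} {p : ℕ}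

theorem FTDadeSupp_eq (M : Subgroup G) (A : Set G) :
    FTDadeSupp M A = dadeSupp A (FTsignalizer M) := by
  ext g
  exact ⟨fun ⟨a, ha, r, hr, y, e⟩ => ⟨a, ha, r, hr, y⁻¹, by rw [e]; group⟩,
    fun ⟨a, ha, r, hr, y, e⟩ => ⟨a, ha, r, hr, y⁻¹, by rw [← e]; group⟩⟩

theorem frob_cent1_le (h : Frob K H M) (hx : x ∈ K) (hx1 : x ≠ 1) : M ⊓ C1[x] ≤ K := by
  have hK := isPiHallOf_piOf_of_isComplIn h.sdprod.compl
    (semiregular_coprime h.reg h.sdprod.right_norm)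
  refine hK.le_of_normal h.sdprod.norm inf_le_left fun p hp hd => ?_
  by_contra hπ
  obtain ⟨y, hy, ho⟩ := exists_mem_orderOf_eq hp hd
  obtain ⟨P, hP⟩ := exists_syl hp H
  obtain ⟨g, hg, hle⟩ := syl_exists_conj_le hp (hP.trans_single (hK.compl h.sdprod.compl) hπ)
    ((isPGroup_zpowers_iff hp).2 (by rw [ho]; exact piNat_single_self hp)) (zpowers_le.2 hy.1)
  have hy1 : y ≠ 1 := fun h => hp.one_lt.ne' (by rw [← ho, h, orderOf_one])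
  have h1 := h.reg _ (hP.le (hle (conj_mem_conj.2 (mem_zpowers y)))) (by simpa using hy1)
  have h2 : g * x * g⁻¹ ∈ K ⊓ C1[g * y * g⁻¹] := ⟨conj_mem_of_le_norm h.sdprod.norm hg hx, by
    rw [← conj_cent1]; exact conj_mem_conj.2 (mem_cent1_comm.1 hy.2)⟩
  rw [h1, mem_bot] at h2
  exact hx1 (by simpa using h2)

theorem FTsignalizer_of_le (h : C1[x] ≤ M) : FTsignalizer M x = ⊥ := if_pos h

theorem FTsignalizer_of_not_le (h : ¬ C1[x] ≤ M) :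
    FTsignalizer M x = MF[sigN x] ⊓ C1[x] := if_neg h

theorem kappaCompl_conj (h : KappaCompl M U K) (hg : g ∈ M) :
    KappaCompl M (cj[g] U) (cj[g] K) := by
  refine ⟨h.1.conj_of_mem hg, h.2.1.conj_of_mem hg, fun x hx => ?_⟩
  rw [← conj_sup] at hx
  obtain ⟨y, hy, rfl⟩ := mem_conj_iff_exists.1 hx
  obtain ⟨a, ha, b, hb, rfl⟩ := h.2.2 y hy
  exact ⟨_, conj_mem_conj.2 ha, _, conj_mem_conj.2 hb, by group⟩

theorem mem_FTsupp_of_mem_zpowers (hx : x ∈ FTsupp M) (hy : y ∈ zpowers x) (hy1 : y ≠ 1) :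
    y ∈ FTsupp M :=
  let ⟨h1, _, z, hz, hz1, h2⟩ := hx
  ⟨zpowers_le.2 h1 hy, hy1, z, hz, hz1, zpowers_le.2 h2 hy⟩

variable [MFT G]

theorem typeP_cycTI (h : IsTypePWith M W₁ U W₂) : CycTI (wG W₁ W₂) :=
  cycTI_of_selfNormalizing h.selfNormalizing ((mFT_odd _).mul (mFT_odd _))
theorem FT_primeTI_hyp (h : IsTypePWith M W₁ U W₂) : PrimeTI M ⁅M, M⁆ W₁ W₂ :=
  ⟨typeP_sdprod h, h.W₁_ne, typeP_coprime h, h.W₁_cyclic, typeP_W₂_ne h, typeP_W₂_le_der h,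
    typeP_W₂_cyclic h, h.W₂_centralizer, (mFT_odd _).mul (mFT_odd _)⟩

theorem FTtypeP_neq1 (hM : IsCoatom M) (h : IsTypePWith M W₁ U W₂) : FTtype M ≠ 1 :=
  (FTtype_Pmax hM).1 (typePfacts hM h).1
theorem FTtypeP_witness (hM : IsCoatom M) (h : FTtype M ≠ 1) :
    ∃ W₁ U W₂, IsTypePWith M W₁ U W₂ :=
  let ⟨K, hK⟩ := exists_hall (kappa M) (mmax_sol hM)
  let ⟨U, hU⟩ := exists_typeP ((FTtype_Pmax hM).2 h) hK
  ⟨K, U, _, hU⟩
theorem FTtype1_witness (hM : IsCoatom M) (h : FTtype M = 1) : ∃ U, OfTypeI M U :=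
  (FTtypeP hM 1).1 h
theorem compl_of_typeI (hM : IsCoatom M) (h : FTtype M = 1) (hU : Sdprod MF[M] U M) :
    OfTypeI M U := by
  obtain ⟨V, hV, h'⟩ := FTtype1_witness hM h
  refine ⟨compl_of_typeF' hU hV, ?_⟩
  obtain ⟨x, -, rfl⟩ := Fcore_compl_conj hV.1.2.2 hU
  rwa [exponent_map_inj (conj_hom_injective x)]

theorem compl_of_typeII_IV' {W₁' U' W₂' : Subgroup G} (h : IsTypePWith M W₁ U W₂)
    (h' : OfTypeII_IV M W₁' U' W₂') : OfTypeII_IV M W₁ U W₂ ∧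
      (IsMulCommutative U' ↔ IsMulCommutative U) ∧ (N[U'] ≤ M ↔ N[U] ≤ M) := by
  obtain ⟨x, hx, rfl, rfl, rfl⟩ := of_typeP_conj h h'.1
  refine ⟨⟨h, fun e => h'.2.1 (by rw [e, conj_bot]), card_conj x W₁ ▸ h'.2.2.1, h'.2.2.2⟩,
    isMulCommutative_conj_iff, ?_⟩
  rw [← conj_normalizer, conj_le_iff, conj_eq_self_of_mem (M.inv_mem hx)]

theorem compl_of_typeII_IV (hM : IsCoatom M) (h : IsTypePWith M W₁ U W₂) (h5 : FTtype M ≠ 5) :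
    OfTypeII_IV M W₁ U W₂ := by
  have h1 := FTtypeP_neq1 hM h
  have h2 := FTtype_range M
  obtain ht | ht | ht : FTtype M = 2 ∨ FTtype M = 3 ∨ FTtype M = 4 := by omega
  all_goals
    obtain ⟨_, _, _, h', -⟩ := (FTtypeP hM _).1 ht
    exact (compl_of_typeII_IV' h h').1
theorem compl_of_typeII (hM : IsCoatom M) (h : IsTypePWith M W₁ U W₂) (ht : FTtype M = 2) :
    OfTypeII M W₁ U W₂ := by
  obtain ⟨_, _, _, h', h1, h2, h3, h4⟩ := (FTtypeP hM _).1 ht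
  obtain ⟨h5, h6, h7⟩ := compl_of_typeII_IV' h h'
  exact ⟨h5, h6.1 h1, mt h7.2 h2, compl_of_typeF' (h4 ▸ typeP_sdprod_der h) h3, h4⟩
theorem compl_of_typeIII (hM : IsCoatom M) (h : IsTypePWith M W₁ U W₂) (ht : FTtype M = 3) :
    OfTypeIII M W₁ U W₂ := by
  obtain ⟨_, _, _, h', h1, h2⟩ := (FTtypeP hM _).1 ht
  obtain ⟨h5, h6, h7⟩ := compl_of_typeII_IV' h h'
  exact ⟨h5, h6.1 h1, h7.1 h2⟩
theorem compl_of_typeIV (hM : IsCoatom M) (h : IsTypePWith M W₁ U W₂) (ht : FTtype M = 4) :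
    OfTypeIV M W₁ U W₂ := by
  obtain ⟨_, _, _, h', h1, h2⟩ := (FTtypeP hM _).1 ht
  obtain ⟨h5, h6, h7⟩ := compl_of_typeII_IV' h h'
  exact ⟨h5, mt h6.2 h1, h7.1 h2⟩
theorem compl_of_typeV (hM : IsCoatom M) (h : IsTypePWith M W₁ U W₂) (ht : FTtype M = 5) :
    OfTypeV M W₁ U W₂ := by
  obtain ⟨_, _, _, h', h1, h2⟩ := (FTtypeP hM _).1 ht
  obtain ⟨x, hx, rfl, rfl, rfl⟩ := of_typeP_conj h h'
  exact ⟨h, conj_eq_bot_iff.1 h1, by rwa [card_conj] at h2⟩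
theorem typeP_norm_compl (hM : IsCoatom M) (h : IsTypePWith M W₁ U W₂) (h5 : FTtype M ≠ 5) :
    N[U] ≤ M ↔ FTtype M ≠ 2 := by
  have h1 := FTtypeP_neq1 hM h
  have h2 := FTtype_range M
  refine ⟨fun hn ht => (compl_of_typeII hM h ht).2.2.1 hn, fun ht => ?_⟩
  obtain ht | ht : FTtype M = 3 ∨ FTtype M = 4 := by omega
  exacts [(compl_of_typeIII hM h ht).2.2, (compl_of_typeIV hM h ht).2.2]

theorem FT_Frobenius_type1 (hM : IsCoatom M) (h : FrobKer M MF[M]) : FTtype M = 1 := by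
  by_contra h1
  obtain ⟨_, _, _, hP⟩ := FTtypeP_witness hM h1
  obtain ⟨R, hR⟩ := h
  exact typePF_exclusion' hP (Frobenius_of_typeF hR)
theorem FTsupp1_type12 (h : FTtype M ≤ 2) : FTsupp1 M = sharp MF[M] := by
  rw [FTsupp1, FTcore_type12 h]
theorem FTsupp_Frobenius (hM : IsCoatom M) (h : FrobKer M MF[M]) : FTsupp M = sharp MF[M] := by
  have h1 := FT_Frobenius_type1 hM h
  refine Set.Subset.antisymm ?_ ((Fcore_sub_FTsupp1 hM).trans (FTsupp1_sub hM))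
  rintro a ⟨ha, ha1, x, hx, hx1, hc⟩
  obtain ⟨R, hR⟩ := h
  rw [FTcore_type12 (by omega)] at hx
  exact ⟨frob_cent1_le hR hx hx1 ⟨FTder_le M ha, hc⟩, ha1⟩
theorem FTsupp0_Frobenius (hM : IsCoatom M) (h : FrobKer M MF[M]) :
    FTsupp0 M = sharp MF[M] := by
  rw [FTsupp0_type1 (FT_Frobenius_type1 hM h), FTsupp_Frobenius hM h]
theorem FTsupp1_type_gt2 (h : 2 < FTtype M) : FTsupp1 M = sharp ⁅M, M⁆ := by
  rw [FTsupp1, FTcore_type_gt2 h]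
theorem FTsupp_type_gt2 (hM : IsCoatom M) (h : 2 < FTtype M) : FTsupp M = sharp ⁅M, M⁆ := by
  rw [FTsupp_eq1 hM h, FTsupp1_type_gt2 h]
theorem FTsupp1_eq (hM : IsCoatom M) : FTsupp1 M = sharp Mσ[M] := by rw [FTsupp1, def_FTcore hM]
theorem FTsupp1_sub0 (hM : IsCoatom M) : FTsupp1 M ⊆ FTsupp0 M :=
  (FTsupp1_sub hM).trans (FTsupp_sub0 M)
theorem Fcore_sub_FTsupp (hM : IsCoatom M) : sharp MF[M] ⊆ FTsupp M :=
  (Fcore_sub_FTsupp1 hM).trans (FTsupp1_sub hM)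
theorem Fcore_sub_FTsupp0 (hM : IsCoatom M) : sharp MF[M] ⊆ FTsupp0 M :=
  (Fcore_sub_FTsupp hM).trans (FTsupp_sub0 M)

/-- (8.8) -/
theorem FTtypeP_pair_cases : (∀ M : Subgroup G, IsCoatom M → FTtype M = 1) ∨
    ∃ S T W₁ W₂ : Subgroup G, TypePPair S T W₁ W₂ :=
  BGsummaryI.imp_right fun ⟨S, T, W₁, W₂, U, V, h1, h2, h3, h4, h5, h6, h7, _⟩ =>
    ⟨S, T, W₁, W₂, h1, h2, h5, ⟨U, h3⟩, ⟨V, h4⟩, h7, h6⟩
omit [MFT G] in
theorem TypePPair.symm (h : TypePPair S T W₁ W₂) : TypePPair T S W₂ W₁ :=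
  ⟨h.maxT, h.maxS, by rw [inf_comm, h.inf, sup_comm], h.typeT, h.typeS, h.type2.symm,
    fun M hM h1 => (h.all M hM h1).symm⟩
theorem TypePPair.conj (h : TypePPair S T W₁ W₂) (g : G) :
    TypePPair (cj[g] S) (cj[g] T) (cj[g] W₁) (cj[g] W₂) :=
  ⟨isCoatom_conj g h.maxS, isCoatom_conj g h.maxT, by rw [← conj_inf, h.inf, conj_sup],
    let ⟨_, h⟩ := h.typeS; ⟨_, typeP_conj h g⟩, let ⟨_, h⟩ := h.typeT; ⟨_, typeP_conj h g⟩,
    by rw [FTtype_conj, FTtype_conj]; exact h.type2,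
    fun M hM h1 => (h.all M hM h1).imp (conjg_conj g S).symm.trans (conjg_conj g T).symm.trans⟩
theorem TypePPair.cycTI (h : TypePPair S T W₁ W₂) : CycTI (wG W₁ W₂) :=
  let ⟨_, h⟩ := h.typeS; typeP_cycTI h
theorem TypePPair.not_conj (h : TypePPair S T W₁ W₂) : ¬ Conjg S T := by
  rintro ⟨g, rfl⟩
  obtain ⟨U, hU⟩ := h.typeS
  obtain ⟨V, hV⟩ := h.typeT
  have h1 := selfNormalizing_coprime hU.selfNormalizing
  rw [← (typeP_sdprod hV).relIndex, ← conj_commutator, relIndex_conj, (typeP_sdprod hU).relIndex,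
    Nat.coprime_self] at h1
  exact hU.W₁_ne (card_eq_one.1 h1)
theorem FTtypeP_pair_witness (hM : IsCoatom M) (h : IsTypePWith M W₁ U W₂) :
    ∃ T, TypePPair M T W₁ W₂ := by
  have key : ∀ {S T V₁ V₂ : Subgroup G}, TypePPair S T V₁ V₂ → Conjg S M →
      ∃ T, TypePPair M T W₁ W₂ := by
    rintro S T V₁ V₂ hP ⟨g, rfl⟩
    have h1 := hP.conj g
    obtain ⟨V, hV⟩ := h1.typeS
    obtain ⟨x, hx, -, rfl, rfl⟩ := of_typeP_conj hV h
    have h2 := h1.conj x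
    rw [conj_eq_self_of_mem hx] at h2
    exact ⟨_, h2⟩
  obtain h1 | ⟨S, T, V₁, V₂, hP⟩ := FTtypeP_pair_cases (G := G)
  · exact absurd (h1 M hM) (FTtypeP_neq1 hM h)
  exact (hP.all M hM (FTtypeP_neq1 hM h)).elim (key hP) (key hP.symm)

/-- (8.11) -/
theorem Fcore_Hall (hM : IsCoatom M) : IsPiHallOf (piOf (Nat.card MF[M])) MF[M] ⊤ :=
  ((isPiHallOf_fittingHallOf M).of_le (Fcore_sub_Msigma hM) (sigmaCore_le M)).trans
    (Msigma_Hall_G hM) fun p hp h => (sigmaCore_isPi M).of_le (Fcore_sub_Msigma hM) p hp h.2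
theorem FTcore_Hall (hM : IsCoatom M) :
    IsPiHallOf (piOf (Nat.card (FTcore M))) (FTcore M) ⊤ := by
  rw [def_FTcore hM]; exact (Msigma_Hall_G hM).piOf
theorem FTcore_Sylow_norm (hM : IsCoatom M) (hp : p.Prime) {P : Subgroup G}
    (hP : IsPiHallOf {p} P (FTcore M)) (h1 : P ≠ ⊥) : N[P] ≤ M := by
  rw [def_FTcore hM] at hP
  have hs := (pi_Msigma hM hp).1 ((syl_ne_bot_iff hp hP).1 h1)
  exact norm_sigma_Sylow hs (Msigma_syl hM hs hP)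

theorem FTtypeI_II_kappa (hM : IsCoatom M) (ht : FTtype M ≤ 2)
    (hU : Sdprod MF[M] U (FTder M)) : ∃ K, KappaCompl M U K := by
  obtain ⟨K, hK⟩ := exists_hall (kappa M) (mmax_sol hM)
  obtain ⟨V, hV⟩ := ex_kappa_compl hM hK
  have h1 := (kappa_structure hM hV).1.1
  rw [← FTder_eq_kappa_compl hM hV, ← def_FTcore hM, FTcore_type12 ht] at h1
  obtain ⟨x, hx, rfl⟩ := sz_conj (Or.inl (sub_mmax_sol hM (fittingHallOf_le M))) h1.norm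
    (h1.relIndex ▸ ((isPiHallOf_fittingHallOf M).of_le h1.left_le (FTder_le M)).coprime)
    h1.compl hU.compl
  exact ⟨_, kappaCompl_conj hV (fittingHallOf_le M hx)⟩

/-- (8.12) -/
theorem FTtypeI_II_facts (hM : IsCoatom M) (ht : FTtype M ≤ 2) (hU : Sdprod MF[M] U (FTder M)) :
    (∀ p : ℕ, p.Prime → ∀ P, IsPiHallOf {p} P U → IsMulCommutative P ∧ PRankLE p 2 P) ∧
    (∀ X : Set G, X.Nonempty → X ⊆ sharp U → MF[M] ⊓ centralizer X ≠ ⊥ →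
      UMax (centralizer X) M) ∧
    ((FTsupp M \ FTsupp1 M).Nonempty → NormedTI (FTsupp M \ FTsupp1 M) ⊤ M) := by
  obtain ⟨K, hK⟩ := FTtypeI_II_kappa hM ht hU
  refine ⟨fun p hp P hP => BGsummaryB1 hM hK hp hP.le (syl_isPGroup hp hP), ?_, ?_⟩
  · rintro X ⟨x, hx⟩ hX hc
    rw [← centralizer_closure] at hc ⊢
    rw [← FTcore_type12 ht, def_FTcore hM] at hc
    exact ((kappa_structure hM hK).2.2.1 _ ((closure_le _).2 fun y hy => (hX hy).1)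
      (ne_bot_of_mem (subset_closure hx) (hX hx).2) hc).1
  · have : FTsupp M \ FTsupp1 M = FTsupp M \ (Mσ[M] : Set G) := by
      rw [FTsupp1_eq hM]
      ext x
      exact and_congr_right fun h => not_congr (and_iff_left h.2.1)
    rw [this]; exact BGsummaryB5 hM

/-- (8.13) -/
theorem FTsupport_facts (hM : IsCoatom M) {X : Set G}
    (hX : X = FTsupp1 M ∨ X = FTsupp M ∨ X = FTsupp0 M) :
    (∀ x ∈ X, ∀ a, a * x * a⁻¹ ∈ X → ∃ y ∈ M, y * x * y⁻¹ = a * x * a⁻¹) ∧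
    ∀ x ∈ X, ¬ C1[x] ≤ M → x ∈ FTsupp1 M ∧ UMax C1[x] (sigN x) ∧
      Sdprod MF[sigN x] (M ⊓ sigN x) (sigN x) ∧
      Sdprod (MF[sigN x] ⊓ C1[x]) (M ⊓ C1[x]) C1[x] ∧
      (∀ y ∈ X, (Nat.card MF[sigN x]).Coprime (Nat.card ↥(M ⊓ C1[y]))) ∧
      (x ∈ FTsupp (sigN x) ∧ x ∉ FTsupp1 (sigN x)) ∧
      FTtype (sigN x) ≤ 2 ∧ (FTtype (sigN x) = 2 → FrobKer M MF[M]) := by
  have hX0 : X ⊆ FTsupp0 M := by
    rcases hX with rfl | rfl | rfl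
    exacts [FTsupp1_sub0 hM, FTsupp_sub0 M, subset_rfl]
  obtain ⟨h1, h2, h3⟩ := BGsummaryII hM (Or.inr rfl)
  refine ⟨fun x hx a ha => h2 x (hX0 hx) a (hX0 ha), fun x hx hc => ?_⟩
  obtain ⟨h4, h5, ⟨h6, h7, h8, h9⟩, h10⟩ := h3 x (hX0 hx) hc
  exact ⟨h1 x (hX0 hx) hc, h4, h6, h9, fun y hy => h7 y (hX0 hy), h8, by omega,
    fun h => let ⟨E, hE, _⟩ := h10 h; hE.frobKer⟩

theorem FTsignalizer_conj (hM : IsCoatom M) (hx : x ∈ FTsupp0 M) (g : G) :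
    FTsignalizer (cj[g] M) (g * x * g⁻¹) = cj[g] (FTsignalizer M x) := by
  by_cases h : C1[x] ≤ M
  · rw [FTsignalizer_of_le h, FTsignalizer_of_le (by rw [← conj_cent1]; exact conj_mono g h),
      conj_bot]
  · have h1 := ((FTsupport_facts hM (Or.inr (Or.inr rfl))).2 x hx h).1
    rw [FTsupp1_eq hM] at h1
    rw [FTsignalizer_of_not_le h, FTsignalizer_of_not_le (by rwa [← conj_cent1, conj_le_conj_iff]),
      sigN_conj (Msigma_ell1 hM h1.1 h1.2), conj_inf, conj_cent1, conj_fittingHallOf]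

theorem FTDadeSupp_conj_gen (hM : IsCoatom M) (hA : A ⊆ FTsupp0 M) {B : Set G}
    (h : ∀ x, g * x * g⁻¹ ∈ B ↔ x ∈ A) : FTDadeSupp (cj[g] M) B = FTDadeSupp M A := by
  ext z
  constructor
  · rintro ⟨b, hb, r, hr, y, rfl⟩
    obtain ⟨a, rfl⟩ : ∃ a, b = g * a * g⁻¹ := ⟨g⁻¹ * b * g, by group⟩
    rw [h] at hb
    rw [FTsignalizer_conj hM (hA hb)] at hr
    obtain ⟨s, hs, rfl⟩ := mem_conj_iff_exists.1 hr
    exact ⟨a, hb, s, hs, y * g, by group⟩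
  · rintro ⟨a, ha, r, hr, y, rfl⟩
    exact ⟨_, (h a).2 ha, g * r * g⁻¹, by
      rw [FTsignalizer_conj hM (hA ha)]; exact conj_mem_conj.2 hr, y * g⁻¹, by group⟩

theorem FTDadeSupp1_conj (hM : IsCoatom M) (g : G) :
    FTDadeSupp (cj[g] M) (FTsupp1 (cj[g] M)) = FTDadeSupp M (FTsupp1 M) :=
  FTDadeSupp_conj_gen hM (FTsupp1_sub0 hM) fun _ => FTsupp1_conj
theorem FTDadeSupp_conj (hM : IsCoatom M) (g : G) :
    FTDadeSupp (cj[g] M) (FTsupp (cj[g] M)) = FTDadeSupp M (FTsupp M) :=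
  FTDadeSupp_conj_gen hM (FTsupp_sub0 M) fun _ => FTsupp_conj
theorem FTDadeSupp0_conj (hM : IsCoatom M) (g : G) :
    FTDadeSupp (cj[g] M) (FTsupp0 (cj[g] M)) = FTDadeSupp M (FTsupp0 M) :=
  FTDadeSupp_conj_gen hM subset_rfl fun _ => FTsupp0_conj

/-- (8.15)(1) -/
theorem FT_Dade0_hyp (hM : IsCoatom M) : DadeHypothesis (FTsupp0 M) M (FTsignalizer M) := by
  obtain ⟨h1, h2⟩ := FTsupport_facts hM (Or.inr (Or.inr rfl))
  have key : ∀ a ∈ FTsupp0 M, Sdprod (FTsignalizer M a) (M ⊓ C1[a]) C1[a] := fun a ha => by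
    by_cases h : C1[a] ≤ M
    · rw [FTsignalizer_of_le h, inf_eq_right.2 h]; exact sdprod_bot_left _
    · rw [FTsignalizer_of_not_le h]; exact (h2 a ha h).2.2.2.1
  refine ⟨fun h => (FTsupp0_sub M h).2 rfl, fun a ha => (FTsupp0_sub M ha).1,
    fun x hx a ha => FTsupp0_norm ha hx, h1, fun a ha => (key a ha).left_le,
    fun a ha c hc u hu => conj_mem_of_le_norm (key a ha).norm hc hu, fun a ha => (key a ha).inf_eq,
    fun a ha => (key a ha).sup_eq, fun a ha b hb => ?_⟩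
  by_cases h : C1[a] ≤ M
  · rw [FTsignalizer_of_le h, card_bot]; exact Nat.coprime_one_left _
  · rw [FTsignalizer_of_not_le h]
    exact coprime_card_of_le ((h2 a ha h).2.2.2.2.1 b hb) inf_le_left le_rfl
theorem FT_Dade_hyp (hM : IsCoatom M) : DadeHypothesis (FTsupp M) M (FTsignalizer M) :=
  (FT_Dade0_hyp hM).restrict (FTsupp_sub0 M) fun _ hx _ ha => FTsupp_norm ha hx
theorem FT_Dade1_hyp (hM : IsCoatom M) : DadeHypothesis (FTsupp1 M) M (FTsignalizer M) :=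
  (FT_Dade0_hyp hM).restrict (FTsupp1_sub0 hM) fun _ hx _ ha => FTsupp1_norm ha hx
theorem FT_DadeF_hyp (hM : IsCoatom M) : DadeHypothesis (sharp MF[M]) M (FTsignalizer M) :=
  (FT_Dade0_hyp hM).restrict (Fcore_sub_FTsupp0 hM) fun _ hx _ ha =>
    ⟨conj_mem_of_le_norm (self_le_norm_fittingHallOf M) hx ha.1, by simpa using ha.2⟩
theorem FT_DadeE (hM : IsCoatom M) (hA : A ⊆ FTsupp0 M) (hn : ∀ x ∈ M, ∀ a ∈ A, x * a * x⁻¹ ∈ A)
    {φ : M → ℂ} (hφ : φ ∈ CF M A) : tauA M A φ = tau0 M φ :=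
  (FT_Dade0_hyp hM).dade_restrict hA hn hφ.1 hφ.2

theorem FTtypeP_supp0_def (hM : IsCoatom M) (h : IsTypePWith M W₁ U W₂) :
    FTsupp0 M = FTsupp M ∪ classSupp (cycTI W₁ W₂) M := by
  rw [← FTsupp0_typeP h (FTtypeP_neq1 hM h), Set.union_diff_cancel (FTsupp_sub0 M)]

theorem FT_prDade_hyp_gen (hM : IsCoatom M) (h : IsTypePWith M W₁ U W₂) (hn : M ≤ N[H])
    (h₂ : W₂ ≤ H) (hH : H ≤ FTcore M) :
    PrDade M ⁅M, M⁆ H (FTsupp M) (FTsupp0 M) (FTsignalizer M) W₁ W₂ := by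
  have e := FTder_typeP (FTtypeP_neq1 hM h)
  exact ⟨typeP_cycTI h, FT_primeTI_hyp h, hn, h₂, e ▸ hH.trans (FTcore_sub_FTder hM),
    FT_Dade0_hyp hM, fun _ hx _ ha => FTsupp_norm ha hx,
    fun z hz hz1 x hx hx1 => ⟨e ▸ hx.1, hx1, z, hH hz, hz1, hx.2⟩, e ▸ FTsupp_sub_der M,
    FTtypeP_supp0_def hM h⟩

/-- (8.15)(2) -/
theorem FT_prDade_hyp (hM : IsCoatom M) (h : IsTypePWith M W₁ U W₂) :
    PrDade M ⁅M, M⁆ (FTcore M) (FTsupp M) (FTsupp0 M) (FTsignalizer M) W₁ W₂ :=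
  FT_prDade_hyp_gen hM h (norm_FTcore hM).ge ((typeP_W₂_le_Fcore h).trans (Fcore_sub_FTcore hM))
    le_rfl
theorem FT_prDade_hypF (hM : IsCoatom M) (h : IsTypePWith M W₁ U W₂) :
    PrDade M ⁅M, M⁆ MF[M] (FTsupp M) (FTsupp0 M) (FTsignalizer M) W₁ W₂ :=
  FT_prDade_hyp_gen hM h (self_le_norm_fittingHallOf M) (typeP_W₂_le_Fcore h) (Fcore_sub_FTcore hM)

/-- (8.15)(3): `FTtypeP_subcoherent`, `FTtypeP_base_ortho`, `FTtypeP_base_TIred` -/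
theorem FTtypeP_subcoherent (hM : IsCoatom M) (h : IsTypePWith M W₁ U W₂) :
    ∃ Q, IsCoherenceSystem (seqIndD ⁅M, M⁆ M (FTcore M) ⊥) (tau0 M) Q ∧
      (∀ φ ∈ seqIndD ⁅M, M⁆ M (FTcore M) ⊥, IsIrrCharacter M φ →
        ∀ α ∈ Q φ, ∀ i j, ⟪α, etaG W₁ W₂ i j⟫ = 0) ∧
      ∀ j, Q (muR M W₁ W₂ j) = Rmu M W₁ W₂ j := by
  have hD := FT_prDade_hyp hM h
  exact hD.subcoherent ⟨subset_rfl, fun _ => conj_seqIndD⟩
    (seqIndD_nonempty hD.HK ((der_le M).trans hD.normH) (by rw [norm_bot]; exact le_top)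
      (bot_lt_iff_ne_bot.2 (FTcore_neq1 hM)))
    fun _ => seqIndD_conj_ne (der_le M) (le_norm_der M) (mFT_odd M)

theorem coherent_ortho_cycTIiso (hM : IsCoatom M) (h : IsTypePWith M W₁ U W₂)
    {S₁ : Set (M → ℂ)} (hS : ConjSub S₁ (seqIndD ⁅M, M⁆ M (FTcore M) ⊥))
    {ν : (M → ℂ) →ₗ[ℂ] (G → ℂ)} (hν : CohWith S₁ (tau0 M) ν) {χ : M → ℂ} (hχ : χ ∈ S₁)
    (hi : IsIrrCharacter M χ) (i : Lin W₁) (j : Lin W₂) : ⟪ν χ, etaG W₁ W₂ i j⟫ = 0 := by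
  obtain ⟨Q, h1, h2, -⟩ := FTtypeP_subcoherent hM h
  obtain ⟨E, hE, e, -⟩ := hν.exists_eq_sum h1 (hS.1 hχ) (Submodule.subset_span hχ)
    (Submodule.subset_span (hS.2 χ hχ))
  rw [e, ci_sum_left]
  exact Finset.sum_eq_zero fun α hα => h2 χ (hS.1 hχ) hi α (hE hα) i j

theorem FTtypeP_coherent_TIred (hM : IsCoatom M) (h : IsTypePWith M W₁ U W₂)
    {S₁ : Set (M → ℂ)} (hS : ConjSub S₁ (seqIndD ⁅M, M⁆ M (FTcore M) ⊥))
    {ν : (M → ℂ) →ₗ[ℂ] (G → ℂ)} (hν : CohWith S₁ (tau0 M) ν) {χ : M → ℂ} (hχ : χ ∈ S₁)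
    (hi : IsIrrCharacter M χ) {k : Lin W₂} (hk : muR M W₁ W₂ k ∈ S₁) :
    ν (muR M W₁ W₂ k) = (dl M W₁ W₂ k : ℂ) • ∑ i, etaG W₁ W₂ i k ∨
    (ν (muR M W₁ W₂ k) = -((dl M W₁ W₂ k : ℂ) • ∑ i, etaG W₁ W₂ i k⁻¹) ∧
      ∀ l, muR M W₁ W₂ l ∈ S₁ → muR M W₁ W₂ l 1 = muR M W₁ W₂ k 1 → l = k ∨ l = k⁻¹) :=
  (FT_prDade_hyp hM h).coherent_muR hS
    (fun _ hφ => seqIndD_conj_ne (der_le M) (le_norm_der M) (mFT_odd M) (hS.1 hφ)) ⟨χ, hχ, hi⟩ hk hν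

/-- (8.16) -/
theorem FTtypeII_ker_TI (hM : IsCoatom M) (h : FTtype M = 2) :
    NormedTI (FTsupp0 M) ⊤ M ∧ NormedTI (FTsupp M) ⊤ M ∧ NormedTI (FTsupp1 M) ⊤ M := by
  have hne : (FTsupp1 M).Nonempty := sharp_nonempty.2 (FTcore_neq1 hM)
  obtain ⟨_, _, _, ⟨-, -, -, hTI⟩, -⟩ := (FTtypeP hM 2).1 h
  obtain ⟨h1, h2⟩ := FTsupport_facts hM (Or.inr (Or.inr rfl))
  have h0 : NormedTI (FTsupp0 M) ⊤ M := by
    refine ⟨hne.mono (FTsupp1_sub0 hM), le_top, fun a ha g _ =>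
      ⟨fun hg => ?_, FTsupp0_norm ha⟩⟩
    have hc : C1[a] ≤ M := by
      by_contra hc
      have h3 := (h2 a ha hc).1
      rw [FTsupp1_type12 h.le] at h3
      exact hc (le_trans (le_inf le_top le_rfl)
        (hTI.cent1_le ⟨fittingHallOf_le_fittingOf M h3.1, h3.2⟩))
    obtain ⟨y, hy, e⟩ := h1 a ha g hg
    have : y⁻¹ * g ∈ C1[a] := mem_cent1.2 (by
      calc y⁻¹ * g * a = y⁻¹ * (g * a * g⁻¹) * g := by group
        _ = _ := by rw [← e]; group)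
    exact (mul_mem_cancel_left (M.inv_mem hy)).1 (hc this)
  exact ⟨h0, h0.subset (hne.mono (FTsupp1_sub hM)) (FTsupp_sub0 M) fun _ hb _ => FTsupp_norm hb,
    h0.subset hne (FTsupp1_sub0 hM) fun _ hb _ => FTsupp1_norm hb⟩

omit [MFT G] in
theorem FTsignalizer_of_TI (hTI : NormedTI A ⊤ M) (hx : x ∈ A) : FTsignalizer M x = ⊥ :=
  FTsignalizer_of_le (le_trans (le_inf le_top le_rfl) (hTI.cent1_le hx))

/-- for a TI support the Dade map is induction -/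
theorem tau0_eq_ind (hM : IsCoatom M) (hTI : NormedTI (FTsupp0 M) ⊤ M) {φ : M → ℂ}
    (hφ : φ ∈ CF M (FTsupp0 M)) : tau0 M φ = indFun M φ :=
  (FT_Dade0_hyp hM).dade_eq_indFun hφ.1 hφ.2 fun _ hx _ => FTsignalizer_of_TI hTI hx
theorem tau0_eq_ind_of_TI (hM : IsCoatom M) (hTI : NormedTI A ⊤ M) (hA : A ⊆ FTsupp0 M)
    {φ : M → ℂ} (hφ : φ ∈ CF M A) : tau0 M φ = indFun M φ :=
  (FT_Dade0_hyp hM).dade_eq_indFun hφ.1 (hφ.2.mono hA) fun x _ h =>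
    FTsignalizer_of_TI hTI (by_contra fun hx => h (hφ.2 x hx))
theorem FTDadeSupp_of_TI (hM : IsCoatom M) (hTI : NormedTI A ⊤ M) :
    FTDadeSupp M A = classSupp A ⊤ := by
  ext g
  refine ⟨fun ⟨a, ha, r, hr, y, e⟩ => ⟨a, ha, y, mem_top y, ?_⟩,
    fun ⟨a, ha, y, _, e⟩ => ⟨a, ha, 1, one_mem _, y, by rw [e, mul_one]⟩⟩
  rw [FTsignalizer_of_TI hTI ha, mem_bot] at hr
  rw [e, hr, mul_one]

/-- (8.17)(a) -/
theorem exists_FTcore_dvd (hp : p.Prime) (hd : p ∣ Nat.card G) :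
    ∃ M : Subgroup G, IsCoatom M ∧ p ∣ Nat.card (FTcore M) :=
  let ⟨M, hM, h⟩ := exists_mmax_sigma hp hd
  ⟨M, hM, by rw [def_FTcore hM]; exact (pi_Msigma hM hp).2 h⟩
theorem coprime_FTcore (hM : IsCoatom M) (hL : IsCoatom L) (h : ¬ Conjg M L) :
    (Nat.card (FTcore M)).Coprime (Nat.card (FTcore L)) := by
  rw [def_FTcore hM, def_FTcore hL]
  exact (sigmaCore_isPi M).piNat.coprime_of_disjoint (sigmaCore_isPi L).piNat fun p _ h1 h2 =>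
    Set.disjoint_left.1 (sigma_partition hM hL h) h1 h2
/-- (8.17)(b) -/
theorem card_FTDadeSupp1 (hM : IsCoatom M) :
    Nat.card (FTDadeSupp M (FTsupp1 M)) = (Nat.card (FTcore M) - 1) * M.index := by
  rw [FTDadeSupp1_eq hM, Nat.card_coe_set_eq, card_class_support_sigma hM, def_FTcore hM]
/-- (8.17)(c) -/
theorem FT_Dade1_support_disjoint (hM : IsCoatom M) (hL : IsCoatom L) (h : ¬ Conjg M L) :
    Disjoint (FTDadeSupp M (FTsupp1 M)) (FTDadeSupp L (FTsupp1 L)) := by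
  rw [FTDadeSupp1_eq hM, FTDadeSupp1_eq hL]; exact sigma_support_disjoint hM hL h
theorem FT_Dade1_cover_type1 (h : ∀ M : Subgroup G, IsCoatom M → FTtype M = 1) (hx : x ≠ 1) :
    ∃ M : Subgroup G, IsCoatom M ∧ x ∈ FTDadeSupp M (FTsupp1 M) := by
  obtain ⟨M, hM, h1⟩ := mFT_partition_F (fun M hP => (FTtype_Pmax hP.1).1 hP (h M hP.1)) hx
  exact ⟨M, hM, FTDadeSupp1_eq hM ▸ h1⟩
theorem FT_Dade1_cover_pair (h : TypePPair S T W₁ W₂) (hx : x ≠ 1) :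
    x ∉ classSupp (cycTI W₁ W₂) ⊤ ↔
      ∃ M : Subgroup G, IsCoatom M ∧ x ∈ FTDadeSupp M (FTsupp1 M) := by
  obtain ⟨U, hU⟩ := h.typeS
  obtain ⟨h1, h2, -, h3, -⟩ := typePfacts h.maxS hU
  obtain ⟨h4, h5⟩ := mFT_partition_P h1 h2
  rw [h3] at h4 h5
  refine ⟨fun hn => ?_, fun ⟨M, hM, h6⟩ h7 => ?_⟩
  · obtain ⟨M, hM, h6⟩ := (h4 x hx).resolve_right hn
    exact ⟨M, hM, FTDadeSupp1_eq hM ▸ h6⟩
  · rw [FTDadeSupp1_eq hM] at h6
    exact Set.disjoint_left.1 (h5 M hM) h7 h6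

theorem FT_Dade_support_a2 (hS : IsCoatom S) (hT : IsCoatom T) (h : ¬ Conjg S T)
    (hx : x ∈ FTsupp1 S) (hx' : x ∈ FTsupp T) : ¬ C1[x] ≤ S ∧ x ∉ FTsupp1 T := by
  have hc : (orderOf x).Coprime (Nat.card (FTcore T)) :=
    (coprime_FTcore hS hT h).coprime_dvd_left (orderOf_dvd_card_of_mem hx.1)
  have h1 : x ∉ FTsupp1 T := fun h1 =>
    hx.2 (orderOf_eq_one_iff.1 (hc.eq_one_of_dvd (orderOf_dvd_card_of_mem h1.1)))
  refine ⟨fun hcS => h ?_, h1⟩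
  have ht : FTtype T ≤ 2 := by
    by_contra ht
    exact h1 (FTsupp_eq1 hT (by omega) ▸ hx')
  rw [FTcore_type12 ht] at hc
  have hH := (isPiHallOf_fittingHallOf T).of_le
    ((Fcore_sub_FTcore hT).trans (FTcore_sub_FTder hT)) (FTder_le T)
  obtain ⟨U, hU, hxU⟩ := exists_hall_ge (sub_mmax_sol hT (FTder_le T)) (zpowers_le.2 hx'.1)
    (isPiSubgroup_zpowers_iff.2 (piNat_piOf_compl_iff.2 hc))
  obtain ⟨-, hx1, z, hz, hz1, hzx⟩ := hx'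
  rw [FTcore_type12 ht] at hz
  have h2 := (FTtypeI_II_facts hT ht
    (hH.sdprod ((FTder_le T).trans (self_le_norm_fittingHallOf T)) hU)).2.1 {x}
    (Set.singleton_nonempty x) (Set.singleton_subset_iff.2 ⟨hxU (mem_zpowers x), hx1⟩)
    (ne_bot_of_mem (x := z) ⟨hz, mem_cent1_comm.1 hzx⟩ hz1)
  rw [h2.eq hS hcS]
  exact Conjg.refl T

theorem FT_Dade_support_a1 (hS : IsCoatom S) (hT : IsCoatom T) (h : ¬ Conjg S T) :
    FTsupports S T ↔ ¬ Disjoint (FTsupp1 S) (FTsupp T) := by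
  rw [Set.not_disjoint_iff]
  constructor
  · rintro ⟨x, hx, h1, h2⟩
    obtain ⟨h3, h4, -, -, -, h5, -⟩ := (FTsupport_facts hS (Or.inr (Or.inl rfl))).2 x hx h1
    exact ⟨x, h3, h4.eq hT h2 ▸ h5.1⟩
  · rintro ⟨x, hx, hx'⟩
    obtain ⟨h1, h2⟩ := FT_Dade_support_a2 hS hT h hx hx'
    refine ⟨x, FTsupp1_sub hS hx, h1, by_contra fun h3 => h2 ?_⟩
    exact ((FTsupport_facts hT (Or.inr (Or.inl rfl))).2 x hx' h3).1

theorem FT_Dade_support_b (hS : IsCoatom S) (hT : IsCoatom T) (h : ¬ Conjg S T) :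
    (∃ x, FTsupports S (cj[x] T)) ↔
      ¬ Disjoint (FTDadeSupp S (FTsupp1 S)) (FTDadeSupp T (FTsupp T)) := by
  have h' : ∀ x, ¬ Conjg S (cj[x] T) := fun x h1 => h (h1.trans (conjg_conj x T).symm)
  rw [Set.not_disjoint_iff]
  constructor
  · rintro ⟨g, hg⟩
    rw [FT_Dade_support_a1 hS (isCoatom_conj g hT) (h' g), Set.not_disjoint_iff] at hg
    obtain ⟨y, h1, h2⟩ := hg
    refine ⟨y, ⟨y, h1, 1, one_mem _, 1, by simp⟩, ?_⟩
    rw [← FTDadeSupp_conj hT g]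
    exact ⟨y, h2, 1, one_mem _, 1, by simp⟩
  · rintro ⟨y, ⟨a, ha, r, hr, u, e⟩, b, hb, s, hs, v, e'⟩
    by_cases hc : C1[b] ≤ T
    · rw [FTsignalizer_of_le hc, mem_bot] at hs
      refine ⟨u⁻¹ * v, (FT_Dade_support_a1 hS (isCoatom_conj _ hT) (h' _)).2
        (Set.not_disjoint_iff.2 ⟨a, ha, ?_⟩)⟩
      have e2 : a * r = (u⁻¹ * v) * b * (u⁻¹ * v)⁻¹ := by
        calc a * r = u⁻¹ * y * u := by rw [e]; group
          _ = _ := by rw [e', hs]; group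
      have hD := FT_Dade1_hyp hS
      have h1 : (orderOf r).Coprime (orderOf a) :=
        ((hD.coprime a ha a ha).coprime_dvd_left (orderOf_dvd_card_of_mem hr)).coprime_dvd_right
          (hD.orderOf_dvd ha)
      refine mem_FTsupp_of_mem_zpowers (FTsupp_conj (g := u⁻¹ * v).2 hb) ?_ ha.2
      have := constt_mem_zpowers (piOf (orderOf a)) (a * r)
      rwa [constt_eq_of_mul (hD.comm ha hr) (piNat_piOf _) (piNat_piOf_compl_iff.2 h1) rfl,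
        e2] at this
    · exact absurd (FT_Dade1_support_disjoint hS hT h) (Set.not_disjoint_iff.2
        ⟨y, ⟨a, ha, r, hr, u, e⟩,
          b, ((FTsupport_facts hT (Or.inr (Or.inl rfl))).2 b hb hc).1, s, hs, v, e'⟩)

/-- (8.18) -/
theorem FT_Dade_support_disjoint (hS : IsCoatom S) (hT : IsCoatom T) (h : ¬ Conjg S T) :
    ((FTsupports S T ↔ ¬ Disjoint (FTsupp1 S) (FTsupp T)) ∧
      ∀ x ∈ FTsupp1 S ∩ FTsupp T, ¬ C1[x] ≤ S ∧ x ∉ FTsupp1 T) ∧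
    ((∃ x, FTsupports S (cj[x] T)) ↔
      ¬ Disjoint (FTDadeSupp S (FTsupp1 S)) (FTDadeSupp T (FTsupp T))) ∧
    (Disjoint (FTDadeSupp S (FTsupp1 S)) (FTDadeSupp T (FTsupp T)) ∨
      Disjoint (FTDadeSupp T (FTsupp1 T)) (FTDadeSupp S (FTsupp S))) := by
  refine ⟨⟨FT_Dade_support_a1 hS hT h, fun x hx => FT_Dade_support_a2 hS hT h hx.1 hx.2⟩,
    FT_Dade_support_b hS hT h, ?_⟩
  by_contra hn
  rw [not_or, ← FT_Dade_support_b hS hT h, ← FT_Dade_support_b hT hS fun h' => h h'.symm] at hn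
  obtain ⟨⟨x, y, hy, h1, h2⟩, g, hg⟩ := hn
  obtain ⟨-, h3, -, -, h4, -, h5, -⟩ := (FTsupport_facts hS (Or.inr (Or.inl rfl))).2 y hy h1
  rw [← h3.eq (isCoatom_conj x hT) h2] at h4 h5
  rw [FTtype_conj] at h5
  rw [← conj_fittingHallOf, card_conj] at h4
  rw [FT_Dade_support_a1 hT (isCoatom_conj g hS)
    (fun h' => h ((conjg_conj g S).trans h'.symm)), Set.not_disjoint_iff] at hg
  obtain ⟨w, hw, hw'⟩ := hg
  obtain ⟨z, rfl⟩ : ∃ z, w = g * z * g⁻¹ := ⟨g⁻¹ * w * g, by group⟩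
  rw [FTsupp_conj] at hw'
  rw [FTsupp1_type12 h5] at hw
  have h6 := orderOf_dvd_card_of_mem hw.1
  rw [orderOf_conj] at h6
  exact hw'.2.1 (orderOf_eq_one_iff.1 (((h4 z hw').coprime_dvd_left h6).eq_one_of_dvd
    ((FT_Dade_hyp hS).orderOf_dvd hw')))

end Cfsg.Agent.PF
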