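import Cfsg.Agent.PF.S09c

set_option autoImplicit false
set_option maxHeartbeats 400000
set_option linter.unusedSectionVars false
set_option linter.unusedVariables false

namespace Cfsg.Agent.PF

open Subgroup Cfsg.Agent.GT Cfsg.Agent.BG Cfsg.Agent.Char

universe u v w

/-! Peterfalvi (9.11); definitions and (9.3)-(9.10) are in `S09a`, `S09b`, `S09c`. -/

section Abstract
variable {L : Type u} [Group L] [Fintype L] {X : Type v} [Group X] [Fintype X]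

/-- (9.11.6)-(9.11.8) -/
theorem coh_extend_911 {S : Set (L → ℂ)} {τ ν₁ : (L → ℂ) →ₗ[ℂ] (X → ℂ)}
    {Q : (L → ℂ) → Finset (X → ℂ)} (hQ : IsCoherenceSystem S τ Q) {T S₃ : Finset (L → ℂ)}
    (hT : ConjSub (T : Set (L → ℂ)) S) (h3 : ConjSub (S₃ : Set (L → ℂ)) S)
    (hd : Disjoint (T : Set (L → ℂ)) S₃) (hi : ∀ ψ ∈ T, IsIrrCharacter L ψ) {m : ℕ} (hm : 1 < m)
    (hc : T.card = 2 * m) {ψ₁ χ₁ : L → ℂ} (hψ : ψ₁ ∈ T) (hdT : ∀ ψ ∈ T, ψ 1 = ψ₁ 1)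
    (hd3 : ∀ χ ∈ S₃, χ 1 = m * ψ₁ 1) (hχ : χ₁ ∈ S₃) (hχi : IsIrrCharacter L χ₁) {A : X → ℂ}
    (hA : IsGeneralizedCharacter X A) (hA1 : ∀ φ ∈ zspanOn S {1}ᶜ, ⟪A, τ φ⟫ = -⟪ψ₁, φ⟫)
    (hAn : nsq A < ∑ χ ∈ S₃, 1 / nsq χ) (h₁ : CohWith (T : Set (L → ℂ)) τ ν₁) :
    Coh ((T : Set (L → ℂ)) ∪ {χ₁, conjFun χ₁}) τ := by
  classical
  obtain ⟨ν₃, h₃⟩ := (hQ.subset h3.1 ⟨_, hχ⟩ h3.2).exists_cohWith_of_degree
    fun φ hφ ψ hψ => by rw [hd3 φ hφ, hd3 ψ hψ]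
  have zT : ∀ {ψ}, ψ ∈ T → ψ ∈ zspan S := fun hψ => mem_zspan_of_mem (hT.1 hψ)
  have z3 : ∀ {ψ}, ψ ∈ S₃ → ψ ∈ zspan S := fun hψ => mem_zspan_of_mem (h3.1 hψ)
  have o13 : ∀ {ψ χ}, ψ ∈ T → χ ∈ S₃ → ⟪ψ, χ⟫ = 0 := fun hψ hχ =>
    hQ.orthogonal _ (hT.1 hψ) _ (h3.1 hχ) fun e => Set.disjoint_left.1 hd hψ (e ▸ hχ)
  have e3 : ∀ {χ χ'}, χ ∈ S₃ → χ' ∈ S₃ → ν₃ χ - ν₃ χ' = τ (χ - χ') := fun hχ hχ' => by
    rw [← map_sub, h₃.eq (sub_mem_zspan (mem_zspan_of_mem hχ) (mem_zspan_of_mem hχ'))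
      (by rw [Pi.sub_apply, hd3 _ hχ, hd3 _ hχ', sub_self])]
  have m3 : ∀ {χ χ'}, χ ∈ S₃ → χ' ∈ S₃ → χ - χ' ∈ zspanOn S {1}ᶜ := fun hχ hχ' =>
    sub_mem_zspanOn_one (z3 hχ) (z3 hχ') (by rw [hd3 _ hχ, hd3 _ hχ'])
  have hA3 : ∀ χ ∈ S₃, ⟪A, ν₃ χ⟫ = 0 := by
    obtain ⟨c, hc⟩ := hA.ci_int (h₃.virt_mem hχ)
    have h4 : ∀ χ ∈ S₃, ⟪A, ν₃ χ⟫ = c := fun χ h5 => by
      rw [← hc, ← sub_eq_zero, ← ci_sub_right, e3 h5 hχ, hA1 _ (m3 h5 hχ), ci_sub_right,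
        o13 hψ h5, o13 hψ hχ, sub_self, neg_zero]
    have h5 := bessel_orth S₃ ν₃ (fun χ h5 e => hQ.ne_zero (h3.1 h5) (nsq_eq_zero.1 (by
      rw [← h₃.nsq_eq (mem_zspan_of_mem h5), e, nsq_eq_zero]))) (fun χ h5 χ' h6 e => by
        rw [h₃.ci_mem h5 h6, hQ.orthogonal _ (h3.1 h5) _ (h3.1 h6) e]) A
    rw [Finset.sum_congr rfl (g := fun χ => (c : ℝ) ^ 2 * (1 / nsq χ)) (fun χ h6 => by
      rw [norm_sq_of_eq_int (h4 χ h6), h₃.nsq_eq (mem_zspan_of_mem h6), mul_one_div]),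
      ← Finset.mul_sum] at h5
    have h6 : c = 0 := by
      by_contra h6
      have h7 : (1 : ℝ) ≤ (c : ℝ) ^ 2 := by exact_mod_cast (one_le_sq_iff_one_le_abs c).2 (Int.one_le_abs h6)
      nlinarith [nsq_nonneg A]
    intro χ h7
    rw [h4 χ h7, h6, Int.cast_zero]
  have hβ : χ₁ - (m : ℂ) • ψ₁ ∈ zspanOn S {1}ᶜ := sub_mem_zspanOn_one (z3 hχ)
    (natCast_smul_mem_zspan m (zT hψ)) (hd3 _ hχ)
  have cT : ∀ {ψ}, ψ ∈ T → ⟪ψ₁, ψ⟫ = if ψ₁ = ψ then 1 else 0 := fun h5 =>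
    (hi _ hψ).ci_eq_ite (hi _ h5)
  have key : ∀ (Y : X → ℂ) (k : ℂ), (∀ ψ ∈ T, ⟪Y, τ (ψ - ψ₁)⟫ = -(k * ⟪ψ₁, ψ - ψ₁⟫)) →
      ∀ ψ ∈ T, ⟪Y, ν₁ ψ⟫ = ⟪Y, ν₁ ψ₁⟫ + k - k * ⟪ψ₁, ψ⟫ := fun Y k hY ψ h5 => by
    have := hY ψ h5
    rw [← h₁.eq (sub_mem_zspan (mem_zspan_of_mem h5) (mem_zspan_of_mem hψ))
      (by rw [Pi.sub_apply, hdT _ h5, sub_self]), map_sub, ci_sub_right, ci_sub_right,
      (hi _ hψ).ci_self] at this
    linear_combination this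
  have mT : ∀ {ψ}, ψ ∈ T → ψ - ψ₁ ∈ zspanOn S {1}ᶜ := fun h5 =>
    sub_mem_zspanOn_one (zT h5) (zT hψ) (hdT _ h5)
  have kB := key (τ (χ₁ - (m : ℂ) • ψ₁)) m fun ψ h5 => by
    rw [hQ.isometry.ci_eq hβ (mT h5), ci_sub_left, ci_smul_left, ci_sub_right χ₁,
      ci_eq_zero_symm (o13 h5 hχ), ci_eq_zero_symm (o13 hψ hχ)]
    ring
  have kA := key A 1 fun ψ h5 => by rw [hA1 _ (mT h5), one_mul]
  have hB := hQ.isometry.virt hβ
  obtain ⟨b', hb'⟩ := hB.ci_int (h₁.virt_mem hψ)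
  obtain ⟨b, hb⟩ : ∃ b : ℤ, ⟪τ (χ₁ - (m : ℂ) • ψ₁), ν₁ ψ₁⟫ + m = b := 
    ⟨b' + m, by rw [hb']; simp⟩
  obtain ⟨x', hx'⟩ := hA.ci_int (h₁.virt_mem hψ)
  obtain ⟨x, hx⟩ : ∃ x : ℤ, ⟪A, ν₁ ψ₁⟫ + 1 = x := ⟨x' + 1, by simp [hx']⟩
  rw [hb] at kB
  rw [hx] at kA
  have sT : ∑ ψ ∈ T, ⟪ψ₁, ψ⟫ = 1 := by
    rw [Finset.sum_congr rfl fun ψ h5 => cT h5, Finset.sum_ite_eq, if_pos hψ]
  have cσ : ∀ Y : X → ℂ, ∀ y k : ℂ, (∀ ψ ∈ T, ⟪Y, ν₁ ψ⟫ = y - k * ⟪ψ₁, ψ⟫) →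
      ⟪Y, ν₁ ((b : ℂ) • ∑ ψ ∈ T, ψ - (m : ℂ) • ψ₁)⟫ = b * (2 * m * y - k) - m * (y - k) := by
    intro Y y k hY
    rw [map_sub, map_smul, map_smul, map_sum, ci_sub_right, ci_smul_right, ci_smul_right,
      ci_sum_right, Finset.sum_congr rfl hY, hY _ hψ, (hi _ hψ).ci_self, Finset.sum_sub_distrib,
      ← Finset.mul_sum, sT, Finset.sum_const, hc, map_intCast, map_natCast, nsmul_eq_mul]
    push_cast
    ring
  have hσ : (b : ℂ) • ∑ ψ ∈ T, ψ - (m : ℂ) • ψ₁ ∈ zspan (T : Set (L → ℂ)) :=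
    sub_mem_zspan (intCast_smul_mem_zspan b (sum_mem_zspan fun ψ h5 => mem_zspan_of_mem h5))
      (natCast_smul_mem_zspan m (mem_zspan_of_mem hψ))
  set σ := (b : ℂ) • ∑ ψ ∈ T, ψ - (m : ℂ) • ψ₁ with hσ'
  have kσ : ∀ ψ ∈ T, ⟪ν₁ σ, ν₁ ψ⟫ = b - m * ⟪ψ₁, ψ⟫ := fun ψ h5 => by
    rw [h₁.ci_eq hσ (mem_zspan_of_mem h5), hσ', ci_sub_left, ci_smul_left, ci_smul_left,
      ci_sum_left, Finset.sum_congr rfl fun φ h6 => (hi _ h6).ci_eq_ite (hi _ h5),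
      Finset.sum_ite_eq', if_pos h5, mul_one]
  have hΓ := hB.sub (h₁.virt hσ)
  set B := τ (χ₁ - (m : ℂ) • ψ₁) with hB'
  have hΓn : (nsq (B - ν₁ σ) : ℂ) = 1 - 2 * m * (b * (b - 1)) := by
    have h5 : ⟪B, B⟫ = 1 + m * m := by
      rw [hQ.isometry.ci_eq hβ hβ, ci_sub_left, ci_sub_right, ci_sub_right, ci_smul_left,
        ci_smul_left, ci_smul_right, ci_smul_right, hχi.ci_self, (hi _ hψ).ci_self, o13 hψ hχ,
        ci_eq_zero_symm (o13 hψ hχ), map_natCast]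
      ring
    rw [← ci_self, ci_sub_left, ci_sub_right, ci_sub_right, (h₁.virt hσ).ci_comm hB, h5,
      cσ _ _ _ kB, cσ _ _ _ kσ]
    ring
  have hb01 : b * (b - 1) = 0 := by
    have h5 : (0 : ℝ) ≤ 1 - 2 * m * (b * (b - 1)) := by
      have : nsq (B - ν₁ σ) = 1 - 2 * m * (b * (b - 1)) := by exact_mod_cast hΓn
      exact this ▸ nsq_nonneg _
    have h6 : (0 : ℤ) ≤ 1 - 2 * m * (b * (b - 1)) := by exact_mod_cast h5
    have h7 : 0 ≤ b * (b - 1) := by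
      rcases le_or_gt b 0 with h | h
      · exact mul_nonneg_of_nonpos_of_nonpos h (by omega)
      · exact mul_nonneg h.le (by omega)
    have h8 : (1 : ℤ) < m := by exact_mod_cast hm
    nlinarith
  have hs : IsSIrr X (B - ν₁ σ) := hΓ.isSIrr_of_nsq (by
    have : ((b : ℂ) * (b - 1)) = 0 := by exact_mod_cast hb01
    rw [this, mul_zero, sub_zero] at hΓn
    exact_mod_cast hΓn)
  have hχ' := h3.2 _ hχ
  have hAΓ : ⟪A, B - ν₁ σ⟫ = 0 := by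
    have h5 : ∀ χ ∈ S₃, IsIrrCharacter L χ → ⟪B - ν₁ σ, ν₃ χ⟫ ≠ 0 → ⟪A, B - ν₁ σ⟫ = 0 :=
      fun χ h5 h6 h7 => by
        rcases hs.eq_or_eq_neg_of_ci_ne_zero (h₃.isSIrr h5 h6) h7 with e | e
        · rw [e, hA3 χ h5]
        · rw [e, ci_neg_right, hA3 χ h5, neg_zero]
    by_contra h6
    have h7 : ⟪B - ν₁ σ, ν₃ χ₁ - ν₃ (conjFun χ₁)⟫ = 1 := by
      rw [ci_sub_left, ci_sub_right (ν₁ σ),
        h₁.orth h₃ hQ hT.1 hT.2 h3.1 h3.2 hd hσ (mem_zspan_of_mem hχ),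
        h₁.orth h₃ hQ hT.1 hT.2 h3.1 h3.2 hd hσ (mem_zspan_of_mem hχ'), e3 hχ hχ',
        hQ.isometry.ci_eq hβ (m3 hχ hχ'), ci_sub_left, ci_smul_left, ci_sub_right, ci_sub_right,
        o13 hψ hχ, o13 hψ hχ', hχi.ci_self, hQ.ci_conj (h3.1 hχ)]
      ring
    rw [ci_sub_right, by_contra (mt (h5 _ hχ hχi) h6), by_contra (mt (h5 _ hχ' hχi.conjFun) h6),
      sub_self] at h7
    exact zero_ne_one h7
  have hb0 : b = 0 := by
    refine (mul_eq_zero.1 hb01).resolve_right fun e => ?_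
    have kA' := cσ A x 1 kA
    rw [ci_sub_right, kA', hA1 _ hβ, ci_sub_right, ci_smul_right, o13 hψ hχ, (hi _ hψ).ci_self,
      map_natCast, sub_eq_zero.1 e] at hAΓ
    have h5 : (m : ℂ) * x = 1 := by push_cast at hAΓ; linear_combination -hAΓ
    have h6 : (m : ℤ) * x = 1 := by exact_mod_cast h5
    have := Int.eq_one_of_mul_eq_one_right (by positivity) h6
    omega
  obtain ⟨ν, hν, -⟩ := h₁.extend_of_zero hQ hT.1 hT.2 (h3.1 hχ) (Set.disjoint_right.1 hd hχ)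
    (mem_zspan_of_mem hψ) (a := m) (by rw [hd3 _ hχ]; simp) (by
      rw [Int.cast_natCast, ci_add_left, ci_smul_left, h₁.ci_mem hψ hψ, (hi _ hψ).ci_self, mul_one,
        hb, hb0, Int.cast_zero])
  exact ⟨ν, hν⟩

end Abstract

theorem ineq_911 {a n : ℕ} (ha : 1 ≤ a) :
    1 + 2 * a * (n + 3) + (n + 3) * a ^ (n + 3) + (n + 3) ^ 2 * a ^ (n + 2) <
      (2 * a + 1) ^ (n + 3) := by
  induction n with
  | zero => simp only [zero_add]; nlinarith [Nat.one_le_pow 2 a ha, Nat.one_le_pow 3 a ha]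
  | succ n ih =>
    rw [show n + 1 + 3 = n + 3 + 1 from rfl, pow_succ (2 * a + 1)]
    refine lt_of_le_of_lt ?_ (Nat.mul_lt_mul_of_pos_right ih (by omega))
    rw [show n + 1 + 2 = n + 2 + 1 from rfl, show n + 3 = n + 2 + 1 from rfl, pow_succ a,
      pow_succ a]
    generalize a ^ (n + 2) = t
    ring_nf
    nlinarith [Nat.zero_le (a * t), Nat.zero_le (a * a * t), Nat.zero_le (n * a * t),
      Nat.zero_le (n * n * a * t), Nat.zero_le (n * a * a * t), Nat.zero_le (n * a * a),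
      Nat.zero_le (n * t), Nat.zero_le (n * n * t)]

section General
variable {G : Type u} [Group G] [Fintype G] {K H N Z : Subgroup G} {y : G}

theorem mem_of_fpf (hN : N ≤ H) (hy : y ∈ N[N]) (hc : H ⊓ C1[y] = ⊥) {b : G} (hb : b ∈ H)
    (h : b⁻¹ * (y * b * y⁻¹) ∈ N) : b ∈ N := by
  have key : ∀ m ∈ H, ∀ n ∈ H, m⁻¹ * (y * m * y⁻¹) = n⁻¹ * (y * n * y⁻¹) → m = n := by
    intro m hm n hn e
    refine mul_inv_eq_one.1 (mem_bot.1 (hc ▸ mem_inf.2 ⟨mul_mem hm (inv_mem hn), mem_cent1.2 ?_⟩))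
    calc m * n⁻¹ * y = m * (n⁻¹ * (y * n * y⁻¹)) * y * n⁻¹ := by group
      _ = _ := by rw [← e]; group
  let t : N → N := fun n => ⟨_, mul_mem (inv_mem n.2) (conj_mem_of_mem_norm hy n.2)⟩
  obtain ⟨n, hn⟩ := Finite.surjective_of_injective (f := t) (fun m n e =>
    Subtype.ext (key _ (hN m.2) _ (hN n.2) (congrArg Subtype.val e))) ⟨_, h⟩
  exact key _ (hN n.2) _ hb (congrArg Subtype.val hn) ▸ n.2

theorem sum_ite_mem (h : Z ≤ K) (c : ℝ) [DecidablePred (· ∈ Z)] :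
    ∑ y : K, (if (y : G) ∈ Z then c else 0) = Nat.card Z * c := by
  classical
  have := sum_subgroup_eq_sum_ite (Z.subgroupOf K) fun _ => c
  rw [Finset.sum_const, Finset.card_univ, ← Nat.card_eq_fintype_card, card_subgroupOf h,
    nsmul_eq_mul] at this
  rw [this]
  exact Finset.sum_congr rfl fun y _ => by simp [mem_subgroupOf]

theorem norm_ci_le_of_supp (h : Z ≤ K) {φ ψ : K → ℂ} {c : ℝ} (h1 : ∀ y, ‖φ y‖ ≤ c)
    (h2 : ∀ y, ‖ψ y‖ ≤ c) (h3 : ∀ y : K, φ y ≠ 0 → ψ y ≠ 0 → (y : G) ∈ Z) :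
    ‖⟪φ, ψ⟫‖ ≤ c ^ 2 / Z.relIndex K := by
  classical
  have h4 : ‖∑ y, φ y * (starRingEnd ℂ) (ψ y)‖ ≤ Nat.card Z * c ^ 2 := by
    rw [← sum_ite_mem h]
    refine (norm_sum_le _ _).trans (Finset.sum_le_sum fun y _ => ?_)
    rw [norm_mul, Complex.norm_conj]
    split_ifs with hy
    · rw [sq]; exact mul_le_mul (h1 y) (h2 y) (norm_nonneg _) ((norm_nonneg _).trans (h1 y))
    · by_cases e : φ y = 0
      · simp [e]
      · simp [by_contra fun e' => hy (h3 y e e')]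
  have h5 : (0 : ℝ) < Nat.card Z := by exact_mod_cast card_pos' Z
  have h6 : (0 : ℝ) < Z.relIndex K := by exact_mod_cast relIndex_pos Z K
  rw [ci_def, norm_mul, norm_inv, Complex.norm_natCast, ← card_mul_relIndex h, Nat.cast_mul,
    inv_mul_le_iff₀ (mul_pos h5 h6)]
  refine h4.trans (le_of_eq ?_)
  field_simp

end General

variable {G : Type u} [Group G] [Fintype G] [MFT G] {M U W₁ W₂ K Y : Subgroup G}

theorem Hyp9.three_le_q (h : Hyp9 M W₁ U W₂) : 3 ≤ Nat.card W₁ := by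
  have := h.q_prime.two_le
  have := (mFT_odd W₁).not_two_dvd_nat
  omega

theorem Hyp9.u_le (h : Hyp9 M W₁ U W₂) (D : NonGalData MF[M] (pH0 M U) U W₁ (pP M U)) {w : W₁}
    (hw : w ≠ 1) : pU M U ≤ D.a ^ (Nat.card W₁ - 3) *
      (kr (D.lamw h.typeP.U_normal 1) ⊓ kr (D.lamw h.typeP.U_normal w)).relIndex U := by
  classical
  have hn := h.typeP.U_normal
  have hY : kr (D.lamw hn 1) ⊓ kr (D.lamw hn w) ≤ U := inf_le_left.trans kr_le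
  rw [pU, ← relIndex_mul_relIndex _ _ _ (le_inf (h.C_le_kr D 1) (h.C_le_kr D w)) hY]
  refine Nat.mul_le_mul_right _ ?_
  have hw2 : w ≠ w⁻¹ := fun e => hw (by
    have h1 : w ^ 2 = 1 := by rw [sq]; nth_rewrite 1 [e]; exact inv_mul_cancel w
    exact orderOf_eq_one_iff.1 (Nat.eq_one_of_dvd_coprimes
      ((Nat.coprime_two_left).2 (mFT_odd W₁)) (orderOf_dvd_of_pow_eq_one h1)
      (orderOf_dvd_natCard w)))
  have hw3 : (1 : W₁) ≠ w⁻¹ := fun e => hw (inv_eq_one.1 e.symm)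
  let Λ : ↥(kr (D.lamw hn 1) ⊓ kr (D.lamw hn w)) →*
      ({v : W₁ // ¬ v ∈ ({1, w, w⁻¹} : Finset W₁)} → D.lam.range) :=
    (MonoidHom.pi fun v => (D.lamw hn v.1).codRestrict _ (D.lamw_mem hn v.1)).comp (inclusion hY)
  have h1 := card_subgroup_dvd_card Λ.range
  rw [card_range_eq_relIndex (C := pC M U) Λ fun x => ?_, Nat.card_fun,
    Nat.card_eq_fintype_card (α := {v : W₁ // _}), Fintype.card_subtype_compl, Fintype.card_coe,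
    Finset.card_eq_three.2 ⟨_, _, _, hw.symm, hw3, hw2, rfl⟩, ← Nat.card_eq_fintype_card] at h1
  · exact Nat.le_of_dvd (pow_pos Nat.card_pos _) h1
  refine Iff.trans ?_ (h.mem_C_iff D (inclusion hY x)).symm
  refine ⟨fun hx v => ?_, fun hx => funext fun v => Subtype.ext (hx v)⟩
  have h2 : ∀ v, v ≠ w⁻¹ → D.lamw hn v (inclusion hY x) = 1 := fun v hv => by
    by_cases e : v = 1
    · rw [e]; exact (mem_kr' (hY x.2)).1 x.2.1
    by_cases e' : v = w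
    · rw [e']; exact (mem_kr' (hY x.2)).1 x.2.2
    exact congrArg Subtype.val (congrFun hx ⟨v, by simp [e, e', hv]⟩)
  by_cases hv : v = w⁻¹
  · have h3 := h.prod_lamw D (inclusion hY x)
    rwa [Fintype.prod_eq_single v fun v' hv' => h2 v' (hv ▸ hv')] at h3
  · exact h2 v hv

/-- (9.11.4) -/
theorem Hyp9.exists_gamma (h : Hyp9 M W₁ U W₂) (D : NonGalData MF[M] (pH0 M U) U W₁ (pP M U)) :
    ∃ γ : M → ℂ, IsCharacter M γ ∧ γ 1 = (Nat.card W₁ * D.a : ℕ) ∧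
      SuppOn (insert 1 (FTsupp M)) γ ∧ (∀ φ ∈ pS M ⊥, ⟪γ, φ⟫ = 0) ∧
      pU M U * nsq γ ≤ (D.a : ℝ) ^ Nat.card W₁ + (Nat.card W₁ - 1) * D.a ^ (Nat.card W₁ - 1) := by
  classical
  have hn := h.typeP.U_normal
  have hUH := h.U_le.trans h.norm_H
  have hU₁ : kr (D.lamw hn 1) ≤ U := kr_le
  have hK := h.sup_le_der hU₁
  have hKn := h.der_norm_sup (h.C_le_kr D 1) hU₁
  have hP := FT_prDade_hypF h.max h.typeP
  have ha : (MF[M] ⊔ kr (D.lamw hn 1)).relIndex ⁅M, M⁆ = D.a := by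
    rw [h.relIndex_H_sup hU₁, D.relIndex_kr]
  set γ₀ := cInd ⁅M, M⁆ fun _ : ↥(MF[M] ⊔ kr (D.lamw hn 1)) => (1 : ℂ) with hγ₀
  have hc : IsCharacter _ γ₀ := isCharacter_one.cInd hK
  have hci : ∀ θ, ⟪cInd M γ₀, cInd M θ⟫ =
      (Nat.card ↥⁅M, M⁆ : ℂ)⁻¹ * ∑ x : M, ⟪γ₀, cConj θ x⟫ := fun θ => by
    rw [cInd_eq_nEmb (der_le M) (le_norm_der M), cInd_eq_nEmb (der_le M) (le_norm_der M),
      NormalEmb.ci_ind_ind]
    simp only [nEmb_cj]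
  refine ⟨cInd M γ₀, hc.cInd (der_le M), ?_, ?_, ?_, ?_⟩
  · rw [cInd_one (der_le M), hγ₀, cInd_one hK, ha, h.relIndex_der, mul_one, Nat.cast_mul]
  · rw [hγ₀, cInd_cInd hK (der_le M)]
    refine SuppOn.cInd (fun y hy => (hy ?_).elim) (hK.trans (der_le M))
      (conj_mem_insert_one hP.normA)
    by_cases hy1 : (y : G) = 1
    · exact Or.inl hy1
    refine Or.inr (by_contra fun hy2 => ?_)
    have := Fact.mk h.p_prime
    obtain ⟨b, hb⟩ := D.surj (Multiplicative.ofAdd (Pi.single 1 1))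
    have hyM := der_le M (hK y.2)
    have h1 := mem_of_fpf h.H0_le (h.norm_H0 hyM) (eq_bot_iff.2 fun x hx => by_contra fun hx1 =>
      hy2 (hP.centA x hx.1 hx1 y ⟨hK y.2, mem_cent1_comm.1 hx.2⟩ hy1)) b.2 ?_
    · have h2 := congrFun (congrArg Multiplicative.toAdd (hb.symm.trans ((D.ker b).2 h1))) 1
      simp at h2
    obtain ⟨a, ha, z, hz, e⟩ := (mem_sup_of_le_norm' (hU₁.trans hUH)).1 y.2
    have h2 := conj_mem_of_le_norm hUH (hU₁ hz) b.2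
    have h3 : D.phi ⟨_, h2⟩ = D.phi b := Multiplicative.toAdd.injective (funext fun v => by
      rw [D.actU' hn ⟨z, hU₁ hz⟩ b _ rfl, hb, toAdd_ofAdd]
      by_cases hv : v = 1
      · rw [hv, (mem_kr' (hU₁ hz)).1 hz, Units.val_one, one_mul]
      · rw [Pi.single_eq_of_ne hv, mul_zero])
    have h4 := (D.ker (b⁻¹ * (⟨a, ha⟩ * ⟨_, h2⟩ * (⟨a, ha⟩ : MF[M])⁻¹))).1 (by
      rw [map_mul, map_mul, map_mul, map_inv, map_inv, mul_inv_cancel_comm, h3, inv_mul_cancel])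
    simpa [e, mul_assoc] using h4
  · rintro _ ⟨θ, hθ, rfl⟩
    rw [hci, Finset.sum_eq_zero, mul_zero]
    refine fun x _ => by_contra fun hx => hθ.2.1 ((inKer_cConj_iff (le_norm_der M x.2)
      (h.norm_H x.2)).1 (InKer.of_ci_ne_zero hc (IsIrrCharacter_cConj hθ.1 (le_norm_der M x.2)) hx
      ((inKer_cInd_iff hK hKn le_sup_left h.der_norm_H isIrrCharacter_one).2 (inKer_one _))))
  have hval : ∀ y, ‖γ₀ y‖ ≤ D.a := fun y => by
    by_cases hy : (y : G) ∈ MF[M] ⊔ kr (D.lamw hn 1)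
    · rw [hγ₀, Ind1_apply hK hKn hy, ha, Complex.norm_natCast]
    · rw [hγ₀, cInd_apply_of_not_mem hK hKn _ hy, norm_zero]; positivity
  have hsupp : ∀ y, γ₀ y ≠ 0 → (y : G) ∈ MF[M] ⊔ kr (D.lamw hn 1) := fun y hy =>
    by_contra fun e => hy (cInd_apply_of_not_mem hK hKn _ e)
  have ha0 : (0 : ℝ) < D.a := by exact_mod_cast (nonGal_facts h D).1.le
  have hu0 : (0 : ℝ) < pU M U := by exact_mod_cast h.u_pos
  obtain ⟨n, hq⟩ := Nat.exists_eq_add_of_le' h.three_le_q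
  have hB : ∀ x : M, ‖⟪γ₀, cConj γ₀ x⟫‖ ≤ (D.a : ℝ) ^ (n + 2) / pU M U +
      if (x : G) ∈ ⁅M, M⁆ then D.a - (D.a : ℝ) ^ (n + 2) / pU M U else 0 := fun x => by
    have hval' : ∀ y, ‖cConj γ₀ x y‖ ≤ D.a := fun y => by
      rw [cConj_apply _ (le_norm_der M x.2)]; exact hval _
    split_ifs with hx
    · refine (norm_ci_le_of_supp hK hval hval' fun y hy _ => hsupp y hy).trans (le_of_eq ?_)
      rw [ha]
      field_simp
      ring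
    obtain ⟨k, hk, w, hw, e⟩ := (typeP_sdprod h.typeP).exists_mul x.2
    have hw1 : (⟨w, hw⟩ : W₁)⁻¹ ≠ 1 := fun e' => hx (by
      rw [e, show w = 1 from congrArg Subtype.val (inv_eq_one.1 e'), mul_one]; exact hk)
    have hY : kr (D.lamw hn 1) ⊓ kr (D.lamw hn (⟨w, hw⟩ : W₁)⁻¹) ≤ U := inf_le_left.trans kr_le
    refine (norm_ci_le_of_supp (h.sup_le_der hY) hval hval' fun y hy hy' => ?_).trans ?_
    · rw [cConj_apply _ (le_norm_der M x.2)] at hy'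
      obtain ⟨a, ha, z, hz, e'⟩ := (mem_sup_of_le_norm' (hU₁.trans hUH)).1 (hsupp y hy)
      rw [e']
      refine mul_mem (mem_sup_left ha) (mem_sup_right ⟨hz, (mem_kr' (hU₁ hz)).2 ?_⟩)
      have h1 := conj_mem_of_le_norm hn hw (hU₁ hz)
      have h2 : w * z * w⁻¹ ∈ (MF[M] ⊔ kr (D.lamw hn 1)) ⊓ U := ⟨by
        have := mul_mem (inv_mem (mem_sup_left (conj_mem_of_le_norm h.norm_H (h.W₁_le hw) ha)))
          (conj_mem_of_le_norm' hKn hk (hsupp _ hy'))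
        simpa [e, e', mul_assoc] using this, h1⟩
      rw [dedekind' (Or.inr (hU₁.trans hUH)) hU₁, h.inf_HU, bot_sup_eq] at h2
      rw [← mul_one (⟨w, hw⟩ : W₁)⁻¹, ← D.lamw_conj hn 1 ⟨w, hw⟩ (x' := ⟨_, h1⟩) rfl]
      exact (mem_kr' h1).1 h2
    · have h1 := h.u_le D hw1
      rw [hq, Nat.add_sub_cancel] at h1
      rw [h.relIndex_H_sup hY, add_zero, div_le_div_iff₀ (by exact_mod_cast relIndex_pos _ _) hu0,
        pow_add, mul_comm ((D.a : ℝ) ^ n), mul_assoc]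
      exact mul_le_mul_of_nonneg_left (by exact_mod_cast h1) (by positivity)
  have h1 : nsq (cInd M γ₀) ≤ (n + 2) * ((D.a : ℝ) ^ (n + 2) / pU M U) + D.a := by
    rw [← ci_self_re]
    refine (Complex.re_le_norm _).trans ?_
    rw [hci, norm_mul, norm_inv, Complex.norm_natCast,
      inv_mul_le_iff₀ (by exact_mod_cast card_pos' _)]
    refine ((norm_sum_le _ _).trans (Finset.sum_le_sum fun x _ => hB x)).trans (le_of_eq ?_)
    rw [Finset.sum_add_distrib, sum_ite_mem (der_le M), Finset.sum_const, Finset.card_univ,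
      ← Nat.card_eq_fintype_card, ← (typeP_sdprod h.typeP).card_mul, hq, nsmul_eq_mul]
    push_cast
    ring
  have h2 : (pU M U : ℝ) ≤ D.a ^ (n + 2) := by
    have := Nat.le_of_dvd (pow_pos (nonGal_facts h D).1.le _) (nonGal_facts h D).2.2.2.1
    rw [hq] at this
    exact_mod_cast this
  rw [hq, show n + 3 - 1 = n + 2 from rfl]
  refine (mul_le_mul_of_nonneg_left h1 hu0.le).trans ?_
  rw [mul_add, mul_left_comm, mul_div_cancel₀ _ hu0.ne', pow_succ _ (n + 2)]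
  push_cast
  nlinarith [mul_le_mul_of_nonneg_right h2 ha0.le]

/-- (9.11) -/
theorem Ptype_core_coherence (h : Hyp9 M W₁ U W₂) :
    Coh (pS M (pH0 M U ⊔ ⁅pC M U, pC M U⁆)) (tau0 M) := by
  classical
  have hP := FT_prDade_hypF h.max h.typeP
  set S := pS M (pH0 M U ⊔ ⁅pC M U, pC M U⁆) with hS
  have hSc : ConjSub S (seqIndD ⁅M, M⁆ M MF[M] ⊥) := conjSub_seqIndD le_rfl bot_le
  rcases S.eq_empty_or_nonempty with e | hne
  · rw [e]; exact coh_empty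
  obtain ⟨Q, hQ, -⟩ := hP.subcoherent hSc hne fun φ hφ =>
    seqIndD_conj_ne (der_le M) (le_norm_der M) (mFT_odd M) hφ
  by_cases hg : TypePGalois M U
  · refine uniform_degree_coherence hQ (ConjSub.refl hSc.2) ?_
    rintro _ ⟨θ, hθ, rfl⟩ _ ⟨θ', hθ', rfl⟩
    rw [cInd_one (der_le M), cInd_one (der_le M), (Galois_Ind_HC h hg hθ).1,
      (Galois_Ind_HC h hg hθ').1]
  obtain ⟨D⟩ := typeP_Galois_Pn h hg
  obtain ⟨a1, a2, a3, a4, -⟩ := nonGal_facts h D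
  have hSf : S.Finite := seqIndD_finite _ _ _ _
  have hconj : ∀ φ ∈ S, conjFun φ 1 = φ 1 := fun φ => hQ.conj_one
  have hS₁ : ConjSub {φ | φ ∈ S ∧ φ 1 = (Nat.card W₁ * D.a : ℕ)} S :=
    ⟨fun _ h => h.1, fun φ hφ => ⟨hSc.2 φ hφ.1, (hconj φ hφ.1).trans hφ.2⟩⟩
  obtain ⟨S₂, h12, ⟨c2, ν₂, coh2⟩, hmax⟩ := (hSf.finite_subsets.subset
    (t := {T | ConjSub T S ∧ Coh T (tau0 M)}) fun T hT => hT.1.1).exists_le_maximal
    ⟨hS₁, uniform_degree_coherence hQ hS₁ fun φ hφ ψ hψ => hφ.2.trans hψ.2.symm⟩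
  by_contra hcoh
  have hne2 : ∃ χ ∈ S, χ ∉ S₂ := by
    by_contra hc
    push Not at hc
    exact hcoh (Coh.subset ⟨ν₂, coh2⟩ hc)
  have hno : ∀ χ ∈ S, χ ∉ S₂ → ¬ Coh (S₂ ∪ {χ, conjFun χ}) (tau0 M) := fun χ h1 h2 h3 =>
    h2 (hmax ⟨c2.union (conjSub_pair h1 (hSc.2 χ h1)), h3⟩ Set.subset_union_left
      (Or.inr (Or.inl rfl)))
  lift S₂ to Finset (M → ℂ) using hSf.subset c2.1
  obtain ⟨⟨N, hN⟩, hN'⟩ := nonGalois_count h D
  rw [hN, Nat.mul_div_cancel_left _ (Nat.mul_pos (pow_pos a1.le 2) (card_pos' _))] at hN'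
  have hsub : pS M (pH0 M U ⊔ ⁅U, U⁆) ⊆ S :=
    seqIndD_mono le_rfl (sup_le_sup_left (commutator_mono h.C_le h.C_le) _)
  obtain ⟨T, hT⟩ : ∃ T : Finset (M → ℂ), ∀ ζ, ζ ∈ T ↔ ζ ∈ pS M (pH0 M U ⊔ ⁅U, U⁆) ∧
      IsIrrCharacter M ζ ∧ ζ 1 = (Nat.card W₁ * D.a : ℕ) :=
    ⟨(hSf.subset (t := {ζ | ζ ∈ pS M (pH0 M U ⊔ ⁅U, U⁆) ∧ IsIrrCharacter M ζ ∧
      ζ 1 = (Nat.card W₁ * D.a : ℕ)}) fun _ h => hsub h.1).toFinset, fun _ =>
        Set.Finite.mem_toFinset _⟩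
  rw [Nat.card_congr (Equiv.subtypeEquivRight fun ζ => (hT ζ).symm),
    Nat.card_eq_finsetCard] at hN'
  have hT2 : T ⊆ S₂ := fun ζ hζ => h12 ⟨hsub ((hT ζ).1 hζ).1, ((hT ζ).1 hζ).2.2⟩
  have hp := h.p_prime.two_le
  have i1 : (pP M U - 1) * pU M U ≤ T.card * D.a ^ 2 := by
    refine Nat.le_of_mul_le_mul_right (c := Nat.card ↥⁅U, U⁆) ?_ (card_pos' _)
    calc _ ≤ (pP M U - 1) * pU M U * Nat.card (pC M U) :=
          Nat.mul_le_mul_left _ (card_le_of_le h.der_le_C)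
      _ = D.a ^ 2 * Nat.card ↥⁅U, U⁆ * N := by
          rw [← hN, ← card_mul_relIndex h.C_le, pU]; ring
      _ ≤ D.a ^ 2 * Nat.card ↥⁅U, U⁆ * T.card := Nat.mul_le_mul_left _ hN'
      _ = _ := by ring
  have i2 : 2 * D.a ≤ pP M U - 1 := Nat.le_of_dvd (by omega) (Nat.Coprime.mul_dvd_of_dvd_of_dvd
    (Nat.coprime_two_left.2 ((mFT_odd U).of_dvd_nat (a3.trans (relIndex_dvd_card' _ _))))
    (Nat.Odd.sub_odd (mFT_prime_odd h.p_dvd) odd_one).two_dvd a2)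
  have hu := h.u_pos
  have hq := h.q_prime.pos
  obtain ⟨ψ₁, hψ⟩ : T.Nonempty := Finset.card_pos.1 (Nat.pos_of_mul_pos_right (lt_of_lt_of_le
    (Nat.mul_pos (by omega) hu) i1))
  have sT : ∑ φ ∈ T, (φ 1).re ^ 2 / nsq φ = (T.card * (Nat.card W₁ * D.a) ^ 2 : ℕ) := by
    rw [Finset.sum_congr rfl (g := fun _ => ((Nat.card W₁ * D.a : ℕ) : ℝ) ^ 2) fun φ hφ => by
      rw [((hT φ).1 hφ).2.2, ((hT φ).1 hφ).2.1.nsq, Complex.natCast_re, div_one],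
      Finset.sum_const, nsmul_eq_mul]
    push_cast
    ring
  have hpos : ∀ φ ∈ S, 0 < (φ 1).re ^ 2 / nsq φ := fun φ hφ => by
    obtain ⟨d, hd, e⟩ := hQ.exists_degree hφ
    rw [e, Complex.natCast_re]
    exact div_pos (by positivity) (nsq_pos (hQ.ne_zero hφ))
  have s2 : ∑ φ ∈ T, (φ 1).re ^ 2 / nsq φ ≤ ∑ φ ∈ S₂, (φ 1).re ^ 2 / nsq φ :=
    Finset.sum_le_sum_of_subset_of_nonneg hT2 fun φ hφ _ => (hpos φ (c2.1 hφ)).le
  have key : ∀ χ ∈ S, χ ∉ S₂ → χ 1 = (Nat.card W₁ * pU M U : ℕ) ∧ 2 * D.a = pP M U - 1 ∧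
      T.card * D.a ^ 2 = (pP M U - 1) * pU M U ∧
      ∑ φ ∈ S₂, (φ 1).re ^ 2 / nsq φ ≤ ∑ φ ∈ T, (φ 1).re ^ 2 / nsq φ := by
    intro χ h1 h2
    obtain ⟨θ, hθ, rfl⟩ := id h1
    obtain ⟨n, hn⟩ := nonGalois_dvd h D ⟨hθ.1, hθ.2.1, hθ.2.2.mono le_sup_left⟩
    have h3 := irr1_bound_quo hθ.1 (sup_le_sup h.H0_le (der_le _)) le_rfl (h.sup_le_der h.C_le)
      (((h.sup_le_der h.C_le).trans (der_le M)).trans h.norm_H0C') h.der_HC_le hθ.2.2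
    rw [relIndex_self, h.relIndex_HC, hn, Complex.norm_natCast, Nat.cast_one, mul_one] at h3
    have h4 : D.a * n ≤ pU M U := by
      exact_mod_cast (pow_le_pow_iff_left₀ (by positivity) (by positivity) two_ne_zero).1 h3
    have h5 : cInd M θ 1 = (Nat.card W₁ * (D.a * n) : ℕ) := by
      rw [cInd_one (der_le M), hn, h.relIndex_der, ← Nat.cast_mul]
    have h6 : ∑ φ ∈ S₂, (φ 1).re ^ 2 / nsq φ ≤
        (2 * (Nat.card W₁ * (D.a * n)) * (Nat.card W₁ * D.a) : ℕ) := by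
      by_contra h6
      obtain ⟨ν, hν, -⟩ := coh2.extend hQ c2.1 c2.2 h1 h2 (hT2 hψ) (a := n)
        (by rw [h5, ((hT _).1 hψ).2.2]; push_cast; ring) (by
          rw [h5, ((hT _).1 hψ).2.2, Complex.natCast_re, Complex.natCast_re]
          exact_mod_cast not_le.1 h6)
      exact hno _ h1 h2 ⟨ν, hν⟩
    have h7 : T.card * (Nat.card W₁ * D.a) ^ 2 ≤
        2 * (Nat.card W₁ * (D.a * n)) * (Nat.card W₁ * D.a) := by
      exact_mod_cast sT.ge.trans (s2.trans h6)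
    have h8 : T.card * D.a ^ 2 ≤ 2 * D.a * (D.a * n) :=
      Nat.le_of_mul_le_mul_left (c := Nat.card W₁ ^ 2) (by nlinarith) (by positivity)
    have h9 := Nat.mul_le_mul_left (2 * D.a) h4
    have h10 := Nat.mul_le_mul_right (pU M U) i2
    have h11 : D.a * n = pU M U := Nat.eq_of_mul_eq_mul_left (by omega : 0 < 2 * D.a) (by omega)
    refine ⟨by rw [h5, h11], Nat.eq_of_mul_eq_mul_right hu (by omega), by omega,
      h6.trans (le_of_eq_of_le ?_ sT.ge)⟩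
    have h12 : T.card * D.a ^ 2 = 2 * D.a * (D.a * n) := by omega
    congr 1
    nlinarith
  obtain ⟨χ₀, hχ₀, hχ₀'⟩ := hne2
  obtain ⟨k1, k2, k3, k4⟩ := key χ₀ hχ₀ hχ₀'
  obtain rfl : S₂ = T := by
    refine (hT2.antisymm fun φ hφ => by_contra fun hφ' => ?_).symm
    exact (Finset.sum_lt_sum_of_subset hT2 hφ hφ' (hpos φ (c2.1 hφ))
      fun φ h1 _ => (hpos φ (c2.1 h1)).le).not_ge k4
  obtain ⟨m, hm⟩ := a3
  have hm1 : 1 < m := by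
    have : m ≠ 1 := fun e => hχ₀' (h12 ⟨hχ₀, by rw [k1, hm, e, mul_one]⟩)
    have : m ≠ 0 := fun e => by rw [e] at hm; omega
    omega
  have hc : S₂.card = 2 * m := Nat.eq_of_mul_eq_mul_right (pow_pos a1.le 2) (by
    rw [k3, ← k2, hm]; ring)
  obtain ⟨χ₁, hχi, hχ1, hχ2, -⟩ := nonGalois_exists_irr h hg
  have hχS : χ₁ ∈ S := seqIndD_mono le_rfl (sup_le_sup_left (der_le _) _) hχ2
  have hχ3 : χ₁ ∉ S₂ := fun e => by
    have h1 := ((hT _).1 e).2.2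
    rw [hχ1, Nat.cast_inj, hm] at h1
    have := Nat.eq_of_mul_eq_mul_left hq h1
    nlinarith
  have m3 : ∀ χ, χ ∈ hSf.toFinset \ S₂ ↔ χ ∈ S ∧ χ ∉ S₂ := fun χ => by
    rw [Finset.mem_sdiff, Set.Finite.mem_toFinset]
  obtain ⟨γ, g1, g2, g3, g4, g5⟩ := h.exists_gamma D
  have hψS := c2.1 hψ
  have hα : IsClassFunction M (γ - ψ₁) :=
    g1.isClassFunction.sub (hQ.isCharacter _ hψS).isClassFunction
  have hαs : SuppOn (FTsupp0 M) (γ - ψ₁) := ((g3.sub (hP.seqIndD_on hψS)).of_insert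
    (by rw [Pi.sub_apply, g2, ((hT _).1 hψ).2.2, sub_self])).mono hP.subset
  refine hno χ₁ hχS hχ3 (coh_extend_911 hQ (S₃ := hSf.toFinset \ S₂) c2
    ⟨fun χ hχ => ((m3 χ).1 hχ).1, fun χ hχ => (m3 _).2 ⟨hSc.2 χ ((m3 χ).1 hχ).1, fun e =>
      ((m3 χ).1 hχ).2 (conjFun_conjFun χ ▸ c2.2 _ e)⟩⟩
    (Set.disjoint_left.2 fun χ h1 h2 => ((m3 χ).1 h2).2 h1) (fun ψ h1 => ((hT ψ).1 h1).2.1) hm1 hc
    hψ (fun ψ h1 => ((hT ψ).1 h1).2.2.trans ((hT _).1 hψ).2.2.symm) (fun χ h1 => ?_)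
    ((m3 _).2 ⟨hχS, hχ3⟩) hχi (dadeL_virt hP.dade (g1.virt.sub (hQ.virt hψS)) hαs)
    (fun φ hφ => ?_) ?_ coh2)
  · rw [(key χ ((m3 χ).1 h1).1 ((m3 χ).1 h1).2).1, ((hT _).1 hψ).2.2, hm]
    push_cast
    ring
  · rw [dadeL_ci hP.dade hα hαs (hQ.virt_zspan hφ.1).isClassFunction, ci_sub_left,
      ci_eq_zero_symm (ci_eq_zero_of_mem_zspan (fun χ h1 => ci_eq_zero_symm (g4 χ (hSc.1 h1)))
        hφ.1), zero_sub]
  rw [dadeL_nsq hP.dade hα hαs, nsq_sub_of_orth (g4 _ (hSc.1 hψS)), ((hT _).1 hψ).2.1.nsq]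
  have h1 := h.sum_pS (der_le _) (le_norm_commutator h.C_norm h.C_norm)
  rw [← Finset.sum_sdiff (s₁ := S₂) fun φ hφ => (Set.Finite.mem_toFinset _).2 (c2.1 hφ), sT,
    Finset.sum_congr rfl (g := fun χ => ((Nat.card W₁ * pU M U : ℕ) : ℝ) ^ 2 * (1 / nsq χ))
      (fun χ h1 => by
        rw [(key χ ((m3 χ).1 h1).1 ((m3 χ).1 h1).2).1, Complex.natCast_re, mul_one_div]),
    ← Finset.mul_sum, ← relIndex_mul_relIndex _ _ _ (der_le (pC M U)) h.C_le, hc] at h1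
  change _ = _ * ((_ * pU M U : ℕ) : ℝ) * _ at h1
  obtain ⟨n, hq3⟩ := Nat.exists_eq_add_of_le' h.three_le_q
  have h2 := ineq_911 (n := n) a1.le
  have h3 : (pP M U : ℝ) = 2 * D.a + 1 := by exact_mod_cast (by omega : pP M U = 2 * D.a + 1)
  have h4 : (pU M U : ℝ) ≤ D.a ^ (n + 2) := by
    have := Nat.le_of_dvd (pow_pos a1.le _) a4
    rw [hq3] at this
    exact_mod_cast this
  have h5 : (1 : ℝ) ≤ ⁅pC M U, pC M U⁆.relIndex (pC M U) := by exact_mod_cast relIndex_pos _ _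
  have hm' : (pU M U : ℝ) = D.a * m := by exact_mod_cast hm
  have hu' : (0 : ℝ) < pU M U := by exact_mod_cast hu
  rw [hq3, show n + 3 - 1 = n + 2 from rfl] at g5
  rw [h3, hq3] at h1
  have h2' : (1 : ℝ) + 2 * D.a * (n + 3) + (n + 3) * D.a ^ (n + 3) + (n + 3) ^ 2 * D.a ^ (n + 2) <
      (2 * D.a + 1) ^ (n + 3) := by exact_mod_cast h2
  push_cast at h1 g5
  have h6 : (0 : ℝ) ≤ (2 * D.a + 1) ^ (n + 3) - 1 := sub_nonneg.2 (one_le_pow₀ (by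
    linarith [Nat.cast_nonneg (α := ℝ) D.a]))
  generalize (2 * (D.a : ℝ) + 1) ^ (n + 3) = P at h1 h2' h6
  change _ * (∑ χ ∈ hSf.toFinset \ S₂, 1 / nsq χ) + _ = _ at h1
  generalize (∑ χ ∈ hSf.toFinset \ S₂, 1 / nsq χ) = s at h1 ⊢
  generalize (⁅pC M U, pC M U⁆.relIndex (pC M U) : ℝ) = r at h1 h5
  generalize nsq γ = x at g5 ⊢
  generalize (pU M U : ℝ) = u at h1 h4 hm' hu' g5
  have h7 : (n + 3) * u * s + 2 * D.a * (n + 3) = r * (P - 1) := by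
    refine mul_left_cancel₀ (mul_pos (by positivity : (0 : ℝ) < n + 3) hu').ne' ?_
    rw [hm'] at h1 ⊢
    linear_combination h1
  refine lt_of_mul_lt_mul_left ?_ (mul_pos (by positivity : (0 : ℝ) < n + 3) hu').le
  have h8 := mul_le_mul_of_nonneg_right h5 h6
  have h9 := mul_le_mul_of_nonneg_left g5 (by positivity : (0 : ℝ) ≤ n + 3)
  have h10 := mul_le_mul_of_nonneg_left h4 (by positivity : (0 : ℝ) ≤ n + 3)
  generalize (D.a : ℝ) ^ (n + 3) = A at *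
  generalize (D.a : ℝ) ^ (n + 2) = B at *
  linarith

end Cfsg.Agent.PF
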