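import Cfsg.Agent.PF.S08
import Cfsg.Agent.BG.S03

set_option autoImplicit false
set_option linter.unusedSectionVars false
set_option linter.unusedVariables false

namespace Cfsg.Agent.PF

open Subgroup Cfsg.Agent.GT Cfsg.Agent.BG Cfsg.Agent.Char

universe u v w

/-! Peterfalvi §9. Notation of the text: `H = MF[M]`, `HU = ⁅M, M⁆`, `H₀ = pH0 M U`, `C = pC M U`,
`p = pP M U`, `q = Nat.card W₁`, `u = pU M U`, `S(Y) = pS M Y`. -/

section Defs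
variable {G : Type u} [Group G]

open scoped Classical in
/-- `H₀` of (9.4) -/
noncomputable def pH0 (M U : Subgroup G) : Subgroup G :=
  if h : ∃ H₀, ChiefFactor M H₀ MF[M] ∧ MF[M] ⊓ C[U] ≤ H₀ then h.choose else ⊥

/-- `C = C_U(H / H₀)` -/
noncomputable def pC (M U : Subgroup G) : Subgroup G := U ⊓ PG.centMod MF[M] (pH0 M U)

/-- the prime `p` of (9.4) -/
noncomputable def pP (M U : Subgroup G) : ℕ := ((pH0 M U).relIndex MF[M]).minFac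

/-- `u = |U / C|` -/
noncomputable def pU (M U : Subgroup G) : ℕ := (pC M U).relIndex U

/-- `S(Y)` of (9.5) -/
abbrev pS [Finite G] (M Y : Subgroup G) : Set (M → ℂ) := seqIndD ⁅M, M⁆ M MF[M] Y

/-- `X(Y)` of (9.5) -/
abbrev pX (M Y : Subgroup G) : Set (↥⁅M, M⁆ → ℂ) := IrrKerD ⁅M, M⁆ MF[M] Y

/-- case (9.7)(b): `U` is irreducible on `H / H₀` -/
def TypePGalois (M U : Subgroup G) : Prop :=
  ∀ X : Subgroup G, pH0 M U ≤ X → X ≤ MF[M] → U ≤ N[X] → X = pH0 M U ∨ X = MF[M]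

/-- (9.7)(a): `H / H₀` is the `U W₁`-module induced from the one-dimensional `U`-module `lam` -/
structure NonGalData (H H₀ U W₁ : Subgroup G) (p : ℕ) where
  phi : H →* Multiplicative (W₁ → ZMod p)
  lam : U →* (ZMod p)ˣ
  surj : Function.Surjective phi
  ker : ∀ h : H, phi h = 1 ↔ (h : G) ∈ H₀
  actU : ∀ (x : U) (h h' : H) (w : W₁) (x' : U), (h' : G) = x * h * (x : G)⁻¹ →
    (x' : G) = (w : G)⁻¹ * x * w → (phi h').toAdd w = (lam x' : ZMod p) * (phi h).toAdd w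
  actW : ∀ (v : W₁) (h h' : H) (w : W₁), (h' : G) = v * h * (v : G)⁻¹ →
    (phi h').toAdd w = (phi h).toAdd (v⁻¹ * w)

/-- the number `a` of (9.7)(a) -/
noncomputable def NonGalData.a {H H₀ U W₁ : Subgroup G} {p : ℕ} (D : NonGalData H H₀ U W₁ p) : ℕ :=
  Nat.card D.lam.range

/-- (9.7)(b): `H / H₀` is a field `F`, `U` acts by multiplications, `W₁` as the Galois group -/
structure GalData (H H₀ U C W₁ W₂ : Subgroup G) (F : Type) [Field F] where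
  phi : H →* Multiplicative F
  psi : U →* Fˣ
  eta : W₁ →* (F ≃+* F)
  surj : Function.Surjective phi
  ker : ∀ h : H, phi h = 1 ↔ (h : G) ∈ H₀
  kerU : ∀ x : U, psi x = 1 ↔ (x : G) ∈ C
  bij : Function.Bijective eta
  actU : ∀ (x : U) (h h' : H), (h' : G) = x * h * (x : G)⁻¹ →
    (phi h').toAdd = (psi x : F) * (phi h).toAdd
  actW : ∀ (w : W₁) (h h' : H), (h' : G) = w * h * (w : G)⁻¹ → (phi h').toAdd = eta w (phi h).toAdd
  actWU : ∀ (w : W₁) (x x' : U), (x' : G) = w * x * (w : G)⁻¹ → (psi x' : F) = eta w (psi x)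
  prime : ∀ a : F, (∃ h : H, (h : G) ∈ W₂ ∧ (phi h).toAdd = a) ↔ ∃ n : ℕ, a = n

/-- `isIndHC` -/
def IsIndHC [Finite G] (M U W₁ : Subgroup G) (ζ : M → ℂ) : Prop :=
  ζ 1 = (Nat.card W₁ * pU M U : ℕ) ∧ ζ ∈ pS M (pH0 M U ⊔ pC M U) ∧
    ∃ ξ : ↥(MF[M] ⊔ pC M U) → ℂ, IsIrrCharacter _ ξ ∧ ξ 1 = 1 ∧ ζ = cInd M ξ

/-- the reducible members of `S(H₀)` -/
def pRed [Finite G] (M U : Subgroup G) : Set (M → ℂ) :=
  {φ | φ ∈ pS M (pH0 M U) ∧ ¬ IsIrrCharacter M φ}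

/-- Hypothesis (9.2) -/
structure Hyp9 (M W₁ U W₂ : Subgroup G) : Prop where
  max : IsCoatom M
  typeP : IsTypePWith M W₁ U W₂
  not5 : FTtype M ≠ 5

end Defs

variable {G : Type u} [Group G] [Fintype G] [MFT G] {M U W₁ W₂ K : Subgroup G}

theorem Hyp9.U_ne (h : Hyp9 M W₁ U W₂) : U ≠ ⊥ := (compl_of_typeII_IV h.max h.typeP h.not5).2.1
theorem Hyp9.q_prime (h : Hyp9 M W₁ U W₂) : (Nat.card W₁).Prime :=
  (compl_of_typeII_IV h.max h.typeP h.not5).2.2.1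
theorem Hyp9.frobUW (h : Hyp9 M W₁ U W₂) : Frob U W₁ (U ⊔ W₁) := typeP_Frobenius_UW h.typeP h.U_ne

theorem semiregular_card_dvd {G : Type*} [Group G] [Finite G] {K R : Subgroup G} (h : Semiregular K R) (hn : R ≤ N[K]) :
    Nat.card R ∣ Nat.card K - 1 := by
  let _ : MulAction R {x : K // x ≠ 1} :=
    { smul := fun a x => ⟨⟨a * x.1 * (a : G)⁻¹, conj_mem_of_le_norm hn a.2 x.1.2⟩, fun e => x.2 (by
        have e' : (a : G) * x.1 * (a : G)⁻¹ = 1 := congrArg Subtype.val e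
        rw [conj_eq_one_iff] at e'
        exact Subtype.ext e')⟩
      one_smul := fun x => Subtype.ext (Subtype.ext (by
        change ((1 : R) : G) * x.1 * ((1 : R) : G)⁻¹ = x.1
        simp))
      mul_smul := fun a b x => Subtype.ext (Subtype.ext (by
        change ((a * b : R) : G) * x.1 * ((a * b : R) : G)⁻¹ =
          a * (b * x.1 * (b : G)⁻¹) * (a : G)⁻¹
        simp [mul_assoc])) }
  have e := MulAction.selfEquivOrbitsQuotientProd (G := R) (X := {x : K // x ≠ 1}) fun x => by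
    rw [eq_bot_iff]
    intro a ha
    by_contra h1
    have e' : (a : G) * x.1 * (a : G)⁻¹ = x.1 :=
      congrArg (fun y : {x : K // x ≠ 1} => (y.1 : G)) ha
    refine x.2 (Subtype.ext (semiregular_iff.1 h a a.2 (fun e => h1 (Subtype.ext e)) _ x.1.2 ?_))
    rw [mul_inv_eq_iff_eq_mul] at e'
    exact e'.symm
  have h1 := Nat.card_congr e
  classical
  have := Fintype.ofFinite K
  rw [Nat.card_prod, Nat.card_eq_fintype_card, Fintype.card_subtype_compl, Fintype.card_subtype_eq,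
    ← Nat.card_eq_fintype_card] at h1
  rw [h1]
  exact Dvd.intro_left _ rfl

theorem Hyp9.H_le (h : Hyp9 M W₁ U W₂) : MF[M] ≤ M := fittingHallOf_le M
theorem Hyp9.norm_H (h : Hyp9 M W₁ U W₂) : M ≤ N[MF[M]] := self_le_norm_fittingHallOf M
theorem Hyp9.U_le (h : Hyp9 M W₁ U W₂) : U ≤ M := typeP_U_le h.typeP
theorem Hyp9.W₁_le (h : Hyp9 M W₁ U W₂) : W₁ ≤ M := typeP_W₁_le h.typeP
theorem Hyp9.UW_le (h : Hyp9 M W₁ U W₂) : U ⊔ W₁ ≤ M := sup_le h.U_le h.W₁_le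
theorem Hyp9.UW_norm_U (h : Hyp9 M W₁ U W₂) : U ⊔ W₁ ≤ N[U] :=
  sup_le le_normalizer h.typeP.U_normal
theorem Hyp9.H_sol (h : Hyp9 M W₁ U W₂) : Group.IsSolvable MF[M] :=
  solv_of_le (mmax_sol h.max) h.H_le
theorem Hyp9.sup_eq (h : Hyp9 M W₁ U W₂) : MF[M] ⊔ (U ⊔ W₁) = M :=
  (typeP_sdprod_Fcore h.typeP).sup_eq

theorem Hyp9.wielandt (h : Hyp9 M W₁ U W₂) :
    Nat.card ↥(MF[M] ⊓ C[U ⊔ W₁]) ^ Nat.card W₁ * Nat.card MF[M] =
      Nat.card W₂ ^ Nat.card W₁ * Nat.card ↥(MF[M] ⊓ C[U]) := by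
  have := (Frobenius_Wielandt_fixpoint h.frobUW (h.UW_le.trans h.norm_H)
    (typeP_coprime_HU h.typeP) h.H_sol).1
  rwa [typeP_cent_core_compl h.typeP] at this

/-- (9.3), type II -/
theorem typeII_core (h : Hyp9 M W₁ U W₂) (ht : FTtype M = 2) :
    MF[M] ⊓ C[U] = ⊥ ∧ Nat.card MF[M] = Nat.card W₂ ^ Nat.card W₁ := by
  have h1 : MF[M] ⊓ C[U] = ⊥ := by
    by_contra hne
    have e : centralizer (sharp U) = C[U] := by
      ext x
      refine ⟨fun hx y hy => ?_, fun hx y hy => hx y hy.1⟩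
      by_cases e : y = 1
      · simp [e]
      · exact hx y ⟨hy, e⟩
    have hU := (FTtypeI_II_facts h.max ht.le (U := U)
      (by rw [FTder_typeP (by omega)]; exact typeP_sdprod_der h.typeP)).2.1 (sharp U)
      (sharp_nonempty.2 h.U_ne) le_rfl (by rwa [e])
    rw [e] at hU
    exact (compl_of_typeII h.max h.typeP ht).2.2.1 ((norm_le_norm_cent U).trans hU.norm_le)
  refine ⟨h1, ?_⟩
  have h2 := h.wielandt
  have h3 : MF[M] ⊓ C[U ⊔ W₁] = ⊥ :=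
    le_bot_iff.1 (h1 ▸ inf_le_inf_left _ (cent_anti le_sup_left))
  simpa [h1, h3] using h2

/-- (9.3), types III and IV -/
theorem typeIII_IV_core (h : Hyp9 M W₁ U W₂) (ht : FTtype M ≠ 2) :
    (Nat.card W₂).Prime ∧ MF[M] ⊓ C[U ⊔ W₁] = ⊥ ∧
    Nat.card MF[M] = Nat.card W₂ ^ Nat.card W₁ * Nat.card ↥(MF[M] ⊓ C[U]) := by
  have hp : (Nat.card W₂).Prime := by
    obtain ⟨T, hT⟩ := FTtypeP_pair_witness h.max h.typeP
    obtain ⟨V, hV⟩ := hT.typeT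
    exact (compl_of_typeII hT.maxT hV (hT.type2.resolve_left ht)).1.2.2.1
  have h2 := h.wielandt
  have h1 : MF[M] ⊓ C[U ⊔ W₁] = ⊥ := by
    have h3 : MF[M] ⊓ C[U ⊔ W₁] ≤ W₂ := by
      rw [← typeP_cent_core_compl h.typeP]
      exact inf_le_inf_left _ (cent_anti le_sup_right)
    refine (eq_bot_or_eq_of_card_prime hp h3).resolve_right fun e => ?_
    rw [e] at h2
    exact typeP_not_cent h.typeP h.U_ne (le_cent_of_card_inf
      (Nat.eq_of_mul_eq_mul_left (pow_pos hp.pos _) h2).symm)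
  refine ⟨hp, h1, ?_⟩
  simpa [h1] using h2

theorem Hyp9.H0_spec (h : Hyp9 M W₁ U W₂) :
    ChiefFactor M (pH0 M U) MF[M] ∧ MF[M] ⊓ C[U] ≤ pH0 M U := by
  have hex : ∃ H₀, ChiefFactor M H₀ MF[M] ∧ MF[M] ⊓ C[U] ≤ H₀ := by
    have hle : ⁅MF[M], MF[M]⁆ ⊔ (MF[M] ⊓ C[U]) ≤ MF[M] := sup_le (der_le _) inf_le_left
    have hn : M ≤ N[⁅MF[M], MF[M]⁆ ⊔ (MF[M] ⊓ C[U])] := by
      refine h.sup_eq.ge.trans (sup_le (le_norm_of_commutator_le_of_le hle le_sup_left) ?_)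
      have h1 := h.UW_le.trans h.norm_H
      exact le_norm_sup (le_norm_commutator h1 h1) (le_norm_inf h1 (le_norm_cent h.UW_norm_U))
    have hlt : ⁅MF[M], MF[M]⁆ ⊔ (MF[M] ⊓ C[U]) < MF[M] := by
      refine lt_of_le_of_ne hle fun e => typeP_not_cent h.typeP h.U_ne ?_
      refine coprime_le_cent_of_commutator_le_frattini (Or.inl h.H_sol) (h.U_le.trans h.norm_H)
        (typeP_coprime_U h.typeP) ?_
      refine le_trans ?_ (PG.commutator_le_phi_of_nilpotent (fittingHallOf_nilpotent M))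
      have h1 := h.U_le.trans h.norm_H
      calc ⁅MF[M], U⁆ = ⁅⁅MF[M], MF[M]⁆ ⊔ (MF[M] ⊓ C[U]), U⁆ := by rw [e]
        _ = ⁅⁅MF[M], MF[M]⁆, U⁆ := commutator_sup_cent_eq
            (Or.inr (inf_le_left.trans (le_norm_der _))) inf_le_right
        _ ≤ _ := commutator_le_of_le_norm_left (le_norm_commutator h1 h1)
    obtain ⟨W, h1, h2⟩ := exists_chiefFactor_ge hlt h.H_le hn h.norm_H
    exact ⟨W, h2, le_sup_right.trans h1⟩
  rw [pH0, dif_pos hex]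
  exact hex.choose_spec

/-- (9.4) -/
theorem Hyp9.chief (h : Hyp9 M W₁ U W₂) : ChiefFactor M (pH0 M U) MF[M] := h.H0_spec.1
theorem Hyp9.cent_le_H0 (h : Hyp9 M W₁ U W₂) : MF[M] ⊓ C[U] ≤ pH0 M U := h.H0_spec.2
theorem Hyp9.H0_le (h : Hyp9 M W₁ U W₂) : pH0 M U ≤ MF[M] := h.chief.lt.le
theorem Hyp9.norm_H0 (h : Hyp9 M W₁ U W₂) : M ≤ N[pH0 M U] := h.chief.norm_bot

theorem Hyp9.elem (h : Hyp9 M W₁ U W₂) : (pP M U).Prime ∧ ⁅MF[M], MF[M]⁆ ≤ pH0 M U ∧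
    (∀ x ∈ MF[M], x ^ pP M U ∈ pH0 M U) ∧ PiNat {pP M U} ((pH0 M U).relIndex MF[M]) := by
  obtain ⟨p, hp, h1, h2, h3⟩ := h.chief.elementary h.H_sol
  have : pP M U = p := h3 _ (Nat.minFac_prime fun e =>
    h.chief.lt.not_ge (relIndex_eq_one.1 e)) (Nat.minFac_dvd _)
  rw [this]
  exact ⟨hp, h1, h2, h3⟩

theorem Hyp9.p_prime (h : Hyp9 M W₁ U W₂) : (pP M U).Prime := h.elem.1
theorem Hyp9.der_le_H0 (h : Hyp9 M W₁ U W₂) : ⁅MF[M], MF[M]⁆ ≤ pH0 M U := h.elem.2.1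
theorem Hyp9.pow_mem_H0 (h : Hyp9 M W₁ U W₂) {x : G} (hx : x ∈ MF[M]) :
    x ^ pP M U ∈ pH0 M U := h.elem.2.2.1 x hx
theorem Hyp9.p_dvd (h : Hyp9 M W₁ U W₂) : pP M U ∣ Nat.card MF[M] :=
  (Nat.minFac_dvd _).trans (relIndex_dvd_card' _ _)
theorem Hyp9.C_le (h : Hyp9 M W₁ U W₂) : pC M U ≤ U := inf_le_left
theorem Hyp9.mem_C (h : Hyp9 M W₁ U W₂) {x : G} :
    x ∈ pC M U ↔ x ∈ U ∧ ∀ y ∈ MF[M], x * y * x⁻¹ * y⁻¹ ∈ pH0 M U :=
  ⟨fun hx => ⟨hx.1, hx.2.2⟩, fun hx => ⟨hx.1, h.norm_H0 (h.U_le hx.1), hx.2⟩⟩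
theorem Hyp9.C_norm (h : Hyp9 M W₁ U W₂) : U ⊔ W₁ ≤ N[pC M U] :=
  le_norm_inf h.UW_norm_U (PG.le_norm_centMod (h.UW_le.trans h.norm_H) (h.UW_le.trans h.norm_H0))
theorem Hyp9.comm_C (h : Hyp9 M W₁ U W₂) : ⁅pC M U, MF[M]⁆ ≤ pH0 M U :=
  (commutator_mono inf_le_right le_rfl).trans PG.commutator_centMod_le
theorem Hyp9.C_lt (h : Hyp9 M W₁ U W₂) : pC M U < U := by
  refine lt_of_le_of_ne inf_le_left fun e => h.chief.lt.not_ge ?_
  have h1 := h.comm_C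
  rw [e, commutator_comm] at h1
  rw [← coprime_commutator_sup_cent (Or.inl h.H_sol) (h.U_le.trans h.norm_H)
    (typeP_coprime_U h.typeP)]
  exact sup_le h1 h.cent_le_H0

theorem Hyp9.norm_H0_sup (h : Hyp9 M W₁ U W₂) {Y : Subgroup G} (hY : Y ≤ pC M U)
    (hn : U ⊔ W₁ ≤ N[Y]) : M ≤ N[pH0 M U ⊔ Y] := by
  refine h.sup_eq.ge.trans (sup_le ?_ (le_norm_sup (h.UW_le.trans h.norm_H0) hn))
  refine le_norm_of_commutator_le (N := pH0 M U) ?_ le_sup_left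
  exact (commutator_mono (sup_le (PG.le_centMod_self (h.H_le.trans h.norm_H0))
    (hY.trans inf_le_right)) le_rfl).trans PG.commutator_centMod_le

theorem Hyp9.norm_H_sup (h : Hyp9 M W₁ U W₂) {Y : Subgroup G} (hn : U ⊔ W₁ ≤ N[Y]) :
    M ≤ N[MF[M] ⊔ Y] :=
  h.sup_eq.ge.trans (sup_le (le_norm_self le_sup_left) (le_norm_sup (h.UW_le.trans h.norm_H) hn))

theorem Hyp9.der_le_C (h : Hyp9 M W₁ U W₂) : ⁅U, U⁆ ≤ pC M U := by
  refine le_inf (der_le U) (PG.le_centMod_iff.2 ⟨((der_le U).trans h.U_le).trans h.norm_H0, ?_⟩)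
  rw [le_cent_iff_commutator_eq_bot.1 (typeP_der_cent h.typeP)]
  exact bot_le

theorem Hyp9.norm_H0C (h : Hyp9 M W₁ U W₂) : M ≤ N[pH0 M U ⊔ pC M U] :=
  h.norm_H0_sup le_rfl h.C_norm
theorem Hyp9.norm_HC (h : Hyp9 M W₁ U W₂) : M ≤ N[MF[M] ⊔ pC M U] := h.norm_H_sup h.C_norm
theorem Hyp9.norm_H0U' (h : Hyp9 M W₁ U W₂) : M ≤ N[pH0 M U ⊔ ⁅U, U⁆] :=
  h.norm_H0_sup h.der_le_C (le_norm_commutator h.UW_norm_U h.UW_norm_U)
theorem Hyp9.norm_H0C' (h : Hyp9 M W₁ U W₂) : M ≤ N[pH0 M U ⊔ ⁅pC M U, pC M U⁆] :=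
  h.norm_H0_sup (der_le _) (le_norm_commutator h.C_norm h.C_norm)

theorem Hyp9.inf_HU (h : Hyp9 M W₁ U W₂) : MF[M] ⊓ U = ⊥ := (typeP_sdprod_der h.typeP).inf_eq
theorem Hyp9.sup_HU (h : Hyp9 M W₁ U W₂) : MF[M] ⊔ U = ⁅M, M⁆ := (typeP_sdprod_der h.typeP).sup_eq

theorem Hyp9.card_sup (h : Hyp9 M W₁ U W₂) {X Y : Subgroup G} (hX : X ≤ MF[M]) (hY : Y ≤ U)
    (hn : Y ≤ N[X]) : Nat.card ↥(X ⊔ Y) = Nat.card X * Nat.card Y :=
  card_sup_of_inf_eq_bot (Or.inr hn) (le_bot_iff.1 (h.inf_HU ▸ inf_le_inf hX hY))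

theorem Hyp9.relIndex_H_sup (h : Hyp9 M W₁ U W₂) {Y : Subgroup G} (hY : Y ≤ U) :
    (MF[M] ⊔ Y).relIndex ⁅M, M⁆ = Y.relIndex U := by
  have h1 := card_mul_relIndex (h.sup_HU ▸ sup_le_sup_left hY MF[M] : MF[M] ⊔ Y ≤ ⁅M, M⁆)
  rw [h.card_sup le_rfl hY ((hY.trans h.U_le).trans h.norm_H),
    ← (typeP_sdprod_der h.typeP).card_mul, ← card_mul_relIndex hY, mul_assoc] at h1
  exact Nat.eq_of_mul_eq_mul_left (card_pos' _) (Nat.eq_of_mul_eq_mul_left (card_pos' _) h1)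

theorem Hyp9.relIndex_HC (h : Hyp9 M W₁ U W₂) :
    (MF[M] ⊔ pC M U).relIndex ⁅M, M⁆ = pU M U := h.relIndex_H_sup h.C_le
theorem Hyp9.C_eq_of_H0 (h : Hyp9 M W₁ U W₂) (h0 : pH0 M U = ⊥) : pC M U = U ⊓ C[MF[M]] := by
  rw [pC, h0, PG.centMod_bot]

theorem Hyp9.card_quo_W₁ (h : Hyp9 M W₁ U W₂) {Y : Subgroup G} (hY : Y ≤ ⁅M, M⁆)
    (hn : W₁ ≤ N[Y]) : Nat.card (quo W₁ Y) = Nat.card W₁ :=
  card_im_of_inf_eq_bot hn (by
    rw [kr_coset, inf_comm]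
    exact le_bot_iff.1 ((typeP_sdprod h.typeP).inf_eq ▸ inf_le_inf_right _ hY))

/-- `U W₁ / C` is a Frobenius group -/
theorem Hyp9.q_dvd (h : Hyp9 M W₁ U W₂) : Nat.card W₁ ∣ pU M U - 1 := by
  have h1 := le_sup_left.trans h.C_norm
  have h2 := le_sup_right.trans h.C_norm
  have h3 := semiregular_card_dvd (semiregular_im (f := coset (pC M U))
    (typeP_regular_U h.typeP) h.typeP.U_normal h1 h2) (im_norm h.typeP.U_normal)
  rwa [h.card_quo_W₁ (h.C_le.trans (typeP_U_le_der h.typeP)) h2, card_quo h1] at h3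

/-- (9.6) -/
theorem Hyp9.cent_U (h : Hyp9 M W₁ U W₂) {x : G} (hx : x ∈ MF[M])
    (hc : ∀ y ∈ U, y * x * y⁻¹ * x⁻¹ ∈ pH0 M U) : x ∈ pH0 M U := by
  obtain ⟨n, hn, c, hc', rfl⟩ := exists_mul_cent_of_commutator_mem
    (Or.inl (solv_of_le h.H_sol h.H0_le)) (h.U_le.trans h.norm_H0)
    (coprime_card_of_le (typeP_coprime_U h.typeP) h.H0_le le_rfl) (x := x) fun a ha => by
      have := inv_mem (hc a ha)
      simpa [commutatorElement_def, mul_assoc] using this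
  exact mul_mem hn (h.cent_le_H0 ⟨by simpa using mul_mem (inv_mem (h.H0_le hn)) hx, hc'⟩)

theorem Hyp9.cent_W₁ (h : Hyp9 M W₁ U W₂) {x : G} (hx : x ∈ MF[M]) :
    (∀ y ∈ W₁, y * x * y⁻¹ * x⁻¹ ∈ pH0 M U) ↔ x ∈ pH0 M U ⊔ W₂ := by
  constructor
  · intro hc
    obtain ⟨n, hn, c, hc', rfl⟩ := exists_mul_cent_of_commutator_mem
      (Or.inl (solv_of_le h.H_sol h.H0_le)) (h.W₁_le.trans h.norm_H0)
      (coprime_card_of_le (typeP_coprime_W₁ h.typeP) h.H0_le le_rfl) (x := x) fun a ha => by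
        have := inv_mem (hc a ha)
        simpa [commutatorElement_def, mul_assoc] using this
    refine mul_mem (mem_sup_left hn) (mem_sup_right ?_)
    rw [← typeP_cent_core_compl h.typeP]
    exact ⟨by simpa using mul_mem (inv_mem (h.H0_le hn)) hx, hc'⟩
  · intro hx y hy
    obtain ⟨a, ha, b, hb, rfl⟩ :=
      (mem_sup_of_le_norm' ((typeP_W₂_le h.typeP).trans h.norm_H0)).1 hx
    have hb' : y * b = b * y := (typeP_dprod h.typeP).cent' hb y hy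
    have : y * (a * b) * y⁻¹ * (a * b)⁻¹ = (y * a * y⁻¹) * a⁻¹ := by
      calc _ = y * a * (b * y⁻¹ * b⁻¹) * a⁻¹ := by group
        _ = y * a * (y⁻¹ * (y * b) * y⁻¹ * b⁻¹) * a⁻¹ := by group
        _ = _ := by rw [hb']; group
    rw [this]
    exact mul_mem (conj_mem_of_le_norm h.norm_H0 (h.W₁_le hy) ha) (inv_mem ha)

theorem Hyp9.relIndex_aux (h : Hyp9 M W₁ U W₂) :
    (pH0 M U).relIndex MF[M] = (pH0 M U).relIndex W₂ ^ Nat.card W₁ := by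
  set f := coset (pH0 M U)
  have hM := h.norm_H0
  have hU := h.U_le.trans hM
  have hW := h.W₁_le.trans hM
  have hH := h.H_le.trans hM
  have h1 := semiregular_Wielandt (M := im f MF[M]) (im_norm (f := f) h.typeP.U_normal)
    (semiregular_im (typeP_regular_U h.typeP) h.typeP.U_normal hU hW)
    (by rw [← im_sup hU hW]; exact im_norm (h.UW_le.trans h.norm_H))
    (by rw [← im_sup hU hW]; exact coprime_im (typeP_coprime_HU h.typeP)) (solvable_im h.H_sol)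
  have h2 : im f MF[M] ⊓ C[im f U] = ⊥ := by
    rw [← im_inf_cent_of_coprime' hH hU (h.U_le.trans h.norm_H) (Or.inl h.H_sol)
      (typeP_coprime_U h.typeP)]
    exact im_eq_bot_of_le (by rw [kr_coset]; exact h.cent_le_H0)
  have h3 : im f MF[M] ⊓ C[im f U ⊔ im f W₁] = ⊥ :=
    le_bot_iff.1 (h2 ▸ inf_le_inf_left _ (cent_anti le_sup_left))
  rw [h2, h3, ← im_inf_cent_of_coprime' hH hW (h.W₁_le.trans h.norm_H) (Or.inl h.H_sol)
    (typeP_coprime_W₁ h.typeP), typeP_cent_core_compl h.typeP,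
    h.card_quo_W₁ (h.H0_le.trans (typeP_Fcore_le_der h.typeP)) hW, card_quo hH,
    card_quo ((typeP_W₂_le h.typeP).trans hM)] at h1
  simpa using h1

theorem Hyp9.relIndex_W₂ (h : Hyp9 M W₁ U W₂) : (pH0 M U).relIndex W₂ = pP M U := by
  have hW := (typeP_W₂_le h.typeP).trans h.norm_H0
  have hc : IsCyclic (quo W₂ (pH0 M U)) := cyclic_im (typeP_W₂_cyclic h.typeP)
  have h1 : Nat.card (quo W₂ (pH0 M U)) ∣ pP M U := by
    rw [← IsCyclic.exponent_eq_card, Monoid.exponent_dvd_iff_forall_pow_eq_one]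
    rintro ⟨y, hy⟩
    obtain ⟨x, hx, hxW, rfl⟩ := mem_im.1 hy
    refine Subtype.ext ?_
    change (coset _ ⟨x, hx⟩) ^ _ = 1
    rw [← map_pow]
    exact (mem_kr' (pow_mem hx _)).1
      (by rw [kr_coset]; exact h.pow_mem_H0 (typeP_W₂_le_Fcore h.typeP hxW))
  rw [card_quo hW] at h1
  refine ((Nat.dvd_prime h.p_prime).1 h1).resolve_left fun e => ?_
  have h2 := h.relIndex_aux
  rw [e, one_pow] at h2
  exact h.chief.lt.not_ge (relIndex_eq_one.1 h2)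

theorem Hyp9.relIndex_H (h : Hyp9 M W₁ U W₂) :
    (pH0 M U).relIndex MF[M] = pP M U ^ Nat.card W₁ := by rw [h.relIndex_aux, h.relIndex_W₂]

theorem Hyp9.p_eq (h : Hyp9 M W₁ U W₂) (hp : (Nat.card W₂).Prime) : pP M U = Nat.card W₂ :=
  (Nat.prime_dvd_prime_iff_eq h.p_prime hp).1 (h.relIndex_W₂ ▸ relIndex_dvd_card' _ _)

end Cfsg.Agent.PF
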