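import Cfsg.Agent.PF.S09a

set_option autoImplicit false
set_option linter.unusedSectionVars false
set_option linter.unusedVariables false

namespace Cfsg.Agent.PF

open Subgroup Cfsg.Agent.GT Cfsg.Agent.BG Cfsg.Agent.Char

universe u v w

/-! Peterfalvi (9.7). -/

section SecLin
variable {G : Type u} [Group G]

/-- an elementary abelian section `H / H₀` as a vector space, with the action of `L` -/
structure SecLin (L H H₀ : Subgroup G) (p n : ℕ) where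
  f : G → (Fin n → ZMod p)
  ρ : G → Module.End (ZMod p) (Fin n → ZMod p)
  f_mul : ∀ x ∈ H, ∀ y ∈ H, f (x * y) = f x + f y
  f_eq_zero : ∀ x ∈ H, f x = 0 ↔ x ∈ H₀
  f_surj : ∀ v, ∃ x ∈ H, f x = v
  conj : ∀ g ∈ L, ∀ x ∈ H, f (g * x * g⁻¹) = ρ g (f x)
  norm : L ≤ N[H]
  le : H₀ ≤ H

variable {L H H₀ A X : Subgroup G} {p n : ℕ} {g k x y : G}

theorem exists_secLin [Finite G] [Fact p.Prime] (h0 : H₀ ≤ H) (hL : L ≤ N[H]) (hL0 : L ≤ N[H₀])
    (hH : H ≤ N[H₀]) (h1 : ⁅H, H⁆ ≤ H₀) (h2 : ∀ x ∈ H, x ^ p ∈ H₀)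
    (hc : H₀.relIndex H = p ^ n) : Nonempty (SecLin L H H₀ p n) := by
  classical
  have : IsMulCommutative (quo H H₀) := (comm_quo_iff hH).2 h1
  have hp0 : ∀ v : AbV (quo H H₀), p • v = 0 := fun v => AbV.val_injective (by
    rw [AbV.val_nsmul, AbV.val_zero]
    obtain ⟨x, hx, hxH, e⟩ := mem_im.1 v.val_mem
    rw [← e, ← map_pow]
    exact (mem_kr' (pow_mem hx _)).1 (by rw [kr_coset]; exact h2 x hxH))
  obtain ⟨_⟩ : Nonempty (Module (ZMod p) (AbV (quo H H₀))) := ⟨AddCommGroup.zmodModule hp0⟩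
  have : Module.Finite (ZMod p) (AbV (quo H H₀)) := Module.Finite.of_finite
  have hfin : Module.finrank (ZMod p) (AbV (quo H H₀)) = n := by
    have h3 := Module.natCard_eq_pow_finrank (K := ZMod p) (V := AbV (quo H H₀))
    rw [Nat.card_zmod, AbV.card_eq, card_quo hH, hc] at h3
    exact (Nat.pow_right_injective (Fact.out : p.Prime).two_le h3).symm
  let e := (Module.finBasisOfFinrankEq (ZMod p) _ hfin).equivFun
  let f : G → (Fin n → ZMod p) := fun x =>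
    if hx : x ∈ H then e (AbV.mk (coset H₀ ⟨x, hH hx⟩) (mem_im_of_mem _ hx)) else 0
  have hf : ∀ x (hx : x ∈ H), f x = e (AbV.mk (coset H₀ ⟨x, hH hx⟩) (mem_im_of_mem _ hx)) :=
    fun x hx => dif_pos hx
  have f_mul : ∀ x ∈ H, ∀ y ∈ H, f (x * y) = f x + f y := fun x hx y hy => by
    rw [hf _ (mul_mem hx hy), hf _ hx, hf _ hy, ← map_add]
    congr 1
  have f_eq_zero : ∀ x ∈ H, f x = 0 ↔ x ∈ H₀ := fun x hx => by
    rw [hf _ hx, LinearEquiv.map_eq_zero_iff, ← AbV.val_eq_one, AbV.val_mk, ← mem_kr' (hH hx),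
      kr_coset]
  have f_surj : ∀ v, ∃ x ∈ H, f x = v := fun v => by
    obtain ⟨x, hx, hxH, e'⟩ := mem_im.1 (e.symm v).val_mem
    refine ⟨x, hxH, ?_⟩
    rw [hf _ hxH, ← e.apply_symm_apply v]
    congr 1
    exact AbV.val_injective e'
  choose s hs hs' using f_surj
  have key : ∀ g ∈ L, ∀ x ∈ H, ∀ y ∈ H, f x = f y → f (g * x * g⁻¹) = f (g * y * g⁻¹) := by
    intro g hg x hx y hy hxy
    have h3 : f (y⁻¹ * x) = 0 := by
      have := f_mul y hy _ (mul_mem (inv_mem hy) hx)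
      rw [mul_inv_cancel_left, hxy] at this
      simpa using this
    have h4 := (f_eq_zero _ (h0 (conj_mem_of_le_norm hL0 hg
      ((f_eq_zero _ (mul_mem (inv_mem hy) hx)).1 h3)))).2 (conj_mem_of_le_norm hL0 hg
      ((f_eq_zero _ (mul_mem (inv_mem hy) hx)).1 h3))
    have h5 := f_mul _ (conj_mem_of_le_norm hL hg hy) _
      (conj_mem_of_le_norm hL hg (mul_mem (inv_mem hy) hx))
    rw [h4, add_zero] at h5
    rw [← h5]
    congr 1
    group
  let ρ : G → Module.End (ZMod p) (Fin n → ZMod p) := fun g =>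
    if hg : g ∈ L then (AddMonoidHom.mk' (fun v => f (g * s v * g⁻¹)) fun v w => by
      rw [← f_mul _ (conj_mem_of_le_norm hL hg (hs v)) _ (conj_mem_of_le_norm hL hg (hs w)),
        key g hg _ (hs _) _ (mul_mem (hs v) (hs w)) (by rw [f_mul _ (hs v) _ (hs w), hs', hs', hs'])]
      congr 1
      group).toZModLinearMap p else 1
  refine ⟨⟨f, ρ, f_mul, f_eq_zero, fun v => ⟨s v, hs v, hs' v⟩, fun g hg x hx => ?_, hL, h0⟩⟩
  simp only [ρ, dif_pos hg]
  exact key g hg _ hx _ (hs _) (hs' _).symm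

namespace SecLin
variable (S : SecLin L H H₀ p n)

theorem f_one : S.f 1 = 0 := (S.f_eq_zero _ (one_mem _)).2 (one_mem _)

theorem f_inv (hx : x ∈ H) : S.f x⁻¹ = - S.f x := by
  have := S.f_mul _ hx _ (inv_mem hx)
  rw [mul_inv_cancel, f_one] at this
  exact (neg_eq_of_add_eq_zero_right this.symm).symm

theorem f_pow (hx : x ∈ H) (m : ℕ) : S.f (x ^ m) = m • S.f x := by
  induction m with
  | zero => simp [S.f_one]
  | succ m ih => rw [pow_succ, S.f_mul _ (pow_mem hx m) _ hx, ih, succ_nsmul]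

theorem f_eq_iff (hx : x ∈ H) (hy : y ∈ H) : S.f x = S.f y ↔ x * y⁻¹ ∈ H₀ := by
  rw [← S.f_eq_zero _ (mul_mem hx (inv_mem hy)), S.f_mul _ hx _ (inv_mem hy), S.f_inv hy,
    ← sub_eq_add_neg, sub_eq_zero]

theorem ext_ρ {α β : Module.End (ZMod p) (Fin n → ZMod p)}
    (h : ∀ x ∈ H, α (S.f x) = β (S.f x)) : α = β := LinearMap.ext fun v => by
  obtain ⟨x, hx, rfl⟩ := S.f_surj v
  exact h x hx

theorem ρ_one : S.ρ 1 = 1 := S.ext_ρ fun x hx => by
  rw [← S.conj _ (one_mem _) _ hx]; simp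

theorem ρ_mul (hg : g ∈ L) (hk : k ∈ L) : S.ρ (g * k) = S.ρ g * S.ρ k := S.ext_ρ fun x hx => by
  rw [Module.End.mul_apply, ← S.conj _ (mul_mem hg hk) _ hx, ← S.conj _ hk _ hx,
    ← S.conj _ hg _ (conj_mem_of_le_norm S.norm hk hx)]
  congr 1
  group

theorem ρ_mul_inv (hg : g ∈ L) : S.ρ g * S.ρ g⁻¹ = 1 := by
  rw [← S.ρ_mul hg (inv_mem hg), mul_inv_cancel, ρ_one]

theorem ρ_inv_mul (hg : g ∈ L) : S.ρ g⁻¹ * S.ρ g = 1 := by
  rw [← S.ρ_mul (inv_mem hg) hg, inv_mul_cancel, ρ_one]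

theorem ρ_inv_apply (hg : g ∈ L) (v : Fin n → ZMod p) : S.ρ g⁻¹ (S.ρ g v) = v := by
  rw [← Module.End.mul_apply, S.ρ_inv_mul hg, Module.End.one_apply]

theorem ρ_apply_inv (hg : g ∈ L) (v : Fin n → ZMod p) : S.ρ g (S.ρ g⁻¹ v) = v := by
  rw [← Module.End.mul_apply, S.ρ_mul_inv hg, Module.End.one_apply]

theorem ρ_injective (hg : g ∈ L) : Function.Injective (S.ρ g) :=
  Function.LeftInverse.injective (S.ρ_inv_apply hg)

theorem ρ_eq_one_iff (hg : g ∈ L) : S.ρ g = 1 ↔ ∀ x ∈ H, g * x * g⁻¹ * x⁻¹ ∈ H₀ := by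
  refine ⟨fun h x hx => ?_, fun h => S.ext_ρ fun x hx => ?_⟩
  · rw [← S.f_eq_iff (conj_mem_of_le_norm S.norm hg hx) hx, S.conj _ hg _ hx, h,
      Module.End.one_apply]
  · rw [← S.conj _ hg _ hx, Module.End.one_apply,
      S.f_eq_iff (conj_mem_of_le_norm S.norm hg hx) hx]
    exact h x hx

/-- `f` as a group homomorphism -/
def hom : H →* Multiplicative (Fin n → ZMod p) where
  toFun x := Multiplicative.ofAdd (S.f x)
  map_one' := congrArg Multiplicative.ofAdd S.f_one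
  map_mul' x y := congrArg Multiplicative.ofAdd (S.f_mul _ x.2 _ y.2)

/-- invariant subspaces -/
def Inv (A : Subgroup G) (Y : Submodule (ZMod p) (Fin n → ZMod p)) : Prop :=
  ∀ g ∈ A, ∀ v ∈ Y, S.ρ g v ∈ Y

/-- the subgroup of a subspace -/
def sub (Y : Submodule (ZMod p) (Fin n → ZMod p)) : Subgroup G where
  carrier := {x | x ∈ H ∧ S.f x ∈ Y}
  one_mem' := ⟨one_mem _, S.f_one ▸ Y.zero_mem⟩
  mul_mem' := fun hx hy => ⟨mul_mem hx.1 hy.1, S.f_mul _ hx.1 _ hy.1 ▸ Y.add_mem hx.2 hy.2⟩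
  inv_mem' := fun hx => ⟨inv_mem hx.1, S.f_inv hx.1 ▸ Y.neg_mem hx.2⟩

theorem inv_cases (hA : A ≤ L) (h : ∀ X, H₀ ≤ X → X ≤ H → A ≤ N[X] → X = H₀ ∨ X = H)
    {Y : Submodule (ZMod p) (Fin n → ZMod p)} (hY : S.Inv A Y) : Y = ⊥ ∨ Y = ⊤ := by
  rcases h (S.sub Y) (fun x hx => ⟨S.le hx, ((S.f_eq_zero _ (S.le hx)).2 hx) ▸ Y.zero_mem⟩)
    (fun x hx => hx.1) (le_norm_iff.2 fun a ha x hx => ⟨conj_mem_of_le_norm S.norm (hA ha) hx.1,
      S.conj _ (hA ha) _ hx.1 ▸ hY a ha _ hx.2⟩) with e | e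
  · refine Or.inl (eq_bot_iff.2 fun v hv => ?_)
    obtain ⟨x, hx, rfl⟩ := S.f_surj v
    exact (S.f_eq_zero _ hx).2 (e ▸ (⟨hx, hv⟩ : x ∈ S.sub Y))
  · refine Or.inr (eq_top_iff.2 fun v _ => ?_)
    obtain ⟨x, hx, rfl⟩ := S.f_surj v
    exact (e.symm ▸ hx : x ∈ S.sub Y).2

theorem of_inv_cases (hA : A ≤ L)
    (h : ∀ Y : Submodule (ZMod p) (Fin n → ZMod p), S.Inv A Y → Y = ⊥ ∨ Y = ⊤)
    (h0 : H₀ ≤ X) (h1 : X ≤ H) (h2 : A ≤ N[X]) : X = H₀ ∨ X = H := by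
  let Y : AddSubgroup (Fin n → ZMod p) :=
    { carrier := {v | ∃ x ∈ X, S.f x = v}
      zero_mem' := ⟨1, one_mem _, S.f_one⟩
      add_mem' := by
        rintro _ _ ⟨x, hx, rfl⟩ ⟨y, hy, rfl⟩
        exact ⟨_, mul_mem hx hy, S.f_mul _ (h1 hx) _ (h1 hy)⟩
      neg_mem' := by
        rintro _ ⟨x, hx, rfl⟩
        exact ⟨_, inv_mem hx, S.f_inv (h1 hx)⟩ }
  rcases h (AddSubgroup.toZModSubmodule p Y) (by
    rintro a ha _ ⟨x, hx, rfl⟩
    exact ⟨_, conj_mem_of_le_norm h2 ha hx, S.conj _ (hA ha) _ (h1 hx)⟩) with e | e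
  · refine Or.inl (le_antisymm (fun x hx => (S.f_eq_zero _ (h1 hx)).1 ?_) h0)
    have : S.f x ∈ AddSubgroup.toZModSubmodule p Y := ⟨x, hx, rfl⟩
    rwa [e] at this
  · refine Or.inr (le_antisymm h1 fun x hx => ?_)
    have : S.f x ∈ AddSubgroup.toZModSubmodule p Y := e ▸ Submodule.mem_top
    obtain ⟨y, hy, e'⟩ := this
    have := h0 ((S.f_eq_iff (h1 hy) hx).1 e')
    simpa using mul_mem (inv_mem this) hy

/-- Clifford's theorem for a prime dimension -/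
theorem exists_line [Fact p.Prime] {U W : Subgroup G} (hU : U ≤ L) (hW : W ≤ L) (hn : W ≤ N[U])
    (hq : n.Prime) (hirr : ∀ Y, S.Inv U Y → S.Inv W Y → Y = ⊥ ∨ Y = ⊤)
    (hred : ¬ ∀ Y, S.Inv U Y → Y = ⊥ ∨ Y = ⊤) :
    ∃ v : Fin n → ZMod p, v ≠ 0 ∧ ∀ x ∈ U, ∃ c : ZMod p, S.ρ x v = c • v := by
  push Not at hred
  obtain ⟨Y₀, hY₀, h0, h1⟩ := hred
  obtain ⟨Y, ⟨hY, hne⟩, hmin⟩ := exists_minimal_of_wellFoundedLT
    (fun Y => S.Inv U Y ∧ Y ≠ ⊥) ⟨Y₀, hY₀, h0⟩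
  have hmap : ∀ w ∈ W, S.Inv U (Y.map (S.ρ w)) := by
    rintro w hw x hx _ ⟨v, hv, rfl⟩
    refine ⟨_, hY _ (conj_mem_of_le_norm' hn hw hx) v hv, ?_⟩
    rw [← Module.End.mul_apply, ← Module.End.mul_apply, ← S.ρ_mul (hU hx) (hW hw),
      ← S.ρ_mul (hW hw) (hU (conj_mem_of_le_norm' hn hw hx))]
    congr 2
    group
  obtain ⟨X, ⟨hX, hd⟩, hmax⟩ := exists_maximal_of_wellFoundedGT
    (fun X => S.Inv U X ∧ Module.finrank (ZMod p) Y ∣ Module.finrank (ZMod p) X)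
    ⟨⊥, fun g _ v hv => by rw [(Submodule.mem_bot _).1 hv, map_zero]; exact zero_mem _, by simp⟩
  have hle : ∀ w ∈ W, Y.map (S.ρ w) ≤ X := by
    intro w hw
    by_contra hnle
    have h2 : X ⊓ Y.map (S.ρ w) = ⊥ := by
      by_contra h2
      refine hnle (Submodule.map_le_iff_le_comap.2 (le_trans (hmin (y := Y ⊓ X.comap (S.ρ w))
        ⟨fun x hx v hv => ⟨hY x hx v hv.1, ?_⟩, fun e => h2 (eq_bot_iff.2 ?_)⟩ inf_le_left)
        inf_le_right))
      · have := hX _ (conj_mem_of_le_norm hn hw hx) _ hv.2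
        rw [← Module.End.mul_apply, ← S.ρ_mul (hU (conj_mem_of_le_norm hn hw hx)) (hW hw),
          inv_mul_cancel_right, S.ρ_mul (hW hw) (hU hx)] at this
        exact this
      · rintro _ ⟨hv, v, hv', rfl⟩
        have : v ∈ Y ⊓ X.comap (S.ρ w) := ⟨hv', hv⟩
        rw [e, Submodule.mem_bot] at this
        rw [this, map_zero]
        exact zero_mem _
    refine hnle (le_sup_right.trans (hmax (y := X ⊔ Y.map (S.ρ w)) ⟨fun x hx v hv => ?_, ?_⟩
      le_sup_left))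
    · obtain ⟨a, ha, b, hb, rfl⟩ := Submodule.mem_sup.1 hv
      rw [map_add]
      exact Submodule.add_mem_sup (hX x hx a ha) (hmap w hw x hx b hb)
    · have h3 := Submodule.finrank_sup_add_finrank_inf_eq X (Y.map (S.ρ w))
      rw [h2, finrank_bot, add_zero,
        ← (Submodule.equivMapOfInjective _ (S.ρ_injective (hW hw)) Y).finrank_eq] at h3
      rw [h3]
      exact dvd_add hd dvd_rfl
  have htop : X = ⊤ := by
    refine eq_top_iff.2 (le_trans (Or.resolve_left (hirr (⨆ w : W, Y.map (S.ρ w)) ?_ ?_) ?_).ge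
      (iSup_le fun w => hle w w.2))
    · intro x hx v hv
      refine Submodule.iSup_induction _ (motive := fun v => S.ρ x v ∈ _) hv (fun w v hv => ?_)
        (by rw [map_zero]; exact zero_mem _) fun a b ha hb => by rw [map_add]; exact add_mem ha hb
      exact Submodule.mem_iSup_of_mem w (hmap w w.2 x hx v hv)
    · intro x hx v hv
      refine Submodule.iSup_induction _ (motive := fun v => S.ρ x v ∈ _) hv ?_
        (by rw [map_zero]; exact zero_mem _) fun a b ha hb => by rw [map_add]; exact add_mem ha hb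
      rintro w _ ⟨v, hv, rfl⟩
      refine Submodule.mem_iSup_of_mem ⟨x * w, mul_mem hx w.2⟩ ⟨v, hv, ?_⟩
      rw [← Module.End.mul_apply, ← S.ρ_mul (hW hx) (hW w.2)]
    · intro e
      refine hne (eq_bot_iff.2 fun v hv => ?_)
      rw [← e]
      refine Submodule.mem_iSup_of_mem 1 ⟨v, hv, ?_⟩
      rw [OneMemClass.coe_one, S.ρ_one, Module.End.one_apply]
  rw [htop, finrank_top, Module.finrank_fin_fun] at hd
  rcases (Nat.dvd_prime hq).1 hd with e | e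
  · obtain ⟨v, hv0, hv⟩ := finrank_eq_one_iff'.1 e
    refine ⟨v, fun e => hv0 (Subtype.ext e), fun x hx => ?_⟩
    obtain ⟨c, hc⟩ := hv ⟨_, hY x hx v v.2⟩
    exact ⟨c, (congrArg Subtype.val hc).symm⟩
  · have : Y = ⊤ := Submodule.eq_top_of_finrank_eq (by rw [e, Module.finrank_fin_fun])
    exact (h1 (top_le_iff.1 (this ▸ hmin ⟨hY₀, h0⟩ (this ▸ le_top)))).elim

end SecLin
end SecLin

section FinField
variable {F : Type} [Field F] [Finite F] {p q : ℕ}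

theorem finField_aut (hp : p.Prime) (hF : Nat.card F = p ^ q) :
    Nat.card (F ≃+* F) = q ∧ ∀ [Fintype (F ≃+* F)] (y : F),
      ∏ σ : F ≃+* F, σ y = y ^ ((p ^ q - 1) / (p - 1)) := by
  have := Fact.mk hp
  have := Fintype.ofFinite F
  have : CharP F p := charP_of_card_eq_prime_pow (f := q) (by rw [← hF, Nat.card_eq_fintype_card])
  let _ := ZMod.algebra F p
  let e : (F ≃+* F) ≃ (F ≃ₐ[ZMod p] F) :=
    { toFun := fun σ => AlgEquiv.ofRingEquiv (f := σ) fun x => RingHom.congr_fun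
        (Subsingleton.elim ((σ : F →+* F).comp (algebraMap (ZMod p) F)) (algebraMap (ZMod p) F)) x
      invFun := fun σ => σ.toRingEquiv
      left_inv := fun _ => rfl
      right_inv := fun _ => rfl }
  have : Module.Finite (ZMod p) F := Module.Finite.of_finite
  constructor
  · rw [Nat.card_congr e, IsGalois.card_aut_eq_finrank]
    have h3 := Module.natCard_eq_pow_finrank (K := ZMod p) (V := F)
    rw [Nat.card_zmod, hF] at h3
    exact (Nat.pow_right_injective hp.two_le h3).symm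
  · intro _ y
    have h1 := FiniteField.algebraMap_norm_eq_pow (K := ZMod p) (x := y)
    rw [Algebra.norm_eq_prod_automorphisms, Nat.card_zmod, hF] at h1
    rw [← h1]
    exact Fintype.prod_equiv e _ _ fun _ => rfl

end FinField

variable {G : Type u} [Group G] [Fintype G] [MFT G] {M U W₁ W₂ K : Subgroup G}

theorem Hyp9.secLin (h : Hyp9 M W₁ U W₂) :
    Nonempty (SecLin M MF[M] (pH0 M U) (pP M U) (Nat.card W₁)) :=
  haveI := Fact.mk h.p_prime
  exists_secLin h.H0_le h.norm_H h.norm_H0 (h.H_le.trans h.norm_H0) h.der_le_H0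
    (fun _ => h.pow_mem_H0) h.relIndex_H

theorem Hyp9.exists_mul (h : Hyp9 M W₁ U W₂) {g : G} (hg : g ∈ M) :
    ∃ a ∈ MF[M], ∃ x ∈ U, ∃ w ∈ W₁, g = a * x * w := by
  obtain ⟨a, ha, b, hb, rfl⟩ := (typeP_sdprod_Fcore h.typeP).exists_mul hg
  obtain ⟨x, hx, w, hw, rfl⟩ := (typeP_sdprod_UW h.typeP).exists_mul hb
  exact ⟨a, ha, x, hx, w, hw, (mul_assoc _ _ _).symm⟩

theorem Hyp9.ρ_H (h : Hyp9 M W₁ U W₂) {p n : ℕ} (S : SecLin M MF[M] (pH0 M U) p n) {a : G}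
    (ha : a ∈ MF[M]) : S.ρ a = 1 :=
  (S.ρ_eq_one_iff (h.H_le ha)).2 fun _ hx => h.der_le_H0 (commutator_mem_commutator ha hx)

theorem Hyp9.ρ_C (h : Hyp9 M W₁ U W₂) {p n : ℕ} (S : SecLin M MF[M] (pH0 M U) p n) {x : G}
    (hx : x ∈ U) : S.ρ x = 1 ↔ x ∈ pC M U := by
  rw [S.ρ_eq_one_iff (h.U_le hx), h.mem_C, and_iff_right hx]

theorem Hyp9.secLin_irr (h : Hyp9 M W₁ U W₂) {p n : ℕ} (S : SecLin M MF[M] (pH0 M U) p n)
    (Y : Submodule (ZMod p) (Fin n → ZMod p)) (h1 : S.Inv U Y) (h2 : S.Inv W₁ Y) :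
    Y = ⊥ ∨ Y = ⊤ :=
  S.inv_cases le_rfl (fun _ => h.chief.eq_or_eq) fun g hg v hv => by
    obtain ⟨a, ha, x, hx, w, hw, rfl⟩ := h.exists_mul hg
    rw [S.ρ_mul (mul_mem (h.H_le ha) (h.U_le hx)) (h.W₁_le hw), S.ρ_mul (h.H_le ha) (h.U_le hx),
      h.ρ_H S ha, one_mul]
    exact h1 x hx _ (h2 w hw v hv)

/-- a `W₁`-invariant homomorphism from `U` to an abelian group is trivial -/
theorem Hyp9.hom_eq_one (h : Hyp9 M W₁ U W₂) {A : Type*} [CommGroup A] (χ : U →* A)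
    (hχ : ∀ (w : W₁) (x x' : U), (x' : G) = w * x * (w : G)⁻¹ → χ x' = χ x) (x : U) : χ x = 1 := by
  have h1 := coprime_commutator_sup_cent (H := U) (A := W₁)
    (Or.inl (solv_of_le (mmax_sol h.max) h.U_le)) h.typeP.U_normal (typeP_coprime_UW h.typeP)
  rw [(typeP_regular_U h.typeP).inf_cent le_rfl h.typeP.W₁_ne, sup_bot_eq] at h1
  have h2 : ⁅U, W₁⁆ ≤ kr χ := commutator_le.2 fun x hx w hw => by
    have h3 := conj_mem_of_le_norm h.typeP.U_normal hw (inv_mem hx)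
    have e : x * w * x⁻¹ * w⁻¹ = x * (w * x⁻¹ * w⁻¹) := by group
    rw [commutatorElement_def, e, mem_kr' (mul_mem hx h3)]
    change χ (⟨x, hx⟩ * ⟨_, h3⟩) = 1
    rw [map_mul, hχ ⟨w, hw⟩ (⟨x, hx⟩⁻¹) ⟨_, h3⟩ rfl, map_inv, mul_inv_cancel]
  exact (mem_kr' x.2).1 (h2 (h1.symm ▸ x.2))

/-- (9.7)(a) -/
theorem typeP_Galois_Pn (h : Hyp9 M W₁ U W₂) (hg : ¬ TypePGalois M U) :
    Nonempty (NonGalData MF[M] (pH0 M U) U W₁ (pP M U)) := by
  classical
  have := Fact.mk h.p_prime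
  obtain ⟨S⟩ := h.secLin
  obtain ⟨v, hv0, hv⟩ := S.exists_line h.U_le h.W₁_le h.typeP.U_normal h.q_prime (h.secLin_irr S)
    fun hh => hg fun X => S.of_inv_cases h.U_le hh
  choose c hc using hv
  have hc0 : ∀ x hx, c x hx ≠ 0 := fun x hx e => hv0 (S.ρ_injective (h.U_le hx) (by
    rw [hc x hx, e, zero_smul, map_zero]))
  let lam : U →* (ZMod (pP M U))ˣ := MonoidHom.mk' (fun x => Units.mk0 (c x x.2) (hc0 x x.2))
    fun x y => Units.ext (smul_left_injective (ZMod (pP M U)) hv0 (by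
      change c _ (x * y).2 • v = (c x x.2 * c y y.2) • v
      rw [← hc, Subgroup.coe_mul, S.ρ_mul (h.U_le x.2) (h.U_le y.2), Module.End.mul_apply,
        hc y y.2, map_smul, hc x x.2, smul_smul, mul_comm]))
  have hlam : ∀ x : U, S.ρ x v = (lam x : ZMod (pP M U)) • v := fun x => hc x x.2
  have := Fintype.ofFinite W₁
  let Ψ := Fintype.linearCombination (ZMod (pP M U)) fun w : W₁ => S.ρ w v
  have hU : ∀ (x : U) (d : W₁ → ZMod (pP M U)), S.ρ x (Ψ d) = Ψ fun w =>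
      (lam ⟨_, conj_mem_of_le_norm' h.typeP.U_normal w.2 x.2⟩ : ZMod (pP M U)) * d w := by
    intro x d
    simp only [Ψ, Fintype.linearCombination_apply, map_sum, map_smul]
    refine Finset.sum_congr rfl fun w _ => ?_
    rw [mul_comm, mul_smul, ← map_smul (S.ρ w), ← hlam, ← Module.End.mul_apply,
      ← Module.End.mul_apply, ← S.ρ_mul (h.U_le x.2) (h.W₁_le w.2),
      ← S.ρ_mul (h.W₁_le w.2) (h.U_le (conj_mem_of_le_norm' h.typeP.U_normal w.2 x.2))]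
    congr 3
    group
  have hW : ∀ (y : W₁) (d : W₁ → ZMod (pP M U)), S.ρ y (Ψ d) = Ψ fun w => d (y⁻¹ * w) := by
    intro y d
    simp only [Ψ, Fintype.linearCombination_apply, map_sum, map_smul]
    refine Fintype.sum_equiv (Equiv.mulLeft y) _ _ fun w => ?_
    rw [Equiv.coe_mulLeft, inv_mul_cancel_left, Subgroup.coe_mul,
      S.ρ_mul (h.W₁_le y.2) (h.W₁_le w.2), Module.End.mul_apply]
  have hsurj : Function.Surjective Ψ := by
    rw [← LinearMap.range_eq_top]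
    refine (h.secLin_irr S _ ?_ ?_).resolve_left fun e => hv0 ?_
    · rintro x hx _ ⟨d, rfl⟩
      exact ⟨_, (hU ⟨x, hx⟩ d).symm⟩
    · rintro x hx _ ⟨d, rfl⟩
      exact ⟨_, (hW ⟨x, hx⟩ d).symm⟩
    · rw [← Submodule.mem_bot (ZMod (pP M U)), ← e]
      refine ⟨Pi.single 1 1, ?_⟩
      simp [Ψ, S.ρ_one]
  let e := LinearEquiv.ofBijective Ψ ⟨(LinearMap.injective_iff_surjective_of_finrank_eq_finrank
    (by simp)).2 hsurj, hsurj⟩
  have he : ∀ d, e.symm (Ψ d) = d := e.symm_apply_apply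
  refine ⟨⟨(AddMonoidHom.toMultiplicative e.symm.toAddMonoidHom).comp S.hom, lam, fun d => ?_,
    fun x => ?_, fun x a a' w x' e1 e2 => ?_, fun y a a' w e1 => ?_⟩⟩
  · obtain ⟨x, hx, e'⟩ := S.f_surj (Ψ d.toAdd)
    refine ⟨⟨x, hx⟩, ?_⟩
    change Multiplicative.ofAdd (e.symm (S.f x)) = d
    rw [e', he]
    rfl
  · change e.symm (S.f x) = 0 ↔ _
    rw [LinearEquiv.map_eq_zero_iff, S.f_eq_zero _ x.2]
  · change e.symm (S.f a') w = _ * e.symm (S.f a) w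
    obtain ⟨d, hd⟩ := hsurj (S.f a)
    rw [e1, S.conj _ (h.U_le x.2) _ a.2, ← hd, hU, he, he]
    congr 3
    exact Subtype.ext e2.symm
  · change e.symm (S.f a') w = e.symm (S.f a) _
    obtain ⟨d, hd⟩ := hsurj (S.f a)
    rw [e1, S.conj _ (h.W₁_le y.2) _ a.2, ← hd, hW, he, he]

theorem NonGalData.phi_eq_iff {H H₀ : Subgroup G} {p : ℕ} (D : NonGalData H H₀ U W₁ p) (a b : H) :
    D.phi a = D.phi b ↔ (a : G) * (b : G)⁻¹ ∈ H₀ := by
  rw [← mul_inv_eq_one, ← map_inv, ← map_mul, D.ker]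
  rfl

/-- `x ↦ λ(w⁻¹ x w)` -/
noncomputable def NonGalData.lamw {H H₀ : Subgroup G} {p : ℕ} (D : NonGalData H H₀ U W₁ p)
    (hn : W₁ ≤ N[U]) (w : W₁) : U →* (ZMod p)ˣ :=
  MonoidHom.mk' (fun x => D.lam ⟨_, conj_mem_of_le_norm' hn w.2 x.2⟩) fun x y => by
    rw [← map_mul]
    congr 1
    exact Subtype.ext (by simp [mul_assoc])

theorem NonGalData.lamw_one {H H₀ : Subgroup G} {p : ℕ} (D : NonGalData H H₀ U W₁ p)
    (hn : W₁ ≤ N[U]) : D.lamw hn 1 = D.lam := by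
  ext1 x
  change D.lam _ = _
  congr 1
  exact Subtype.ext (by simp)

theorem NonGalData.lamw_conj {H H₀ : Subgroup G} {p : ℕ} (D : NonGalData H H₀ U W₁ p)
    (hn : W₁ ≤ N[U]) (w v : W₁) {x x' : U} (e : (x' : G) = v * x * (v : G)⁻¹) :
    D.lamw hn w x' = D.lamw hn (v⁻¹ * w) x := by
  change D.lam _ = D.lam _
  congr 1
  exact Subtype.ext (by simp [e, mul_assoc])

theorem NonGalData.lamw_mem {H H₀ : Subgroup G} {p : ℕ} (D : NonGalData H H₀ U W₁ p)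
    (hn : W₁ ≤ N[U]) (w : W₁) (x : U) : D.lamw hn w x ∈ D.lam.range := ⟨_, rfl⟩

theorem NonGalData.actU' {H H₀ : Subgroup G} {p : ℕ} (D : NonGalData H H₀ U W₁ p)
    (hn : W₁ ≤ N[U]) (x : U) (a a' : H) (e : (a' : G) = x * a * (x : G)⁻¹) (w : W₁) :
    (D.phi a').toAdd w = (D.lamw hn w x : ZMod p) * (D.phi a).toAdd w :=
  D.actU x a a' w _ e rfl

theorem Hyp9.mem_C_iff (h : Hyp9 M W₁ U W₂) (D : NonGalData MF[M] (pH0 M U) U W₁ (pP M U))
    (x : U) : (x : G) ∈ pC M U ↔ ∀ w, D.lamw h.typeP.U_normal w x = 1 := by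
  rw [h.mem_C, and_iff_right x.2]
  refine ⟨fun hx w => ?_, fun hx y hy => ?_⟩
  · obtain ⟨a, ha⟩ := D.surj (Multiplicative.ofAdd 1)
    have h1 := conj_mem_of_le_norm h.norm_H (h.U_le x.2) a.2
    have h2 := D.actU' h.typeP.U_normal x a ⟨_, h1⟩ rfl w
    rw [(D.phi_eq_iff ⟨_, h1⟩ a).2 (hx a a.2), ha] at h2
    exact Units.ext (by simpa using h2.symm)
  · have h1 := conj_mem_of_le_norm h.norm_H (h.U_le x.2) hy
    refine (D.phi_eq_iff ⟨_, h1⟩ ⟨y, hy⟩).1 (Multiplicative.toAdd.injective (funext fun w => ?_))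
    rw [D.actU' h.typeP.U_normal x ⟨y, hy⟩ ⟨_, h1⟩ rfl w, hx, Units.val_one, one_mul]

theorem Hyp9.prod_lamw (h : Hyp9 M W₁ U W₂) (D : NonGalData MF[M] (pH0 M U) U W₁ (pP M U))
    [Fintype W₁] (x : U) : ∏ w, D.lamw h.typeP.U_normal w x = 1 := by
  have := h.hom_eq_one (∏ w, D.lamw h.typeP.U_normal w) (fun v x x' e => by
    simp only [MonoidHom.finset_prod_apply]
    exact Fintype.prod_equiv (Equiv.mulLeft v⁻¹) _ _ fun w => D.lamw_conj _ w v e) x
  rwa [MonoidHom.finset_prod_apply] at this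

omit [Fintype G] [MFT G] in
theorem card_range_eq_relIndex {A : Type*} [Group A] {C : Subgroup G} (χ : U →* A)
    (h : ∀ x : U, χ x = 1 ↔ (x : G) ∈ C) : Nat.card χ.range = C.relIndex U := by
  rw [← index_ker, relIndex]
  congr 1
  ext x
  exact h x

theorem nonGal_facts (h : Hyp9 M W₁ U W₂) (D : NonGalData MF[M] (pH0 M U) U W₁ (pP M U)) :
    1 < D.a ∧ D.a ∣ pP M U - 1 ∧ D.a ∣ pU M U ∧ pU M U ∣ D.a ^ (Nat.card W₁ - 1) ∧
    (∀ x : U, (x : G) ∈ pC M U ↔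
      ∀ (w : W₁) (x' : U), (x' : G) = (w : G)⁻¹ * x * w → D.lam x' = 1) ∧
    (∀ x ∈ U, x ^ D.a ∈ pC M U) ∧ ¬ TypePGalois M U := by
  classical
  have := Fact.mk h.p_prime
  have := Fintype.ofFinite W₁
  have hn := h.typeP.U_normal
  have hpow : ∀ x ∈ U, x ^ D.a ∈ pC M U := fun x hx => by
    refine (h.mem_C_iff D (⟨x, hx⟩ ^ D.a)).2 fun w => ?_
    rw [map_pow]
    exact congrArg Subtype.val (pow_card_eq_one' (x := (⟨_, D.lamw_mem hn w ⟨x, hx⟩⟩ : D.lam.range)))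
  refine ⟨?_, ?_, ?_, ?_, fun x => (h.mem_C_iff D x).trans ⟨fun hx w x' e => ?_,
    fun hx w => hx w _ rfl⟩, hpow, fun hg => ?_⟩
  · refine lt_of_le_of_ne Nat.card_pos fun e => h.C_lt.not_ge fun x hx => ?_
    simpa [← e] using hpow x hx
  · have := card_subgroup_dvd_card D.lam.range
    rwa [Nat.card_eq_fintype_card (α := (ZMod _)ˣ), ZMod.card_units] at this
  · rw [NonGalData.a, ← index_ker]
    refine index_dvd_of_le fun x hx => ?_
    rw [MonoidHom.mem_ker, ← D.lamw_one hn]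
    exact (h.mem_C_iff D x).1 hx 1
  · let Λ : U →* ({w : W₁ // w ≠ 1} → D.lam.range) :=
      Pi.monoidHom fun w => (D.lamw hn w).codRestrict _ (D.lamw_mem hn w)
    have h1 := card_subgroup_dvd_card Λ.range
    rw [card_range_eq_relIndex (C := pC M U) Λ fun x => ?_, Nat.card_fun,
      Nat.card_eq_fintype_card (α := {w : W₁ // w ≠ 1}), Fintype.card_subtype_compl,
      Fintype.card_subtype_eq, ← Nat.card_eq_fintype_card] at h1
    · exact h1
    rw [h.mem_C_iff D]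
    refine ⟨fun hx w => ?_, fun hx => funext fun w => Subtype.ext (hx w)⟩
    have h2 : ∀ w, w ≠ 1 → D.lamw hn w x = 1 := fun w hw =>
      congrArg Subtype.val (congrFun hx ⟨w, hw⟩)
    by_cases hw : w = 1
    · have h3 := h.prod_lamw D x
      rwa [Fintype.prod_eq_single w fun v hv => h2 v (hw ▸ hv)] at h3
    · exact h2 w hw
  · rw [← hx w]
    change D.lam _ = D.lam _
    congr 1
    exact Subtype.ext e
  · let X : Subgroup G := pre ((AddMonoidHom.toMultiplicative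
      (Pi.evalAddMonoidHom (fun _ : W₁ => ZMod (pP M U)) 1)).comp D.phi) ⊥
    have hX : ∀ a : MF[M], (a : G) ∈ X ↔ (D.phi a).toAdd 1 = 0 := fun a => mem_pre' a.2
    rcases hg X (fun x hx => (hX ⟨x, h.H0_le hx⟩).2 (by
        rw [(D.ker ⟨x, h.H0_le hx⟩).2 hx]; rfl)) pre_le
      (le_norm_iff.2 fun x hx y hy => by
        have h1 := conj_mem_of_le_norm h.norm_H (h.U_le hx) (pre_le hy)
        refine (hX ⟨_, h1⟩).2 ?_
        rw [D.actU' hn ⟨x, hx⟩ ⟨y, pre_le hy⟩ ⟨_, h1⟩ rfl 1, (hX ⟨y, pre_le hy⟩).1 hy, mul_zero])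
      with e | e
    · obtain ⟨w, hw, hw1⟩ := exists_ne_one_of_ne_bot h.typeP.W₁_ne
      have hw2 : (1 : W₁) ≠ ⟨w, hw⟩ := fun e => hw1 (congrArg Subtype.val e).symm
      obtain ⟨a, ha⟩ := D.surj (Multiplicative.ofAdd (Pi.single ⟨w, hw⟩ 1))
      have h1 := (D.ker a).2 (e ▸ (hX a).2 (by rw [ha]; exact Pi.single_eq_of_ne hw2 1))
      rw [ha] at h1
      have h2 := congrFun (congrArg Multiplicative.toAdd h1) ⟨w, hw⟩
      simp at h2
    · obtain ⟨a, ha⟩ := D.surj (Multiplicative.ofAdd 1)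
      have h1 := (hX a).1 (e.symm ▸ a.2)
      rw [ha] at h1
      simp at h1

theorem exists_galData (h : Hyp9 M W₁ U W₂) (hg : TypePGalois M U) :
    ∃ (F : Type) (_ : Field F) (_ : Finite F), Nat.card F = pP M U ^ Nat.card W₁ ∧
      Nonempty (GalData MF[M] (pH0 M U) U (pC M U) W₁ W₂ F) := by
  classical
  have := Fact.mk h.p_prime
  obtain ⟨S⟩ := h.secLin
  have hirr : ∀ {Y}, S.Inv U Y → Y = ⊥ ∨ Y = ⊤ := S.inv_cases h.U_le hg
  have hcomm : ∀ x ∈ U, ∀ y ∈ U, S.ρ x * S.ρ y = S.ρ y * S.ρ x := fun x hx y hy => by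
    have h1 := (h.ρ_C S (der_le U (commutator_mem_commutator hx hy))).2
      (h.der_le_C (commutator_mem_commutator hx hy))
    have hx' := h.U_le hx
    have hy' := h.U_le hy
    rw [← S.ρ_mul hx' hy', ← S.ρ_mul hy' hx', ← one_mul (S.ρ (y * x)), ← h1,
      ← S.ρ_mul (h.U_le (der_le U (commutator_mem_commutator hx hy))) (mul_mem hy' hx')]
    congr 1
    rw [commutatorElement_def]
    group
  let F := Subring.centralizer (S.ρ '' U)
  have hF : ∀ {α}, α ∈ F ↔ ∀ x ∈ U, S.ρ x * α = α * S.ρ x := fun {α} => by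
    simp only [F, Subring.mem_centralizer_iff, Set.forall_mem_image, SetLike.mem_coe]
  have hinj : ∀ α : F, α ≠ 0 → ∀ v, α.1 v = 0 → v = 0 := fun α hα v hv => by
    have := (hirr (Y := LinearMap.ker α.1) fun x hx v hv => by
      rw [LinearMap.mem_ker, ← Module.End.mul_apply, ← hF.1 α.2 x hx, Module.End.mul_apply,
        LinearMap.mem_ker.1 hv, map_zero]).resolve_right fun e =>
          hα (Subtype.ext (LinearMap.ker_eq_top.1 e))
    exact (Submodule.mem_bot _).1 (this ▸ LinearMap.mem_ker.2 hv)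
  obtain ⟨h₀, hW, hH0⟩ : ∃ x ∈ W₂, x ∉ pH0 M U := by
    by_contra hc
    push Not at hc
    exact h.p_prime.ne_one (h.relIndex_W₂.symm.trans (relIndex_eq_one.2 hc))
  have hWH := typeP_W₂_le_Fcore h.typeP
  have hv0 : S.f h₀ ≠ 0 := mt (S.f_eq_zero _ (hWH hW)).1 hH0
  have hfix : ∀ w ∈ W₁, S.ρ w (S.f h₀) = S.f h₀ := fun w hw => by
    rw [← S.conj _ (h.W₁_le hw) _ (hWH hW), (typeP_dprod h.typeP).cent' hW w hw,
      mul_inv_cancel_right]
  have : Finite (Module.End (ZMod (pP M U)) (Fin (Nat.card W₁) → ZMod (pP M U))) :=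
    Finite.of_injective _ DFunLike.coe_injective
  have : Nontrivial F := ⟨0, 1, fun e => hv0
    (LinearMap.congr_fun (congrArg Subtype.val e) (S.f h₀)).symm⟩
  have : NoZeroDivisors F := ⟨fun {α β} e => by
    by_contra hc
    push Not at hc
    exact hc.2 (Subtype.ext (LinearMap.ext fun v => hinj α hc.1 _
      (LinearMap.congr_fun (congrArg Subtype.val e) v)))⟩
  have := NoZeroDivisors.to_isDomain F
  let _ : Field F := (Finite.isDomain_to_isField F).toField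
  have hρ : ∀ x ∈ U, S.ρ x ∈ F := fun x hx => hF.2 fun y hy => hcomm y hy x hx
  let ev : F →+ (Fin (Nat.card W₁) → ZMod (pP M U)) :=
    AddMonoidHom.mk' (fun α => α.1 (S.f h₀)) fun _ _ => rfl
  have hbij : Function.Bijective ev := by
    refine ⟨(injective_iff_map_eq_zero ev).2 fun α e => by_contra fun hα => hv0 (hinj α hα _ e), ?_⟩
    have := (hirr (Y := AddSubgroup.toZModSubmodule _ ev.range) (by
      rintro x hx _ ⟨α, rfl⟩
      exact ⟨⟨_, hρ x hx⟩ * α, rfl⟩)).resolve_left fun e => hv0 (by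
        rw [← Submodule.mem_bot (ZMod (pP M U)), ← e]
        exact ⟨1, rfl⟩)
    intro v
    exact (this ▸ Submodule.mem_top : v ∈ AddSubgroup.toZModSubmodule _ ev.range)
  let e := AddEquiv.ofBijective ev hbij
  have he : ∀ α : F, e.symm (α.1 (S.f h₀)) = α := e.symm_apply_apply
  have hcard : Nat.card F = pP M U ^ Nat.card W₁ := by
    rw [Nat.card_congr e.toEquiv, Nat.card_fun, Nat.card_zmod, Nat.card_fin]
  have hconj : ∀ w ∈ W₁, ∀ α ∈ F, S.ρ w * α * S.ρ w⁻¹ ∈ F := fun w hw α hα => hF.2 fun x hx => by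
    have h1 := conj_mem_of_le_norm' h.typeP.U_normal hw hx
    have h2 : S.ρ x = S.ρ w * S.ρ (w⁻¹ * x * w) * S.ρ w⁻¹ := by
      rw [← S.ρ_mul (h.W₁_le hw) (h.U_le h1),
        ← S.ρ_mul (mul_mem (h.W₁_le hw) (h.U_le h1)) (inv_mem (h.W₁_le hw))]
      congr 1
      group
    have h3 := S.ρ_inv_mul (h.W₁_le hw)
    rw [h2]
    calc _ = S.ρ w * S.ρ (w⁻¹ * x * w) * (S.ρ w⁻¹ * S.ρ w) * α * S.ρ w⁻¹ := by
          simp only [mul_assoc]
      _ = S.ρ w * (S.ρ (w⁻¹ * x * w) * α) * S.ρ w⁻¹ := by simp only [h3, mul_one, mul_assoc]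
      _ = S.ρ w * α * (S.ρ w⁻¹ * S.ρ w) * S.ρ (w⁻¹ * x * w) * S.ρ w⁻¹ := by
          rw [hF.1 hα _ h1]; simp only [h3, mul_one, mul_assoc]
      _ = _ := by simp only [mul_assoc]
  let η₀ : W₁ → F ≃+* F := fun w =>
    { toFun := fun α => ⟨_, hconj w w.2 α α.2⟩
      invFun := fun α => ⟨_, hconj _ (inv_mem w.2) α α.2⟩
      left_inv := fun α => Subtype.ext (by
        change S.ρ (w : G)⁻¹ * (S.ρ w * α * S.ρ (w : G)⁻¹) * S.ρ (w : G)⁻¹⁻¹ = α
        rw [inv_inv]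
        calc _ = (S.ρ (w : G)⁻¹ * S.ρ w) * α * (S.ρ (w : G)⁻¹ * S.ρ w) := by simp only [mul_assoc]
          _ = _ := by rw [S.ρ_inv_mul (h.W₁_le w.2), one_mul, mul_one])
      right_inv := fun α => Subtype.ext (by
        change S.ρ w * (S.ρ (w : G)⁻¹ * α * S.ρ (w : G)⁻¹⁻¹) * S.ρ (w : G)⁻¹ = α
        rw [inv_inv]
        calc _ = (S.ρ w * S.ρ (w : G)⁻¹) * α * (S.ρ w * S.ρ (w : G)⁻¹) := by simp only [mul_assoc]
          _ = _ := by rw [S.ρ_mul_inv (h.W₁_le w.2), one_mul, mul_one])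
      map_mul' := fun α β => Subtype.ext (by
        change S.ρ w * (α.1 * β.1) * S.ρ (w : G)⁻¹ =
          (S.ρ w * α * S.ρ (w : G)⁻¹) * (S.ρ w * β * S.ρ (w : G)⁻¹)
        calc _ = S.ρ w * α * (S.ρ (w : G)⁻¹ * S.ρ w) * β * S.ρ (w : G)⁻¹ := by
              rw [S.ρ_inv_mul (h.W₁_le w.2)]; simp only [mul_one, mul_assoc]
          _ = _ := by simp only [mul_assoc])
      map_add' := fun α β => Subtype.ext (by
        change S.ρ w * (α.1 + β.1) * S.ρ (w : G)⁻¹ =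
          (S.ρ w * α * S.ρ (w : G)⁻¹) + (S.ρ w * β * S.ρ (w : G)⁻¹)
        rw [mul_add, add_mul]) }
  have hη₀ : ∀ (w : W₁) (α : F), (η₀ w α).1 = S.ρ w * α * S.ρ (w : G)⁻¹ := fun _ _ => rfl
  let η : W₁ →* F ≃+* F := MonoidHom.mk' η₀ fun v w => RingEquiv.ext fun α => Subtype.ext (by
    change _ = (η₀ v (η₀ w α)).1
    rw [hη₀, hη₀, hη₀, Subgroup.coe_mul, mul_inv_rev, S.ρ_mul (h.W₁_le v.2) (h.W₁_le w.2),
      S.ρ_mul (inv_mem (h.W₁_le w.2)) (inv_mem (h.W₁_le v.2))]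
    simp only [mul_assoc])
  have hη : ∀ (w : W₁) (α : F), (η w α).1 (S.f h₀) = S.ρ w (α.1 (S.f h₀)) := fun w α => by
    change S.ρ w (α.1 (S.ρ (w : G)⁻¹ (S.f h₀))) = _
    rw [hfix _ (inv_mem w.2)]
  have hne : ∀ x : U, (⟨_, hρ x x.2⟩ : F) ≠ 0 := fun x e => hv0 (S.ρ_injective (h.U_le x.2) (by
    rw [map_zero]; exact LinearMap.congr_fun (congrArg Subtype.val e) _))
  let ψ : U →* Fˣ := MonoidHom.mk' (fun x => Units.mk0 ⟨_, hρ x x.2⟩ (hne x)) fun x y =>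
    Units.ext (Subtype.ext (S.ρ_mul (h.U_le x.2) (h.U_le y.2)))
  have hinjη : Function.Injective η := by
    rw [injective_iff_map_eq_one]
    intro w hw
    by_contra hw1
    have hz := eq_zpowers_of_card_prime h.q_prime w.2 fun e => hw1 (Subtype.ext e)
    have h1 : S.ρ w = 1 := LinearMap.ext fun v => by
      obtain ⟨α, rfl⟩ := hbij.2 v
      change S.ρ w (α.1 (S.f h₀)) = α.1 (S.f h₀)
      rw [← hη, hw]
      rfl
    have h2 : W₁ ≤ PG.centMod MF[M] (pH0 M U) := by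
      rw [hz, zpowers_le]
      exact ⟨h.norm_H0 (h.W₁_le w.2), (S.ρ_eq_one_iff (h.W₁_le w.2)).1 h1⟩
    have h3 : MF[M] = W₂ ⊔ pH0 M U := le_antisymm (fun x hx => sup_comm (pH0 M U) W₂ ▸
      (h.cent_W₁ hx).1 fun y hy => (h2 hy).2 x hx) (sup_le hWH h.H0_le)
    have h4 := h.relIndex_H
    rw [h3, relIndex_sup_of_le_norm ((typeP_W₂_le h.typeP).trans h.norm_H0), h.relIndex_W₂] at h4
    exact h.q_prime.ne_one
      (Nat.pow_right_injective h.p_prime.two_le (h4.symm.trans (pow_one _).symm))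
  have : Finite (F ≃+* F) := Finite.of_injective _ DFunLike.coe_injective
  have hpow : ∀ n : ℕ, e.symm (S.f (h₀ ^ n)) = n := fun n => by
    rw [S.f_pow (hWH hW), map_nsmul, show e.symm (S.f h₀) = 1 from he 1, nsmul_one]
  refine ⟨F, inferInstance, inferInstance, hcard, ⟨⟨(AddMonoidHom.toMultiplicative
    e.symm.toAddMonoidHom).comp S.hom, ψ, η, fun α => ?_, fun x => ?_, fun x => ?_,
    hinjη.bijective_of_nat_card_le (finField_aut h.p_prime hcard).1.le, fun x a a' e1 => ?_,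
    fun w a a' e1 => ?_, fun w x x' e1 => ?_, fun α => ⟨?_, ?_⟩⟩⟩⟩
  · obtain ⟨x, hx, e'⟩ := S.f_surj (α.toAdd.1 (S.f h₀))
    refine ⟨⟨x, hx⟩, ?_⟩
    change Multiplicative.ofAdd (e.symm (S.f x)) = α
    rw [e', he]
    rfl
  · change e.symm (S.f x) = 0 ↔ _
    rw [AddEquiv.map_eq_zero_iff, S.f_eq_zero _ x.2]
  · rw [← h.ρ_C S x.2, Units.ext_iff, Subtype.ext_iff]
    rfl
  · change e.symm (S.f a') = _ * e.symm (S.f a)
    obtain ⟨α, hα⟩ := hbij.2 (S.f a)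
    change α.1 (S.f h₀) = _ at hα
    rw [e1, S.conj _ (h.U_le x.2) _ a.2, ← hα, he]
    exact he (⟨_, hρ x x.2⟩ * α)
  · change e.symm (S.f a') = η w (e.symm (S.f a))
    obtain ⟨α, hα⟩ := hbij.2 (S.f a)
    change α.1 (S.f h₀) = _ at hα
    rw [e1, S.conj _ (h.W₁_le w.2) _ a.2, ← hα, he, ← hη, he]
  · refine Subtype.ext ?_
    change S.ρ x' = S.ρ w * S.ρ x * S.ρ (w : G)⁻¹
    rw [e1, S.ρ_mul (mul_mem (h.W₁_le w.2) (h.U_le x.2)) (inv_mem (h.W₁_le w.2)),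
      S.ρ_mul (h.W₁_le w.2) (h.U_le x.2)]
  · rintro ⟨a, ha, rfl⟩
    have hn := (typeP_W₂_le h.typeP).trans h.norm_H0
    have hz := eq_zpowers_of_card_prime (H := quo W₂ (pH0 M U))
      (by rw [card_quo hn, h.relIndex_W₂]; exact h.p_prime) (mem_im_of_mem (hn hW) hW)
      (fun e => hH0 (by rwa [← mem_kr' (hn hW), kr_coset] at e))
    obtain ⟨n, hn'⟩ := (mem_zpowers_iff_mem_range_orderOf.1
      (hz.le (mem_im_of_mem (f := coset (pH0 M U)) (hn ha) ha)) |> Finset.mem_image.1)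
    refine ⟨n, Eq.trans ?_ (hpow n)⟩
    change e.symm (S.f a) = _
    congr 1
    rw [S.f_eq_iff a.2 (pow_mem (hWH hW) n), ← kr_coset (pH0 M U),
      mem_kr' (mul_mem (hn ha) (inv_mem (pow_mem (hn hW) n)))]
    change coset (pH0 M U) (⟨a, hn ha⟩ * ((⟨h₀, hn hW⟩ : N[pH0 M U]) ^ n)⁻¹) = 1
    rw [map_mul, map_inv, map_pow, hn'.2, mul_inv_cancel]
  · rintro ⟨n, rfl⟩
    exact ⟨⟨_, pow_mem (hWH hW) n⟩, pow_mem hW n, hpow n⟩

theorem GalData.phi_eq_iff {H H₀ C : Subgroup G} {F : Type} [Field F]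
    (D : GalData H H₀ U C W₁ W₂ F) (a b : H) : D.phi a = D.phi b ↔ (a : G) * (b : G)⁻¹ ∈ H₀ := by
  rw [← mul_inv_eq_one, ← map_inv, ← map_mul, D.ker]
  rfl

/-- (9.7)(b) -/
theorem typeP_Galois_P (h : Hyp9 M W₁ U W₂) (hg : TypePGalois M U) :
    (∃ (F : Type) (_ : Field F) (_ : Finite F), Nat.card F = pP M U ^ Nat.card W₁ ∧
      Nonempty (GalData MF[M] (pH0 M U) U (pC M U) W₁ W₂ F)) ∧
    IsCyclic (quo U (pC M U)) ∧ (pU M U).Coprime (pP M U - 1) ∧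
    pU M U ∣ (pP M U ^ Nat.card W₁ - 1) / (pP M U - 1) := by
  classical
  refine ⟨exists_galData h hg, ?_⟩
  obtain ⟨F, _, _, hF, ⟨D⟩⟩ := exists_galData h hg
  have hk : kr D.psi = pC M U := by
    ext x
    exact ⟨fun hx => (D.kerU ⟨x, kr_le hx⟩).1 ((mem_kr' _).1 hx),
      fun hx => (mem_kr' (h.C_le hx)).2 ((D.kerU ⟨x, h.C_le hx⟩).2 hx)⟩
  obtain ⟨e⟩ := nonempty_im_equiv_quo (K := pC M U) D.psi le_rfl (le_sup_left.trans h.C_norm)
    (by rw [hk])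
  have hu : Nat.card D.psi.range = pU M U := card_range_eq_relIndex _ D.kerU
  have hd : pU M U ∣ (pP M U ^ Nat.card W₁ - 1) / (pP M U - 1) := by
    rw [← hu, ← IsCyclic.exponent_eq_card, Monoid.exponent_dvd_iff_forall_pow_eq_one]
    rintro ⟨_, x, rfl⟩
    have := Fintype.ofFinite W₁
    have : Finite (F ≃+* F) := Finite.of_surjective _ D.bij.2
    have := Fintype.ofFinite (F ≃+* F)
    have h1 := h.hom_eq_one (∏ w : W₁, (Units.map (D.eta w : F →* F)).comp D.psi)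
      (fun v x x' e => by
        simp only [MonoidHom.finset_prod_apply]
        refine Fintype.prod_equiv (Equiv.mulRight v) _ _ fun w => Units.ext ?_
        change D.eta w (D.psi x') = D.eta (w * v) (D.psi x)
        rw [D.actWU v x x' e, map_mul]
        rfl) x
    rw [MonoidHom.finset_prod_apply] at h1
    refine Subtype.ext (Units.ext ?_)
    have h2 := congrArg Units.val h1
    rw [Units.coe_prod] at h2
    change (D.psi x : F) ^ _ = 1
    rw [← (finField_aut h.p_prime hF).2, ← D.bij.prod_comp]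
    exact h2
  refine ⟨isCyclic_of_surjective e e.surjective, ?_, hd⟩
  have h1 : (pP M U ^ Nat.card W₁ - 1) / (pP M U - 1) ≡ Nat.card W₁ [MOD pP M U - 1] := by
    rw [← Nat.geomSum_eq h.p_prime.two_le]
    conv_rhs => rw [← Finset.card_range (Nat.card W₁), Finset.card_eq_sum_ones]
    refine Nat.ModEq.sum fun i _ => ?_
    simpa using ((Nat.modEq_iff_dvd' h.p_prime.one_le).2 dvd_rfl).symm.pow i
  refine Nat.coprime_of_dvd fun r hr h4 h3 => ?_
  have h5 : r ∣ Nat.card W₁ := ((h1.of_dvd h3).dvd_iff dvd_rfl).1 (h4.trans hd)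
  exact hr.one_lt.ne' (Nat.eq_one_of_dvd_coprimes (typeP_coprime_UW h.typeP)
    (h4.trans (relIndex_dvd_card' _ _)) h5)

end Cfsg.Agent.PF
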