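import Cfsg.Agent.PF.S09b

set_option autoImplicit false
set_option maxHeartbeats 400000
set_option linter.unusedSectionVars false
set_option linter.unusedVariables false

namespace Cfsg.Agent.PF

open Subgroup Cfsg.Agent.GT Cfsg.Agent.BG Cfsg.Agent.Char

universe u v w

/-! Peterfalvi (9.8)-(9.10). -/

section General
variable {G : Type u} [Group G] [Fintype G] {L K H N Y : Subgroup G} {y : G}

theorem cRes_cConj (h : H ≤ K) (ξ : K → ℂ) (hK : y ∈ N[K]) (hH : y ∈ N[H]) :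
    cRes H (cConj ξ y) = cConj (cRes H ξ) y := by
  funext x
  rw [cRes_apply h, cConj_apply _ hK, cConj_apply _ hH, cRes_apply h]
  rfl

theorem exists_clifford_degree (h : K ≤ L) (hn : L ≤ N[K]) {χ : L → ℂ} {θ : K → ℂ}
    (hχ : IsIrrCharacter L χ) (hθ : IsIrrCharacter K θ) (hne : ⟪cRes K χ, θ⟫ ≠ 0) :
    ∃ n : ℕ, χ 1 = n * (cInertia L θ).relIndex L * θ 1 := by
  obtain ⟨n, hn'⟩ := (hχ.isCharacter.cRes h).ci_irr_nat hθ
  rw [cRes_eq h] at hne hn'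
  have := (nEmb h hn).clifford_degree hχ hθ hne
  rw [nEmb_inertia] at this
  exact ⟨n, by rw [← hn']; exact this⟩

theorem not_inKer_of_constt (h : K ≤ L) (hn : L ≤ N[K]) (hH : H ≤ K) (hnH : L ≤ N[H])
    {χ : L → ℂ} {θ : K → ℂ} (hχ : IsIrrCharacter L χ) (hθ : IsIrrCharacter K θ)
    (hne : ⟪cRes K χ, θ⟫ ≠ 0) (hk : ¬ InKer H χ) : ¬ InKer H θ := fun h1 =>
  hk (InKer.of_ci_ne_zero (hθ.isCharacter.cInd h) hχ (by
    rw [ci_cInd_left h _ hχ.isClassFunction]; exact mt ci_eq_zero_symm hne)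
    ((inKer_cInd_iff h hn hH hnH hθ).2 h1))

/-- the kernel of a character as a subgroup of the ambient group -/
def kerG (f : H → ℂ) : Subgroup G := (chKer f).map H.subtype

theorem kerG_le (f : H → ℂ) : kerG f ≤ H := map_subtype_le _

theorem mem_kerG {f : H → ℂ} (hf : IsCharacter H f) {x : H} : (x : G) ∈ kerG f ↔ f x = f 1 := by
  rw [← hf.mem_chKer_iff]
  exact mem_map_iff_mem H.subtype_injective

theorem inKer_iff_le_kerG {f : H → ℂ} (hf : IsCharacter H f) (hN : N ≤ H) :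
    InKer N f ↔ N ≤ kerG f := inKer_iff_le_chKer hf hN

theorem cConj_eq_iff_lin {f : H → ℂ} (hf : IsCharacter H f) (h1 : f 1 = 1) (hy : y ∈ N[H]) :
    cConj f y = f ↔ ∀ x ∈ H, y * x * y⁻¹ * x⁻¹ ∈ kerG f := by
  obtain ⟨g, rfl⟩ := hf.exists_hom_of_degree_one h1
  have key : ∀ x : H, cConj (fun x => (g x : ℂ)) y x = g x ↔
      y * x * y⁻¹ * (x : G)⁻¹ ∈ kerG fun x => (g x : ℂ) := fun x => by
    rw [cConj_apply _ hy]
    refine Iff.trans ?_ (mem_kerG hf (x := ⟨_, conj_mem_of_mem_norm hy x.2⟩ * x⁻¹)).symm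
    rw [map_mul, map_inv, map_one, Units.val_inj, Units.val_inj, mul_inv_eq_one]
  exact ⟨fun h x hx => (key ⟨x, hx⟩).1 (congrFun h _), fun h => funext fun x => (key x).2 (h x x.2)⟩

theorem card_IrrKerD (hK : N ≤ K) (hH : H ≤ K) (hn : K ≤ N[N]) (hnH : K ≤ N[H])
    (hd : ⁅K, K⁆ ≤ N) :
    Nat.card (IrrKerD K H N) + (H ⊔ N).relIndex K = N.relIndex K := by
  rw [← card_irr_inKer_of_der hK hn hd, ← card_irr_inKer_of_der (sup_le hH hK) (le_norm_sup hnH hn)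
    (hd.trans le_sup_right)]
  have hf : {θ : K → ℂ | IsIrrCharacter K θ ∧ InKer N θ}.Finite :=
    finite_setOf_irr.subset fun _ h => h.1
  have hs : {θ : K → ℂ | IsIrrCharacter K θ ∧ InKer (H ⊔ N) θ} ⊆
      {θ : K → ℂ | IsIrrCharacter K θ ∧ InKer N θ} := fun _ h => ⟨h.1, h.2.mono le_sup_right⟩
  have := Set.ncard_diff_add_ncard_of_subset hs hf
  rw [← Nat.card_coe_set_eq, ← Nat.card_coe_set_eq, ← Nat.card_coe_set_eq] at this
  refine Eq.trans ?_ this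
  congr 3
  ext θ
  exact ⟨fun h => ⟨⟨h.1, h.2.2⟩, fun h' => h.2.1 (h'.2.mono le_sup_left)⟩,
    fun h => ⟨h.1.1, fun h' => h.2 ⟨h.1.1, InKer.sup h.1.1.isCharacter hH hK h' h.1.2⟩, h.1.2⟩⟩

theorem der_sup_le (hH : H ≤ N[N]) (hY : Y ≤ N[N]) (h1 : ⁅H, H⁆ ≤ N) (h2 : ⁅Y, Y⁆ ≤ N)
    (h3 : ⁅H, Y⁆ ≤ N) : ⁅H ⊔ Y, H ⊔ Y⁆ ≤ N := by
  rw [← comm_quo_iff (sup_le hH hY), quo, im_sup hH hY]
  exact isMulCommutative_sup ((comm_quo_iff hH).2 h1) ((comm_quo_iff hY).2 h2)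
    ((im_le_cent_iff hH hY).2 (by rwa [kr_coset]))

theorem field_char_cancel {F : Type*} [Field F] {g : Multiplicative F →* ℂˣ} (hg : g ≠ 1)
    {c c' : F} (h : ∀ t, g (Multiplicative.ofAdd (c * t)) = g (Multiplicative.ofAdd (c' * t))) :
    c = c' := by
  by_contra hc
  refine hg (MonoidHom.ext fun s => ?_)
  have h1 := h ((c - c')⁻¹ * s.toAdd)
  rw [← mul_inv_eq_one, ← map_inv, ← map_mul, ← ofAdd_neg, ← ofAdd_add, ← sub_eq_add_neg,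
    ← sub_mul, mul_inv_cancel_left₀ (sub_ne_zero.2 hc)] at h1
  exact h1

end General

variable {G : Type u} [Group G] [Fintype G] [MFT G] {M U W₁ W₂ K Y : Subgroup G}

theorem Hyp9.pti (h : Hyp9 M W₁ U W₂) : PrimeTI M ⁅M, M⁆ W₁ W₂ := FT_primeTI_hyp h.typeP
theorem Hyp9.H_le_der (h : Hyp9 M W₁ U W₂) : MF[M] ≤ ⁅M, M⁆ := typeP_Fcore_le_der h.typeP
theorem Hyp9.U_le_der (h : Hyp9 M W₁ U W₂) : U ≤ ⁅M, M⁆ := typeP_U_le_der h.typeP
theorem Hyp9.relIndex_der (h : Hyp9 M W₁ U W₂) : ⁅M, M⁆.relIndex M = Nat.card W₁ :=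
  h.pti.relIndex
theorem Hyp9.der_norm_H (h : Hyp9 M W₁ U W₂) : ⁅M, M⁆ ≤ N[MF[M]] := (der_le M).trans h.norm_H
theorem Hyp9.sup_le_der (h : Hyp9 M W₁ U W₂) (hY : Y ≤ U) : MF[M] ⊔ Y ≤ ⁅M, M⁆ :=
  sup_le h.H_le_der (hY.trans h.U_le_der)
theorem Hyp9.H0_sup_le_der (h : Hyp9 M W₁ U W₂) (hY : Y ≤ U) : pH0 M U ⊔ Y ≤ ⁅M, M⁆ :=
  (sup_le_sup_right h.H0_le Y).trans (h.sup_le_der hY)
theorem Hyp9.der_norm (h : Hyp9 M W₁ U W₂) (h1 : MF[M] ≤ N[K]) (h2 : U ≤ N[K]) : ⁅M, M⁆ ≤ N[K] :=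
  h.sup_HU.ge.trans (sup_le h1 h2)
theorem Hyp9.U_norm (h : Hyp9 M W₁ U W₂) (h1 : pC M U ≤ Y) (h2 : Y ≤ U) : U ≤ N[Y] :=
  le_norm_of_commutator_le_of_le h2 (h.der_le_C.trans h1)
theorem Hyp9.der_norm_sup (h : Hyp9 M W₁ U W₂) (h1 : pC M U ≤ Y) (h2 : Y ≤ U) :
    ⁅M, M⁆ ≤ N[MF[M] ⊔ Y] :=
  h.der_norm (le_norm_self le_sup_left) (le_norm_sup (h.U_le.trans h.norm_H) (h.U_norm h1 h2))
theorem Hyp9.inf_H (h : Hyp9 M W₁ U W₂) (hY : Y ≤ pC M U) : (pH0 M U ⊔ Y) ⊓ MF[M] = pH0 M U := by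
  rw [dedekind (Or.inr (((hY.trans h.C_le).trans h.U_le).trans h.norm_H0)) h.H0_le,
    le_bot_iff.1 (h.inf_HU ▸ le_inf inf_le_right (inf_le_left.trans (hY.trans h.C_le)) :
      Y ⊓ MF[M] ≤ ⊥), sup_bot_eq]
theorem Hyp9.C'_le (h : Hyp9 M W₁ U W₂) : ⁅pC M U, pC M U⁆ ≤ U := (der_le _).trans h.C_le
theorem Hyp9.der_HC_le (h : Hyp9 M W₁ U W₂) :
    ⁅MF[M] ⊔ pC M U, MF[M] ⊔ pC M U⁆ ≤ pH0 M U ⊔ ⁅pC M U, pC M U⁆ :=
  der_sup_le (h.H_le.trans h.norm_H0C') ((h.C_le.trans h.U_le).trans h.norm_H0C')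
    (h.der_le_H0.trans le_sup_left) le_sup_right
    (((commutator_comm _ _).le.trans h.comm_C).trans le_sup_left)
theorem Hyp9.u_pos (h : Hyp9 M W₁ U W₂) : 0 < pU M U := relIndex_pos _ _
theorem Hyp9.relIndex_HC_M (h : Hyp9 M W₁ U W₂) :
    (MF[M] ⊔ pC M U).relIndex M = Nat.card W₁ * pU M U := by
  rw [← relIndex_mul_relIndex _ _ _ (h.sup_le_der h.C_le) (der_le M), h.relIndex_HC,
    h.relIndex_der, mul_comm]

theorem Hyp9.mem_C_of_comm (h : Hyp9 M W₁ U W₂) {x : G} (hx : x ∈ U)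
    (hc : ∀ w ∈ W₁, x * w * x⁻¹ * w⁻¹ ∈ pC M U) : x ∈ pC M U := by
  obtain ⟨n, hn, c, hc', rfl⟩ := exists_mul_cent_of_commutator_mem
    (Or.inl (solv_of_le (mmax_sol h.max) (h.C_le.trans h.U_le))) (le_sup_right.trans h.C_norm)
    (coprime_card_of_le (typeP_coprime_UW h.typeP) h.C_le le_rfl) (x := x) hc
  have : c ∈ U ⊓ C[W₁] := ⟨by simpa using mul_mem (inv_mem (h.C_le hn)) hx, hc'⟩
  rw [(typeP_regular_U h.typeP).inf_cent le_rfl h.typeP.W₁_ne, mem_bot] at this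
  rwa [this, mul_one]

theorem Hyp9.lin (h : Hyp9 M W₁ U W₂) {f : MF[M] → ℂ} (hf : IsIrrCharacter _ f)
    (hk : InKer (pH0 M U) f) : f 1 = 1 := irr_one_of_inKer_der hf (hk.mono h.der_le_H0)

theorem Hyp9.cConj_C (h : Hyp9 M W₁ U W₂) {f : MF[M] → ℂ} (hf : IsIrrCharacter _ f)
    (hk : InKer (pH0 M U) f) {x : G} (hx : x ∈ pC M U) : cConj f x = f :=
  (cConj_eq_iff_lin hf.isCharacter (h.lin hf hk) (h.norm_H (h.U_le (h.C_le hx)))).2 fun y hy =>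
    (inKer_iff_le_kerG hf.isCharacter h.H0_le).1 hk ((h.mem_C.1 hx).2 y hy)

theorem Hyp9.inertia_le (h : Hyp9 M W₁ U W₂) (hK : MF[M] ≤ K) (hn : ⁅M, M⁆ ≤ N[K]) {ξ : K → ℂ}
    (hξ : IsClassFunction K ξ) (hY : ∀ x ∈ U, cConj (cRes MF[M] ξ) x = cRes MF[M] ξ → x ∈ Y) :
    cInertia ⁅M, M⁆ ξ ≤ MF[M] ⊔ Y := by
  intro y hy
  obtain ⟨h1, h2, h3⟩ := mem_cInertia.1 hy
  obtain ⟨a, ha, x, hx, rfl⟩ := (typeP_sdprod_der h.typeP).exists_mul h1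
  rw [cConj_mul _ (hn (h.H_le_der ha)) (hn (h.U_le_der hx)), cConj_of_mem hξ (hK ha)] at h3
  refine mul_mem (mem_sup_left ha) (mem_sup_right (hY x hx ?_))
  rw [← cRes_cConj hK _ (hn (h.U_le_der hx)) (h.norm_H (h.U_le hx)), h3]

theorem Hyp9.fixed_le_C (h : Hyp9 M W₁ U W₂) {f : MF[M] → ℂ} (hf : IsIrrCharacter _ f)
    (hk : InKer (pH0 M U) f) (hne : ¬ InKer MF[M] f)
    (hg : TypePGalois M U ∨ ∀ w ∈ W₁, cConj f w = f) {x : G} (hx : x ∈ U) (hfix : cConj f x = f) :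
    x ∈ pC M U := by
  have hI : pC M U ≤ cInertia U f := fun y hy =>
    mem_cInertia.2 ⟨h.C_le hy, h.norm_H (h.U_le (h.C_le hy)), h.cConj_C hf hk hy⟩
  have hUH := h.U_le.trans h.norm_H
  have h1 : ⁅cInertia U f, MF[M]⁆ ≤ kerG f := commutator_le.2 fun y hy z hz =>
    (cConj_eq_iff_lin hf.isCharacter (h.lin hf hk) (mem_cInertia.1 hy).2.1).1
      (mem_cInertia.1 hy).2.2 z hz
  have h2 : pH0 M U ⊔ ⁅cInertia U f, MF[M]⁆ ≤ kerG f :=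
    sup_le ((inKer_iff_le_kerG hf.isCharacter h.H0_le).1 hk) h1
  have h3 : U ≤ N[pH0 M U ⊔ ⁅cInertia U f, MF[M]⁆] :=
    le_norm_sup (h.U_le.trans h.norm_H0) (le_norm_commutator (h.U_norm hI (cInertia_le f)) hUH)
  have h4 : pH0 M U ⊔ ⁅cInertia U f, MF[M]⁆ = pH0 M U := by
    refine Or.resolve_right (b := pH0 M U ⊔ ⁅cInertia U f, MF[M]⁆ = MF[M]) ?_ fun e =>
      hne ((inKer_iff_le_kerG hf.isCharacter le_rfl).2 (e.ge.trans h2))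
    rcases hg with hg | hg
    · exact hg _ le_sup_left (h2.trans (kerG_le f)) h3
    · refine h.chief.eq_or_eq le_sup_left (h2.trans (kerG_le f)) (h.sup_eq.ge.trans (sup_le
        (le_norm_of_commutator_le_of_le (h2.trans (kerG_le f)) (h.der_le_H0.trans le_sup_left))
        (sup_le h3 (le_norm_sup (h.W₁_le.trans h.norm_H0) (le_norm_commutator
          (le_norm_iff.2 fun w hw y hy => ?_) (h.W₁_le.trans h.norm_H))))))
      obtain ⟨y1, y2, y3⟩ := mem_cInertia.1 hy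
      have hw' := h.norm_H (h.W₁_le hw)
      refine mem_cInertia.2 ⟨conj_mem_of_le_norm h.typeP.U_normal hw y1,
        mul_mem (mul_mem hw' y2) (inv_mem hw'), ?_⟩
      rw [cConj_mul _ (mul_mem hw' y2) (inv_mem hw'), cConj_mul _ hw' y2, hg w hw, y3,
        hg _ (inv_mem hw)]
  exact h.mem_C.2 ⟨hx, fun y hy => h4 ▸ mem_sup_right (commutator_mem_commutator
    (mem_cInertia.2 ⟨hx, hUH hx, hfix⟩) hy)⟩

/-- characters induced from linear characters of `H C` -/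
theorem Hyp9.exists_indHC (h : Hyp9 M W₁ U W₂) {f : MF[M] → ℂ} (hf : IsIrrCharacter _ f)
    (hk : InKer (pH0 M U) f) (hne : ¬ InKer MF[M] f)
    (hI : ∀ x ∈ U, cConj f x = f → x ∈ pC M U) :
    ∃ ξ : ↥(MF[M] ⊔ pC M U) → ℂ, IsIrrCharacter _ ξ ∧ cRes MF[M] ξ = f ∧ InKer (pC M U) ξ ∧
      IsIrrCharacter _ (cInd ⁅M, M⁆ ξ) ∧ IsIndHC M U W₁ (cInd M ξ) := by
  obtain ⟨ξ, h1, h2, h3, h4⟩ := exists_lin_extension (sdprod_sup
    ((h.C_le.trans h.U_le).trans h.norm_H) (le_bot_iff.1 (h.inf_HU ▸ inf_le_inf_left _ h.C_le)))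
    hf.isCharacter (h.lin hf hk) fun y hy => h.cConj_C hf hk hy
  have hle := h.sup_le_der h.C_le
  have hn := (der_le M).trans h.norm_HC
  have h5 : IsIrrCharacter _ (cInd ⁅M, M⁆ ξ) := (cInd_irr_iff hle hn h1).2
    (h.inertia_le le_sup_left hn h1.isClassFunction (by rwa [h3]))
  refine ⟨ξ, h1, h3, h4, h5, ?_, ⟨_, ⟨h5, ?_, ?_⟩, cInd_cInd hle (der_le M) ξ⟩, ξ, h1, h2, rfl⟩
  · rw [cInd_one (hle.trans (der_le M)), h2, mul_one, h.relIndex_HC_M]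
  · rw [inKer_cInd_iff hle hn le_sup_left h.der_norm_H h1, ← inKer_cRes_iff le_sup_left le_rfl, h3]
    exact hne
  · rw [inKer_cInd_iff hle hn (sup_le_sup_right h.H0_le _) ((der_le M).trans h.norm_H0C) h1]
    refine InKer.sup h1.isCharacter (h.H0_le.trans le_sup_left) le_sup_right ?_ h4
    rwa [← inKer_cRes_iff le_sup_left h.H0_le, h3]

/-- shared part of (9.8)(b), (9.9)(b) -/
theorem nb_redM (h : Hyp9 M W₁ U W₂) (hn : M ≤ N[K]) (hK : K ≤ ⁅M, M⁆) (hi : K ⊓ MF[M] = pH0 M U) :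
    Nat.card {φ // φ ∈ pS M K ∧ ¬ IsIrrCharacter M φ} = pP M U - 1 := by
  classical
  have := h.pti.comm₂
  have hWH := typeP_W₂_le_Fcore h.typeP
  have key : ∀ j : Lin W₂, muR M W₁ W₂ j ∈ pS M K ↔ j ∈ Ann ((pH0 M U).subgroupOf W₂) ∧ j ≠ 1 := by
    intro j
    rw [mem_seqIndD_iff (der_le M) (le_norm_der M) h.H_le_der h.norm_H hK hn,
      and_iff_right (h.pti.muR_mem_T j), h.pti.inKer_muR_iff hK hn,
      h.pti.inKer_muR_iff h.H_le_der h.norm_H, and_comm, mem_Ann]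
    refine and_congr (forall_congr' fun x => imp_congr_left ?_) (not_congr ?_)
    · rw [mem_subgroupOf, ← hi]
      exact ⟨fun hx => ⟨hx, hWH x.2⟩, fun hx => hx.1⟩
    · exact ⟨fun hj => MonoidHom.ext fun x => hj x (hWH x.2), fun hj x _ => by rw [hj]; rfl⟩
  have h1 := card_Ann ((pH0 M U).subgroupOf W₂)
  rw [← relIndex, h.relIndex_W₂] at h1
  rw [← h1]
  have := Fintype.ofFinite (Ann ((pH0 M U).subgroupOf W₂))
  rw [Nat.card_eq_fintype_card (α := Ann _),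
    ← Fintype.card_subtype_eq (1 : Ann ((pH0 M U).subgroupOf W₂)),
    ← Fintype.card_subtype_compl, ← Nat.card_eq_fintype_card]
  refine (Nat.card_congr (Equiv.ofBijective (fun j => ⟨muR M W₁ W₂ j.1.1,
    (key _).2 ⟨j.1.2, fun e => j.2 (Subtype.ext e)⟩, h.pti.muR_not_irr _⟩) ⟨fun j k e =>
      Subtype.ext (Subtype.ext (h.pti.muR_inj (congrArg Subtype.val e))), ?_⟩)).symm
  rintro ⟨φ, h2, h3⟩
  obtain ⟨j, rfl⟩ := (h.pti.seqIndT_cases (seqIndD_subset_T h2)).resolve_right fun h4 => h3 h4.1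
  exact ⟨⟨⟨j, ((key j).1 h2).1⟩, fun e => ((key j).1 h2).2 (congrArg Subtype.val e)⟩, rfl⟩

theorem Hyp9.exists_constt (h : Hyp9 M W₁ U W₂) (hK : MF[M] ≤ K) (hK' : K ≤ ⁅M, M⁆)
    (hn : ⁅M, M⁆ ≤ N[K]) {θ : ↥⁅M, M⁆ → ℂ} (hθ : θ ∈ pX M Y) :
    ∃ ξ : K → ℂ, IsIrrCharacter K ξ ∧ ⟪cRes K θ, ξ⟫ ≠ 0 ∧ ¬ InKer MF[M] ξ ∧ InKer Y ξ := by
  obtain ⟨ξ, h1, h2⟩ := exists_constt_cRes hK' hθ.1
  exact ⟨ξ, h1, h2, not_inKer_of_constt hK' hn hK h.der_norm_H hθ.1 h1 h2 hθ.2.1,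
    InKer.of_ci_ne_zero (hθ.1.isCharacter.cRes hK') h1 h2 (hθ.2.2.cRes hK')⟩

theorem Hyp9.dvd_degree (h : Hyp9 M W₁ U W₂) {θ : ↥⁅M, M⁆ → ℂ} (hθ : θ ∈ pX M (pH0 M U)) {a : ℕ}
    (ha : ∀ f : MF[M] → ℂ, IsIrrCharacter _ f → InKer (pH0 M U) f → ¬ InKer MF[M] f →
      ∃ Y, Y ≤ U ∧ Y.relIndex U = a ∧ ∀ x ∈ U, cConj f x = f → x ∈ Y) :
    ∃ n : ℕ, θ 1 = (a * n : ℕ) := by
  obtain ⟨f, h1, h2, h3, h4⟩ := h.exists_constt le_rfl h.H_le_der h.der_norm_H hθ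
  obtain ⟨Y, hY, rfl, hY'⟩ := ha f h1 h4 h3
  obtain ⟨n, hn⟩ := exists_clifford_degree h.H_le_der h.der_norm_H hθ.1 h1 h2
  obtain ⟨m, hm⟩ := relIndex_dvd_of_le_left ⁅M, M⁆ (h.inertia_le le_rfl h.der_norm_H
    h1.isClassFunction (Y := Y) (by rwa [cRes_self]))
  rw [h.relIndex_H_sup hY] at hm
  exact ⟨m * n, by rw [hn, hm, h.lin h1 h4]; push_cast; ring⟩

/-- (9.9)(a) -/
theorem Galois_dvd (h : Hyp9 M W₁ U W₂) (hg : TypePGalois M U) {θ : ↥⁅M, M⁆ → ℂ}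
    (hθ : θ ∈ pX M (pH0 M U)) : ∃ n : ℕ, θ 1 = (pU M U * n : ℕ) :=
  h.dvd_degree hθ fun f h1 h2 h3 =>
    ⟨_, h.C_le, rfl, fun x => h.fixed_le_C h1 h2 h3 (Or.inl hg)⟩

theorem Galois_Ind_HC (h : Hyp9 M W₁ U W₂) (hg : TypePGalois M U) {θ : ↥⁅M, M⁆ → ℂ}
    (hθ : θ ∈ pX M (pH0 M U ⊔ ⁅pC M U, pC M U⁆)) : θ 1 = pU M U ∧
    ∃ ξ : ↥(MF[M] ⊔ pC M U) → ℂ, IsIrrCharacter _ ξ ∧ ξ 1 = 1 ∧ θ = cInd ⁅M, M⁆ ξ := by
  have hle := h.sup_le_der h.C_le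
  have hn := (der_le M).trans h.norm_HC
  obtain ⟨ξ, h1, h2, h3, h4⟩ := h.exists_constt le_sup_left hle hn hθ
  have h5 := irr_one_of_inKer_der h1 (h4.mono h.der_HC_le)
  have h6 : IsIrrCharacter _ (cRes MF[M] ξ) :=
    (h1.isCharacter.cRes le_sup_left).isIrr_of_degree_one (by rwa [cRes_one])
  have h7 := eq_cInd_of_ci_cRes hle hθ.1 ((cInd_irr_iff hle hn h1).2
    (h.inertia_le le_sup_left hn h1.isClassFunction fun x => h.fixed_le_C h6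
      ((h4.mono le_sup_left).cRes le_sup_left) (mt (inKer_cRes_iff le_sup_left le_rfl).1 h3)
      (Or.inl hg))) h2
  exact ⟨by rw [h7, cInd_one hle, h5, mul_one, h.relIndex_HC], ξ, h1, h5, h7⟩

theorem Hyp9.pS_eq (h : Hyp9 M W₁ U W₂) (hY : Y ≤ ⁅M, M⁆) :
    pS M Y = seqIndD ⁅M, M⁆ M (MF[M] ⊔ Y) Y := by
  refine congrArg (seqInd M) (Set.ext fun θ => and_congr_right fun h1 => ?_)
  exact ⟨fun h2 => ⟨fun h3 => h2.1 (h3.mono le_sup_left), h2.2⟩, fun h2 =>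
    ⟨fun h3 => h2.1 (InKer.sup h1.isCharacter h.H_le_der hY h3 h2.2), h2.2⟩⟩

theorem Hyp9.sum_pS (h : Hyp9 M W₁ U W₂) (hY : Y ≤ pC M U) (hn : U ⊔ W₁ ≤ N[Y]) :
    ∑ φ ∈ (seqIndD_finite ⁅M, M⁆ M MF[M] (pH0 M U ⊔ Y)).toFinset, (φ 1).re ^ 2 / nsq φ =
      (Nat.card W₁ : ℝ) * Y.relIndex U * ((pP M U : ℝ) ^ Nat.card W₁ - 1) := by
  have hYU := hY.trans h.C_le
  have e : MF[M] ⊔ (pH0 M U ⊔ Y) = MF[M] ⊔ Y := by rw [← sup_assoc, sup_eq_left.2 h.H0_le]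
  have h1 := sum_seqIndD_square (der_le M) (le_norm_der M) (h.sup_le_der hYU) (h.norm_H_sup hn)
    (h.norm_H0_sup hY hn) (sup_le_sup_right h.H0_le Y)
  have h2 : (pH0 M U ⊔ Y).relIndex (MF[M] ⊔ Y) = pP M U ^ Nat.card W₁ := by
    rw [← e, relIndex_sup_of_le_norm (h.H_le.trans (h.norm_H0_sup hY hn)), ← inf_relIndex_right,
      h.inf_H hY, h.relIndex_H]
  rw [h.relIndex_der, h.relIndex_H_sup hYU, h2, Nat.cast_pow] at h1
  rw [← h1]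
  congr 1
  rw [Set.Finite.toFinset_inj, ← e]
  exact h.pS_eq (h.H0_sup_le_der hYU)

/-- (9.8)(b) and (9.9)(b) -/
theorem typeP_reducible_core_Ind (h : Hyp9 M W₁ U W₂) :
    Nat.card (pRed M U) = pP M U - 1 ∧ (pRed M U).Nonempty ∧
    (∀ φ ∈ pRed M U, ∃ j, j ≠ 1 ∧ φ = muR M W₁ W₂ j) ∧ ∀ φ ∈ pRed M U, IsIndHC M U W₁ φ := by
  have hc : Nat.card (pRed M U) = pP M U - 1 :=
    nb_redM h h.norm_H0 (h.H0_le.trans h.H_le_der) (inf_eq_left.2 h.H0_le)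
  have hfin : Finite (pRed M U) := ((seqIndD_finite _ _ _ _).subset fun _ h => h.1).to_subtype
  refine ⟨hc, ?_, fun φ hφ => ?_, ?_⟩
  · have := h.p_prime.two_le
    exact Set.nonempty_coe_sort.1 (Nat.card_pos_iff.1 (by omega)).1
  · obtain ⟨j, rfl⟩ := (h.pti.seqIndT_cases (seqIndD_subset_T hφ.1)).resolve_right
      fun h4 => hφ.2 h4.1
    exact ⟨j, h.pti.ne_one_of_muR_mem hφ.1, rfl⟩
  have hWH := h.W₁_le.trans h.norm_H
  have hX : pH0 M U ⊔ ⁅W₁, MF[M]⁆ ≤ MF[M] := sup_le h.H0_le (commutator_le_of_le_norm_right hWH)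
  have hd := h.der_le_H0.trans (le_sup_left (b := ⁅W₁, MF[M]⁆))
  have h1 := card_IrrKerD hX le_rfl (le_norm_of_commutator_le_of_le hX hd) le_normalizer hd
  rw [sup_eq_left.2 hX, relIndex_self] at h1
  have h2 : pP M U ≤ (pH0 M U ⊔ ⁅W₁, MF[M]⁆).relIndex MF[M] := by
    have h0 := relIndex_dvd_of_le_left MF[M] (le_sup_left (a := pH0 M U) (b := ⁅W₁, MF[M]⁆))
    rw [h.relIndex_H] at h0
    obtain ⟨k, -, hk⟩ := (Nat.dvd_prime_pow h.p_prime).1 h0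
    rw [hk]
    refine Nat.le_self_pow (fun e => ?_) _
    rw [e, pow_zero, relIndex_eq_one] at hk
    have hH := h.H_le.trans h.norm_H0
    have hW := h.W₁_le.trans h.norm_H0
    have h3 := coprime_comm_commutator_inf_cent ((comm_quo_iff hH).2 h.der_le_H0)
      (im_norm (f := coset (pH0 M U)) hWH) (coprime_im (typeP_coprime_W₁ h.typeP))
    have h4 : quo W₂ (pH0 M U) ≤ ⊥ := by
      rw [← h3]
      refine le_inf ?_ (im_cent (typeP_dprod h.typeP).cent')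
      rw [← im_commutator hH hW, commutator_comm, ← quo,
        ← quo_self_sup ((commutator_le_of_le_norm_right hWH).trans hH)]
      exact im_mono ((typeP_W₂_le_Fcore h.typeP).trans hk)
    rw [le_bot_iff, quo_eq_bot_iff ((typeP_W₂_le h.typeP).trans h.norm_H0),
      ← relIndex_eq_one, h.relIndex_W₂] at h4
    exact h.p_prime.ne_one h4
  have hinv : ∀ f : IrrKerD MF[M] MF[M] (pH0 M U ⊔ ⁅W₁, MF[M]⁆), ∀ w ∈ W₁, cConj f.1 w = f.1 :=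
    fun f w hw => (cConj_eq_iff_lin f.2.1.isCharacter (h.lin f.2.1 (f.2.2.2.mono le_sup_left))
      (hWH hw)).2 fun x hx => (inKer_iff_le_kerG f.2.1.isCharacter hX).1 f.2.2.2
        (mem_sup_right (commutator_mem_commutator hw hx))
  have hfix : ∀ f : IrrKerD MF[M] MF[M] (pH0 M U ⊔ ⁅W₁, MF[M]⁆), ∀ x ∈ U, cConj f.1 x = f.1 →
      x ∈ pC M U := fun f x =>
    h.fixed_le_C f.2.1 (f.2.2.2.mono le_sup_left) f.2.2.1 (Or.inr (hinv f))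
  choose ξ ξ1 ξ2 ξ3 ξ4 ξ5 using fun f : IrrKerD MF[M] MF[M] (pH0 M U ⊔ ⁅W₁, MF[M]⁆) =>
    h.exists_indHC f.2.1 (f.2.2.2.mono le_sup_left) f.2.2.1 (hfix f)
  have hle := (h.sup_le_der h.C_le).trans (der_le M)
  have hred : ∀ f, ¬ IsIrrCharacter M (cInd M (ξ f)) := fun f hi => by
    obtain ⟨w, hw, hw1⟩ := exists_ne_one_of_ne_bot h.typeP.W₁_ne
    have hwn := h.norm_HC (h.W₁_le hw)
    have h3 := (cInd_irr_iff hle h.norm_HC (ξ1 f)).1 hi (mem_cInertia.2 ⟨h.W₁_le hw, hwn, ?_⟩)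
    · exact hw1 (mem_bot.1 ((typeP_sdprod h.typeP).inf_eq ▸ ⟨h.sup_le_der h.C_le h3, hw⟩))
    funext x
    obtain ⟨a, ha, c, hc, e⟩ :=
      (mem_sup_of_le_norm' ((h.C_le.trans h.U_le).trans h.norm_H)).1 x.2
    have h4 : ∀ η : ↥(MF[M] ⊔ pC M U) → ℂ, IsCharacter _ η → InKer (pC M U) η →
        η x = cRes MF[M] η ⟨a, ha⟩ := fun η η1 η2 => by
      rw [cRes_apply le_sup_left, ← η2.mul η1 (x := ⟨c, mem_sup_right hc⟩) hc (inclusion _ _),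
        η1.isClassFunction.mul_comm]
      congr 1
      exact Subtype.ext e
    rw [h4 _ (IsIrrCharacter_cConj (ξ1 f) hwn).isCharacter
      ((ξ3 f).cConj hwn (h.C_norm (mem_sup_right hw))), h4 _ (ξ1 f).isCharacter (ξ3 f),
      cRes_cConj le_sup_left _ hwn (hWH hw), ξ2, hinv f w hw]
  let Φ : IrrKerD MF[M] MF[M] (pH0 M U ⊔ ⁅W₁, MF[M]⁆) → pRed M U := fun f =>
    ⟨cInd M (ξ f), seqIndD_mono le_rfl le_sup_left (ξ5 f).2.1, hred f⟩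
  have hinj : Function.Injective Φ := fun f f' e => by
    obtain ⟨y, hy, e'⟩ := (cInd_eq_iff hle h.norm_HC (ξ1 f') (ξ1 f)).1 (congrArg Subtype.val e)
    have h3 : f.1 = cConj f'.1 y := by
      rw [← ξ2 f, e', cRes_cConj le_sup_left _ (h.norm_HC hy) (h.norm_H hy), ξ2]
    obtain ⟨a, ha, x, hx, w, hw, rfl⟩ := h.exists_mul hy
    have hx' := h.norm_H (h.U_le hx)
    rw [cConj_mul _ (mul_mem (le_normalizer ha) hx') (hWH hw), cConj_mul _ (le_normalizer ha) hx',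
      cConj_of_mem f'.2.1.isClassFunction ha] at h3
    have h4 : f.1 = cConj f'.1 x := by
      rw [← hinv f _ (inv_mem hw), h3, ← cConj_mul _ (hWH hw) (inv_mem (hWH hw)), mul_inv_cancel,
        cConj_one]
    refine Subtype.ext (h4.trans (h.cConj_C f'.2.1 (f'.2.2.2.mono le_sup_left)
      (h.mem_C_of_comm hx fun v hv => hfix f' _ ?_ ?_)))
    · rw [mul_assoc x, mul_assoc x]
      exact mul_mem hx (conj_mem_of_le_norm h.typeP.U_normal hv (inv_mem hx))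
    · have hv' := hWH hv
      rw [cConj_mul _ (mul_mem (mul_mem hx' hv') (inv_mem hx')) (inv_mem hv'),
        cConj_mul _ (mul_mem hx' hv') (inv_mem hx'), cConj_mul _ hx' hv', ← h4, hinv f v hv, h4,
        ← cConj_mul _ hx' (inv_mem hx'), mul_inv_cancel, cConj_one, hinv f' _ (inv_mem hv)]
  intro φ hφ
  obtain ⟨f, hf⟩ := (hinj.bijective_of_nat_card_le (by omega)).2 ⟨φ, hφ⟩
  have e : cInd M (ξ f) = φ := congrArg Subtype.val hf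
  exact e ▸ ξ5 f

/-- if `|W₂|` is prime all `μ_j`, `j ≠ 0`, lie in `S(H₀)` -/
theorem muR_mem_pRed (h : Hyp9 M W₁ U W₂) (hp : (Nat.card W₂).Prime) {j : Lin W₂} (hj : j ≠ 1) :
    muR M W₁ W₂ j ∈ pRed M U := by
  have hK := h.H0_le.trans h.H_le_der
  refine ⟨(mem_seqIndD_iff (der_le M) (le_norm_der M) h.H_le_der h.norm_H hK h.norm_H0).2
    ⟨h.pti.muR_mem_T j, fun hk => hj (MonoidHom.ext fun x => ?_),
      (h.pti.inKer_muR_iff hK h.norm_H0 j).2 fun x hx => ?_⟩, h.pti.muR_not_irr j⟩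
  · exact (h.pti.inKer_muR_iff h.H_le_der h.norm_H j).1 hk x (typeP_W₂_le_Fcore h.typeP x.2)
  · rcases le_or_inf_eq_bot_of_card_prime hp (pH0 M U) with e | e
    · exact (h.p_prime.ne_one (h.relIndex_W₂.symm.trans (relIndex_eq_one.2 e))).elim
    · rw [show x = 1 from Subtype.ext (mem_bot.1 (e ▸ ⟨x.2, hx⟩)), map_one]

/-- (9.9)(c) -/
theorem Galois_all_red (h : Hyp9 M W₁ U W₂) (hg : TypePGalois M U)
    (hr : ∀ φ ∈ pS M (pH0 M U ⊔ ⁅pC M U, pC M U⁆), ¬ IsIrrCharacter M φ) :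
    pC M U = ⊥ ∧ pU M U = (pP M U ^ Nat.card W₁ - 1) / (pP M U - 1) ∧
    Frob (quo MF[M] (pH0 M U)) (quo U (pH0 M U)) (quo ⁅M, M⁆ (pH0 M U)) := by
  obtain ⟨⟨F, _, _, -, ⟨D⟩⟩, -, -, hd⟩ := typeP_Galois_P h hg
  have h1 := h.sum_pS (der_le _) (le_norm_commutator h.C_norm h.C_norm)
  have h2 := nb_redM h h.norm_H0C' (h.H0_sup_le_der h.C'_le) (h.inf_H (der_le _))
  rw [Nat.card_congr (Equiv.subtypeEquivRight fun φ => and_iff_left_of_imp (hr φ))] at h2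
  have hq : (0 : ℝ) < Nat.card W₁ := by exact_mod_cast h.q_prime.pos
  have hu : (0 : ℝ) < pU M U := by exact_mod_cast h.u_pos
  rw [Finset.sum_congr rfl (g := fun _ => (Nat.card W₁ : ℝ) * pU M U * pU M U) (fun φ hφ => by
    rw [Set.Finite.mem_toFinset] at hφ
    obtain ⟨j, e⟩ := (h.pti.seqIndT_cases (seqIndD_subset_T hφ)).resolve_right
      fun h4 => hr φ hφ h4.1
    have e' : nsq φ = Nat.card W₁ := e ▸ h.pti.nsq_muR j
    obtain ⟨θ, hθ, rfl⟩ := hφ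
    rw [e', cInd_one (der_le M), (Galois_Ind_HC h hg hθ).1, h.relIndex_der, ← Nat.cast_mul,
      Complex.natCast_re]
    push_cast
    field_simp), Finset.sum_const, ← Set.ncard_eq_toFinset_card _ (seqIndD_finite _ _ _ _),
    ← Nat.card_coe_set_eq,
    show Nat.card (pS M (pH0 M U ⊔ ⁅pC M U, pC M U⁆)) = pP M U - 1 from h2,
    ← relIndex_mul_relIndex _ _ _ (der_le (pC M U)) h.C_le, nsmul_eq_mul] at h1
  have hp := h.p_prime.two_le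
  have hP : 1 < pP M U ^ Nat.card W₁ := Nat.one_lt_pow h.q_prime.ne_zero h.p_prime.one_lt
  have h3 : (pP M U - 1) * pU M U =
      ⁅pC M U, pC M U⁆.relIndex (pC M U) * (pP M U ^ Nat.card W₁ - 1) := by
    have : ((pP M U - 1 : ℕ) : ℝ) * pU M U =
        ⁅pC M U, pC M U⁆.relIndex (pC M U) * ((pP M U ^ Nat.card W₁ - 1 : ℕ) : ℝ) := by
      refine mul_left_cancel₀ (mul_pos hq hu).ne' ?_
      rw [Nat.cast_sub hP.le]
      change _ = _ * ((_ * pU M U : ℕ) : ℝ) * _ at h1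
      push_cast at h1 ⊢
      linear_combination h1
    exact_mod_cast this
  have h4 : (pP M U - 1) * pU M U ≤ pP M U ^ Nat.card W₁ - 1 :=
    (Nat.mul_le_mul_left _ (Nat.le_of_dvd (Nat.div_pos (Nat.sub_le_sub_right
      (Nat.le_self_pow h.q_prime.ne_zero _) 1) (by omega)) hd)).trans (Nat.mul_div_le _ _)
  have h5 : ⁅pC M U, pC M U⁆.relIndex (pC M U) = 1 := by
    refine le_antisymm (Nat.le_of_mul_le_mul_right (c := pP M U ^ Nat.card W₁ - 1) ?_ (by omega))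
      (relIndex_pos _ _)
    rwa [← h3, one_mul]
  have hC : pC M U = ⊥ := by
    by_contra hne
    exact (der_sup_lt_of_solvable (bot_lt_iff_ne_bot.2 hne) (norm_bot (G := G) ▸ le_top)
      (solv_of_le (mmax_sol h.max) (h.C_le.trans h.U_le))).not_ge
      ((relIndex_eq_one.1 h5).trans le_sup_left)
  rw [h5, one_mul] at h3
  refine ⟨hC, (Nat.div_eq_of_eq_mul_right (by omega) h3.symm).symm, ?_⟩
  have hH := h.H_le.trans h.norm_H0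
  have hU := h.U_le.trans h.norm_H0
  rw [← h.sup_HU, quo, quo, quo, im_sup hH hU]
  refine frob_sup (im_norm (h.U_le.trans h.norm_H))
    (fun e => h.chief.lt.not_ge ((quo_eq_bot_iff hH).1 e)) (fun e => h.U_ne (le_bot_iff.1
      (h.inf_HU ▸ le_inf (((quo_eq_bot_iff hU).1 e).trans h.H0_le) le_rfl)))
    (semiregular_iff.2 fun x hx' hx1 y hy' e => ?_)
  obtain ⟨x, hxn, hx, rfl⟩ := mem_im.1 hx'
  obtain ⟨y, hyn, hy, rfl⟩ := mem_im.1 hy'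
  have h6 := conj_mem_of_le_norm h.norm_H (h.U_le hx) hy
  have h7 : x * y * x⁻¹ * y⁻¹ ∈ pH0 M U := by
    rw [← kr_coset (pH0 M U), mem_kr' (mul_mem (hH h6) (inv_mem hyn))]
    change coset (pH0 M U) (⟨x, hxn⟩ * ⟨y, hyn⟩ * (⟨x, hxn⟩ : N[pH0 M U])⁻¹ *
      (⟨y, hyn⟩ : N[pH0 M U])⁻¹) = 1
    rw [map_mul, map_mul, map_mul, map_inv, map_inv, ← e]
    group
  have h8 := D.actU ⟨x, hx⟩ ⟨y, hy⟩ ⟨_, h6⟩ rfl
  rw [(D.phi_eq_iff ⟨_, h6⟩ ⟨y, hy⟩).2 h7] at h8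
  rw [← mem_kr' hyn, kr_coset]
  refine (D.ker ⟨y, hy⟩).1 (by_contra fun h9 => hx1 ?_)
  have h10 := (D.kerU ⟨x, hx⟩).1 (Units.ext (mul_right_cancel₀ h9 (h8.symm.trans (one_mul _).symm)))
  rw [hC, mem_bot] at h10
  obtain rfl : x = 1 := h10
  exact map_one _

section NonGal
variable {H H₀ N : Subgroup G} {p : ℕ} (D : NonGalData H H₀ U W₁ p) (hn : W₁ ≤ N[U])

theorem NonGalData.lamw_eq_one [Fact p.Prime] (hU : U ≤ N[H]) (hN : H₀ ≤ N) {a : H}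
    (ha : (a : G) ∉ N) {w : W₁} (hw : ∀ v, v ≠ w → (D.phi a).toAdd v = 0) {x : U}
    (hx : ∀ y ∈ H, x * y * (x : G)⁻¹ * y⁻¹ ∈ N) : D.lamw hn w x = 1 := by
  by_contra hne
  have h1 : (D.lamw hn w x : ZMod p) - 1 ≠ 0 := fun e => hne (Units.ext (sub_eq_zero.1 e))
  obtain ⟨n, hn'⟩ := ZMod.natCast_zmod_surjective ((D.lamw hn w x : ZMod p) - 1)⁻¹
  have h2 := conj_mem_of_le_norm hU x.2 (a ^ n).2
  have h3 : D.phi (⟨_, h2⟩ * (a ^ n)⁻¹) = D.phi a := by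
    refine Multiplicative.toAdd.injective (funext fun v => ?_)
    rw [map_mul, map_inv, toAdd_mul, toAdd_inv, Pi.add_apply, Pi.neg_apply,
      D.actU' hn x (a ^ n) ⟨_, h2⟩ rfl, map_pow, toAdd_pow, Pi.smul_apply, nsmul_eq_mul, hn']
    by_cases hv : v = w
    · subst hv
      field_simp
      ring
    · simp [hw v hv]
  have h4 := mul_mem (inv_mem (hN ((D.phi_eq_iff _ _).1 h3))) (hx _ (a ^ n).2)
  exact ha (by simpa [mul_assoc] using h4)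

theorem NonGalData.exists_single (hN : H₀ ≤ N) (hne : ¬ H ≤ N) :
    ∃ (w : W₁) (a : H), (a : G) ∉ N ∧ ∀ v, v ≠ w → (D.phi a).toAdd v = 0 := by
  classical
  by_contra hc
  push Not at hc
  refine hne fun y hy => ?_
  have h1 : D.phi ⟨y, hy⟩ ∈ (N.subgroupOf H).map D.phi := by
    rw [← ofAdd_toAdd (D.phi _), ← Finset.univ_sum_single (D.phi ⟨y, hy⟩).toAdd, ofAdd_sum]
    refine prod_mem fun w _ => ?_
    obtain ⟨a, ha⟩ := D.surj (Multiplicative.ofAdd (Pi.single w ((D.phi ⟨y, hy⟩).toAdd w)))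
    refine ⟨a, by_contra fun h2 => ?_, ha⟩
    obtain ⟨v, hv, h3⟩ := hc w a h2
    exact h3 (by rw [ha]; exact Pi.single_eq_of_ne hv _)
  obtain ⟨a, ha, e⟩ := h1
  simpa using mul_mem (inv_mem (hN ((D.phi_eq_iff _ _).1 e))) ha

theorem NonGalData.relIndex_kr (w : W₁) : (kr (D.lamw hn w)).relIndex U = D.a := by
  rw [relIndex, kr_subgroupOf, index_ker, NonGalData.a]
  congr 2
  refine le_antisymm (fun _ ⟨x, e⟩ => e ▸ D.lamw_mem hn w x) fun _ ⟨x, e⟩ => ?_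
  refine ⟨⟨_, conj_mem_of_le_norm hn w.2 x.2⟩, ?_⟩
  rw [D.lamw_conj hn w w (x := x) rfl, inv_mul_cancel, D.lamw_one, e]

/-- the kernel of the `w`-th coordinate -/
noncomputable def NonGalData.coKer (w : W₁) : Subgroup G :=
  kr ((AddMonoidHom.toMultiplicative (Pi.evalAddMonoidHom (fun _ : W₁ => ZMod p) w)).comp D.phi)

theorem NonGalData.coKer_le (w : W₁) : D.coKer w ≤ H := kr_le

theorem NonGalData.mem_coKer {w : W₁} (a : H) : (a : G) ∈ D.coKer w ↔ (D.phi a).toAdd w = 0 :=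
  mem_kr' a.2

theorem NonGalData.le_coKer (h0 : H₀ ≤ H) (w : W₁) : H₀ ≤ D.coKer w := fun x hx =>
  (D.mem_coKer ⟨x, h0 hx⟩).2 (by rw [(D.ker ⟨x, h0 hx⟩).2 hx]; rfl)

theorem NonGalData.relIndex_coKer (w : W₁) : (D.coKer w).relIndex H = p := by
  rw [relIndex, NonGalData.coKer, kr_subgroupOf, index_ker, MonoidHom.range_eq_top.2, card_top]
  · exact Nat.card_zmod p
  · intro t
    obtain ⟨a, ha⟩ := D.surj (Multiplicative.ofAdd fun _ => t.toAdd)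
    exact ⟨a, by rw [MonoidHom.comp_apply, ha]; rfl⟩

include hn in
theorem NonGalData.norm_coKer (hU : U ≤ N[H]) (w : W₁) : U ≤ N[D.coKer w] :=
  le_norm_iff.2 fun x hx y hy => (D.mem_coKer ⟨_, conj_mem_of_le_norm hU hx (kr_le hy)⟩).2 (by
    rw [D.actU' hn ⟨x, hx⟩ ⟨y, kr_le hy⟩ ⟨_, conj_mem_of_le_norm hU hx (kr_le hy)⟩ rfl,
      (D.mem_coKer ⟨y, kr_le hy⟩).1 hy, mul_zero])

theorem NonGalData.comm_kr_le (hU : U ≤ N[H]) (w : W₁) : ⁅kr (D.lamw hn w), H⁆ ≤ D.coKer w :=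
  commutator_le.2 fun x hx y hy => by
    have h1 := conj_mem_of_le_norm hU (kr_le hx) hy
    refine (D.mem_coKer (⟨_, h1⟩ * (⟨y, hy⟩ : H)⁻¹)).2 ?_
    rw [map_mul, map_inv, toAdd_mul, toAdd_inv, Pi.add_apply, Pi.neg_apply,
      D.actU' hn ⟨x, kr_le hx⟩ ⟨y, hy⟩ ⟨_, h1⟩ rfl, (mem_kr' (kr_le hx)).1 hx]
    simp

theorem NonGalData.le_coKer_sup {v w : W₁} (hvw : v ≠ w) : H ≤ D.coKer v ⊔ D.coKer w := by
  classical
  intro z hz
  obtain ⟨b, hb⟩ := D.surj (Multiplicative.ofAdd (Pi.single w ((D.phi ⟨z, hz⟩).toAdd w)))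
  have h1 : (b : G) ∈ D.coKer v := (D.mem_coKer b).2 (by rw [hb]; exact Pi.single_eq_of_ne hvw _)
  have h2 := (D.mem_coKer (w := w) (b⁻¹ * ⟨z, hz⟩)).2 (by
    rw [map_mul, map_inv, hb]; simp)
  simpa using mul_mem (mem_sup_left h1) (mem_sup_right (S := D.coKer v) h2)

end NonGal

theorem Hyp9.C_le_kr (h : Hyp9 M W₁ U W₂) (D : NonGalData MF[M] (pH0 M U) U W₁ (pP M U))
    (w : W₁) : pC M U ≤ kr (D.lamw h.typeP.U_normal w) := fun x hx =>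
  (mem_kr' (h.C_le hx)).2 ((h.mem_C_iff D ⟨x, h.C_le hx⟩).1 hx w)

/-- (9.8)(a) -/
theorem nonGalois_dvd (h : Hyp9 M W₁ U W₂) (D : NonGalData MF[M] (pH0 M U) U W₁ (pP M U))
    {θ : ↥⁅M, M⁆ → ℂ} (hθ : θ ∈ pX M (pH0 M U)) : ∃ n : ℕ, θ 1 = (D.a * n : ℕ) :=
  h.dvd_degree hθ fun f h1 h2 h3 => by
    have := Fact.mk h.p_prime
    have h4 := (inKer_iff_le_kerG h1.isCharacter h.H0_le).1 h2
    obtain ⟨w, a, ha, hw⟩ := D.exists_single h4 (mt (inKer_iff_le_kerG h1.isCharacter le_rfl).2 h3)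
    exact ⟨_, kr_le, D.relIndex_kr h.typeP.U_normal w, fun x hx hfix => (mem_kr' hx).2
      (D.lamw_eq_one _ (h.U_le.trans h.norm_H) h4 ha hw
        ((cConj_eq_iff_lin h1.isCharacter (h.lin h1 h2) (h.norm_H (h.U_le hx))).1 hfix))⟩

/-- (9.8)(c) -/
theorem nonGalois_exists_irr (h : Hyp9 M W₁ U W₂) (hg : ¬ TypePGalois M U) :
    ∃ ζ, IsIrrCharacter M ζ ∧ IsIndHC M U W₁ ζ := by
  classical
  obtain ⟨D⟩ := typeP_Galois_Pn h hg
  have := Fact.mk h.p_prime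
  have hn := h.typeP.U_normal
  obtain ⟨g₀, -, hg₀⟩ := exists_Ann_apply_ne (N := (⊥ : Subgroup (Multiplicative (ZMod (pP M U)))))
    (w := Multiplicative.ofAdd 1) (by simp)
  have hg1 : g₀ ≠ 1 := fun e => hg₀ (by rw [e]; rfl)
  let ε : W₁ → ZMod (pP M U) := fun w => if w = 1 then -1 else 1
  have hε : ∀ w, ε w ≠ 0 := fun w => by simp only [ε]; split_ifs <;> simp
  let F : MF[M] →* ℂˣ := g₀.comp ((AddMonoidHom.toMultiplicative
    (Fintype.linearCombination (ZMod (pP M U)) ε).toAddMonoidHom).comp D.phi)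
  have hF : ∀ a, F a = g₀ (Multiplicative.ofAdd (∑ w, (D.phi a).toAdd w * ε w)) := fun a => rfl
  have key : ∀ a ∈ MF[M], ∀ (x : U) (v : W₁), cConj (lc F) (a * x * v) = lc F →
      ∀ w, D.lamw hn (v * w) x * ε (v * w) = ε w := fun a ha x v hfix w => by
    refine field_char_cancel hg1 fun t => ?_
    obtain ⟨b, hb⟩ := D.surj (Multiplicative.ofAdd (Pi.single w t))
    have h1 := conj_mem_of_le_norm h.norm_H (h.W₁_le v.2) b.2
    have h2 := conj_mem_of_le_norm h.norm_H (h.U_le x.2) h1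
    have h3 := congrFun hfix b
    rw [cConj_apply _ (h.norm_H (mul_mem (mul_mem (h.H_le ha) (h.U_le x.2)) (h.W₁_le v.2)))] at h3
    have h4 : F (⟨a, ha⟩ * ⟨_, h2⟩ * (⟨a, ha⟩ : MF[M])⁻¹) = F b := by
      refine Units.ext (Eq.trans ?_ h3)
      congr 2
      exact Subtype.ext (by simp [mul_assoc])
    rw [map_mul, map_mul, map_inv, mul_inv_cancel_comm, hF, hF,
      Fintype.sum_eq_single (v * w), Fintype.sum_eq_single w, D.actU' hn x ⟨_, h1⟩ ⟨_, h2⟩ rfl,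
      D.actW v b ⟨_, h1⟩ _ rfl, inv_mul_cancel_left, hb] at h4
    · simp only [toAdd_ofAdd, Pi.single_eq_same] at h4
      rw [mul_right_comm, h4, mul_comm]
    · intro w' hw'
      rw [hb, toAdd_ofAdd, Pi.single_eq_of_ne hw', zero_mul]
    · intro w' hw'
      rw [D.actU' hn x ⟨_, h1⟩ ⟨_, h2⟩ rfl, D.actW v b ⟨_, h1⟩ _ rfl, hb, toAdd_ofAdd,
        Pi.single_eq_of_ne (fun e => hw' (by rw [← e, mul_inv_cancel_left])), mul_zero, zero_mul]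
  have hC : ∀ a ∈ MF[M], ∀ x ∈ U, cConj (lc F) (a * x) = lc F → x ∈ pC M U :=
    fun a ha x hx hfix => (h.mem_C_iff D ⟨x, hx⟩).2 fun w => by
      have := key a ha ⟨x, hx⟩ 1 (by simpa using hfix) w
      rw [one_mul] at this
      exact Units.ext (mul_right_cancel₀ (hε w) (this.trans (one_mul _).symm))
  obtain ⟨ξ, h1, h2, -, -, h3⟩ := h.exists_indHC (lc_irr F) (fun x hx => by
      change (F x : ℂ) = F 1
      rw [hF, hF, ((D.ker x).2 hx).trans (map_one D.phi).symm]) (fun hk => hg₀ (by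
      obtain ⟨b, hb⟩ := D.surj (Multiplicative.ofAdd (Pi.single 1 (-1)))
      have := hk b b.2
      rw [lc_apply_one] at this
      have h4 : F b = 1 := Units.ext this
      rw [hF, Fintype.sum_eq_single 1 fun w hw => by
        rw [hb, toAdd_ofAdd, Pi.single_eq_of_ne hw, zero_mul], hb] at h4
      simpa [ε] using h4)) fun x hx hfix => hC 1 (one_mem _) x hx (by rwa [one_mul])
  refine ⟨_, (cInd_irr_iff ((h.sup_le_der h.C_le).trans (der_le M)) h.norm_HC h1).2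
    fun y hy => ?_, h3⟩
  obtain ⟨y1, y2, y3⟩ := mem_cInertia.1 hy
  have h4 : cConj (lc F) y = lc F := by
    rw [← h2, ← cRes_cConj le_sup_left _ y2 (h.norm_H y1), y3]
  obtain ⟨a, ha, x, hx, v, hv, rfl⟩ := h.exists_mul y1
  by_cases hv1 : v = 1
  · subst hv1
    rw [mul_one] at h4 ⊢
    exact mul_mem (mem_sup_left ha) (mem_sup_right (hC a ha x hx h4))
  have h5 := key a ha ⟨x, hx⟩ ⟨v, hv⟩ h4 1
  have hv2 : (⟨v, hv⟩ : W₁) ≠ 1 := fun e => hv1 (congrArg Subtype.val e)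
  simp only [mul_one, ε, if_neg hv2, if_true] at h5
  have h6 := congrArg (fun z => ((D.lamw hn ⟨v, hv⟩ z : (ZMod (pP M U))ˣ) : ZMod (pP M U)))
    (pow_card_eq_one' (x := (⟨x, hx⟩ : U)))
  simp only [map_pow, map_one, Units.val_pow_eq_pow_val, h5, (mFT_odd U).neg_one_pow,
    Units.val_one] at h6
  have : Fact (2 < pP M U) := ⟨lt_of_le_of_ne h.p_prime.two_le (mFT_prime_ne_two h.p_dvd).symm⟩
  exact (ZMod.neg_one_ne_one h6).elim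

theorem Hyp9.relIndex_sup (h : Hyp9 M W₁ U W₂) {X X' Y Y' : Subgroup G} (hX : X ≤ X')
    (hX' : X' ≤ MF[M]) (hY : Y ≤ Y') (hY' : Y' ≤ U) (hn : Y ≤ N[X]) (hn' : Y' ≤ N[X']) :
    (X ⊔ Y).relIndex (X' ⊔ Y') = X.relIndex X' * Y.relIndex Y' := by
  have h1 := card_mul_relIndex (sup_le_sup hX hY)
  rw [h.card_sup (hX.trans hX') (hY.trans hY') hn, h.card_sup hX' hY' hn', ← card_mul_relIndex hX,
    ← card_mul_relIndex hY, mul_mul_mul_comm] at h1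
  exact Nat.eq_of_mul_eq_mul_left (Nat.mul_pos (card_pos' _) (card_pos' _)) h1

/-- (9.8)(d) -/
theorem nonGalois_count (h : Hyp9 M W₁ U W₂) (D : NonGalData MF[M] (pH0 M U) U W₁ (pP M U)) :
    D.a ^ 2 * Nat.card ↥⁅U, U⁆ ∣ (pP M U - 1) * Nat.card U ∧
    (pP M U - 1) * Nat.card U / (D.a ^ 2 * Nat.card ↥⁅U, U⁆) ≤
      Nat.card {ζ // ζ ∈ pS M (pH0 M U ⊔ ⁅U, U⁆) ∧ IsIrrCharacter M ζ ∧
        ζ 1 = (Nat.card W₁ * D.a : ℕ)} := by
  have := Fact.mk h.p_prime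
  have hn := h.typeP.U_normal
  have hUH := h.U_le.trans h.norm_H
  have hU₁ : kr (D.lamw hn 1) ≤ U := kr_le
  have hU' : ⁅U, U⁆ ≤ kr (D.lamw hn 1) := h.der_le_C.trans (h.C_le_kr D 1)
  have hH₁ := D.le_coKer h.H0_le 1
  have hK := h.sup_le_der hU₁
  have hKn := h.der_norm_sup (h.C_le_kr D 1) hU₁
  have hNK : D.coKer 1 ⊔ ⁅U, U⁆ ≤ MF[M] ⊔ kr (D.lamw hn 1) := sup_le_sup (D.coKer_le 1) hU'
  have hNn : ⁅M, M⁆ ≤ N[D.coKer 1 ⊔ ⁅U, U⁆] := h.der_norm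
    (le_norm_of_commutator_le (N := pH0 M U) ((commutator_mono (sup_le ((D.coKer_le 1).trans
      (PG.le_centMod_iff.2 ⟨h.H_le.trans h.norm_H0, h.der_le_H0⟩)) (h.der_le_C.trans inf_le_right))
      le_rfl).trans PG.commutator_centMod_le) (hH₁.trans le_sup_left))
    (le_norm_sup (D.norm_coKer hn hUH 1) (le_norm_der U))
  have hd : ⁅MF[M] ⊔ kr (D.lamw hn 1), MF[M] ⊔ kr (D.lamw hn 1)⁆ ≤ D.coKer 1 ⊔ ⁅U, U⁆ :=
    der_sup_le (h.H_le_der.trans hNn) ((hU₁.trans h.U_le_der).trans hNn)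
      ((h.der_le_H0.trans hH₁).trans le_sup_left) ((commutator_mono hU₁ hU₁).trans le_sup_right)
      (((commutator_comm _ _).le.trans (D.comm_kr_le hn hUH 1)).trans le_sup_left)
  have h1 := card_IrrKerD hNK le_sup_left (hK.trans hNn) (hK.trans h.der_norm_H) hd
  rw [← sup_assoc, sup_eq_left.2 (D.coKer_le 1), h.relIndex_sup le_rfl le_rfl hU' hU₁
    ((der_le U).trans hUH) (hU₁.trans hUH), h.relIndex_sup (D.coKer_le 1) le_rfl hU' hU₁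
    ((der_le U).trans (D.norm_coKer hn hUH 1)) (hU₁.trans hUH), relIndex_self, one_mul,
    D.relIndex_coKer] at h1
  set X := IrrKerD (MF[M] ⊔ kr (D.lamw hn 1)) MF[M] (D.coKer 1 ⊔ ⁅U, U⁆)
  have hlin : ∀ ξ ∈ X, ξ 1 = 1 := fun ξ hξ => irr_one_of_inKer_der hξ.1 (hξ.2.2.mono hd)
  have hI : ∀ ξ ∈ X, IsIrrCharacter _ (cInd ⁅M, M⁆ ξ) := fun ξ hξ => by
    refine (cInd_irr_iff hK hKn hξ.1).2 (h.inertia_le le_sup_left hKn hξ.1.isClassFunction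
      fun x hx hfix => (mem_kr' hx).2 ?_)
    have h2 := hξ.1.isCharacter.cRes (le_sup_left (a := MF[M]))
    have h3 := (inKer_iff_le_kerG h2 (D.coKer_le 1)).1 ((hξ.2.2.mono le_sup_left).cRes le_sup_left)
    obtain ⟨w, a, ha, hw⟩ := D.exists_single (hH₁.trans h3) (mt (inKer_iff_le_kerG h2 le_rfl).2
      (mt (inKer_cRes_iff le_sup_left le_rfl).1 hξ.2.1))
    obtain rfl : w = 1 := by_contra fun e => ha (h3 ((D.mem_coKer a).2 (hw 1 (Ne.symm e))))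
    exact D.lamw_eq_one hn hUH (hH₁.trans h3) ha hw ((cConj_eq_iff_lin h2
      (by rw [cRes_one, hlin ξ hξ]) (hUH hx)).1 hfix)
  have h2 := card_seqInd_irr hK hKn (fun ξ hξ => hξ.1) hI fun ξ hξ y hy =>
    ⟨IsIrrCharacter_cConj hξ.1 (hKn hy), mt (inKer_cConj_iff (hKn hy) (h.der_norm_H hy)).1 hξ.2.1,
      hξ.2.2.cConj (hKn hy) (hNn hy)⟩
  rw [h.relIndex_H_sup hU₁, D.relIndex_kr] at h2
  have h3 : (pP M U - 1) * Nat.card U =
      D.a ^ 2 * Nat.card ↥⁅U, U⁆ * Nat.card (seqInd ⁅M, M⁆ X) := by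
    have h4 : (pP M U - 1) * ⁅U, U⁆.relIndex (kr (D.lamw hn 1)) = Nat.card X := by
      rw [Nat.sub_mul, ← h1]; simp
    rw [← card_mul_relIndex hU₁, ← card_mul_relIndex hU', D.relIndex_kr]
    calc _ = (pP M U - 1) * ⁅U, U⁆.relIndex (kr (D.lamw hn 1)) * D.a * Nat.card ↥⁅U, U⁆ := by ring
      _ = _ := by rw [h4, h2]; ring
  refine ⟨Dvd.intro _ h3.symm, ?_⟩
  rw [h3, Nat.mul_div_cancel_left _ (Nat.mul_pos (pow_pos (nonGal_facts h D).1.le 2) (card_pos' _))]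
  have hθ : ∀ θ ∈ seqInd ⁅M, M⁆ X, θ ∈ pX M (D.coKer 1 ⊔ ⁅U, U⁆) ∧ θ 1 = D.a := by
    rintro _ ⟨ξ, hξ, rfl⟩
    refine ⟨⟨hI ξ hξ, mt (inKer_cInd_iff hK hKn le_sup_left h.der_norm_H hξ.1).1 hξ.2.1,
      (inKer_cInd_iff hK hKn hNK hNn hξ.1).2 hξ.2.2⟩, ?_⟩
    rw [cInd_one hK, hlin ξ hξ, mul_one, h.relIndex_H_sup hU₁, D.relIndex_kr]
  have key : ∀ θ ∈ seqInd ⁅M, M⁆ X, ∀ y ∈ M, cConj θ y ∈ seqInd ⁅M, M⁆ X → y ∈ ⁅M, M⁆ := by
    intro θ h4 y hy h5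
    obtain ⟨k, hk, w, hw, rfl⟩ := (typeP_sdprod h.typeP).exists_mul hy
    have hw' := le_norm_der M (h.W₁_le hw)
    rw [cConj_mul _ (le_normalizer hk) hw', cConj_of_mem (hθ θ h4).1.1.isClassFunction hk] at h5
    by_cases hw1 : w = 1
    · rwa [hw1, mul_one]
    have hne : (⟨w, hw⟩ : W₁)⁻¹ ≠ 1 := fun e => hw1 (congrArg Subtype.val (inv_eq_one.1 e))
    refine ((hθ _ h5).1.2.1 (InKer.mono (InKer.sup (hθ _ h5).1.1.isCharacter
      ((D.coKer_le _).trans h.H_le_der) ((D.coKer_le _).trans h.H_le_der) (fun z hz => ?_)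
      ((hθ _ h5).1.2.2.mono le_sup_left)) (D.le_coKer_sup hne))).elim
    rw [cConj_apply_one, cConj_apply _ hw']
    have hz' := D.coKer_le _ hz
    refine (hθ θ h4).1.2.2 _ (mem_sup_left ((D.mem_coKer
      ⟨_, conj_mem_of_le_norm h.norm_H (h.W₁_le hw) hz'⟩).2 ?_))
    rw [D.actW ⟨w, hw⟩ ⟨z, hz'⟩ _ _ rfl, mul_one]
    exact (D.mem_coKer ⟨z, hz'⟩).1 hz
  have : Finite {ζ // ζ ∈ pS M (pH0 M U ⊔ ⁅U, U⁆) ∧ IsIrrCharacter M ζ ∧
      ζ 1 = (Nat.card W₁ * D.a : ℕ)} :=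
    ((seqIndD_finite _ _ _ _).subset fun _ h => h.1).to_subtype
  refine Nat.card_le_card_of_injective (fun θ => ⟨cInd M θ.1, ⟨θ, ⟨(hθ _ θ.2).1.1,
    (hθ _ θ.2).1.2.1, (hθ _ θ.2).1.2.2.mono (sup_le_sup_right hH₁ _)⟩, rfl⟩,
    (cInd_irr_iff (der_le M) (le_norm_der M) (hθ _ θ.2).1.1).2 fun y hy => key _ θ.2 y
      (mem_cInertia.1 hy).1 ((mem_cInertia.1 hy).2.2.symm ▸ θ.2), by
    rw [cInd_one (der_le M), (hθ _ θ.2).2, h.relIndex_der, Nat.cast_mul]⟩) fun θ θ' e => ?_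
  obtain ⟨y, hy, e'⟩ := (cInd_eq_iff (der_le M) (le_norm_der M) (hθ _ θ'.2).1.1
    (hθ _ θ.2).1.1).1 (congrArg Subtype.val e)
  exact Subtype.ext (e'.trans (cConj_of_mem (hθ _ θ'.2).1.1.isClassFunction
    (key _ θ'.2 y hy (e' ▸ θ.2))))

/-- (9.10) -/
theorem typeP_reducible_core_cases (h : Hyp9 M W₁ U W₂) :
    (∃ ζ, IsIrrCharacter M ζ ∧ ζ ∈ pS M (pH0 M U ⊔ ⁅pC M U, pC M U⁆) ∧
      ζ 1 = (Nat.card W₁ * pU M U : ℕ) ∧
      ∃ ξ : ↥(MF[M] ⊔ pC M U) → ℂ, IsIrrCharacter _ ξ ∧ ξ 1 = 1 ∧ ζ = cInd M ξ) ∨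
    (TypePGalois M U ∧ Frob (quo MF[M] (pH0 M U)) (quo U (pH0 M U)) (quo ⁅M, M⁆ (pH0 M U)) ∧
      IsCyclic U ∧ Nat.card U = (pP M U ^ Nat.card W₁ - 1) / (pP M U - 1) ∧
      (FTtype M = 2 → Frob MF[M] U ⁅M, M⁆)) := by
  by_cases hg : TypePGalois M U
  swap
  · obtain ⟨ζ, h1, h2, h3, h4⟩ := nonGalois_exists_irr h hg
    exact Or.inl ⟨ζ, h1, seqIndD_mono le_rfl (sup_le_sup_left (der_le _) _) h3, h2, h4⟩
  by_cases hr : ∀ φ ∈ pS M (pH0 M U ⊔ ⁅pC M U, pC M U⁆), ¬ IsIrrCharacter M φ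
  · obtain ⟨h1, h2, h3⟩ := Galois_all_red h hg hr
    have h4 := (typeP_Galois_P h hg).2.1
    obtain ⟨e⟩ := nonempty_equiv_quo_of_inf_eq_bot (le_sup_left.trans h.C_norm)
      (by rw [h1, inf_bot_eq])
    have h5 : IsCyclic U := isCyclic_of_surjective e.symm e.symm.surjective
    refine Or.inr ⟨hg, h3, h5, by rw [← h2, pU, h1, relIndex_bot_left], fun ht => ?_⟩
    obtain ⟨-, -, -, h6, h7⟩ := compl_of_typeII h.max h.typeP ht
    rw [← h7]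
    exact (typeF_Frobenius_iff (mFT_odd _) (solv_of_le (mmax_sol h.max) (der_le M)) h6).2
      inferInstance
  · push Not at hr
    obtain ⟨_, ⟨θ, hθ, rfl⟩, hi⟩ := hr
    obtain ⟨h1, ξ, h2, h3, h4⟩ := Galois_Ind_HC h hg hθ
    refine Or.inl ⟨_, hi, ⟨θ, hθ, rfl⟩, ?_, ξ, h2, h3, ?_⟩
    · rw [cInd_one (der_le M), h1, h.relIndex_der, Nat.cast_mul]
    · rw [h4, cInd_cInd (h.sup_le_der h.C_le) (der_le M)]

end Cfsg.Agent.PF
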