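import Cfsg.Agent.PF.S10b

set_option autoImplicit false
set_option linter.unusedSectionVars false
set_option linter.unusedVariables false

namespace Cfsg.Agent.PF

open Subgroup Cfsg.Agent.GT Cfsg.Agent.BG Cfsg.Agent.Char

universe u v w

/-! Peterfalvi (10.10), (10.11). The rest of §10 is in `S10a`, `S10b`. -/

variable {G : Type u} [Group G] [Fintype G] [MFT G] {M S T U W₁ W₂ : Subgroup G} {d n : ℕ} {δ : ℤ}
  {ζ : M → ℂ} {i : Lin W₁} {j : Lin W₂} {ν : (M → ℂ) →ₗ[ℂ] (G → ℂ)} {S₁ : Set (M → ℂ)}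

/-- (10.10.1) -/
theorem Hyp10.type5_struct (h : Hyp10 M W₁ U W₂) (h5 : FTtype M = 5) :
    (Nat.card W₂).Prime ∧ IsPGroup (Nat.card W₂) ↥⁅M, M⁆ ∧ ⁅⁅M, M⁆, ⁅M, M⁆⁆ = W₂ ∧
      W₂.relIndex ⁅M, M⁆ = Nat.card W₂ ^ 2 ∧ Nat.card W₂ + 1 = 2 * Nat.card W₁ := by
  have hnc := FTtype345_noncoherence h.max h.gt2
  obtain ⟨-, hU, hV⟩ := compl_of_typeV h.max h.typeP h5
  have hF : MF[M] = ⁅M, M⁆ := (typeP_U_eq_bot_iff h.typeP).1 hU
  have hnil : Group.IsNilpotent ↥⁅M, M⁆ := hF ▸ fittingHallOf_nilpotent M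
  rw [hF] at hV
  obtain ⟨Q, hQ⟩ := h.subcoherent
  obtain ⟨eq⟩ := nonempty_equiv_quo_of_inf_eq_bot (H := ⁅M, M⁆) (K := ⊥) le_norm_of_normal
    (inf_bot_eq _)
  have hlt : ⁅M, M⁆ < M := lt_of_le_of_ne (der_le M) fun e =>
    h.typeP.W₁_ne ((typeP_sdprod h.typeP).eq_left_iff.1 e)
  obtain ⟨-, hb, p, hp, hK, hna, hnd⟩ := hQ.cohProp.non_coherent_chief hlt (le_norm_der M)
    (typeP_der_sol h.max) (mFT_odd M) le_norm_of_normal bot_le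
    (haveI := hnil; Group.nilpotent_of_mulEquiv eq)
    (by rw [sup_bot_eq]; exact typeP_der2_lt h.max h.typeP)
    (by rw [sup_bot_eq]
        exact regMod_of_regular (typeP_sdprod h.typeP) le_rfl (typeP_reg_der2 h.typeP)) hnc
  rw [sup_bot_eq] at hb
  rw [h.pti.relIndex] at hb hnd
  have hK' : IsPGroup p ↥⁅M, M⁆ := hK.of_equiv eq.symm
  have := Fact.mk hp
  have hpq : ∀ q : ℕ, q.Prime → q ∣ Nat.card ↥⁅M, M⁆ → q = p := fun q hq hd => by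
    obtain ⟨k, hk⟩ := hK'.exists_card_eq
    exact (Nat.prime_dvd_prime_iff_eq hq hp).1 (hq.dvd_of_dvd_pow (hk ▸ hd))
  rcases hV with hTI | ⟨q, hq, hqd, h1, -⟩ | ⟨q, hq, hqd, h1, h2, -⟩
  · exfalso
    obtain ⟨ν, hν⟩ := Sibley_coherence (mFT_odd M) hnil hTI (Or.inr ⟨W₂, _, _,
      FTtype345_core_prime h, typeP_W₂_le_der2 h.typeP, h.pdd⟩)
    exact hnc ⟨ν, hν.congr fun α hα =>
      (tau0_eq_ind_of_TI h.max hTI h.pdd.subset (h.pdd.zspan_CF subset_rfl hα)).symm⟩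
  · exact absurd (hpq q hq hqd ▸ h1) hnd
  obtain rfl := hpq q hq hqd
  rw [piCoreOf_eq_self (isPi_of_isPGroup hp hK')] at h1
  have h3 := PG.card_commutator_of_card_cube h1 fun hc =>
    hna (le_cent_iff_commutator_eq_bot.1 (comm_iff_le_cent.1 hc)).le
  have h4 : W₂ = ⁅⁅M, M⁆, ⁅M, M⁆⁆ := (eq_bot_or_eq_of_card_prime (h3 ▸ hp)
    (typeP_W₂_le_der2 h.typeP)).resolve_left (typeP_W₂_ne h.typeP)
  rw [← h4] at h3 hb
  have h6 : W₂.relIndex ⁅M, M⁆ = q ^ 2 := by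
    have := card_mul_relIndex (typeP_W₂_le_der h.typeP)
    rw [h1, h3, pow_succ'] at this
    exact Nat.eq_of_mul_eq_mul_left hp.pos this
  rw [h3]
  refine ⟨hp, hK', h4.symm, h6, ?_⟩
  rw [h6] at hb
  have h7 : q ≤ 2 * Nat.card W₁ := by
    by_contra h7
    have := Nat.pow_le_pow_left (not_le.1 h7) 2
    have := h.cti.three_le₁
    nlinarith
  have ho : Odd q := h3 ▸ mFT_odd W₂
  have h8 := Nat.le_of_dvd (Nat.succ_pos q) ((Nat.coprime_two_left.2 (mFT_odd W₁)).mul_dvd_of_dvd_of_dvd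
    (ho.add_one).two_dvd h2)
  obtain ⟨a, ha⟩ := ho
  omega

/-- (10.10.2) -/
theorem Hyp10.type5_chars (h : Hyp10 M W₁ U W₂) (h5 : FTtype M = 5)
    (hc : Consts345 M W₁ W₂ d δ n) : d = Nat.card W₂ ∧
    ∀ φ ∈ seqIndD ⁅M, M⁆ M W₂ ⊥, ∃ j, j ≠ 1 ∧ φ = muR M W₁ W₂ j := by
  classical
  obtain ⟨hp, hK, hW, hi, hw⟩ := h.type5_struct h5
  have hn : M ≤ N[W₂] := hW ▸ typeP_norm_der2 M
  have hD := FT_prDade_hyp_gen h.max h.typeP hn le_rfl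
    ((typeP_W₂_le_der h.typeP).trans h.core.ge)
  have hs := sum_seqIndD_square (der_le M) (le_norm_der M) (typeP_W₂_le_der h.typeP) hn
    le_norm_of_normal bot_le
  rw [h.pti.relIndex, hi, relIndex_bot_left] at hs
  set T := (seqIndD_finite ⁅M, M⁆ M W₂ ⊥).toFinset with hT
  set T₀ : Finset (M → ℂ) := (Finset.univ.erase 1).image (muR M W₁ W₂) with hT₀
  have hsub : T₀ ⊆ T := by
    intro φ hφ
    obtain ⟨j, hj, rfl⟩ := Finset.mem_image.1 hφ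
    exact (Set.Finite.mem_toFinset _).2 (hD.muR_mem (Finset.ne_of_mem_erase hj))
  have hw1 : (0 : ℝ) < Nat.card W₁ := card_pos_real _
  have hs₀ : ∑ φ ∈ T₀, (φ 1).re ^ 2 / nsq φ = Nat.card W₁ * (d : ℝ) ^ 2 * (Nat.card W₂ - 1) := by
    rw [Finset.sum_image fun a _ b _ e => h.pti.muR_inj e,
      Finset.sum_congr rfl (g := fun _ => Nat.card W₁ * (d : ℝ) ^ 2) fun j hj => by
        rw [h.muR_one hc (Finset.ne_of_mem_erase hj), h.pti.nsq_muR, ← Nat.cast_mul,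
          Complex.natCast_re, Nat.cast_mul]
        field_simp,
      Finset.sum_const, Finset.card_erase_of_mem (Finset.mem_univ _), Finset.card_univ,
      h.cti.card_Lin₂, nsmul_eq_mul, Nat.cast_pred hp.pos, mul_comm]
  have hpos : ∀ φ ∈ T, 0 < (φ 1).re ^ 2 / nsq φ := fun φ hφ => by
    have h1 := seqIndD_subset_T ((Set.Finite.mem_toFinset _).1 hφ)
    obtain ⟨a, ha, e⟩ := seqIndT_one (der_le M) h1
    rw [e, h.pti.relIndex, ← Nat.cast_mul, Complex.natCast_re, Nat.cast_mul]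
    have := nsq_pos (seqIndT_ne_zero (der_le M) h1)
    positivity
  have hsplit := Finset.sum_sdiff hsub (f := fun φ => (φ 1).re ^ 2 / nsq φ)
  have hnn : 0 ≤ ∑ φ ∈ T \ T₀, (φ 1).re ^ 2 / nsq φ :=
    Finset.sum_nonneg fun φ hφ => (hpos φ (Finset.sdiff_subset hφ)).le
  have hp1 : (0 : ℝ) < Nat.card W₂ - 1 := by
    have : (1 : ℝ) < Nat.card W₂ := by exact_mod_cast hp.one_lt
    linarith
  have hd : d = Nat.card W₂ := by
    refine le_antisymm ?_ ?_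
    · have h1 : Nat.card W₁ * (d : ℝ) ^ 2 * (Nat.card W₂ - 1) ≤
          Nat.card W₁ * ((Nat.card W₂ ^ 2 : ℕ) : ℝ) * (Nat.card W₂ - 1) := by linarith
      have h2 := le_of_mul_le_mul_left (le_of_mul_le_mul_right h1 hp1) hw1
      exact (Nat.pow_le_pow_iff_left two_ne_zero).1 (by exact_mod_cast h2)
    · obtain ⟨k, hk, -⟩ := h.cti.exists_ne_ne₂ 1 1
      obtain ⟨a, ha⟩ := irr_degree_pow hp hK (h.pti.chiR_irr k)
      rw [← h.pti.mu2_one 1 k, hc.deg 1 k hk, Nat.cast_inj] at ha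
      have h1 := hc.one_lt
      rw [ha] at h1 ⊢
      exact Nat.le_self_pow (by rintro rfl; simp at h1) _
  refine ⟨hd, fun φ hφ => ?_⟩
  have h0 : ∑ φ ∈ T \ T₀, (φ 1).re ^ 2 / nsq φ = 0 := by
    rw [hs, hs₀, hd, Nat.cast_pow] at hsplit; linarith
  by_contra hne
  have hφ' : φ ∈ T \ T₀ := Finset.mem_sdiff.2 ⟨(Set.Finite.mem_toFinset _).2 hφ, fun hφ₀ => by
    obtain ⟨j, hj, rfl⟩ := Finset.mem_image.1 hφ₀
    exact hne ⟨j, Finset.ne_of_mem_erase hj, rfl⟩⟩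
  exact (hpos φ (Finset.sdiff_subset hφ')).ne' ((Finset.sum_eq_zero_iff_of_nonneg
    fun φ hφ => (hpos φ (Finset.sdiff_subset hφ)).le).1 h0 φ hφ')

theorem Hyp10.type5_card (h : Hyp10 M W₁ U W₂) (h5 : FTtype M = 5) :
    8 ≤ (seqIndD_finite ⁅M, M⁆ M ⁅M, M⁆ ⁅⁅M, M⁆, ⁅M, M⁆⁆).toFinset.card := by
  obtain ⟨hp, hK, hW, hi, hw⟩ := h.type5_struct h5
  have hs := sum_seqIndD_square (der_le M) (le_norm_der M) le_rfl (le_norm_der M)
    (typeP_norm_der2 M) (der_le _)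
  have hw1 : (3 : ℝ) ≤ Nat.card W₁ := by exact_mod_cast h.cti.three_le₁
  rw [Finset.sum_congr rfl (g := fun _ => (Nat.card W₁ : ℝ) ^ 2) fun φ hφ => by
      have := typeP_lin_irr h.typeP ((Set.Finite.mem_toFinset _).1 hφ)
      rw [this.2.2, this.1.nsq, Complex.natCast_re, div_one],
    Finset.sum_const, nsmul_eq_mul, h.pti.relIndex, relIndex_self] at hs
  conv_rhs at hs => rw [hW, hi]
  have hw' : (Nat.card W₂ : ℝ) = 2 * Nat.card W₁ - 1 := by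
    rw [eq_sub_iff_add_eq]; exact_mod_cast hw
  rw [Nat.cast_pow, hw'] at hs
  set c : ℕ := (seqIndD_finite ⁅M, M⁆ M ⁅M, M⁆ ⁅⁅M, M⁆, ⁅M, M⁆⁆).toFinset.card with hc
  have h1 : (c : ℝ) = 4 * (Nat.card W₁ - 1) :=
    mul_right_cancel₀ (b := (Nat.card W₁ : ℝ) ^ 2) (by positivity) (by rw [hs]; push_cast; ring)
  have h2 : (8 : ℝ) ≤ c := by linarith
  exact_mod_cast h2

theorem Hyp10.type5_exclusion (h : Hyp10 M W₁ U W₂) : FTtype M ≠ 5 := by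
  classical
  intro h5
  obtain ⟨d, δ, n, hc⟩ := FTtype345_constants h
  obtain ⟨hp, hK, hW, hi, hw⟩ := h.type5_struct h5
  obtain ⟨hd, hall⟩ := h.type5_chars h5 hc
  have h8 := h.type5_card h5
  have h3 := h.cti.three_le₁
  obtain ⟨Q, hQ⟩ := h.subcoherent
  obtain ⟨j, hj, -⟩ := h.cti.exists_ne_ne₂ 1 1
  have hn : n = 2 := by
    refine le_antisymm (Nat.le_of_mul_le_mul_right (c := Nat.card W₁) ?_ (by omega)) (hc.two_le h)
    have h1 := hc.ratio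
    have h2 := hc.sign_cases hj
    have h4 : ((n * Nat.card W₁ : ℕ) : ℤ) ≤ (2 * Nat.card W₁ : ℕ) := by
      rw [Nat.cast_mul]; omega
    exact_mod_cast h4
  set S₁ := seqIndD ⁅M, M⁆ M ⁅M, M⁆ ⁅⁅M, M⁆, ⁅M, M⁆⁆ with hS₁
  have hS : ConjSub S₁ (seqIndD ⁅M, M⁆ M ⁅M, M⁆ ⊥) := conjSub_seqIndD le_rfl bot_le
  have hr : ∀ φ ∈ S₁, RefIrr M W₁ φ := fun φ hφ => typeP_lin_irr h.typeP hφ
  obtain ⟨ν, hν⟩ := uniform_degree_coherence hQ hS fun φ hφ ψ hψ => by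
    rw [(hr φ hφ).2.2, (hr ψ hψ).2.2]
  obtain ⟨ζ, hζS⟩ := seqIndD_nonempty (L := M) le_rfl le_normalizer
    ((der_le M).trans (typeP_norm_der2 M)) (typeP_der2_lt h.max h.typeP)
  have hζ := hr ζ hζS
  -- (10.10.3)
  have halpha : ∀ i, tau0 M (bridge345 M W₁ W₂ δ n ζ i j) =
      (δ : ℂ) • (etaG W₁ W₂ i j - etaG W₁ W₂ i 1) - (n : ℂ) • ν ζ := by
    intro i
    refine def_tau_alpha h hc hζ hν hS hj hζS ?_
    obtain ⟨b, hb⟩ := (vchar_Dade_FTtype345_bridge h hc hζ i hj).ci_int (hν.virt_mem hζS)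
    have h1 : ∀ φ ∈ S₁, φ ≠ ζ → ⟪tau0 M (bridge345 M W₁ W₂ δ n ζ i j), ν φ⟫ = (b + n : ℤ) := by
      intro φ hφ hne
      have hz := sub_mem_zspanOn_one (mem_zspan_of_mem hφ) (mem_zspan_of_mem hζS)
        ((hr φ hφ).2.2.trans hζ.2.2.symm)
      have e : ν φ = tau0 M (φ - ζ) + ν ζ := by rw [← hν.2 _ hz, map_sub, sub_add_cancel]
      rw [e, ci_add_right, h.ci_tau_bridge hc hζ i hj (h.zspan_CF hS.1 hz).1, hb]
      simp only [ci_sub_right, h.ci_mu2_irr hζ.1 hζ.2.1, h.ci_mu2_irr (hr φ hφ).1 (hr φ hφ).2.1,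
        hζ.1.ci_self, hζ.1.ci_of_ne (hr φ hφ).1 hne.symm]
      push_cast; ring
    have h2 := bessel_orthonormal
      ((seqIndD_finite ⁅M, M⁆ M ⁅M, M⁆ ⁅⁅M, M⁆, ⁅M, M⁆⁆).toFinset.erase ζ) ν (fun φ hφ ψ hψ => by
        have hφ' := (Set.Finite.mem_toFinset _).1 (Finset.mem_of_mem_erase hφ)
        have hψ' := (Set.Finite.mem_toFinset _).1 (Finset.mem_of_mem_erase hψ)
        rw [hν.ci_mem hφ' hψ', (hr φ hφ').1.ci_eq_ite (hr ψ hψ').1])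
      (tau0 M (bridge345 M W₁ W₂ δ n ζ i j))
    rw [Finset.sum_congr rfl fun φ hφ => norm_sq_of_eq_int (h1 φ
      ((Set.Finite.mem_toFinset _).1 (Finset.mem_of_mem_erase hφ)) (Finset.ne_of_mem_erase hφ)),
      Finset.sum_const, nsmul_eq_mul, norm_FTtype345_bridge h hc hζ i hj,
      Finset.card_erase_of_mem ((Set.Finite.mem_toFinset _).2 hζS)] at h2
    have h4 : b + n = 0 := by
      by_contra h4
      have h6 : (1 : ℝ) ≤ ((b + n : ℤ) : ℝ) ^ 2 := by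
        exact_mod_cast (by positivity : 0 < (b + n) ^ 2)
      have h7 : (7 : ℝ) ≤ ((seqIndD_finite ⁅M, M⁆ M ⁅M, M⁆ ⁅⁅M, M⁆, ⁅M, M⁆⁆).toFinset.card - 1 : ℕ) := by
        exact_mod_cast (by omega : 7 ≤ _ - 1)
      have h9 := mul_le_mul h7 h6 zero_le_one (Nat.cast_nonneg _)
      have h10 : (2 : ℝ) + (n : ℝ) ^ 2 = 6 := by rw [hn]; norm_num
      linarith
    rw [hb, show b = -n by omega]; simp
  -- (10.10.4)
  obtain ⟨χ, hχ, hχv, hχn, hχo⟩ := FTtype345_Dade_bridge0 h hζ (by omega)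
  have hχζ : ν ζ = χ := by
    refine (hν.isSIrr hζS hζ.1).eq_of_ci_eq_one (hχv.isSIrr_of_nsq hχn) ?_
    have h1 := h.ci_tau_bridge hc hζ 1 hj (h.mu0_sub_CF hζ).1
    have o1 : ∀ k, ⟪etaG W₁ W₂ 1 k, ∑ i, etaG W₁ W₂ i 1⟫ = if k = 1 then 1 else 0 := fun k => by
      rw [← ci_conj_symm, h.cti.ci_col_eta]
      by_cases hk : k = 1
      · simp [hk]
      · simp [hk, Ne.symm hk]
    have o2 : ⟪ν ζ, ∑ i, etaG W₁ W₂ i 1⟫ = 0 := by
      rw [ci_sum_right]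
      exact Finset.sum_eq_zero fun i _ => h.ortho_eta hS hν hζS hζ.1 i 1
    rw [halpha, hχ] at h1
    simp only [ci_sub_left, ci_sub_right, ci_smul_left, o1, o2, ci_eq_zero_symm (hχo 1 _),
      h.pti.ci_mu2_muR, h.ci_mu2_irr hζ.1 hζ.2.1, ci_eq_zero_symm (h.ci_muR_irr hζ.1 hζ.2.1 1),
      hζ.1.ci_self, if_neg hj, if_true, hn] at h1
    push_cast at h1
    linear_combination h1 / 2
  obtain ⟨ν₂, hν₂, hν₂'⟩ := h.pdd.uniform_coherent hj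
  have hU : uniformMu M W₁ W₂ j ⊆ seqIndD ⁅M, M⁆ M ⁅M, M⁆ ⊥ := by
    rintro _ ⟨k, hk, -, rfl⟩; exact h.muR_mem hk
  have hUm : ∀ k, k ≠ 1 → muR M W₁ W₂ k ∈ uniformMu M W₁ W₂ j := fun k hk =>
    ⟨k, hk, by rw [h.muR_one hc hk, h.muR_one hc hj], rfl⟩
  obtain ⟨ν₃, hν₃, -⟩ := hν₂.bridge_sys hν hQ hU
    (by rintro _ ⟨k, hk, -, rfl⟩
        rw [h.pti.conj_muR]; exact hUm _ fun e => hk (linv_eq_one.1 e))
    hS.1 hS.2 (Set.disjoint_left.2 (by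
      rintro _ ⟨k, hk, -, rfl⟩ hφ; exact h.pti.muR_not_irr k (hr _ hφ).1))
    (mem_zspan_of_mem (hUm j hj)) (natCast_smul_mem_zspan d (mem_zspan_of_mem hζS))
    (by rw [h.muR_one hc hj, Pi.smul_apply, hζ.2.2, smul_eq_mul]) (h.pti.muR_one_ne j) (by
      have h1 := h.sum_tau_alpha hc halpha
      rw [hχ, ← hχζ, sub_eq_iff_eq_add] at h1
      rw [h1, hν₂', hc.sign j hj, map_smul]; module)
  refine FTtype345_noncoherence h.max h.gt2 ⟨ν₃, hν₃.subset ?_⟩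
  rintro _ ⟨θ, ⟨h1, h2, -⟩, rfl⟩
  by_cases hk : InKer W₂ θ
  · exact Or.inr ⟨θ, ⟨h1, h2, hW ▸ hk⟩, rfl⟩
  · obtain ⟨k, hk1, e⟩ := hall _ ⟨θ, ⟨h1, hk, inKer_bot θ⟩, rfl⟩
    exact Or.inl (e ▸ hUm k hk1)

/-- (10.10) -/
theorem FTtype5_exclusion (hM : IsCoatom M) : FTtype M ≠ 5 := by
  intro h5
  obtain ⟨W₁, U, W₂, hP⟩ := FTtypeP_witness hM (by omega)
  exact Hyp10.type5_exclusion ⟨hM, hP, by omega⟩ h5

theorem hyp9_of_typeP (hM : IsCoatom M) (h : IsTypePWith M W₁ U W₂) : Hyp9 M W₁ U W₂ :=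
  ⟨hM, h, FTtype5_exclusion hM⟩

/-- (10.11) -/
theorem FTtypeP_primes (hM : IsCoatom M) (h : IsTypePWith M W₁ U W₂) :
    (Nat.card W₁).Prime ∧ (Nat.card W₂).Prime := by
  obtain ⟨T, hT⟩ := FTtypeP_pair_witness hM h
  obtain ⟨V, hV⟩ := hT.typeT
  exact ⟨(hyp9_of_typeP hM h).q_prime, (hyp9_of_typeP hT.maxT hV).q_prime⟩

theorem FTtypeP_pair_primes (h : TypePPair S T W₁ W₂) :
    (Nat.card W₁).Prime ∧ (Nat.card W₂).Prime :=
  let ⟨_, h'⟩ := h.typeS; FTtypeP_primes h.maxS h'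

theorem FTtypeII_prime_facts (hM : IsCoatom M) (h : IsTypePWith M W₁ U W₂) (ht : FTtype M = 2) :
    IsElementaryAbelian (Nat.card W₂) MF[M] ∧ Nat.card MF[M] = Nat.card W₂ ^ Nat.card W₁ ∧
    Coh (pS M ⊥) (tau0 M) := by
  have h9 := hyp9_of_typeP hM h
  have hp := h9.p_eq (FTtypeP_primes hM h).2
  have hH := (typeII_core h9 ht).2
  have h0 : pH0 M U = ⊥ := by
    have h1 := card_mul_relIndex h9.H0_le
    rw [h9.relIndex_H, hp, ← hH] at h1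
    exact card_eq_one.1 (Nat.eq_of_mul_eq_mul_right Nat.card_pos (h1.trans (one_mul _).symm))
  refine ⟨⟨comm_iff_le_cent.2 (le_cent_iff_commutator_eq_bot.2 (le_bot_iff.1 (h0 ▸ h9.der_le_H0))),
    fun a ha => by simpa [h0, hp] using h9.pow_mem_H0 ha⟩, hH, ?_⟩
  have h1 := Ptype_core_coherence h9
  have h2 : ⁅pC M U, pC M U⁆ = ⊥ := le_bot_iff.1 ((commutator_mono h9.C_le h9.C_le).trans
    (le_cent_iff_commutator_eq_bot.1 (comm_iff_le_cent.1 (compl_of_typeII hM h ht).2.1)).le)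
  rwa [h0, h2, sup_bot_eq] at h1

end Cfsg.Agent.PF
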