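import Cfsg.Agent.PF.S09

set_option autoImplicit false
set_option linter.unusedSectionVars false
set_option linter.unusedVariables false

namespace Cfsg.Agent.PF

open Subgroup Cfsg.Agent.GT Cfsg.Agent.BG Cfsg.Agent.Char

universe u v w

/-! Peterfalvi §10, first part. `calS = seqIndD M' M M' ⊥`; for `FTtype M > 2` this is also
`seqIndD M' M (FTcore M) ⊥` (`FTcore_type_gt2`). -/

section Defs
variable {G : Type u} [Group G]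

/-- Hypothesis (10.1) -/
structure Hyp10 (M W₁ U W₂ : Subgroup G) : Prop where
  max : IsCoatom M
  typeP : IsTypePWith M W₁ U W₂
  not2 : FTtype M ≠ 2

/-- the constants `d`, `δ`, `n` of (10.3) -/
structure Consts345 (M W₁ W₂ : Subgroup G) (d : ℕ) (δ : ℤ) (n : ℕ) : Prop where
  deg : ∀ i j, j ≠ 1 → mu2 M W₁ W₂ i j 1 = d
  sign : ∀ j, j ≠ 1 → dl M W₁ W₂ j = δ
  one_lt : 1 < d
  ratio : (d : ℤ) = δ + n * Nat.card W₁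

/-- `α_ij` of (10.5) -/
noncomputable def bridge345 (M W₁ W₂ : Subgroup G) (δ : ℤ) (n : ℕ) (ζ : M → ℂ) (i : Lin W₁)
    (j : Lin W₂) : M → ℂ :=
  mu2 M W₁ W₂ i j - (δ : ℂ) • mu2 M W₁ W₂ i 1 - (n : ℂ) • ζ

/-- the reference character `ζ` of (10.2) -/
def RefIrr [Finite G] (M W₁ : Subgroup G) (ζ : M → ℂ) : Prop :=
  IsIrrCharacter M ζ ∧ ζ ∈ seqIndD ⁅M, M⁆ M ⁅M, M⁆ ⊥ ∧ ζ 1 = Nat.card W₁

end Defs

variable {G : Type u} [Group G] [Fintype G] [MFT G] {M S T U W₁ W₂ : Subgroup G} {d n : ℕ} {δ : ℤ}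
  {ζ : M → ℂ} {i : Lin W₁} {j : Lin W₂} {ν : (M → ℂ) →ₗ[ℂ] (G → ℂ)} {S₁ : Set (M → ℂ)}

theorem Hyp10.gt2 (h : Hyp10 M W₁ U W₂) : 2 < FTtype M := by
  have h1 := FTtypeP_neq1 h.max h.typeP
  have h2 := h.not2
  have h3 := FTtype_range M
  omega

theorem Hyp10.pti (h : Hyp10 M W₁ U W₂) : PrimeTI M ⁅M, M⁆ W₁ W₂ := FT_primeTI_hyp h.typeP
theorem Hyp10.cti (h : Hyp10 M W₁ U W₂) : CycTI (wG W₁ W₂) := typeP_cycTI h.typeP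
theorem Hyp10.core (h : Hyp10 M W₁ U W₂) : FTcore M = ⁅M, M⁆ := FTcore_type_gt2 h.gt2
theorem Hyp10.supp (h : Hyp10 M W₁ U W₂) : FTsupp M = sharp ⁅M, M⁆ := FTsupp_type_gt2 h.max h.gt2
theorem Hyp10.supp1 (h : Hyp10 M W₁ U W₂) : FTsupp1 M = sharp ⁅M, M⁆ := FTsupp1_type_gt2 h.gt2

theorem Hyp10.pdd (h : Hyp10 M W₁ U W₂) :
    PrDade M ⁅M, M⁆ ⁅M, M⁆ (sharp ⁅M, M⁆) (FTsupp0 M) (FTsignalizer M) W₁ W₂ := by
  have := FT_prDade_hyp h.max h.typeP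
  rwa [h.core, h.supp] at this

theorem Hyp10.dade (h : Hyp10 M W₁ U W₂) : DadeHypothesis (FTsupp0 M) M (FTsignalizer M) :=
  FT_Dade0_hyp h.max

theorem Hyp10.subcoherent (h : Hyp10 M W₁ U W₂) :
    ∃ Q, IsCoherenceSystem (seqIndD ⁅M, M⁆ M ⁅M, M⁆ ⊥) (tau0 M) Q := by
  obtain ⟨Q, hQ, -⟩ := FTtypeP_subcoherent h.max h.typeP
  exact ⟨Q, by rwa [h.core] at hQ⟩

theorem Hyp10.ortho_eta (h : Hyp10 M W₁ U W₂) (hS : ConjSub S₁ (seqIndD ⁅M, M⁆ M ⁅M, M⁆ ⊥))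
    (hν : CohWith S₁ (tau0 M) ν) {χ : M → ℂ} (hχ : χ ∈ S₁) (hi : IsIrrCharacter M χ) (i : Lin W₁)
    (j : Lin W₂) : ⟪ν χ, etaG W₁ W₂ i j⟫ = 0 :=
  coherent_ortho_cycTIiso h.max h.typeP (by rw [h.core]; exact hS) hν hχ hi i j

theorem Hyp10.zspan_CF (h : Hyp10 M W₁ U W₂) (hS : S₁ ⊆ seqIndD ⁅M, M⁆ M ⁅M, M⁆ ⊥) {φ : M → ℂ}
    (hφ : φ ∈ zspanOn S₁ {1}ᶜ) : φ ∈ CF M (FTsupp0 M) :=
  CF_mono h.pdd.subset (h.pdd.zspan_CF hS hφ)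

theorem typeP_norm_der2 (M : Subgroup G) : M ≤ N[⁅⁅M, M⁆, ⁅M, M⁆⁆] :=
  le_norm_commutator (le_norm_der M) (le_norm_der M)

theorem typeP_reg_der2 (h : IsTypePWith M W₁ U W₂) : ∀ x ∈ W₁, x ≠ 1 → ∀ y ∈ ⁅M, M⁆,
    x * y * x⁻¹ * y⁻¹ ∈ ⁅⁅M, M⁆, ⁅M, M⁆⁆ → y ∈ ⁅⁅M, M⁆, ⁅M, M⁆⁆ :=
  regular_quo_of_cent (typeP_sdprod h) (typeP_coprime h) (typeP_norm_der2 M)
    fun x hx hx1 => (h.W₂_centralizer x hx hx1).le.trans (typeP_W₂_le_der2 h)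

theorem typeP_der_ne (h : IsTypePWith M W₁ U W₂) : ⁅M, M⁆ ≠ ⊥ := fun e =>
  typeP_W₂_ne h (le_bot_iff.1 (e ▸ typeP_W₂_le_der h))

theorem typeP_der_sol (hM : IsCoatom M) : Group.IsSolvable ↥⁅M, M⁆ := sub_mmax_sol hM (der_le M)

theorem typeP_der2_lt (hM : IsCoatom M) (h : IsTypePWith M W₁ U W₂) :
    ⁅⁅M, M⁆, ⁅M, M⁆⁆ < ⁅M, M⁆ := by
  have := der_sup_lt_of_solvable (bot_lt_iff_ne_bot.2 (typeP_der_ne h))
    (by rw [norm_bot]; exact le_top) (typeP_der_sol hM)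
  rwa [sup_bot_eq] at this

/-- the characters induced from non-principal linear characters of `M'` -/
theorem typeP_lin_irr (h : IsTypePWith M W₁ U W₂) {φ : M → ℂ}
    (hφ : φ ∈ seqIndD ⁅M, M⁆ M ⁅M, M⁆ ⁅⁅M, M⁆, ⁅M, M⁆⁆) : RefIrr M W₁ φ := by
  obtain ⟨θ, ⟨h1, h2, h3⟩, rfl⟩ := hφ
  refine ⟨(cInd_irr_iff (der_le M) (le_norm_der M) h1).2 (cInertia_le_of_regular (typeP_sdprod h)
    (der_le _) (typeP_norm_der2 M) (typeP_reg_der2 h) h1 h3 (ne_one_of_not_inKer h2)),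
    ⟨θ, ⟨h1, h2, inKer_bot θ⟩, rfl⟩, ?_⟩
  rw [cInd_one (der_le M), irr_one_of_inKer_der h1 h3, mul_one, (FT_primeTI_hyp h).relIndex]

/-- (10.2) -/
theorem FTtypeP_ref_irr (hM : IsCoatom M) (h : IsTypePWith M W₁ U W₂) : ∃ ζ, RefIrr M W₁ ζ := by
  obtain ⟨φ, hφ⟩ := seqIndD_nonempty (L := M) le_rfl le_normalizer
    ((der_le M).trans (typeP_norm_der2 M)) (typeP_der2_lt hM h)
  exact ⟨φ, typeP_lin_irr h hφ⟩

theorem Hyp10.pair (h : Hyp10 M W₁ U W₂) :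
    ∃ S V, TypePPair M S W₁ W₂ ∧ FTtype S = 2 ∧ IsTypePWith S W₂ V W₁ := by
  obtain ⟨S, hS⟩ := FTtypeP_pair_witness h.max h.typeP
  obtain ⟨V, hV⟩ := hS.typeT
  exact ⟨S, V, hS, hS.type2.resolve_left h.not2, hV⟩

/-- (10.3) -/
theorem FTtype345_core_prime (h : Hyp10 M W₁ U W₂) : (Nat.card W₂).Prime := by
  obtain ⟨S, V, hS, h2, hV⟩ := h.pair
  exact (compl_of_typeII hS.maxT hV h2).1.2.2.1

theorem FTtype345_constants (h : Hyp10 M W₁ U W₂) : ∃ d δ n, Consts345 M W₁ W₂ d δ n := by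
  have hP := h.pti
  obtain ⟨k, hk, -⟩ := h.cti.exists_ne_ne₂ 1 1
  obtain ⟨d, hd0, hd⟩ := (hP.mu2_irr 1 k).exists_degree
  have key : ∀ j, j ≠ 1 → mu2 M W₁ W₂ 1 j 1 = d ∧ dl M W₁ W₂ j = dl M W₁ W₂ k := by
    intro j hj
    obtain ⟨m, hm, rfl⟩ := exists_linAut_of_prime (FTtype345_core_prime h) hk hj
    obtain ⟨σ, h1, h2⟩ := exists_linAut_pow (W := W₂) (W' := W₁) hP.coprime₁₂.symm hm
    have h3 := hP.cfAut_mu2 σ 1 k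
    rw [h1, h2] at h3
    refine ⟨?_, by rw [← h1, hP.dl_aut]⟩
    rw [← h3, cfAut, hd, map_natCast]
  have hd1 : 1 < d := by
    refine lt_of_le_of_ne hd0 fun e => hk ?_
    obtain ⟨i, hi⟩ := (hP.inKer_iff (hP.mu2_irr 1 k)).1
      (inKer_der_of_one (hP.mu2_irr 1 k).isCharacter (by rw [hd, ← e, Nat.cast_one]))
    exact (hP.mu2_inj hi).2
  obtain ⟨m, hm⟩ := hP.mu2_one_mod 1 k
  rw [hd] at hm
  have hm' : (d : ℤ) = dl M W₁ W₂ k + m * Nat.card W₁ := by exact_mod_cast hm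
  have hm0 : 0 ≤ m := by
    have h1 : 0 < m * Nat.card W₁ := by rcases dl_cases M W₁ W₂ k with e | e <;> omega
    exact (pos_of_mul_pos_left h1 (Nat.cast_nonneg _)).le
  refine ⟨d, dl M W₁ W₂ k, m.toNat, fun i j hj => ?_, fun j hj => (key j hj).2, hd1, ?_⟩
  · rw [hP.mu2_one i j, ← hP.mu2_one 1 j, (key j hj).1]
  · rw [Int.toNat_of_nonneg hm0, hm']

theorem Consts345.sign_cases (hc : Consts345 M W₁ W₂ d δ n) (hj : j ≠ 1) : δ = 1 ∨ δ = -1 :=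
  hc.sign j hj ▸ dl_cases M W₁ W₂ j

theorem Consts345.sign_complex (hc : Consts345 M W₁ W₂ d δ n) (hj : j ≠ 1) :
    (δ : ℂ) = 1 ∨ (δ : ℂ) = -1 := by
  rcases hc.sign_cases hj with e | e <;> simp [e]

theorem Consts345.sign_mul (hc : Consts345 M W₁ W₂ d δ n) (hj : j ≠ 1) : (δ : ℂ) * δ = 1 := by
  rcases hc.sign_cases hj with e | e <;> simp [e]

theorem Consts345.ratio' (hc : Consts345 M W₁ W₂ d δ n) :
    (d : ℂ) = δ + n * Nat.card W₁ := by exact_mod_cast hc.ratio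

theorem RefIrr.conj (hζ : RefIrr M W₁ ζ) : RefIrr M W₁ (conjFun ζ) :=
  ⟨hζ.1.conjFun, conj_seqIndD hζ.2.1, by rw [conjFun_apply, hζ.2.2, map_natCast]⟩

theorem RefIrr.vanish (hζ : RefIrr M W₁ ζ) {x : M} (hx : (x : G) ∉ ⁅M, M⁆) : ζ x = 0 :=
  seqIndT_on (der_le M) (le_norm_der M) (seqIndD_subset_T hζ.2.1) x hx

theorem Hyp10.ci_mu2_irr (h : Hyp10 M W₁ U W₂) {φ : M → ℂ} (hi : IsIrrCharacter M φ)
    (hφ : φ ∈ seqIndD ⁅M, M⁆ M ⁅M, M⁆ ⊥) (i : Lin W₁) (j : Lin W₂) : ⟪mu2 M W₁ W₂ i j, φ⟫ = 0 :=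
  (h.pti.mu2_irr i j).ci_of_ne hi (h.pti.ne_mu2_of_mem_T (seqIndD_subset_T hφ) i j).symm

theorem Hyp10.ci_muR_irr (h : Hyp10 M W₁ U W₂) {φ : M → ℂ} (hi : IsIrrCharacter M φ)
    (hφ : φ ∈ seqIndD ⁅M, M⁆ M ⁅M, M⁆ ⊥) (j : Lin W₂) : ⟪muR M W₁ W₂ j, φ⟫ = 0 := by
  rw [muR, ci_sum_left]
  exact Finset.sum_eq_zero fun i _ => h.ci_mu2_irr hi hφ i j

theorem Hyp10.muR_mem (h : Hyp10 M W₁ U W₂) (hj : j ≠ 1) :
    muR M W₁ W₂ j ∈ seqIndD ⁅M, M⁆ M ⁅M, M⁆ ⊥ := h.pdd.muR_mem hj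

theorem Hyp10.muR_one (h : Hyp10 M W₁ U W₂) (hc : Consts345 M W₁ W₂ d δ n) (hj : j ≠ 1) :
    muR M W₁ W₂ j 1 = d * Nat.card W₁ := by
  rw [h.pti.muR_one 1 j, hc.deg 1 j hj, mul_comm]

theorem Hyp10.muR_sub_mem (h : Hyp10 M W₁ U W₂) (hc : Consts345 M W₁ W₂ d δ n)
    (hζ : RefIrr M W₁ ζ) (hj : j ≠ 1) (h1 : muR M W₁ W₂ j ∈ S₁) (h2 : ζ ∈ S₁) :
    muR M W₁ W₂ j - (d : ℂ) • ζ ∈ zspanOn S₁ {1}ᶜ :=
  sub_mem_zspanOn_one (mem_zspan_of_mem h1) (natCast_smul_mem_zspan d (mem_zspan_of_mem h2))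
    (by rw [h.muR_one hc hj, Pi.smul_apply, hζ.2.2, smul_eq_mul])

theorem Hyp10.mu0_sub_CF (h : Hyp10 M W₁ U W₂) (hζ : RefIrr M W₁ ζ) :
    muR M W₁ W₂ 1 - ζ ∈ CF M (sharp ⁅M, M⁆) := by
  refine zspan_seqIndT_on (der_le M) (le_norm_der M) subset_rfl
    (sub_mem_zspanOn_one (mem_zspan_of_mem (h.pti.muR_mem_T 1))
      (mem_zspan_of_mem (seqIndD_subset_T hζ.2.1)) ?_)
  rw [h.pti.muR_one 1 1, h.pti.mu2_zero_one, mul_one, hζ.2.2]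

theorem vchar_FTtype345_bridge (h : Hyp10 M W₁ U W₂) (hζ : RefIrr M W₁ ζ) (i : Lin W₁)
    (j : Lin W₂) : IsGeneralizedCharacter M (bridge345 M W₁ W₂ δ n ζ i j) :=
  ((h.pti.mu2_irr i j).virt.sub ((h.pti.mu2_irr i 1).virt.intCast_smul δ)).sub
    (hζ.1.virt.natCast_smul n)

theorem Hyp10.bridge_wL (h : Hyp10 M W₁ U W₂) (hc : Consts345 M W₁ W₂ d δ n)
    (hζ : RefIrr M W₁ ζ) (i : Lin W₁) (hj : j ≠ 1) {a : W₁} (ha : a ≠ 1) (b : W₂) :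
    bridge345 M W₁ W₂ δ n ζ i j (wL M W₁ W₂ (a, b)) =
      δ * ((i a : ℂ) * (j b : ℂ) - (i a : ℂ) * ((1 : Lin W₂) b : ℂ)) := by
  simp only [bridge345, Pi.sub_apply, Pi.smul_apply, smul_eq_mul]
  rw [h.pti.mu2_apply i j b ha, h.pti.mu2_apply i 1 b ha, hc.sign j hj, h.pti.dl_one,
    hζ.vanish (by rw [h.pti.wL_mem_K_iff]; exact ha)]
  push_cast; ring

/-- (10.5), first part -/
theorem supp_FTtype345_bridge (h : Hyp10 M W₁ U W₂) (hc : Consts345 M W₁ W₂ d δ n)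
    (hζ : RefIrr M W₁ ζ) (i : Lin W₁) (hj : j ≠ 1) :
    bridge345 M W₁ W₂ δ n ζ i j ∈ CF M (FTsupp0 M) := by
  have hcl := (vchar_FTtype345_bridge (δ := δ) (n := n) h hζ i j).isClassFunction
  refine ⟨hcl, fun x hx => ?_⟩
  by_cases hK : (x : G) ∈ ⁅M, M⁆
  · have hx1 : x = 1 := by
      by_contra hx1
      exact hx (h.pdd.subset ⟨hK, fun e => hx1 (Subtype.ext e)⟩)
    simp only [hx1, bridge345, Pi.sub_apply, Pi.smul_apply, smul_eq_mul]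
    rw [hc.deg i j hj, h.pti.mu2_zero_one, hζ.2.2, hc.ratio']; ring
  · obtain ⟨a, b, g, ha, rfl⟩ := h.pti.exists_conj hK
    have hb : b = 1 := by
      by_contra hb
      exact hx (h.pdd.classSupp_subset ⟨_, h.pti.wL_mem_cycTI ha hb, g, g.2, rfl⟩)
    rw [hcl, h.bridge_wL hc hζ i hj ha, hb]; simp

theorem vchar_Dade_FTtype345_bridge (h : Hyp10 M W₁ U W₂) (hc : Consts345 M W₁ W₂ d δ n)
    (hζ : RefIrr M W₁ ζ) (i : Lin W₁) (hj : j ≠ 1) :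
    IsGeneralizedCharacter G (tau0 M (bridge345 M W₁ W₂ δ n ζ i j)) :=
  dadeL_virt h.dade (vchar_FTtype345_bridge h hζ i j) (supp_FTtype345_bridge h hc hζ i hj).2

theorem norm_FTtype345_bridge (h : Hyp10 M W₁ U W₂) (hc : Consts345 M W₁ W₂ d δ n)
    (hζ : RefIrr M W₁ ζ) (i : Lin W₁) (hj : j ≠ 1) :
    nsq (tau0 M (bridge345 M W₁ W₂ δ n ζ i j)) = 2 + (n : ℝ) ^ 2 := by
  have hs := supp_FTtype345_bridge h hc hζ i hj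
  rw [dadeL_nsq h.dade hs.1 hs.2, bridge345, nsq_sub_of_orth, nsq_sub_of_orth, nsq_smul, nsq_smul,
    (h.pti.mu2_irr i j).nsq, (h.pti.mu2_irr i 1).nsq, hζ.1.nsq]
  · rcases hc.sign_cases hj with e | e <;> simp [e] <;> norm_num
  · rw [ci_smul_right, h.pti.ci_mu2, if_neg (fun e => hj e.2), mul_zero]
  · rw [ci_smul_right, ci_sub_left, ci_smul_left, h.ci_mu2_irr hζ.1 hζ.2.1,
      h.ci_mu2_irr hζ.1 hζ.2.1]; simp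

/-- the inner product of `α_ij^τ` with `φ^τ` -/
theorem Hyp10.ci_tau_bridge (h : Hyp10 M W₁ U W₂) (hc : Consts345 M W₁ W₂ d δ n)
    (hζ : RefIrr M W₁ ζ) (i : Lin W₁) (hj : j ≠ 1) {φ : M → ℂ} (hφ : IsClassFunction M φ) :
    ⟪tau0 M (bridge345 M W₁ W₂ δ n ζ i j), tau0 M φ⟫ =
      ⟪mu2 M W₁ W₂ i j, φ⟫ - δ * ⟪mu2 M W₁ W₂ i 1, φ⟫ - n * ⟪ζ, φ⟫ := by
  have hs := supp_FTtype345_bridge h hc hζ i hj
  rw [dadeL_ci h.dade hs.1 hs.2 hφ, bridge345, ci_sub_left, ci_sub_left, ci_smul_left, ci_smul_left]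

theorem FTtype345_bridge_coherence' (h : Hyp10 M W₁ U W₂) (hc : Consts345 M W₁ W₂ d δ n)
    (hζ : RefIrr M W₁ ζ) (hν : CohWith S₁ (tau0 M) ν) {X Y : G → ℂ}
    (he : tau0 M (bridge345 M W₁ W₂ δ n ζ i j) = X + Y)
    (hS : ConjSub S₁ (seqIndD ⁅M, M⁆ M ⁅M, M⁆ ⊥)) (hi : ∀ φ ∈ S₁, IsIrrCharacter M φ)
    (hj : j ≠ 1) (hY : Y ∈ zspan (ν '' S₁)) (hX : ⟪X, Y⟫ = 0) (hn : nsq Y = (n : ℝ) ^ 2) :
    X = (δ : ℂ) • (etaG W₁ W₂ i j - etaG W₁ W₂ i 1) := by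
  have hYv : IsGeneralizedCharacter G Y :=
    virt_of_mem_zspan (by rintro _ ⟨φ, hφ, rfl⟩; exact hν.virt_mem hφ) hY
  have hXe : X = tau0 M (bridge345 M W₁ W₂ δ n ζ i j) - Y := by rw [he, add_sub_cancel_right]
  have hXv : IsGeneralizedCharacter G X :=
    hXe ▸ (vchar_Dade_FTtype345_bridge h hc hζ i hj).sub hYv
  have h2 : nsq X = 2 := by
    have := norm_FTtype345_bridge h hc hζ i hj
    rw [he, nsq_add_of_orth hX, hn] at this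
    linarith
  refine h.cti.eq_signed_sub hXv h2 (hc.sign_complex hj) hj (forall_tiSet.2 fun a b ha hb => ?_)
  have hY0 : Y (wG W₁ W₂ (a, b)) = 0 := h.cti.ortho_vanish hYv.isClassFunction
    (fun i j => ci_eq_zero_of_mem_zspan
      (by rintro _ ⟨φ, hφ, rfl⟩; exact h.ortho_eta hS hν hφ (hi φ hφ) i j) hY) (mem_tiSet ha hb)
  rw [hXe, Pi.sub_apply, hY0, sub_zero,
    h.pdd.dade_apply_wL (vchar_FTtype345_bridge h hζ i j).isClassFunction ha hb,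
    h.bridge_wL hc hζ i hj ha, h.cti.eta_on i j ha hb, h.cti.eta_on i 1 ha hb]

theorem FTtype345_bridge_coherence (h : Hyp10 M W₁ U W₂) (hc : Consts345 M W₁ W₂ d δ n)
    (hζ : RefIrr M W₁ ζ) (hν : CohWith S₁ (tau0 M) ν) {X Y : G → ℂ}
    (he : tau0 M (bridge345 M W₁ W₂ δ n ζ i j) = X + Y)
    (hS : ConjSub S₁ (seqIndD ⁅M, M⁆ M ⁅M, M⁆ ⊥)) (hi : ∀ φ ∈ S₁, IsIrrCharacter M φ)
    (hj : j ≠ 1) (hY : Y ∈ zspan (ν '' S₁)) (hX : ∀ φ ∈ S₁, ⟪X, ν φ⟫ = 0)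
    (hn : nsq Y = (n : ℝ) ^ 2) :
    X = (δ : ℂ) • (etaG W₁ W₂ i j - etaG W₁ W₂ i 1) :=
  FTtype345_bridge_coherence' h hc hζ hν he hS hi hj hY
    (ci_eq_zero_symm (ci_eq_zero_of_mem_zspan
      (by rintro _ ⟨φ, hφ, rfl⟩; exact ci_eq_zero_symm (hX φ hφ)) hY)) hn

theorem def_tau_alpha (h : Hyp10 M W₁ U W₂) (hc : Consts345 M W₁ W₂ d δ n)
    (hζ : RefIrr M W₁ ζ) (hν : CohWith S₁ (tau0 M) ν)
    (hS : ConjSub S₁ (seqIndD ⁅M, M⁆ M ⁅M, M⁆ ⊥)) (hj : j ≠ 1) (hζS : ζ ∈ S₁)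
    (he : ⟪tau0 M (bridge345 M W₁ W₂ δ n ζ i j), ν ζ⟫ = -(n : ℂ)) :
    tau0 M (bridge345 M W₁ W₂ δ n ζ i j) =
      (δ : ℂ) • (etaG W₁ W₂ i j - etaG W₁ W₂ i 1) - (n : ℂ) • ν ζ := by
  have hsub : ({ζ, conjFun ζ} : Set (M → ℂ)) ⊆ S₁ := (conjSub_pair hζS (hS.2 ζ hζS)).1
  have h1 : IsSIrr G (ν ζ) := hν.isSIrr hζS hζ.1
  rw [eq_sub_iff_add_eq]
  refine FTtype345_bridge_coherence' (Y := -((n : ℂ) • ν ζ)) h hc hζ (hν.subset hsub)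
    (by rw [add_neg_cancel_right]) (conjSub_pair hζ.2.1 hζ.conj.2.1) ?_ hj
    (neg_mem_zspan (natCast_smul_mem_zspan n (mem_zspan_of_mem ⟨ζ, Or.inl rfl, rfl⟩))) ?_ ?_
  · rintro φ (rfl | rfl)
    · exact hζ.1
    · exact hζ.conj.1
  · rw [ci_neg_right, ci_smul_right, ci_add_left, he, ci_smul_left, h1.ci_self]; simp
  · rw [nsq_neg, nsq_smul, h1.nsq]; simp

/-- (10.9) -/
theorem FTtype345_Dade_bridge0 (h : Hyp10 M W₁ U W₂) (hζ : RefIrr M W₁ ζ)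
    (hlt : Nat.card W₁ < Nat.card W₂) :
    ∃ χ : G → ℂ, tau0 M (muR M W₁ W₂ 1 - ζ) = ∑ i, etaG W₁ W₂ i 1 - χ ∧
      IsGeneralizedCharacter G χ ∧ nsq χ = 1 ∧ ∀ i j, ⟪χ, etaG W₁ W₂ i j⟫ = 0 := by
  have hC := h.cti
  have hs := h.mu0_sub_CF hζ
  have hs0 := CF_mono h.pdd.subset hs
  have hv : IsGeneralizedCharacter G (tau0 M (muR M W₁ W₂ 1 - ζ)) :=
    dadeL_virt h.dade ((h.pti.muR_char 1).virt.sub hζ.1.virt) hs0.2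
  have hn : nsq (tau0 M (muR M W₁ W₂ 1 - ζ)) = (Nat.card W₁ + 1 : ℕ) := by
    rw [dadeL_nsq h.dade hs0.1 hs0.2, nsq_sub_of_orth (h.ci_muR_irr hζ.1 hζ.2.1 1), h.pti.nsq_muR,
      hζ.1.nsq, Nat.cast_succ]
  have hNC := hC.NC_le_of_nsq_le hv hn.le
  have h00 : ⟪tau0 M (muR M W₁ W₂ 1 - ζ), etaG W₁ W₂ 1 1⟫ = 1 := by
    rw [etaG, hC.eta_one, dadeL_ci_one h.dade hs0.1 hs0.2, ci_sub_left,
      seqIndD_ortho_one (der_le M) hζ.2.1, ← h.pti.mu2_one_one, h.pti.ci_muR_mu2, if_pos rfl,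
      sub_zero]
  have h3 := hC.three_le₁
  have hcol : ∀ i j, ⟪tau0 M (muR M W₁ W₂ 1 - ζ), etaG W₁ W₂ i j⟫ = if j = 1 then 1 else 0 := by
    rcases hC.small_NC hv.isClassFunction
      (fun x hx => h.pdd.dade_vanish hs (hC.tiSet_eq ▸ hx))
      (by rw [min_eq_left hlt.le]; omega) (i₀ := 1) (j₀ := 1) (by rw [h00]; exact one_ne_zero)
      with h1 | h1
    · intro i j; rw [h1, h00]
    · exfalso
      have h2 := le_NC_of_subset (e := wG W₁ W₂) (φ := tau0 M (muR M W₁ W₂ 1 - ζ))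
        (Finset.univ.image fun j : Lin W₂ => ((1 : Lin W₁), j)) (by
          intro p hp
          obtain ⟨j, -, rfl⟩ := Finset.mem_image.1 hp
          rw [h1, if_pos rfl, h00]; exact one_ne_zero)
      rw [Finset.card_image_of_injective _ (fun a b e => (Prod.ext_iff.1 e).2), Finset.card_univ,
        hC.card_Lin₂] at h2
      obtain ⟨a, ha⟩ := hC.odd₁
      obtain ⟨b, hb⟩ := hC.odd₂
      omega
  have ho : ∀ i j, ⟪∑ i, etaG W₁ W₂ i 1 - tau0 M (muR M W₁ W₂ 1 - ζ), etaG W₁ W₂ i j⟫ = 0 := by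
    intro i j
    rw [ci_sub_left, hC.ci_col_eta, hcol]
    simp only [eq_comm (a := j), sub_self]
  refine ⟨∑ i, etaG W₁ W₂ i 1 - tau0 M (muR M W₁ W₂ 1 - ζ), by rw [sub_sub_cancel],
    (virt_sum _ _ fun i _ => hC.eta_virt i 1).sub hv, ?_, ho⟩
  have h4 : nsq (tau0 M (muR M W₁ W₂ 1 - ζ)) = nsq (∑ i, etaG W₁ W₂ i 1) +
      nsq (∑ i, etaG W₁ W₂ i 1 - tau0 M (muR M W₁ W₂ 1 - ζ)) := by
    rw [← nsq_sub_of_orth, sub_sub_cancel]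
    rw [ci_sum_left]
    exact Finset.sum_eq_zero fun i _ => ci_eq_zero_symm (ho i 1)
  have h5 : nsq (∑ i, etaG W₁ W₂ i 1) = Nat.card W₁ :=
    nsq_eq_of_ci (by rw [hC.ci_col_col, if_pos rfl]; simp)
  rw [hn, h5, Nat.cast_succ] at h4
  linarith

end Cfsg.Agent.PF
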