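import Cfsg.Agent.PF.S10a

set_option autoImplicit false
set_option linter.unusedSectionVars false
set_option linter.unusedVariables false

namespace Cfsg.Agent.PF

open Subgroup Cfsg.Agent.GT Cfsg.Agent.BG Cfsg.Agent.Char

universe u v w

/-! Peterfalvi (10.5)–(10.8). -/

theorem s10_arith1 {d n w : ℤ} (hd : n * w - 1 ≤ d) (hn : 2 ≤ n) (hw : 3 ≤ w)
    (h : d ^ 2 ≤ (2 + n ^ 2) * w) : False := by
  have h1 : 0 ≤ n * w - 1 := by nlinarith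
  have h2 : (n * w - 1) ^ 2 ≤ d ^ 2 := pow_le_pow_left₀ h1 hd 2
  have h3 : 2 * n + 2 ≤ n ^ 2 * (w - 1) := by nlinarith
  nlinarith

theorem s10_arith2 {m w₁ w₂ h u g N iS iW ρ : ℝ} (hw₁ : 3 ≤ w₁) (hw₂ : 0 < w₂) (hu : 7 ≤ u)
    (hm : 2 * w₁ * w₂ ≤ m) (hh : 0 < h) (hg : 0 < g) (hS : h * u * w₂ * iS = g)
    (hW : w₁ * w₂ * iW = g) (hN : N ≤ h * iS + (w₁ - 1) * (w₂ - 1) * iW)
    (h1 : 1 - w₁ / m ≤ ρ) (h2 : ρ ≤ m / (m * w₁) + g⁻¹ * N) : False := by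
  have hm0 : 0 < m := lt_of_lt_of_le (by positivity) hm
  have hw0 : 0 < w₁ := by linarith
  have hu0 : 0 < u := by linarith
  have e1 : w₁ / m ≤ w₂⁻¹ / 2 := by
    rw [div_le_iff₀ hm0]
    calc w₁ = w₂⁻¹ / 2 * (2 * w₁ * w₂) := by field_simp
      _ ≤ _ := by gcongr
  have e2 : m / (m * w₁) = w₁⁻¹ := by field_simp
  have e3 : g⁻¹ * (h * iS) = u⁻¹ * w₂⁻¹ := by
    rw [← hS]
    have : iS ≠ 0 := by rintro rfl; simp at hS; linarith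
    field_simp
  have e4 : g⁻¹ * ((w₁ - 1) * (w₂ - 1) * iW) = 1 - w₁⁻¹ - w₂⁻¹ + w₁⁻¹ * w₂⁻¹ := by
    rw [← hW]
    have : iW ≠ 0 := by rintro rfl; simp at hW; linarith
    field_simp; ring
  have e5 : g⁻¹ * N ≤ g⁻¹ * (h * iS) + g⁻¹ * ((w₁ - 1) * (w₂ - 1) * iW) := by
    rw [← mul_add]; gcongr
  have ht : 0 < w₂⁻¹ := by positivity
  have e6 : u⁻¹ * w₂⁻¹ ≤ 7⁻¹ * w₂⁻¹ := by gcongr
  have e7 : w₁⁻¹ * w₂⁻¹ ≤ 3⁻¹ * w₂⁻¹ := by gcongr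
  linarith

theorem sum_lin_ne_zero {W : Type u} [Group W] [Finite W] (ho : ∀ i : Lin W, i ≠ 1 → i⁻¹ ≠ i)
    (f : Lin W → ℤ) (h1 : f 1 = 1) (hf : ∀ i, f i⁻¹ = f i) : ∑ i, f i ≠ 0 := by
  intro h
  have h2 : ∑ i ∈ Finset.univ.erase (1 : Lin W), (f i : ZMod 2) = 0 :=
    Finset.sum_involution (fun i _ => i⁻¹)
      (fun i _ => by rw [hf]; exact CharTwo.add_self_eq_zero _)
      (fun i hi _ => ho i (Finset.ne_of_mem_erase hi))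
      (fun i hi => Finset.mem_erase.2
        ⟨fun e => Finset.ne_of_mem_erase hi (linv_eq_one.1 e), Finset.mem_univ _⟩)
      (fun i _ => linv_inv i)
  have h3 := Finset.add_sum_erase Finset.univ (fun i => (f i : ZMod 2)) (Finset.mem_univ 1)
  rw [h2, ← Int.cast_sum, h] at h3
  simp [h1] at h3

variable {G : Type u} [Group G] [Fintype G] [MFT G] {M S T U V W₁ W₂ : Subgroup G} {d n : ℕ}
  {δ : ℤ} {ζ : M → ℂ} {i : Lin W₁} {j k : Lin W₂} {ν : (M → ℂ) →ₗ[ℂ] (G → ℂ)} {S₁ : Set (M → ℂ)}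

theorem Hyp10.ci_alpha_muR (h : Hyp10 M W₁ U W₂) (hc : Consts345 M W₁ W₂ d δ n)
    (hζ : RefIrr M W₁ ζ) (hν : CohWith (seqIndD ⁅M, M⁆ M ⁅M, M⁆ ⊥) (tau0 M) ν) (i : Lin W₁)
    (hj : j ≠ 1) (hk : k ≠ 1) :
    ⟪tau0 M (bridge345 M W₁ W₂ δ n ζ i j), ν (muR M W₁ W₂ k)⟫ =
      (if j = k then 1 else 0) + d * (⟪tau0 M (bridge345 M W₁ W₂ δ n ζ i j), ν ζ⟫ + n) := by
  have hz := h.muR_sub_mem hc hζ hk (h.muR_mem hk) hζ.2.1
  have e : ν (muR M W₁ W₂ k) = tau0 M (muR M W₁ W₂ k - (d : ℂ) • ζ) + (d : ℂ) • ν ζ := by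
    rw [← hν.2 _ hz, map_sub, map_smul, sub_add_cancel]
  rw [e, ci_add_right, h.ci_tau_bridge hc hζ i hj (h.zspan_CF subset_rfl hz).1]
  simp only [ci_sub_right, ci_smul_right, h.pti.ci_mu2_muR, h.ci_mu2_irr hζ.1 hζ.2.1,
    ci_eq_zero_symm (h.ci_muR_irr hζ.1 hζ.2.1 k), hζ.1.ci_self, if_neg hk.symm, map_natCast]
  ring

theorem Consts345.two_le (h : Hyp10 M W₁ U W₂) (hc : Consts345 M W₁ W₂ d δ n) : 2 ≤ n := by
  obtain ⟨k, hk, -⟩ := h.cti.exists_ne_ne₂ 1 1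
  obtain ⟨a, ha⟩ := (mFT_odd M).of_dvd_nat ((h.pti.mu2_irr 1 k).degree_dvd_card (hc.deg 1 k hk))
  obtain ⟨b, hb⟩ := h.cti.odd₁
  have h1 := hc.ratio
  have h2 := hc.one_lt
  have h3 := hc.sign_cases hk
  rw [hb] at h1
  obtain rfl | rfl | hn : n = 0 ∨ n = 1 ∨ 2 ≤ n := by omega
  · simp at h1; omega
  · simp at h1; omega
  · exact hn

/-- (10.5), second part -/
theorem Hyp10.tau_alpha (h : Hyp10 M W₁ U W₂) (hc : Consts345 M W₁ W₂ d δ n)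
    (hζ : RefIrr M W₁ ζ) (hν : CohWith (seqIndD ⁅M, M⁆ M ⁅M, M⁆ ⊥) (tau0 M) ν) (i : Lin W₁)
    (hj : j ≠ 1) : tau0 M (bridge345 M W₁ W₂ δ n ζ i j) =
      (δ : ℂ) • (etaG W₁ W₂ i j - etaG W₁ W₂ i 1) - (n : ℂ) • ν ζ := by
  refine def_tau_alpha h hc hζ hν (ConjSub.refl fun _ => conj_seqIndD) hj hζ.2.1 ?_
  obtain ⟨b, hb⟩ := (vchar_Dade_FTtype345_bridge h hc hζ i hj).ci_int (hν.virt_mem hζ.2.1)
  obtain ⟨k, hk, hkj⟩ := h.cti.exists_ne_ne₂ 1 j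
  have h1 := h.ci_alpha_muR hc hζ hν i hj hk
  rw [if_neg hkj.symm, zero_add, hb] at h1
  have h2 := norm_ci_sq_le (tau0 M (bridge345 M W₁ W₂ δ n ζ i j)) (ν (muR M W₁ W₂ k))
  rw [norm_sq_of_eq_int (n := d * (b + n)) (by rw [h1]; push_cast; ring),
    norm_FTtype345_bridge h hc hζ i hj, hν.nsq_eq (mem_zspan_of_mem (h.muR_mem hk)),
    h.pti.nsq_muR] at h2
  have h3 : ((d : ℤ) * (b + n)) ^ 2 ≤ (2 + (n : ℤ) ^ 2) * Nat.card W₁ := by exact_mod_cast h2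
  have h4 : b + n = 0 := by
    by_contra h4
    refine s10_arith1 (d := d) (n := n) (w := Nat.card W₁) ?_ (by exact_mod_cast hc.two_le h)
      (by exact_mod_cast h.cti.three_le₁) (le_trans ?_ h3)
    · have := hc.ratio
      rcases hc.sign_cases hj with e | e <;> omega
    · rw [mul_pow]
      exact le_mul_of_one_le_right (sq_nonneg _) (by positivity : 0 < (b + n) ^ 2)
  rw [hb, show b = -n by omega]; simp

/-- (10.6)(a), first part -/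
theorem Hyp10.tau1mu (h : Hyp10 M W₁ U W₂) (hc : Consts345 M W₁ W₂ d δ n)
    (hζ : RefIrr M W₁ ζ) (hν : CohWith (seqIndD ⁅M, M⁆ M ⁅M, M⁆ ⊥) (tau0 M) ν) (hj : j ≠ 1) :
    ν (muR M W₁ W₂ j) = (δ : ℂ) • ∑ i, etaG W₁ W₂ i j := by
  have hS : ConjSub (seqIndD ⁅M, M⁆ M ⁅M, M⁆ ⊥) (seqIndD ⁅M, M⁆ M ⁅M, M⁆ ⊥) :=
    ConjSub.refl fun _ => conj_seqIndD
  rcases FTtypeP_coherent_TIred h.max h.typeP (by rw [h.core]; exact hS) hν hζ.2.1 hζ.1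
    (h.muR_mem hj) with h1 | ⟨h1, -⟩
  · rw [h1, hc.sign j hj]
  exfalso
  have h2 := h.ci_alpha_muR hc hζ hν 1 hj hj
  have o : ∀ k, ⟪etaG W₁ W₂ 1 k, ν ζ⟫ = 0 := fun k =>
    ci_eq_zero_symm (h.ortho_eta hS hν hζ.2.1 hζ.1 1 k)
  have o' : ∀ k, k ≠ j⁻¹ → ⟪etaG W₁ W₂ 1 k, ν (muR M W₁ W₂ j)⟫ = 0 := fun k hk => by
    rw [ci_eq_zero_comm, h1, ci_neg_left, ci_smul_left, h.cti.ci_col_eta, if_neg hk.symm]; simp
  rw [h.tau_alpha hc hζ hν 1 hj] at h2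
  simp only [ci_sub_left, ci_smul_left, o, o' j (h.cti.inv_ne₂ hj).symm,
    o' 1 (fun e => hj (linv_eq_one.1 e.symm)), (hν.isSIrr hζ.2.1 hζ.1).ci_self,
    hν.ci_mem hζ.2.1 (h.muR_mem hj), ci_eq_zero_symm (h.ci_muR_irr hζ.1 hζ.2.1 j)] at h2
  simp at h2

theorem Hyp10.sum_bridge (h : Hyp10 M W₁ U W₂) (hc : Consts345 M W₁ W₂ d δ n) (j : Lin W₂) :
    ∑ i, bridge345 M W₁ W₂ δ n ζ i j =
      (muR M W₁ W₂ j - (d : ℂ) • ζ) - (δ : ℂ) • (muR M W₁ W₂ 1 - ζ) := by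
  simp only [bridge345, Finset.sum_sub_distrib, ← Finset.smul_sum, Finset.sum_const,
    Finset.card_univ, h.cti.card_Lin₁, muR, hc.ratio', ← Nat.cast_smul_eq_nsmul ℂ]
  module

theorem Hyp10.sum_tau_alpha (h : Hyp10 M W₁ U W₂) (hc : Consts345 M W₁ W₂ d δ n) {χ : G → ℂ}
    (he : ∀ i, tau0 M (bridge345 M W₁ W₂ δ n ζ i j) =
      (δ : ℂ) • (etaG W₁ W₂ i j - etaG W₁ W₂ i 1) - (n : ℂ) • χ) :
    tau0 M (muR M W₁ W₂ j - (d : ℂ) • ζ) - (δ : ℂ) • tau0 M (muR M W₁ W₂ 1 - ζ) =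
      (δ : ℂ) • (∑ i, etaG W₁ W₂ i j - ∑ i, etaG W₁ W₂ i 1) - ((d : ℂ) - δ) • χ := by
  rw [← map_smul, ← map_sub, ← h.sum_bridge hc, map_sum]
  simp only [he, Finset.sum_sub_distrib, ← Finset.smul_sum, Finset.sum_const,
    Finset.card_univ, h.cti.card_Lin₁, hc.ratio', ← Nat.cast_smul_eq_nsmul ℂ]
  module

/-- (10.6)(a), second part -/
theorem Hyp10.tau1mu0 (h : Hyp10 M W₁ U W₂) (hc : Consts345 M W₁ W₂ d δ n)
    (hζ : RefIrr M W₁ ζ) (hν : CohWith (seqIndD ⁅M, M⁆ M ⁅M, M⁆ ⊥) (tau0 M) ν) :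
    tau0 M (muR M W₁ W₂ 1 - ζ) = ∑ i, etaG W₁ W₂ i 1 - ν ζ := by
  obtain ⟨j, hj, -⟩ := h.cti.exists_ne_ne₂ 1 1
  have h1 := h.sum_tau_alpha hc fun i => h.tau_alpha hc hζ hν i hj
  rw [← hν.2 _ (h.muR_sub_mem hc hζ hj (h.muR_mem hj) hζ.2.1), map_sub, map_smul,
    h.tau1mu hc hζ hν hj] at h1
  have h2 : (δ : ℂ) ≠ 0 := left_ne_zero_of_mul_eq_one (hc.sign_mul hj)
  refine smul_right_injective _ h2 ?_
  simp only
  rw [sub_eq_iff_eq_add, ← sub_eq_iff_eq_add'] at h1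
  rw [← h1]; module

/-- (10.6)(b) -/
theorem Hyp10.zeta_tau1_coprime (h : Hyp10 M W₁ U W₂) (hc : Consts345 M W₁ W₂ d δ n)
    (hζ : RefIrr M W₁ ζ) (hν : CohWith (seqIndD ⁅M, M⁆ M ⁅M, M⁆ ⊥) (tau0 M) ν) {g : G}
    (hg : g ∉ dadeSupp (sharp ⁅M, M⁆) (FTsignalizer M)) (hco : (orderOf g).Coprime (Nat.card W₁)) :
    1 ≤ ‖ν ζ g‖ := by
  have hs := h.mu0_sub_CF hζ
  have h0 : tau0 M (muR M W₁ W₂ 1 - ζ) g = 0 := h.dade.dade_eq_zero_of_not_mem hs.1 hs.2 hg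
  rw [h.tau1mu0 hc hζ hν, Pi.sub_apply, sub_eq_zero, Finset.sum_apply] at h0
  have hi : ∀ i, ∃ m : ℤ, etaG W₁ W₂ i 1 g = m := fun i => h.cti.eta_int i 1 (by
    rw [orderOf_one, mul_one]
    exact hco.coprime_dvd_right (h.cti.card_lin₁ ▸ orderOf_dvd_natCard i))
  choose f hf using hi
  have h1 := sum_lin_ne_zero (fun i hi => h.cti.inv_ne₁ hi) f
    (by
      have := hf 1
      rw [etaG, h.cti.eta_one] at this
      exact_mod_cast (show ((f 1 : ℤ) : ℂ) = 1 from this.symm)) (fun i => by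
      have := congrFun (h.cti.conj_eta i 1) g
      rw [linv_one, conjFun_apply] at this
      change (starRingEnd ℂ) (etaG W₁ W₂ i 1 g) = etaG W₁ W₂ i⁻¹ 1 g at this
      rw [hf, hf, map_intCast] at this
      exact_mod_cast this.symm)
  rw [← h0, Finset.sum_congr rfl fun i _ => hf i, ← Int.cast_sum, Complex.norm_intCast]
  exact_mod_cast Int.one_le_abs h1

theorem Hyp10.disjoint_supp (h : Hyp10 M W₁ U W₂) (hS : IsCoatom S) (h2 : FTtype S = 2) :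
    Disjoint (dadeSupp (FTsupp1 M) (FTsignalizer M)) (dadeSupp (FTsupp S) (FTsignalizer S)) := by
  rw [← FTDadeSupp_eq, ← FTDadeSupp_eq]
  by_contra hd
  obtain ⟨x, y, hy, h3, h4⟩ := (FT_Dade_support_b h.max hS (by
    rintro ⟨g, rfl⟩; exact h.not2 (by rwa [FTtype_conj] at h2))).2 hd
  obtain ⟨-, h5, -, -, -, -, -, h6⟩ := (FTsupport_facts h.max (Or.inr (Or.inl rfl))).2 y hy h3
  have h7 := FT_Frobenius_type1 h.max (h6 (by
    rw [← h5.eq (isCoatom_conj x hS) h4, FTtype_conj, h2]))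
  have := h.gt2
  omega

theorem ci_col_row (h : CycTI (wG W₁ W₂)) (i : Lin W₁) (j : Lin W₂) :
    ⟪∑ i', etaG W₁ W₂ i' j, ∑ j', etaG W₂ W₁ j' i⟫ = 1 := by
  simp only [etaG_swap h.dprod.cent, ci_sum_right, h.ci_col_eta, Finset.sum_ite_eq,
    Finset.mem_univ, if_true]

/-- (10.7) -/
theorem Hyp10.Frob_der1_type2 (h : Hyp10 M W₁ U W₂) (hc : Consts345 M W₁ W₂ d δ n)
    (hζ : RefIrr M W₁ ζ) (hν : CohWith (seqIndD ⁅M, M⁆ M ⁅M, M⁆ ⊥) (tau0 M) ν)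
    (hS : IsCoatom S) (h2 : FTtype S = 2) (hV : IsTypePWith S W₂ V W₁) : Frob MF[S] V ⁅S, S⁆ := by
  have h9 : Hyp9 S W₂ V W₁ := ⟨hS, hV, by omega⟩
  rcases typeP_reducible_core_cases h9 with ⟨l, hl, hlS, hl1, -⟩ | ⟨-, -, -, -, hF⟩
  swap
  · exact hF h2
  exfalso
  have hcore : FTcore S = MF[S] := FTcore_type12 h2.le
  obtain ⟨-, ⟨φ, hφ⟩, h3, h4⟩ := typeP_reducible_core_Ind h9
  obtain ⟨r, hr, rfl⟩ := h3 φ hφ
  have hr1 := (h4 _ hφ).1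
  obtain ⟨Q, hQ, -⟩ := FTtypeP_subcoherent hS hV
  have hlT : l ∈ seqIndD ⁅S, S⁆ S (FTcore S) ⊥ := seqIndD_mono hcore.ge bot_le hlS
  obtain ⟨T₂, hT1, hT2, hT, ν₂, hν₂⟩ := pair_degree_coherence hQ
    (seqIndD_mono hcore.ge bot_le hφ.1) hlT (hr1.trans hl1.symm)
  have hCS : ConjSub (seqIndD ⁅M, M⁆ M ⁅M, M⁆ ⊥) (seqIndD ⁅M, M⁆ M ⁅M, M⁆ ⊥) :=
    ConjSub.refl fun _ => conj_seqIndD
  have oMS : ∀ α ∈ zspanOn (seqIndD ⁅M, M⁆ M ⁅M, M⁆ ⊥) {1}ᶜ, ∀ β ∈ zspanOn T₂ {1}ᶜ,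
      ⟪ν α, ν₂ β⟫ = 0 := by
    intro α hα β hβ
    rw [hν.2 α hα, hν₂.2 β hβ, ← FT_DadeE h.max (FTsupp1_sub0 h.max)
      (fun x hx a ha => FTsupp1_norm ha hx) (h.supp1 ▸ h.pdd.zspan_CF subset_rfl hα),
      ← FT_DadeE hS (FTsupp_sub0 S) (fun x hx a ha => FTsupp_norm ha hx)
        ((FT_prDade_hyp hS hV).zspan_CF hT.1 hβ)]
    exact disjoint_Dade_ortho (h.disjoint_supp hS h2) α β
  have o1 : ⟪ν ζ, ν₂ l⟫ = 0 := by
    have z1 := sub_conj_mem (mem_zspan_of_mem hζ.2.1) (mem_zspan_of_mem hζ.conj.2.1) hζ.1.virt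
    have z2 := sub_conj_mem (mem_zspan_of_mem hT2) (mem_zspan_of_mem (hT.2 l hT2)) hl.virt
    have e1 : ν (ζ - conjFun ζ) 1 = 0 := by rw [hν.2 _ z1]; exact dadeL_one h.dade _
    have e2 : ν₂ (l - conjFun l) 1 = 0 := by rw [hν₂.2 _ z2]; exact dadeL_one (FT_Dade0_hyp hS) _
    have e3 := oMS _ z1 _ z2
    rw [map_sub, Pi.sub_apply, sub_eq_zero] at e1 e2
    rw [map_sub, map_sub] at e3
    refine ci_eq_zero_of_split (s := 1) (t := 1) (u := 1) (v := 1) (hν.isSIrr hζ.2.1 hζ.1)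
      (hν.isSIrr hζ.conj.2.1 hζ.conj.1) (hν₂.isSIrr hT2 hl) (hν₂.isSIrr (hT.2 l hT2) hl.conjFun)
      one_ne_zero one_ne_zero ?_ ?_ (by simpa using e3) (by simpa using e1) (by simpa using e2)
    · rw [hν.ci_mem hζ.2.1 hζ.conj.2.1]
      exact ci_eq_zero_symm (seqIndD_conj_ortho (der_le M) (le_norm_der M) (mFT_odd M) hζ.2.1)
    · rw [hν₂.ci_mem hT2 (hT.2 l hT2)]
      exact hQ.ci_conj hlT
  obtain ⟨s, hs, -⟩ := h.cti.exists_ne_ne₂ 1 1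
  have key := oMS _ (h.muR_sub_mem hc hζ hs (h.muR_mem hs) hζ.2.1) _
    (sub_mem_zspanOn_one (mem_zspan_of_mem hT1) (mem_zspan_of_mem hT2) (hr1.trans hl1.symm))
  obtain ⟨ε, r', hε, e⟩ : ∃ (ε : ℂ) (r' : Lin W₁), ε ≠ 0 ∧
      ν₂ (muR S W₂ W₁ r) = ε • ∑ j, etaG W₂ W₁ j r' := by
    rcases FTtypeP_coherent_TIred hS hV hT hν₂ hT2 hl hT1 with e | ⟨e, -⟩
    · exact ⟨_, r, dl_ne_zero S W₂ W₁ r, e⟩
    · exact ⟨_, r⁻¹, neg_ne_zero.2 (dl_ne_zero S W₂ W₁ r), by rw [e, neg_smul]⟩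
  have o2 : ⟪∑ i, etaG W₁ W₂ i s, ν₂ l⟫ = 0 := by
    rw [ci_sum_left]
    refine Finset.sum_eq_zero fun i _ => ci_eq_zero_symm ?_
    rw [← etaG_swap h.cti.dprod.cent]
    exact coherent_ortho_cycTIiso hS hV hT hν₂ hT2 hl s i
  have o3 : ⟪ν ζ, ∑ j, etaG W₂ W₁ j r'⟫ = 0 := by
    rw [ci_sum_right]
    refine Finset.sum_eq_zero fun j _ => ?_
    rw [etaG_swap h.cti.dprod.cent]
    exact h.ortho_eta hCS hν hζ.2.1 hζ.1 r' j
  rw [map_sub, map_sub, map_smul, h.tau1mu hc hζ hν hs, e] at key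
  simp only [ci_sub_left, ci_sub_right, ci_smul_left, ci_smul_right, o1, o2, o3,
    ci_col_row h.cti, mul_zero, sub_zero, mul_one, mul_eq_zero, map_eq_zero] at key
  exact key.elim hε (left_ne_zero_of_mul_eq_one (hc.sign_mul hs))

/-- the elements of order not prime to `w₁` -/
theorem type2_cover (hS : IsCoatom S) (h2 : FTtype S = 2) (hV : IsTypePWith S W₂ V W₁)
    (hF : Frob MF[S] V ⁅S, S⁆) {x : G} (hx : ¬ (orderOf x).Coprime (Nat.card W₁)) :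
    x ∈ classSupp (sharp MF[S]) ⊤ ∪ classSupp (cycTI W₁ W₂) ⊤ := by
  obtain ⟨p, hp, hpx, hpW⟩ := Nat.Prime.not_coprime_iff_dvd.1 hx
  have hTI : NormedTI (sharp MF[S]) ⊤ S := FTsupp1_type12 h2.le ▸ (FTtypeII_ker_TI hS h2).2.2
  obtain ⟨a, ha, hap⟩ := exists_mem_orderOf_eq (H := zpowers x) hp (by rwa [Nat.card_zpowers])
  have hpH : p ∣ Nat.card MF[S] := hpW.trans (card_dvd_of_le (typeP_W₂_le_Fcore hV))
  obtain ⟨P, hP⟩ := exists_syl hp MF[S]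
  obtain ⟨y, -, hy⟩ := syl_exists_conj_le hp (hP.trans_single (Fcore_Hall hS) (mem_piOf.2 ⟨hp, hpH⟩))
    ((isPGroup_zpowers_iff hp (x := a)).2 (by rw [hap]; exact piNat_single_self hp)) le_top
  have hay : y * a * y⁻¹ ∈ MF[S] := hP.le (hy (conj_mem_conj.2 (mem_zpowers a)))
  have hay1 : y * a * y⁻¹ ≠ 1 := fun e => hp.one_lt.ne' (by
    rw [← hap, conj_eq_one_iff.1 e, orderOf_one])
  have hxc : y * x * y⁻¹ ∈ C1[y * a * y⁻¹] := by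
    rw [← conj_cent1]
    refine conj_mem_conj.2 (mem_cent1.2 ?_)
    obtain ⟨k, rfl⟩ := mem_zpowers_iff.1 ha
    exact (Commute.self_zpow x k).eq
  have hxS : y * x * y⁻¹ ∈ S := hTI.cent1_le ⟨hay, hay1⟩ ⟨mem_top _, hxc⟩
  have hx1 : x ≠ 1 := by rintro rfl; exact hx (by simp)
  by_cases hK : y * x * y⁻¹ ∈ ⁅S, S⁆
  · exact Or.inl ⟨_, ⟨PF.frob_cent1_le hF hay hay1 ⟨hK, hxc⟩, by simpa using hx1⟩, y⁻¹, mem_top _,
      by group⟩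
  · have hP := FT_primeTI_hyp hV
    obtain ⟨b, c, g, hb, e⟩ := hP.exists_conj (x := ⟨_, hxS⟩) hK
    have e' : y * x * y⁻¹ = g * (wL S W₂ W₁ (b, c) : S) * (g : G)⁻¹ := congrArg Subtype.val e
    have ex : x = (y⁻¹ * g) * (wL S W₂ W₁ (b, c) : S) * (y⁻¹ * g)⁻¹ := by
      calc x = y⁻¹ * (y * x * y⁻¹) * y := by group
        _ = _ := by rw [e']; group
    have hc : c ≠ 1 := by
      rintro rfl
      rw [hP.coe_wL_apply, OneMemClass.coe_one, mul_one] at ex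
      refine hx ?_
      rw [ex, orderOf_conj]
      exact hP.coprime₁₂.coprime_dvd_left (orderOf_dvd_card_of_mem b.2)
    exact Or.inr ⟨_, PF.cycTI_comm W₂ W₁ ▸ hP.wL_mem_cycTI hb hc, _, mem_top _, ex⟩

theorem typeP_der_card_ge (hM : IsCoatom M) (h : IsTypePWith M W₁ U W₂) :
    (2 * Nat.card W₁ + 1) * Nat.card W₂ ≤ Nat.card ↥⁅M, M⁆ := by
  have hlt := typeP_der2_lt hM h
  have h1 := two_mul_add_one_le (mFT_odd W₁)
    ((mFT_odd ⁅M, M⁆).of_dvd_nat (Dvd.intro_left _ (card_mul_relIndex hlt.le)))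
    (one_lt_relIndex hlt.not_ge)
    (card_dvd_pred_of_regular ((typeP_W₁_le h).trans (typeP_norm_der2 M))
      ((typeP_W₁_le h).trans (le_norm_der M)) (le_norm_der _) (typeP_reg_der2 h))
  rw [← card_mul_relIndex hlt.le, mul_comm]
  exact Nat.mul_le_mul (card_le_of_le (typeP_W₂_le_der2 h)) h1

theorem Hyp10.noncoherence_main (h : Hyp10 M W₁ U W₂) (hc : Consts345 M W₁ W₂ d δ n)
    (hζ : RefIrr M W₁ ζ) (hν : CohWith (seqIndD ⁅M, M⁆ M ⁅M, M⁆ ⊥) (tau0 M) ν) : False := by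
  classical
  obtain ⟨S, V, hp, h2, hV⟩ := h.pair
  have hS := hp.maxT
  have hF := h.Frob_der1_type2 hc hζ hν hS h2 hV
  have hTI : NormedTI (sharp MF[S]) ⊤ S := FTsupp1_type12 h2.le ▸ (FTtypeII_ker_TI hS h2).2.2
  have hD : DadeHypothesis (sharp ⁅M, M⁆) M (FTsignalizer M) := h.supp ▸ FT_Dade_hyp h.max
  have hχ := hν.isSIrr hζ.2.1 hζ.1
  have h3 := h.cti.three_le₁
  have h3' := h.cti.three_le₂
  have hM' := typeP_der_card_ge h.max h.typeP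
  -- Suzuki's inequality
  set G₀ : Finset G := Finset.univ.filter (· ∉ dadeSupp (sharp ⁅M, M⁆) (FTsignalizer M)) with hG₀
  have hSuz := Dade_cover_inequality (ι := Unit) (fun _ => M) (fun _ => sharp ⁅M, M⁆)
    (fun _ => FTsignalizer M) (fun _ => hD) (fun i j hij => absurd rfl hij) hχ.isClassFunction
    hχ.nsq G₀ (fun g => by simp [hG₀])
  rw [Fintype.sum_unique] at hSuz
  set G₁ : Finset G := G₀.filter fun g => ¬ (orderOf g).Coprime (Nat.card W₁) with hG₁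
  have hsum : (G₀.card : ℝ) - G₁.card ≤ ∑ g ∈ G₀, ‖ν ζ g‖ ^ 2 := by
    have e := Finset.card_filter_add_card_filter_not (s := G₀)
      fun g => (orderOf g).Coprime (Nat.card W₁)
    rw [← e, Nat.cast_add, add_sub_cancel_right, Finset.card_eq_sum_ones, Nat.cast_sum]
    refine le_trans (Finset.sum_le_sum fun g hg => ?_) (Finset.sum_le_sum_of_subset_of_nonneg
      (Finset.filter_subset _ _) fun _ _ _ => by positivity)
    obtain ⟨hg1, hg2⟩ := Finset.mem_filter.1 hg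
    rw [Nat.cast_one]
    exact one_le_pow₀ (h.zeta_tau1_coprime hc hζ hν (Finset.mem_filter.1 hg1).2 hg2)
  -- the lower bound (7.8)
  have hν' : CohWith (seqIndD ⁅M, M⁆ M ⁅M, M⁆ ⊥) (dadeL (sharp ⁅M, M⁆) M (FTsignalizer M)) ν :=
    (CohWith.dade_congr h.dade h.pdd.subset h.pdd.normA fun φ hφ =>
      ⟨seqIndT_class (seqIndD_subset_T hφ), h.pdd.seqIndD_on hφ⟩).2 hν
  obtain ⟨-, ⟨Γ, -, -, -, hlb⟩, -⟩ := Dade_Ind1_sub_lin hD hν'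
    ⟨_, hζ.conj.2.1, _, hζ.2.1, seqIndD_conj_ne (der_le M) (le_norm_der M) (mFT_odd M) hζ.2.1⟩
    hζ.1 hζ.2.1 (by rw [hζ.2.2, h.pti.relIndex]) rfl
  rw [h.pti.relIndex] at hlb
  have hlb' := (hlb (le_trans (Nat.le_mul_of_pos_right _ (by omega)) hM')).1
  -- the bound on `G₁`
  have hN : G₁.card ≤ Nat.card MF[S] * S.index +
      (Nat.card W₁ - 1) * (Nat.card W₂ - 1) * (W₁ ⊔ W₂).index := by
    have e1 : (G₁ : Set G) ⊆ classSupp (sharp MF[S]) ⊤ ∪ classSupp (cycTI W₁ W₂) ⊤ :=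
      fun x hx => type2_cover hS h2 hV hF (Finset.mem_filter.1 hx).2
    have e2 := (Set.ncard_le_ncard e1).trans (Set.ncard_union_le _ _)
    rw [Set.ncard_coe_finset, NormedTI.ncard_classSupp hTI, NormedTI.ncard_classSupp h.cti.normedTI,
      ncard_sharp, ← Nat.card_coe_set_eq, card_cycTI h.cti.dprod] at e2
    exact e2.trans (Nat.add_le_add_right (Nat.mul_le_mul_right _ (Nat.sub_le _ _)) _)
  have hVne : V ≠ ⊥ := hF.compl_ne_bot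
  have hu : 2 * Nat.card W₂ + 1 ≤ Nat.card V := two_mul_add_one_le (mFT_odd W₂) (mFT_odd V)
    ((one_lt_card_iff_ne_bot V).2 hVne) (frob_card_dvd_pred (typeP_Frobenius_UW hV hVne))
  have cS : Nat.card MF[S] * Nat.card V * Nat.card W₂ * S.index = Nat.card G := by
    rw [hF.sdprod.card_mul, (typeP_sdprod hV).card_mul, card_mul_index]
  have cW : Nat.card W₁ * Nat.card W₂ * (W₁ ⊔ W₂).index = Nat.card G := by
    rw [h.cti.dprod.card_mul, card_mul_index]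
  have cA : (Nat.card (sharp ⁅M, M⁆) : ℝ) ≤ Nat.card ↥⁅M, M⁆ := by
    rw [Nat.card_coe_set_eq, ncard_sharp]; exact_mod_cast Nat.sub_le _ _
  refine s10_arith2 (m := Nat.card ↥⁅M, M⁆) (w₁ := Nat.card W₁) (w₂ := Nat.card W₂)
    (h := Nat.card MF[S]) (u := Nat.card V) (g := Nat.card G) (N := G₁.card) (iS := S.index)
    (iW := (W₁ ⊔ W₂).index) (by exact_mod_cast h3) (card_pos_real _)
    (by exact_mod_cast (by omega : 7 ≤ Nat.card V))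
    (by exact_mod_cast (Nat.mul_le_mul_right _ (Nat.le_succ _)).trans hM') (card_pos_real _)
    (card_pos_real _) (by exact_mod_cast cS) (by exact_mod_cast cW) ?_ hlb' ?_
  · have : ((Nat.card W₁ - 1 : ℕ) : ℝ) = Nat.card W₁ - 1 ∧
        ((Nat.card W₂ - 1 : ℕ) : ℝ) = Nat.card W₂ - 1 :=
      ⟨Nat.cast_pred (by omega), Nat.cast_pred (by omega)⟩
    rw [← this.1, ← this.2]; exact_mod_cast hN
  · have e1 : (Nat.card (sharp ⁅M, M⁆) : ℝ) / Nat.card M ≤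
        Nat.card ↥⁅M, M⁆ / (Nat.card ↥⁅M, M⁆ * Nat.card W₁) := by
      rw [← (typeP_sdprod h.typeP).card_mul, Nat.cast_mul]; gcongr
    have e2 : (Nat.card G : ℝ)⁻¹ * (-(G₁.card : ℝ)) ≤
        (Nat.card G : ℝ)⁻¹ * (∑ g ∈ G₀, ‖ν ζ g‖ ^ 2 - G₀.card) := by
      gcongr; linarith
    linarith

/-- (10.8) -/
theorem FTtype345_noncoherence (hM : IsCoatom M) (h : 2 < FTtype M) :
    ¬ Coh (seqIndD ⁅M, M⁆ M ⁅M, M⁆ ⊥) (tau0 M) := by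
  rintro ⟨ν, hν⟩
  obtain ⟨W₁, U, W₂, hP⟩ := FTtypeP_witness hM (by omega)
  have h10 : Hyp10 M W₁ U W₂ := ⟨hM, hP, by omega⟩
  obtain ⟨ζ, hζ⟩ := FTtypeP_ref_irr hM hP
  obtain ⟨d, δ, n, hc⟩ := FTtype345_constants h10
  exact h10.noncoherence_main hc hζ hν

end Cfsg.Agent.PF
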