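import Cfsg.Agent.PF.S11a

set_option autoImplicit false
set_option linter.unusedSectionVars false
set_option linter.unusedVariables false

namespace Cfsg.Agent.PF

open Subgroup Cfsg.Agent.GT Cfsg.Agent.BG Cfsg.Agent.Char

universe u v w

/-! Peterfalvi (11.8), (11.9); (11.3)-(11.7) are in `S11a`. Here `C = U ⊓ C[H]`, `S(X) = seqIndD M' M M' X`,
`p = Nat.card W₂`, `q = Nat.card W₁`. -/

variable {G : Type u} [Group G] [Fintype G] [MFT G] {M U W₁ W₂ H₁ : Subgroup G} {ζ : M → ℂ}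

/-- `ψ` and `γ` have the same projection on the span of the `η_ij` -/
def EqProjEta (W₁ W₂ : Subgroup G) (ψ γ : G → ℂ) : Prop :=
  ∀ i j, ⟪ψ, etaG W₁ W₂ i j⟫ = ⟪γ, etaG W₁ W₂ i j⟫

/-- `S₁ = S(HC)` -/
abbrev s11S1 (M U : Subgroup G) : Set (M → ℂ) :=
  seqIndD ⁅M, M⁆ M ⁅M, M⁆ (MF[M] ⊔ (U ⊓ C[MF[M]]))

/-- `S₂ = S(C) ∖ S(HC)` -/
abbrev s11S2 (M U : Subgroup G) : Set (M → ℂ) := seqIndD ⁅M, M⁆ M MF[M] (U ⊓ C[MF[M]])

variable {φ ψ : M → ℂ} {i : Lin W₁} {j : Lin W₂} {ν : (M → ℂ) →ₗ[ℂ] (G → ℂ)} {d n : ℕ} {δ : ℤ}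

theorem Hyp10.s11_pd (h : Hyp10 M W₁ U W₂) :
    PrDade M ⁅M, M⁆ ⁅M, M⁆ (FTsupp M) (FTsupp0 M) (FTsignalizer M) W₁ W₂ := by
  have h1 := FT_prDade_hyp h.max h.typeP
  rwa [h.core_eq] at h1

theorem Hyp10.pC_eq (h : Hyp10 M W₁ U W₂) : pC M U = U ⊓ C[MF[M]] :=
  h.hyp9.C_eq_of_H0 h.H0_eq_bot

theorem Hyp10.pU_eq (h : Hyp10 M W₁ U W₂) : pU M U = (U ⊓ C[MF[M]]).relIndex U := by
  rw [pU, h.pC_eq]

theorem Hyp10.s11_normC (h : Hyp10 M W₁ U W₂) : M ≤ N[U ⊓ C[MF[M]]] := by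
  have h1 := h.hyp9.s11_norm_H0C
  rwa [h.H0_eq_bot, bot_sup_eq] at h1

theorem s11_sub1 : ConjSub (s11S1 M U) (seqIndD ⁅M, M⁆ M ⁅M, M⁆ ⊥) := conjSub_seqIndD le_rfl bot_le

theorem Hyp10.s11_sub2 (h : Hyp10 M W₁ U W₂) : ConjSub (s11S2 M U) (seqIndD ⁅M, M⁆ M ⁅M, M⁆ ⊥) :=
  conjSub_seqIndD (typeP_Fcore_le_der h.typeP) bot_le

theorem Hyp10.s11_mem1 (h : Hyp10 M W₁ U W₂) : φ ∈ s11S1 M U ↔
    φ ∈ seqIndT ⁅M, M⁆ M ∧ ¬ InKer ⁅M, M⁆ φ ∧ InKer (MF[M] ⊔ (U ⊓ C[MF[M]])) φ :=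
  mem_seqIndD_iff (der_le M) (le_norm_der M) le_rfl (le_norm_der M) h.hyp9.s11_HC_le
    h.hyp9.s11_norm_HC

theorem Hyp10.s11_mem2 (h : Hyp10 M W₁ U W₂) : φ ∈ s11S2 M U ↔
    φ ∈ seqIndT ⁅M, M⁆ M ∧ ¬ InKer MF[M] φ ∧ InKer (U ⊓ C[MF[M]]) φ :=
  mem_seqIndD_iff (der_le M) (le_norm_der M) (typeP_Fcore_le_der h.typeP) h.hyp9.norm_H
    (inf_le_left.trans (typeP_U_le_der h.typeP)) h.s11_normC

theorem Hyp10.s11_disjoint (h : Hyp10 M W₁ U W₂) : Disjoint (s11S2 M U) (s11S1 M U) :=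
  Set.disjoint_left.2 fun _ h2 h1 =>
    (h.s11_mem2.1 h2).2.1 ((h.s11_mem1.1 h1).2.2.mono le_sup_left)

theorem Hyp10.s11_ref (h : Hyp10 M W₁ U W₂) (hζ : ζ ∈ s11S1 M U) : RefIrr M W₁ ζ := by
  have pt := h.s11_pd.pti
  refine ⟨?_, s11_sub1.1 hζ, ?_⟩
  · rcases pt.seqIndT_cases (seqIndD_subset_T hζ) with ⟨j, rfl⟩ | h1
    · refine absurd (MonoidHom.ext fun x => ?_) (pt.ne_one_of_muR_mem hζ)
      exact (pt.inKer_muR_iff h.hyp9.s11_HC_le h.hyp9.s11_norm_HC j).1 (h.s11_mem1.1 hζ).2.2 x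
        (mem_sup_left (typeP_W₂_le_Fcore h.typeP x.2))
    · exact h1.1
  · obtain ⟨θ, ⟨h1, -, h3⟩, rfl⟩ := mem_seqIndD.1 hζ
    rw [cInd_one (der_le M), irr_one_of_inKer_der h1 (FTtype34_der2 h ▸ h3), mul_one, pt.relIndex]

theorem Hyp10.s11_card1 (h : Hyp10 M W₁ U W₂) :
    (U ⊓ C[MF[M]]).relIndex U = 1 + (seqIndD_finite ⁅M, M⁆ M ⁅M, M⁆
      (MF[M] ⊔ (U ⊓ C[MF[M]]))).toFinset.card * Nat.card W₁ := by
  have h1 := sum_seqIndD_square (der_le M) (le_norm_der M) le_rfl (le_norm_der M)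
    h.hyp9.s11_norm_HC h.hyp9.s11_HC_le
  rw [Finset.sum_congr rfl (g := fun _ => (Nat.card W₁ : ℝ) ^ 2) fun φ hφ => by
    obtain ⟨h2, -, h3⟩ := h.s11_ref ((Set.Finite.mem_toFinset _).1 hφ)
    rw [h2.nsq, h3, div_one, Complex.natCast_re], Finset.sum_const, nsmul_eq_mul,
    h.s11_pd.pti.relIndex, relIndex_self, h.hyp9.relIndex_H_sup inf_le_left] at h1
  have h2 : (Nat.card W₁ : ℝ) ≠ 0 := card_ne_zero_real W₁
  have h3 : (((U ⊓ C[MF[M]]).relIndex U : ℕ) : ℝ) = 1 + (seqIndD_finite ⁅M, M⁆ M ⁅M, M⁆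
      (MF[M] ⊔ (U ⊓ C[MF[M]]))).toFinset.card * (Nat.card W₁ : ℝ) :=
    mul_left_cancel₀ h2 (by push_cast at h1; linear_combination -h1)
  exact_mod_cast h3

theorem Hyp10.s11_mu (h : Hyp10 M W₁ U W₂) (hj : j ≠ 1) : muR M W₁ W₂ j ∈ s11S2 M U ∧
    muR M W₁ W₂ j 1 = (Nat.card W₁ * (U ⊓ C[MF[M]]).relIndex U : ℕ) := by
  obtain ⟨h1, h2, -⟩ := (typeP_reducible_core_Ind h.hyp9).2.2.2 _
    (muR_mem_pRed h.hyp9 (FTtype345_core_prime h) hj)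
  rw [h.H0_eq_bot, bot_sup_eq, h.pC_eq] at h2
  rw [h.pU_eq] at h1
  exact ⟨h2, h1⟩

/-- (11.8.1) -/
theorem Hyp10.s11_consts (h : Hyp10 M W₁ U W₂) (hc : Consts345 M W₁ W₂ d δ n) :
    d = (U ⊓ C[MF[M]]).relIndex U ∧ δ = 1 ∧ n = (seqIndD_finite ⁅M, M⁆ M ⁅M, M⁆
      (MF[M] ⊔ (U ⊓ C[MF[M]]))).toFinset.card := by
  have pd := h.s11_pd
  obtain ⟨j, hj, -⟩ := pd.cti.exists_ne_ne₂ 1 1
  have h1 := (h.s11_mu hj).2
  rw [pd.pti.muR_one 1 j, hc.deg 1 j hj, Nat.cast_mul] at h1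
  have h2 : d = (U ⊓ C[MF[M]]).relIndex U := by
    exact_mod_cast mul_left_cancel₀ (card_ne_zero_complex W₁) h1
  have h3 := hc.ratio
  rw [h2, h.s11_card1] at h3
  push_cast at h3
  have h4 : (2 : ℤ) < Nat.card W₁ := by exact_mod_cast pd.cti.two_lt₁
  have h5 : δ = 1 := by
    refine (hc.sign j hj ▸ dl_cases M W₁ W₂ j).resolve_right fun e => ?_
    have h6 := Int.le_of_dvd two_pos (Dvd.intro_left _ (show ((n : ℤ) - (seqIndD_finite ⁅M, M⁆ M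
      ⁅M, M⁆ (MF[M] ⊔ (U ⊓ C[MF[M]]))).toFinset.card) * Nat.card W₁ = 2 by
        rw [e] at h3; linear_combination -h3))
    omega
  refine ⟨h2, h5, ?_⟩
  rw [h5] at h3
  exact_mod_cast mul_right_cancel₀ (show (Nat.card W₁ : ℤ) ≠ 0 by omega) (add_left_cancel h3).symm

theorem Hyp10.s11_coh1 (h : Hyp10 M W₁ U W₂) : Coh (s11S1 M U) (tau0 M) :=
  let ⟨_, hQ⟩ := h.s11_scoh
  hQ.cohProp.coh_der (der_le M) (FTtype34_der2 h).le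

theorem Hyp10.s11_coh2 (h : Hyp10 M W₁ U W₂) : Coh (s11S2 M U) (tau0 M) :=
  (Ptype_core_coherence h.hyp9).subset (seqIndD_mono le_rfl (by
    rw [h.H0_eq_bot, bot_sup_eq, h.pC_eq]; exact der_le _))

theorem Hyp10.s11_CF (h : Hyp10 M W₁ U W₂) (hφ : φ ∈ zspan (seqIndT ⁅M, M⁆ M)) (h1 : φ 1 = 0) :
    φ ∈ CF M (FTsupp M) := by
  rw [FTsupp_type_gt2 h.max h.gt2]
  exact zspan_seqIndT_on (der_le M) (le_norm_der M) subset_rfl (mem_zspanOn_one.2 ⟨hφ, h1⟩)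

theorem Hyp10.s11_bridge0 (h : Hyp10 M W₁ U W₂) (hζ : ζ ∈ s11S1 M U) :
    muR M W₁ W₂ 1 - ζ ∈ CF M (FTsupp M) := by
  have pt := h.s11_pd.pti
  refine h.s11_CF (sub_mem_zspan (mem_zspan_of_mem (pt.muR_mem_T 1))
    (mem_zspan_of_mem (seqIndD_subset_T hζ))) ?_
  rw [Pi.sub_apply, pt.muR_one 1, pt.mu2_zero_one, (h.s11_ref hζ).2.2, mul_one, sub_self]

theorem Hyp10.s11_ci (h : Hyp10 M W₁ U W₂) (hφ : φ ∈ CF M (FTsupp M)) (hψ : IsClassFunction M ψ) :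
    ⟪tau0 M φ, tau0 M ψ⟫ = ⟪φ, ψ⟫ :=
  dadeL_ci h.s11_pd.dade hφ.1 (hφ.2.mono h.s11_pd.subset) hψ

theorem Hyp10.s11_virt0 (h : Hyp10 M W₁ U W₂) (hζ : ζ ∈ s11S1 M U) :
    IsGeneralizedCharacter G (tau0 M (muR M W₁ W₂ 1 - ζ)) :=
  dadeL_virt h.s11_pd.dade ((h.s11_pd.pti.muR_char 1).virt.sub (h.s11_ref hζ).1.virt)
    ((h.s11_bridge0 hζ).2.mono h.s11_pd.subset)

theorem Hyp10.s11_orth_mu (h : Hyp10 M W₁ U W₂) (hφ : φ ∈ seqIndT ⁅M, M⁆ M)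
    (hi : IsIrrCharacter M φ) (j : Lin W₂) : ⟪φ, muR M W₁ W₂ j⟫ = 0 :=
  seqIndT_ortho (der_le M) (le_norm_der M) hφ (h.s11_pd.pti.muR_mem_T j)
    fun e => h.s11_pd.pti.muR_not_irr j (e ▸ hi)

theorem Hyp10.s11_nsq0 (h : Hyp10 M W₁ U W₂) (hζ : ζ ∈ s11S1 M U) :
    nsq (tau0 M (muR M W₁ W₂ 1 - ζ)) = Nat.card W₁ + 1 := by
  have hi := (h.s11_ref hζ).1
  rw [dadeL_nsq h.s11_pd.dade (h.s11_bridge0 hζ).1 ((h.s11_bridge0 hζ).2.mono h.s11_pd.subset),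
    nsq_sub_of_orth (ci_eq_zero_symm (h.s11_orth_mu (seqIndD_subset_T hζ) hi 1)),
    h.s11_pd.pti.nsq_muR, hi.nsq]

theorem Hyp10.s11_orth_eta {S : Set (M → ℂ)} (h : Hyp10 M W₁ U W₂)
    (hS : ConjSub S (seqIndD ⁅M, M⁆ M ⁅M, M⁆ ⊥)) (hν : CohWith S (tau0 M) ν) (hφ : φ ∈ S)
    (hi : IsIrrCharacter M φ) (i : Lin W₁) (j : Lin W₂) : ⟪ν φ, etaG W₁ W₂ i j⟫ = 0 :=
  coherent_ortho_cycTIiso h.max h.typeP (h.core_eq.symm ▸ hS) hν hφ hi i j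

theorem Hyp10.s11_tau_sub (h : Hyp10 M W₁ U W₂) (hν : CohWith (s11S1 M U) (tau0 M) ν)
    (hφ : φ ∈ s11S1 M U) (hψ : ψ ∈ s11S1 M U) : tau0 M (φ - ψ) = ν φ - ν ψ := by
  rw [← map_sub]
  refine (hν.eq (sub_mem_zspan (mem_zspan_of_mem hφ) (mem_zspan_of_mem hψ)) ?_).symm
  rw [Pi.sub_apply, (h.s11_ref hφ).2.2, (h.s11_ref hψ).2.2, sub_self]

theorem Hyp10.s11_sub_CF (h : Hyp10 M W₁ U W₂) (hφ : φ ∈ s11S1 M U) (hψ : ψ ∈ s11S1 M U) :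
    φ - ψ ∈ CF M (FTsupp M) := by
  refine h.s11_CF (sub_mem_zspan (mem_zspan_of_mem (seqIndD_subset_T hφ))
    (mem_zspan_of_mem (seqIndD_subset_T hψ))) ?_
  rw [Pi.sub_apply, (h.s11_ref hφ).2.2, (h.s11_ref hψ).2.2, sub_self]

theorem Hyp10.s11_sub_orth (h : Hyp10 M W₁ U W₂) (hφ : φ ∈ s11S1 M U) (hψ : ψ ∈ s11S1 M U)
    (i : Lin W₁) (j : Lin W₂) : ⟪tau0 M (φ - ψ), etaG W₁ W₂ i j⟫ = 0 := by
  obtain ⟨ν, hν⟩ := h.s11_coh1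
  rw [h.s11_tau_sub hν hφ hψ, ci_sub_left, h.s11_orth_eta s11_sub1 hν hφ (h.s11_ref hφ).1,
    h.s11_orth_eta s11_sub1 hν hψ (h.s11_ref hψ).1, sub_self]

theorem s11_ci_col {α : G → ℂ} (hα : ∀ i, ⟪α, etaG W₁ W₂ i j⟫ = 0) :
    ⟪α, ∑ i, etaG W₁ W₂ i j⟫ = 0 := by
  rw [ci_sum_right]; exact Finset.sum_eq_zero fun i _ => hα i

/-- (11.8.4) -/
theorem Hyp10.s11_pivot (h : Hyp10 M W₁ U W₂) (hζ : ζ ∈ s11S1 M U)
    (he : EqProjEta W₁ W₂ (tau0 M (muR M W₁ W₂ 1 - ζ)) (∑ i, etaG W₁ W₂ i 1)) :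
    ∃ ν, CohWith (s11S1 M U) (tau0 M) ν ∧
      tau0 M (muR M W₁ W₂ 1 - ζ) = ∑ i, etaG W₁ W₂ i 1 - ν ζ := by
  have pd := h.s11_pd
  have hi := (h.s11_ref hζ).1
  set χ := ∑ i, etaG W₁ W₂ i 1 - tau0 M (muR M W₁ W₂ 1 - ζ) with hχ
  have e : tau0 M (muR M W₁ W₂ 1 - ζ) = ∑ i, etaG W₁ W₂ i 1 - χ := by rw [hχ, sub_sub_cancel]
  have h1 : nsq χ = 1 := by
    have h2 := h.s11_nsq0 hζ
    rw [e, nsq_sub_of_orth (ci_eq_zero_symm (s11_ci_col fun i => by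
      rw [hχ, ci_sub_left, he, sub_self])),
      nsq_eq_of_ci (r := Nat.card W₁) (by rw [pd.cti.ci_col_col, if_pos rfl]; simp)] at h2
    exact add_left_cancel h2
  obtain ⟨ν, hν, e'⟩ := exists_cohWith_pivot (tau0 M) (pd.isometry s11_sub1.1) hζ
    hi.apply_one_ne_zero (X := χ)
    ((virt_sum _ _ fun i _ => pd.cti.eta_virt i 1).sub (h.s11_virt0 hζ))
    (by rw [ci_self, h1, hi.ci_self]; simp) fun φ hφ => ⟨1, by
      rw [(h.s11_ref hφ).2.2, (h.s11_ref hζ).2.2]; simp, by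
      rw [Int.cast_one, one_smul, hχ, ci_sub_right, s11_ci_col fun i => h.s11_sub_orth hφ hζ i 1,
        h.s11_ci (h.s11_sub_CF hφ hζ) (h.s11_bridge0 hζ).1, ci_sub_right, ci_sub_left φ ζ (muR _ _ _ _),
        h.s11_orth_mu (seqIndD_subset_T hφ) (h.s11_ref hφ).1,
        h.s11_orth_mu (seqIndD_subset_T hζ) hi]
      ring⟩
  exact ⟨ν, hν, e' ▸ e⟩

theorem s11_arith2 {n k : ℤ} (hn : 1 ≤ n) (h : (2 * k - n) ^ 2 + (n - 1) * (2 * k) ^ 2 ≤ 2 + n ^ 2) :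
    k = 0 ∨ k = 1 := by
  by_contra! hk
  have h1 : 2 ≤ k * (k - 1) := by
    rcases (show k ≤ -1 ∨ 2 ≤ k by omega) with e | e <;> nlinarith
  nlinarith

/-- (11.8.2), (11.8.3), (11.8.5) -/
theorem Hyp10.s11_alpha (h : Hyp10 M W₁ U W₂) (hζ : ζ ∈ s11S1 M U)
    (hc : Consts345 M W₁ W₂ d δ n) (hν : CohWith (s11S1 M U) (tau0 M) ν)
    (he : tau0 M (muR M W₁ W₂ 1 - ζ) = ∑ i, etaG W₁ W₂ i 1 - ν ζ) (hj : j ≠ 1) :
    tau0 M (bridge345 M W₁ W₂ δ n ζ 1 j) =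
      (δ : ℂ) • (etaG W₁ W₂ 1 j - etaG W₁ W₂ 1 1) - (n : ℂ) • ν ζ := by
  classical
  obtain ⟨-, rfl, hn⟩ := h.s11_consts hc
  have pd := h.s11_pd
  have pt := pd.pti
  have ct := pd.cti
  have hr := h.s11_ref hζ
  have hi := hr.1
  have hirr : ∀ φ ∈ s11S1 M U, IsIrrCharacter M φ := fun φ hφ => (h.s11_ref hφ).1
  set T := (seqIndD_finite ⁅M, M⁆ M ⁅M, M⁆ (MF[M] ⊔ (U ⊓ C[MF[M]]))).toFinset with hT
  have mT : ∀ {φ}, φ ∈ T ↔ φ ∈ s11S1 M U := Set.Finite.mem_toFinset _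
  have f1 := supp_FTtype345_bridge h hc hr 1 hj
  have hv := vchar_Dade_FTtype345_bridge h hc hr 1 hj
  have hN := norm_FTtype345_bridge h hc hr 1 hj
  have hα : bridge345 M W₁ W₂ 1 n ζ 1 j = mu2 M W₁ W₂ 1 j - mu2 M W₁ W₂ 1 1 - (n : ℂ) • ζ := by
    rw [bridge345, Int.cast_one, one_smul]
  set α := bridge345 M W₁ W₂ 1 n ζ 1 j with hα'
  have iso : ∀ {ψ}, IsClassFunction M ψ → ⟪tau0 M α, tau0 M ψ⟫ = ⟪α, ψ⟫ := fun hψ =>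
    dadeL_ci pd.dade f1.1 f1.2 hψ
  have omu : ∀ φ ∈ s11S1 M U, ∀ i j, ⟪mu2 M W₁ W₂ i j, φ⟫ = 0 := fun φ hφ i j =>
    (pt.mu2_irr i j).ci_of_ne (hirr φ hφ) (pt.ne_mu2_of_mem_T (seqIndD_subset_T hφ) i j).symm
  have f2 : ∀ φ ∈ s11S1 M U, ⟪α, φ⟫ = -(n * ⟪ζ, φ⟫) := fun φ hφ => by
    rw [hα, ci_sub_left, ci_sub_left, omu φ hφ, omu φ hφ, ci_smul_left]; ring
  obtain ⟨b, hb⟩ := hv.ci_int (hν.virt_mem hζ)
  have f3 : ∀ φ ∈ s11S1 M U, φ ≠ ζ → ⟪tau0 M α, ν φ⟫ = ((b + n : ℤ) : ℂ) := fun φ hφ hne => by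
    have h1 := iso (h.s11_sub_CF hφ hζ).1
    rw [h.s11_tau_sub hν hφ hζ, ci_sub_right, ci_sub_right, f2 φ hφ, f2 ζ hζ, hi.ci_self,
      hi.ci_of_ne (hirr φ hφ) hne.symm, hb] at h1
    push_cast; linear_combination h1
  have ho : ∀ φ ∈ T, ∀ ψ ∈ T, ⟪ν φ, ν ψ⟫ = if φ = ψ then 1 else 0 := fun φ hφ ψ hψ => by
    rw [hν.ci_mem (mT.1 hφ) (mT.1 hψ), (hirr φ (mT.1 hφ)).ci_eq_ite (hirr ψ (mT.1 hψ))]
  have hn1 : 1 ≤ n := hn ▸ Finset.card_pos.2 ⟨ζ, mT.2 hζ⟩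
  have f4 : ∑ φ ∈ T, ‖⟪tau0 M α, ν φ⟫‖ ^ 2 = (b : ℝ) ^ 2 + ((n : ℝ) - 1) * (b + n) ^ 2 := by
    rw [← Finset.add_sum_erase T _ (mT.2 hζ), norm_sq_of_eq_int hb, Finset.sum_congr rfl
      fun φ hφ => norm_sq_of_eq_int (f3 φ (mT.1 (Finset.mem_of_mem_erase hφ))
        (Finset.ne_of_mem_erase hφ)), Finset.sum_const, Finset.card_erase_of_mem (mT.2 hζ), ← hn,
      nsmul_eq_mul, Nat.cast_pred hn1]
    push_cast; ring
  have f5 : ⟪tau0 M α, ∑ i, etaG W₁ W₂ i 1⟫ = b + n - 1 := by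
    have h1 := iso (h.s11_bridge0 hζ).1
    rw [he, ci_sub_right, hb, ci_sub_right, f2 ζ hζ, hi.ci_self, hα, ci_sub_left, ci_sub_left,
      pt.ci_mu2_muR, pt.ci_mu2_muR, if_neg hj, if_pos rfl, ci_smul_left,
      h.s11_orth_mu (seqIndD_subset_T hζ) hi, ← hα] at h1
    linear_combination h1
  have oeta := fun φ hφ => h.s11_orth_eta s11_sub1 hν (φ := φ) hφ (hirr φ hφ)
  have ecol : ⟪etaG W₁ W₂ 1 j - etaG W₁ W₂ 1 1, ∑ i, etaG W₁ W₂ i 1⟫ = -1 := by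
    refine (ci_symm_of_int (n := -1) ?_).trans (by simp)
    rw [ci_sub_right, ct.ci_col_eta, ct.ci_col_eta, if_neg hj.symm, if_pos rfl]; simp
  obtain ⟨k, hk⟩ : ∃ k : ℤ, b + n = 2 * k := by
    have hζ' := s11_sub1.2 ζ hζ
    have e1 : conjFun α = α - (mu2 M W₁ W₂ 1 j - mu2 M W₁ W₂ 1 j⁻¹) +
        (n : ℂ) • (ζ - conjFun ζ) := by
      rw [hα, conjFun_sub, conjFun_sub, conjFun_smul, pt.conj_mu2, pt.conj_mu2, linv_one, linv_one,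
        map_natCast]
      module
    have hj' : j⁻¹ ≠ 1 := fun e => hj (linv_eq_one.1 e)
    have e2 : conjFun (tau0 M α - (etaG W₁ W₂ 1 j - etaG W₁ W₂ 1 1) + (n : ℂ) • ν ζ) =
        tau0 M α - (etaG W₁ W₂ 1 j - etaG W₁ W₂ 1 1) + (n : ℂ) • ν ζ := by
      rw [conjFun_add, conjFun_sub, conjFun_sub, conjFun_smul, conjFun_dadeL, e1, map_add, map_sub,
        map_smul, pd.dade_sub_mu2 1 hj hj' ((hc.deg 1 j hj).trans (hc.deg 1 _ hj').symm),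
        h.s11_tau_sub hν hζ hζ', cfConjC_Dade_coherent pd.dade hν s11_sub1.2 hi hζ
          (seqIndD_conj_ne (der_le M) (le_norm_der M) (mFT_odd M) hζ), ct.conj_eta, ct.conj_eta,
        linv_one, linv_one, map_natCast, hc.sign j hj]
      module
    have e3 : conjFun (∑ i, etaG W₁ W₂ i (1 : Lin W₂)) = ∑ i, etaG W₁ W₂ i 1 := by
      rw [conjFun_sum]
      exact Fintype.sum_bijective _ inv_involutive.bijective _ _ fun i => by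
        rw [ct.conj_eta, linv_one]
    obtain ⟨k, hk⟩ := cfdot_real_vchar_even mFT_odd_top ((hv.sub ((ct.eta_virt 1 j).sub
      (ct.eta_virt 1 1))).add ((hν.virt_mem hζ).natCast_smul n)) e2
      (virt_sum _ _ fun i _ => ct.eta_virt i 1) e3
    have e4 : ⟪tau0 M α - (etaG W₁ W₂ 1 j - etaG W₁ W₂ 1 1) + (n : ℂ) • ν ζ, fun _ => 1⟫ = 0 := by
      rw [ci_add_left, ci_sub_left, dadeL_ci_one pd.dade f1.1 f1.2, hα, ci_sub_left, ci_sub_left,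
        ci_sub_left, ci_smul_left, ci_smul_left, seqIndD_ortho_one (der_le M) hζ, ct.ci_eta_one,
        ct.ci_eta_one, ← ct.eta_one, oeta ζ hζ, ← pt.mu2_one_one, pt.ci_mu2, pt.ci_mu2]
      simp
    rw [e4, ci_add_left, ci_sub_left, f5, ecol, ci_smul_left, s11_ci_col fun i => oeta ζ hζ i 1]
      at hk
    exact ⟨k, by exact_mod_cast (show (b : ℂ) + n = 2 * k by linear_combination hk)⟩
  have f6 := nsq_eq_sum_add_nsq_orthonormal T ν ho (tau0 M α)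
  have f7 : (b : ℝ) ^ 2 + ((n : ℝ) - 1) * (b + n) ^ 2 = (n : ℝ) ^ 2 := by
    have h1 : (b : ℝ) ^ 2 + ((n : ℝ) - 1) * (b + n) ^ 2 ≤ 2 + (n : ℝ) ^ 2 := by
      rw [← hN, f6, f4]; exact le_add_of_nonneg_right (nsq_nonneg _)
    have h2 : b ^ 2 + ((n : ℤ) - 1) * (b + n) ^ 2 ≤ 2 + (n : ℤ) ^ 2 := by exact_mod_cast h1
    obtain rfl : b = 2 * k - n := by omega
    rw [hk] at h2
    rcases s11_arith2 (by exact_mod_cast hn1) h2 with rfl | rfl <;> push_cast <;> ring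
  have f8 := FTtype345_bridge_coherence h hc hr hν
    (X := tau0 M α - ∑ φ ∈ T, ⟪tau0 M α, ν φ⟫ • ν φ) (Y := ∑ φ ∈ T, ⟪tau0 M α, ν φ⟫ • ν φ)
    (sub_add_cancel _ _).symm s11_sub1 hirr hj
    (sum_mem_zspan fun φ hφ => smul_mem_zspan_of_int (hv.ci_int (hν.virt_mem (mT.1 hφ)))
      (mem_zspan_of_mem ⟨φ, mT.1 hφ, rfl⟩))
    (fun φ hφ => ci_sub_proj_orthonormal T ν ho _ (mT.2 hφ))
    (by rw [nsq_sum_smul_orthonormal T ν ho, f4, f7])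
  refine def_tau_alpha h hc hr hν s11_sub1 hj hζ ?_
  have h1 := congrArg (⟪·, ∑ i, etaG W₁ W₂ i 1⟫) f8
  simp only [ci_sub_left _ (Finset.sum _ _), f5, ci_smul_left, ecol, ci_sum_left] at h1
  rw [Finset.sum_eq_zero fun φ hφ => by
    rw [s11_ci_col fun i => oeta φ (mT.1 hφ) i 1, mul_zero]] at h1
  rw [hb]; push_cast at h1; linear_combination h1

/-- (11.8.6), first part -/
theorem Hyp10.s11_tau_mu (h : Hyp10 M W₁ U W₂) (hζ : ζ ∈ s11S1 M U)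
    (hc : Consts345 M W₁ W₂ d δ n) (hν : CohWith (s11S1 M U) (tau0 M) ν)
    (he : tau0 M (muR M W₁ W₂ 1 - ζ) = ∑ i, etaG W₁ W₂ i 1 - ν ζ) (hj : j ≠ 1) :
    tau0 M (muR M W₁ W₂ j - (d : ℂ) • ζ) = ∑ i, etaG W₁ W₂ i j - (d : ℂ) • ν ζ := by
  have h1 := h.s11_alpha hζ hc hν he hj
  obtain ⟨-, rfl, -⟩ := h.s11_consts hc
  have pd := h.s11_pd
  have hd : (d : ℂ) = 1 + n * Nat.card W₁ := by exact_mod_cast hc.ratio
  have h2 : ∀ i, tau0 M (mu2 M W₁ W₂ i j - mu2 M W₁ W₂ i 1 - (n : ℂ) • ζ) =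
      etaG W₁ W₂ i j - etaG W₁ W₂ i 1 - (n : ℂ) • ν ζ := fun i => by
    have h3 := pd.dade_sub2 i j
    rw [hc.sign j hj] at h3
    simp only [bridge345, Int.cast_one, one_smul, map_sub, map_add] at h1 h3 ⊢
    linear_combination (exp := 1) h1 + h3
  have h3 := Finset.sum_congr (s₁ := Finset.univ) rfl fun i _ => h2 i
  simp only [← map_sum, Finset.sum_sub_distrib, Finset.sum_const, Finset.card_univ,
    pd.cti.card_Lin₁] at h3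
  have h4 : muR M W₁ W₂ j - (d : ℂ) • ζ = (∑ i, mu2 M W₁ W₂ i j - ∑ i, mu2 M W₁ W₂ i 1 -
      Nat.card W₁ • (n : ℂ) • ζ) + (muR M W₁ W₂ 1 - ζ) := by
    rw [hd, muR, muR]; module
  rw [h4, map_add, h3, he, hd]; module

/-- (11.8) -/
theorem FTtype34_not_ortho_cycTIiso (h : Hyp10 M W₁ U W₂)
    (hζ : ζ ∈ seqIndD ⁅M, M⁆ M ⁅M, M⁆ (MF[M] ⊔ (U ⊓ C[MF[M]]))) :
    ¬ EqProjEta W₁ W₂ (tau0 M (muR M W₁ W₂ 1 - ζ)) (∑ i, etaG W₁ W₂ i 1) := by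
  intro he
  obtain ⟨ν, hν, he⟩ := h.s11_pivot hζ he
  obtain ⟨d, δ, n, hc⟩ := FTtype345_constants h
  have pd := h.s11_pd
  have pt := pd.pti
  have ct := pd.cti
  obtain ⟨j, hj, -⟩ := ct.exists_ne_ne₂ 1 1
  have h1 := h.s11_tau_mu hζ hc hν he hj
  obtain ⟨hd, rfl, -⟩ := h.s11_consts hc
  obtain ⟨Q, hQ⟩ := h.s11_scoh
  obtain ⟨hμ, hμ1⟩ := h.s11_mu hj
  have hr := h.s11_ref hζ
  have hdeg : muR M W₁ W₂ j 1 = ((d : ℂ) • ζ) 1 := by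
    rw [hμ1, Pi.smul_apply, hr.2.2, hd, smul_eq_mul, Nat.cast_mul, mul_comm]
  obtain ⟨ν₂, hν₂, e₂⟩ : ∃ ν₂, CohWith (s11S2 M U) (tau0 M) ν₂ ∧
      ν₂ (muR M W₁ W₂ j) = ∑ i, etaG W₁ W₂ i j := by
    by_cases hi : ∃ φ ∈ s11S2 M U, IsIrrCharacter M φ
    · obtain ⟨φ, hφ, hi⟩ := hi
      obtain ⟨ν₂, hν₂⟩ := h.s11_coh2
      refine ⟨ν₂, hν₂, ?_⟩
      have hm := degree_comb_mem_zspanOn (mem_zspan_of_mem hφ) (mem_zspan_of_mem hμ)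
        hi.virt.exists_int_one (pt.muR_char j).virt.exists_int_one
      have o : ∀ ψ ∈ s11S2 M U, ⟪ν ζ, ν₂ ψ⟫ = 0 := fun ψ hψ =>
        hν.orth hν₂ hQ s11_sub1.1 s11_sub1.2 h.s11_sub2.1 h.s11_sub2.2 h.s11_disjoint.symm
          (mem_zspan_of_mem hζ) (mem_zspan_of_mem hψ)
      have o' : ∀ ψ ∈ s11S2 M U, ⟪ζ, ψ⟫ = 0 := fun ψ hψ =>
        hQ.orthogonal _ (s11_sub1.1 hζ) _ (h.s11_sub2.1 hψ) fun e =>
          Set.disjoint_left.1 h.s11_disjoint hψ (e ▸ hζ)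
      have h2 := h.s11_ci (h.s11_CF (φ := muR M W₁ W₂ j - (d : ℂ) • ζ)
        (sub_mem_zspan (mem_zspan_of_mem (pt.muR_mem_T j)) (natCast_smul_mem_zspan _
          (mem_zspan_of_mem (seqIndD_subset_T hζ)))) (sub_eq_zero.2 hdeg))
        (((hi.isClassFunction.smul (muR M W₁ W₂ j 1))).sub
          ((pt.muR_char j).isClassFunction.smul (φ 1)))
      rw [h1, ← hν₂.2 _ hm, map_sub, map_smul, map_smul] at h2
      simp only [ci_sub_left, ci_sub_right, ci_smul_left, ci_smul_right, o φ hφ, o _ hμ, o' φ hφ,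
        o' _ hμ, ci_eq_zero_symm (s11_ci_col fun i => h.s11_orth_eta h.s11_sub2 hν₂ hφ hi i j),
        ci_eq_zero_symm (h.s11_orth_mu (seqIndD_subset_T hφ) hi j), pt.ci_muR, if_true] at h2
      have h3 : ⟪∑ i, etaG W₁ W₂ i j, ν₂ (muR M W₁ W₂ j)⟫ = Nat.card W₁ :=
        mul_left_cancel₀ ((map_ne_zero (starRingEnd ℂ)).2 hi.apply_one_ne_zero)
          (by linear_combination -h2)
      refine (sub_eq_zero.1 (nsq_eq_zero.1 ?_)).symm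
      rw [nsq_sub, h3, hν₂.nsq_eq (mem_zspan_of_mem hμ), pt.nsq_muR,
        nsq_eq_of_ci (r := Nat.card W₁) (by rw [ct.ci_col_col, if_pos rfl]; simp),
        Complex.natCast_re]
      ring
    · obtain ⟨ν₂, hν₂, e₂⟩ := pd.uniform_coherent hj
      refine ⟨ν₂, hν₂.subset fun φ hφ => ?_, by rw [e₂, hc.sign j hj]; simp⟩
      obtain ⟨l, rfl⟩ := (pt.seqIndT_cases (seqIndD_subset_T hφ)).resolve_right
        fun e => hi ⟨φ, hφ, e.1⟩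
      have hl := pt.ne_one_of_muR_mem hφ
      exact ⟨l, hl, (h.s11_mu hl).2.trans hμ1.symm, rfl⟩
  obtain ⟨ν₃, hν₃, -⟩ := hν₂.bridge_sys hν hQ h.s11_sub2.1 h.s11_sub2.2 s11_sub1.1 s11_sub1.2
    h.s11_disjoint (mem_zspan_of_mem hμ) (natCast_smul_mem_zspan d (mem_zspan_of_mem hζ)) hdeg
    (pt.muR_one_ne j) (by rw [h1, e₂, map_smul])
  refine FTtype34_noncoherence h ⟨ν₃, hν₃.subset fun φ hφ => ?_⟩
  rw [h.H0_eq_bot, bot_sup_eq] at hφ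
  obtain ⟨θ, ⟨h2, h3, h4⟩, rfl⟩ := mem_seqIndD.1 hφ
  by_cases h5 : InKer MF[M] θ
  · exact Or.inr (mem_seqIndD.2 ⟨θ, ⟨h2, h3, InKer.sup h2.isCharacter (typeP_Fcore_le_der h.typeP)
      (inf_le_left.trans (typeP_U_le_der h.typeP)) h5 h4⟩, rfl⟩)
  · exact Or.inl (mem_seqIndD.2 ⟨θ, ⟨h2, h5, h4⟩, rfl⟩)

theorem Hyp10.s11_aut (h : Hyp10 M W₁ U W₂) (hζ : ζ ∈ s11S1 M U) (σ : ℂ →+* ℂ) (i : Lin W₁)
    (j : Lin W₂) : ⟪tau0 M (muR M W₁ W₂ 1 - ζ), etaG W₁ W₂ (linAut σ i) (linAut σ j)⟫ =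
      ⟪tau0 M (muR M W₁ W₂ 1 - ζ), etaG W₁ W₂ i j⟫ := by
  have pd := h.s11_pd
  obtain ⟨m, hm⟩ := (h.s11_virt0 hζ).ci_int (pd.cti.eta_virt i j)
  have h1 : ⟪cfAut σ (tau0 M (muR M W₁ W₂ 1 - ζ)), cfAut σ (etaG W₁ W₂ i j)⟫ = _ :=
    ci_map_ringHom σ _ (pd.cti.eta_virt i j)
  have h2 := h.s11_sub_orth (cfAut_seqIndD (der_le M) σ hζ) hζ (linAut σ i) (linAut σ j)
  rw [hm, map_intCast, pd.cti.cfAut_eta, cfAut_dadeL, cfAut_sub, pd.pti.cfAut_muR,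
    linAut_one] at h1
  rw [hm, ← h1, ← sub_eq_zero, ← ci_sub_left, ← map_sub, ← h2]
  congr 2; abel

theorem Hyp10.s11_NC (h : Hyp10 M W₁ U W₂) (hζ : ζ ∈ s11S1 M U) :
    NC (wG W₁ W₂) (tau0 M (muR M W₁ W₂ 1 - ζ)) ≤ Nat.card W₁ := by
  have pd := h.s11_pd
  obtain ⟨ν, hν⟩ := h.s11_coh1
  have hζ' := s11_sub1.2 ζ hζ
  have hi := (h.s11_ref hζ).1
  have hv := h.s11_virt0 hζ
  obtain ⟨φ, hφ, hne⟩ : ∃ φ ∈ s11S1 M U, ⟪tau0 M (muR M W₁ W₂ 1 - ζ), ν φ⟫ ≠ 0 := by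
    by_contra! hz
    have h1 := h.s11_ci (h.s11_bridge0 hζ) (h.s11_sub_CF hζ hζ').1
    rw [h.s11_tau_sub hν hζ hζ', ci_sub_right, hz _ hζ, hz _ hζ', ci_sub_left, ci_sub_right,
      ci_sub_right, ci_eq_zero_symm (h.s11_orth_mu (seqIndD_subset_T hζ) hi 1),
      ci_eq_zero_symm (h.s11_orth_mu (seqIndD_subset_T hζ') hi.conjFun 1), hi.ci_self,
      ci_eq_zero_symm (seqIndD_conj_ortho (der_le M) (le_norm_der M) (mFT_odd M) hζ)] at h1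
    simp at h1
  have hs := hν.isSIrr hφ (h.s11_ref hφ).1
  obtain ⟨m, hm⟩ := hv.ci_int hs.virt
  refine (NC_mono (ψ := tau0 M (muR M W₁ W₂ 1 - ζ) - ⟪tau0 M (muR M W₁ W₂ 1 - ζ), ν φ⟫ • ν φ)
    fun i j e => ?_).trans (pd.cti.NC_le_of_nsq_le (hv.sub (hs.virt.smul_of_int ⟨m, hm⟩)) ?_)
  · rwa [ci_sub_left, ci_smul_left, h.s11_orth_eta s11_sub1 hν hφ (h.s11_ref hφ).1, mul_zero,
      sub_zero] at e
  · rw [nsq_sub_ci_smul hs.ci_self, h.s11_nsq0 hζ, norm_sq_of_eq_int hm]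
    have h1 : m ≠ 0 := fun e => hne (by rw [hm, e, Int.cast_zero])
    have h2 : (1 : ℝ) ≤ (m : ℝ) ^ 2 := by exact_mod_cast (one_le_sq_iff_one_le_abs m).2 (Int.one_le_abs h1)
    linarith

/-- (11.9)(a), (b) -/
theorem Hyp10.s11_row (h : Hyp10 M W₁ U W₂) (hζ : ζ ∈ s11S1 M U) :
    EqProjEta W₁ W₂ (tau0 M (muR M W₁ W₂ 1 - ζ)) (∑ j, etaG W₁ W₂ 1 j) ∧
      Nat.card W₂ < Nat.card W₁ := by
  classical
  have pd := h.s11_pd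
  have ct := pd.cti
  have hb := h.s11_bridge0 hζ
  have hNC := h.s11_NC hζ
  have haut := h.s11_aut hζ
  have hno := FTtype34_not_ortho_cycTIiso h hζ
  have hex := ct.exchange (isClassFunction_dadeL _ _ _ (muR M W₁ W₂ 1 - ζ))
    (pd.dade_vanish' hb.1 (hb.2.mono (pd.AK.trans fun x hx => hx.1)))
  have h11 : ⟪tau0 M (muR M W₁ W₂ 1 - ζ), etaG W₁ W₂ 1 1⟫ = 1 := by
    rw [etaG, ct.eta_one, dadeL_ci_one pd.dade hb.1 (hb.2.mono pd.subset), ci_sub_left,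
      seqIndD_ortho_one (der_le M) hζ, ← pd.pti.mu2_one_one, pd.pti.ci_muR_mu2]
    simp
  set φ := tau0 M (muR M W₁ W₂ 1 - ζ)
  obtain ⟨i₁, hi₁, -⟩ := ct.exists_ne_ne₁ 1 1
  obtain ⟨j₁, hj₁, -⟩ := ct.exists_ne_ne₂ 1 1
  have hA : ∀ i, i ≠ 1 → ⟪φ, etaG W₁ W₂ i 1⟫ = ⟪φ, etaG W₁ W₂ i₁ 1⟫ := fun i hi => by
    obtain ⟨m, hm, rfl⟩ := exists_linAut_of_prime h.hyp9.q_prime hi₁ hi
    obtain ⟨σ, h1, h2⟩ := exists_linAut_pow ct.coprime hm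
    rw [← haut σ i₁ 1, h1, h2]
  have hB : ∀ j, j ≠ 1 → ⟪φ, etaG W₁ W₂ 1 j⟫ = ⟪φ, etaG W₁ W₂ 1 j₁⟫ := fun j hj => by
    obtain ⟨m, hm, rfl⟩ := exists_linAut_of_prime (FTtype345_core_prime h) hj₁ hj
    obtain ⟨σ, h1, h2⟩ := exists_linAut_pow ct.coprime.symm hm
    rw [← haut σ 1 j₁, h1, h2]
  have hC : ∀ i j, ⟪φ, etaG W₁ W₂ i j⟫ = ⟪φ, etaG W₁ W₂ i 1⟫ + ⟪φ, etaG W₁ W₂ 1 j⟫ - 1 :=
    fun i j => by linear_combination hex i 1 j 1 - h11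
  have hp := ct.two_lt₂
  have hq := ct.two_lt₁
  set A := ⟪φ, etaG W₁ W₂ i₁ 1⟫
  set B := ⟪φ, etaG W₁ W₂ 1 j₁⟫
  have e1 : A + B - 1 = 0 := by
    by_contra hne
    have h1 := (le_NC_of_subset ((Finset.univ.erase 1) ×ˢ (Finset.univ.erase 1)) fun p hp => by
      rw [Finset.mem_product] at hp
      rwa [hC, hA _ (Finset.ne_of_mem_erase hp.1), hB _ (Finset.ne_of_mem_erase hp.2)]).trans hNC
    rw [Finset.card_product, Finset.card_erase_of_mem (Finset.mem_univ _),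
      Finset.card_erase_of_mem (Finset.mem_univ _), Finset.card_univ, Finset.card_univ,
      ct.card_Lin₁, ct.card_Lin₂] at h1
    have h2 := Nat.mul_le_mul_left (Nat.card W₁ - 1) (show 2 ≤ Nat.card W₂ - 1 by omega)
    omega
  have e2 : B ≠ 0 := fun e => hno fun i j => by
    have hA1 : A = 1 := by linear_combination e1 - e
    rw [ct.ci_col_eta, hC]
    by_cases hi : i = 1 <;> by_cases hj : j = 1
    · simp [hi, hj, h11]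
    · simp [hi, h11, hB j hj, e, Ne.symm hj]
    · simp [hj, h11, hA i hi, hA1]
    · simp [hA i hi, hB j hj, e, hA1, Ne.symm hj]
  have e3 : A = 0 := by
    by_contra hne
    have h1 := (le_NC_of_subset (insert (1, j₁) (Finset.univ ×ˢ {1})) fun p hp => by
      rcases Finset.mem_insert.1 hp with rfl | hp
      · exact e2
      · rw [Finset.mem_singleton.1 (Finset.mem_product.1 hp).2]
        by_cases hi : p.1 = 1
        · rw [hi, h11]; exact one_ne_zero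
        · rwa [hA _ hi]).trans hNC
    rw [Finset.card_insert_of_notMem (by simpa using hj₁.symm), Finset.card_product, Finset.card_univ,
      ct.card_Lin₁, Finset.card_singleton] at h1
    omega
  have hB1 : B = 1 := by linear_combination e1 - e3
  have e4 : EqProjEta W₁ W₂ φ (∑ j, etaG W₁ W₂ 1 j) := fun i j => by
    rw [ct.ci_row_eta, hC]
    by_cases hi : i = 1 <;> by_cases hj : j = 1
    · simp [hi, hj, h11]
    · simp [hi, h11, hB j hj, hB1]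
    · simp [hj, h11, hA i hi, e3, Ne.symm hi]
    · simp [hA i hi, hB j hj, e3, hB1, Ne.symm hi]
  refine ⟨e4, lt_of_le_of_ne ?_ ct.card_ne.symm⟩
  have h1 := (le_NC_of_subset ({1} ×ˢ Finset.univ) fun p hp => by
    rw [e4, ct.ci_row_eta, if_pos (Finset.mem_singleton.1 (Finset.mem_product.1 hp).1).symm]
    exact one_ne_zero).trans hNC
  rwa [Finset.card_product, Finset.card_univ, ct.card_Lin₂, Finset.card_singleton, one_mul] at h1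

theorem Hyp10.s11_nonempty (h : Hyp10 M W₁ U W₂) : (s11S1 M U).Nonempty :=
  seqIndD_nonempty le_rfl (le_norm_self le_rfl) ((der_le M).trans h.hyp9.s11_norm_HC)
    (lt_of_le_of_ne h.hyp9.s11_HC_le fun e => by
      have h1 := h.hyp9.s11_one_lt_u
      rw [← h.hyp9.relIndex_H_sup inf_le_left, e, relIndex_self] at h1
      exact lt_irrefl _ h1)

/-- (11.9)(c) -/
theorem Hyp10.s11_Galois (h : Hyp10 M W₁ U W₂) : TypePGalois M U := by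
  by_contra hg
  have h9 := h.hyp9
  have pd := h.s11_pd
  have pt := pd.pti
  have ct := pd.cti
  obtain ⟨D⟩ := typeP_Galois_Pn h9 hg
  obtain ⟨ha1, ha2, ⟨k, hk⟩, -⟩ := nonGal_facts h9 D
  obtain ⟨ζ, hζ⟩ := h.s11_nonempty
  obtain ⟨hrow, hlt⟩ := h.s11_row hζ
  have hp := ct.two_lt₂
  obtain ⟨hd, hle⟩ := nonGalois_count h9 D
  have hpos : 0 < (pP M U - 1) * Nat.card U :=
    Nat.mul_pos (by rw [h.pP_eq]; omega) (card_pos' _)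
  obtain ⟨⟨φ, hφ, hi, hφ1⟩⟩ := (Nat.card_pos_iff.1 ((Nat.div_pos (Nat.le_of_dvd hpos hd)
    (Nat.pos_of_dvd_of_pos hd hpos)).trans_le hle)).1
  rw [h.H0_eq_bot, bot_sup_eq, ← (FTtype34_facts h).2.2.2] at hφ
  obtain ⟨j, hj, -⟩ := ct.exists_ne_ne₂ 1 1
  obtain ⟨hμ, hμ1⟩ := h.s11_mu hj
  obtain ⟨ν, hν⟩ := h.s11_coh2
  obtain ⟨Q, hQ⟩ := h.s11_scoh
  have h1 := h.s11_ci (h.s11_bridge0 hζ) ((pt.muR_char j).isClassFunction.sub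
    (hi.isClassFunction.smul (k : ℂ)))
  have o' : ∀ ψ ∈ s11S2 M U, ⟪ζ, ψ⟫ = 0 := fun ψ hψ =>
    hQ.orthogonal _ (s11_sub1.1 hζ) _ (h.s11_sub2.1 hψ) fun e =>
      Set.disjoint_left.1 h.s11_disjoint hψ (e ▸ hζ)
  rw [← hν.eq (sub_mem_zspan (mem_zspan_of_mem hμ) (natCast_smul_mem_zspan k
    (mem_zspan_of_mem hφ))) (by
      rw [Pi.sub_apply, Pi.smul_apply, hμ1, hφ1, ← h.pU_eq, hk, smul_eq_mul]; push_cast; ring),
    map_sub ν, map_smul] at h1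
  simp only [ci_sub_left, ci_sub_right, ci_smul_right, o' φ hφ, o' _ hμ, pt.ci_muR, if_neg hj.symm,
    ci_eq_zero_symm (h.s11_orth_mu (seqIndD_subset_T hφ) hi 1), map_natCast] at h1
  obtain ⟨m, hm⟩ := (h.s11_virt0 hζ).ci_int (hν.virt_mem hφ)
  have hcol : ∀ l, ⟪tau0 M (muR M W₁ W₂ 1 - ζ), ∑ i, etaG W₁ W₂ i l⟫ = 1 := fun l => by
    rw [ci_sum_right, Finset.sum_congr rfl fun i _ => (hrow i l).trans (ct.ci_row_eta 1 i l)]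
    simp
  have h2 : (k : ℤ) * m = dl M W₁ W₂ j ∨ (k : ℤ) * m = -dl M W₁ W₂ j := by
    rcases FTtypeP_coherent_TIred h.max h.typeP (h.core_eq.symm ▸ h.s11_sub2) hν hφ hi hμ with
      e | ⟨e, -⟩
    · rw [e, ci_smul_right, hcol, conj_dl, hm] at h1
      exact Or.inl (by exact_mod_cast (show (k : ℂ) * m = dl M W₁ W₂ j by linear_combination -h1))
    · rw [e, ci_neg_right, ci_smul_right, hcol, conj_dl, hm] at h1
      exact Or.inr (by exact_mod_cast (show (k : ℂ) * m = -dl M W₁ W₂ j by linear_combination -h1))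
  have h3 : k = 1 := by
    have h4 : IsUnit ((k : ℤ) * m) := by
      rcases h2 with e | e <;> rcases dl_cases M W₁ W₂ j with e' | e' <;> rw [e, e'] <;> simp
    have h5 := Int.isUnit_iff.1 (isUnit_of_mul_isUnit_left h4)
    omega
  rw [h3, mul_one] at hk
  have h4 := Nat.le_of_dvd (by omega) h9.q_dvd
  have h5 := Nat.le_of_dvd (by rw [h.pP_eq]; omega) ha2
  have h6 := h.pP_eq
  omega

/-- (11.9) -/
theorem FTtype34_structure (h : Hyp10 M W₁ U W₂) :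
    (∀ ζ ∈ seqIndD ⁅M, M⁆ M ⁅M, M⁆ (MF[M] ⊔ (U ⊓ C[MF[M]])),
      EqProjEta W₁ W₂ (tau0 M (muR M W₁ W₂ 1 - ζ)) (∑ j, etaG W₁ W₂ 1 j)) ∧
    Nat.card W₂ < Nat.card W₁ ∧ FTtype M = 3 ∧ TypePGalois M U := by
  obtain ⟨ζ, hζ⟩ := h.s11_nonempty
  refine ⟨fun ζ hζ => (h.s11_row hζ).1, (h.s11_row hζ).2, ?_, h.s11_Galois⟩
  have h1 := (typeP_Galois_P h.hyp9 h.s11_Galois).2.1
  rw [h.pC_eq, (FTtype34_facts h).2.2.2] at h1
  obtain ⟨g, hg⟩ := PG.isCyclic_iff_exists.1 h1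
  obtain ⟨x, hx, hxU, rfl⟩ := mem_im.1 (hg ▸ mem_zpowers g)
  have h2 : zpowers x = U := PG.eq_of_sup_commutator_eq_of_nilpotent h.typeP.U_nilpotent
    (zpowers_le_of_mem hxU) (by
      have h3 := (im_le_im_iff (f := coset ⁅U, U⁆) (le_norm_der U) (zpowers_le_of_mem hx)).1
        (by rw [im_zpowers hx, hg])
      rwa [kr_coset] at h3)
  have h3 := h.gt2
  have h4 := (FTtype_range M).2
  have h5 := FTtype5_exclusion h.max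
  by_contra h6
  exact (compl_of_typeIV h.max h.typeP (by omega)).2.1 (h2 ▸ PG.isMulCommutative_zpowers x)

end Cfsg.Agent.PF
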