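import Cfsg.Agent.PF.S10

set_option autoImplicit false
set_option linter.unusedSectionVars false
set_option linter.unusedVariables false

namespace Cfsg.Agent.PF

open Subgroup Cfsg.Agent.GT Cfsg.Agent.BG Cfsg.Agent.Char

universe u v w

/-! Peterfalvi (11.3)-(11.7) (types III and IV). Here `C = U ⊓ C[H]`,
`S(X) = seqIndD M' M M' X`, `p = Nat.card W₂`, `q = Nat.card W₁`. -/

theorem s11_arith {p q : ℕ} (hp : 2 < p) (hq : 2 < q) (hne : p ≠ q) : 4 * q ^ 2 + 1 < p ^ q := by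
  rcases (show q = 3 ∨ 4 ≤ q by omega) with rfl | h4
  · calc 4 * 3 ^ 2 + 1 < 4 ^ 3 := by norm_num
      _ ≤ p ^ 3 := Nat.pow_le_pow_left (by omega) 3
  · refine lt_of_lt_of_le ?_ (Nat.pow_le_pow_left (show 3 ≤ p by omega) q)
    induction q, h4 using Nat.le_induction with
    | base => norm_num
    | succ n hn ih =>
      have h1 : 4 * n ^ 2 + 1 < 3 ^ n := by
        clear ih hne hq
        induction n, hn using Nat.le_induction with
        | base => norm_num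
        | succ m hm ih => rw [pow_succ 3]; nlinarith
      rw [pow_succ 3]; nlinarith

open scoped commutatorElement in
/-- the commutator form of a `p`-group -/
theorem s11_form {G : Type u} [Group G] [Finite G] {H U : Subgroup G} {p : ℕ} [hp : Fact p.Prime]
    (hH : IsPGroup p H) (hne : ⁅H, H⁆ ≠ ⊥) (hU : U ≤ N[H]) (hc : U ≤ C[⁅H, H⁆]) {V : Type v}
    [AddCommGroup V] [Module (ZMod p) V] (f : H →* Multiplicative V) (hs : Function.Surjective f)
    (hk : ∀ x : H, f x = 1 → (x : G) ∈ ⁅H, H⁆) :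
    ∃ b : V →ₗ[ZMod p] V →ₗ[ZMod p] ZMod p, b ≠ 0 ∧ (∀ v, b v v = 0) ∧ (∀ v w, b v w = -b w v) ∧
      ∀ x ∈ U, ∀ a a' c c' : H, (a' : G) = x * a * x⁻¹ → (c' : G) = x * c * x⁻¹ →
        b (f a').toAdd (f c').toAdd = b (f a).toAdd (f c).toAdd := by
  obtain ⟨Q, hQ1, hQ2, hQ3, hQ4⟩ := PG.exists_maximal_of_lt (hH.to_le (der_le H))
    (PG.commutator_lt_of_nilpotent (PG.isNilpotent_of_isPGroup hH) (der_le H) (le_norm_der H) hne)
  obtain ⟨S⟩ := exists_secLin (p := p) (n := 1) hQ2 (le_norm_der H)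
    (le_norm_of_commutator_le_of_le hQ2 hQ1) hQ3 ((commutator_mono le_rfl (der_le H)).trans hQ1)
    (fun x hx => PG.pow_mem_of_card_eq_mul hQ2 hQ3 hQ4 hx)
    (by rw [pow_one]; exact PG.relIndex_eq_of_card_eq_mul hQ2 hQ4)
  have mem : ∀ a c : H, ⁅(a : G), (c : G)⁆ ∈ ⁅H, H⁆ := fun a c =>
    commutator_mem_commutator a.2 c.2
  let B : H → H → ZMod p := fun a c => S.f ⁅(a : G), (c : G)⁆ 0
  have hswap : ∀ a c, B a c = -B c a := fun a c => by
    simp only [B]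
    rw [← commutatorElement_inv (c : G) a, S.f_inv (mem c a)]; rfl
  have hmul : ∀ a a' c, B (a * a') c = B a c + B a' c := fun a a' c => by
    have h1 := conj_mem_of_le_norm (le_norm_der H) a.2 (mem a' c)
    have h2 : S.f (a * ⁅(a' : G), (c : G)⁆ * (a : G)⁻¹) = S.f ⁅(a' : G), (c : G)⁆ :=
      (S.f_eq_iff h1 (mem a' c)).2 (PG.commutator_mem_comm.1
        (hQ1 (commutator_mem_commutator (mem a' c) a.2)))
    simp only [B, Subgroup.coe_mul]
    rw [commutatorElement_mul_left_eq_conj_mul, S.f_mul _ h1 _ (mem a c), h2, add_comm]; rfl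
  have hcongr : ∀ a a' c, f a = f a' → B a c = B a' c := fun a a' c e => by
    have h1 : ((a⁻¹ * a' : H) : G) ∈ ⁅H, H⁆ := hk _ (by rw [map_mul, map_inv, e, inv_mul_cancel])
    have h2 : B (a⁻¹ * a') c = 0 := by
      simp only [B]
      rw [(S.f_eq_zero _ (mem _ c)).2 (hQ1 (commutator_mem_commutator h1 c.2))]; rfl
    have h3 := hmul a (a⁻¹ * a') c
    rw [mul_inv_cancel_left, h2, add_zero] at h3
    exact h3.symm
  choose s hs' using fun v : V => hs (Multiplicative.ofAdd v)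
  have hadd : ∀ v v' c, B (s (v + v')) c = B (s v) c + B (s v') c := fun v v' c => by
    rw [← hmul]; exact hcongr _ _ _ (by simp only [map_mul, hs', ofAdd_add])
  have hsmul : ∀ (k : ZMod p) v c, B (s (k • v)) c = k • B (s v) c := fun k v c =>
    ZMod.map_smul (AddMonoidHom.mk' (fun v => B (s v) c) fun v v' => hadd v v' c) k v
  have key : ∀ a c : H, B (s (f a).toAdd) (s (f c).toAdd) = B a c := fun a c => by
    rw [hcongr (s (f a).toAdd) a _ (by rw [hs', ofAdd_toAdd]), hswap a,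
      hcongr (s (f c).toAdd) c _ (by rw [hs', ofAdd_toAdd]), ← hswap]
  refine ⟨LinearMap.mk₂ (ZMod p) (fun v w => B (s v) (s w)) (fun v v' w => hadd v v' _)
    (fun k v w => hsmul k v _)
    (fun v w w' => by rw [hswap, hadd, neg_add, ← hswap, ← hswap])
    (fun k v w => by rw [hswap, hsmul, ← smul_neg, ← hswap]), fun e => ?_, fun v => ?_,
    fun v w => hswap _ _, fun x hx a a' c c' ha hc' => ?_⟩
  · have h1 : ⁅H, H⁆ ≤ Q := commutator_le.2 fun a ha c hc' => by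
      have h2 : B ⟨a, ha⟩ ⟨c, hc'⟩ = 0 := by
        rw [← key]; exact LinearMap.congr_fun₂ e _ _
      exact (S.f_eq_zero _ (mem ⟨a, ha⟩ ⟨c, hc'⟩)).1 (funext fun i => by
        rw [Subsingleton.elim i 0]; exact h2)
    exact (PG.lt_of_card_eq_mul hp.out hQ2 hQ4).not_ge h1
  · simp only [LinearMap.mk₂_apply, B, commutatorElement_self]
    rw [S.f_one]; rfl
  · simp only [LinearMap.mk₂_apply]
    rw [key, key]
    simp only [B]
    have h1 : ⁅(a' : G), (c' : G)⁆ = x * ⁅(a : G), (c : G)⁆ * x⁻¹ := by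
      rw [ha, hc', commutatorElement_def, commutatorElement_def]; group
    rw [h1, ← hc hx _ (mem a c), mul_inv_cancel_right]

/-- an antisymmetric form in odd dimension and odd characteristic is degenerate -/
theorem s11_degenerate {p n : ℕ} [hp : Fact p.Prime] (hp2 : p ≠ 2) (hn : Odd n)
    (b : (Fin n → ZMod p) →ₗ[ZMod p] (Fin n → ZMod p) →ₗ[ZMod p] ZMod p)
    (hb : ∀ v w, b v w = -b w v) : LinearMap.ker b ≠ ⊥ := by
  intro e
  have h1 := (LinearMap.separatingLeft_iff_det_ne_zero (Pi.basisFun (ZMod p) (Fin n))).1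
    (LinearMap.separatingLeft_iff_ker_eq_bot.2 e)
  set A := LinearMap.toMatrix₂ (Pi.basisFun (ZMod p) (Fin n)) (Pi.basisFun (ZMod p) (Fin n)) b
  have h2 : A.transpose = -A := by
    ext i j
    simp only [A, Matrix.transpose_apply, Matrix.neg_apply, LinearMap.toMatrix₂_apply]
    exact hb _ _
  have h3 := congrArg Matrix.det h2
  rw [Matrix.det_transpose, Matrix.det_neg, Fintype.card_fin, hn.neg_one_pow, neg_one_mul,
    eq_neg_iff_add_eq_zero, ← two_mul, mul_eq_zero] at h3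
  refine h3.elim (fun h4 => hp2 ?_) h1
  exact (Nat.prime_dvd_prime_iff_eq hp.out Nat.prime_two).1
    ((ZMod.natCast_eq_zero_iff 2 p).1 (by exact_mod_cast h4))

variable {G : Type u} [Group G] [Fintype G] [MFT G] {M U W₁ W₂ H₁ : Subgroup G} {ζ : M → ℂ}

theorem Hyp10.hyp9 (h : Hyp10 M W₁ U W₂) : Hyp9 M W₁ U W₂ := hyp9_of_typeP h.max h.typeP

theorem Hyp10.pP_eq (h : Hyp10 M W₁ U W₂) : pP M U = Nat.card W₂ :=
  h.hyp9.p_eq (FTtype345_core_prime h)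

theorem Hyp10.core_eq (h : Hyp10 M W₁ U W₂) : FTcore M = ⁅M, M⁆ := FTcore_type_gt2 h.gt2

theorem Hyp10.s11_scoh (h : Hyp10 M W₁ U W₂) :
    ∃ Q, IsCoherenceSystem (seqIndD ⁅M, M⁆ M ⁅M, M⁆ ⊥) (tau0 M) Q := by
  obtain ⟨Q, hQ, -⟩ := FTtypeP_subcoherent h.max h.typeP
  exact ⟨Q, h.core_eq ▸ hQ⟩

theorem Hyp9.s11_normC (h : Hyp9 M W₁ U W₂) : U ⊔ W₁ ≤ N[U ⊓ C[MF[M]]] :=
  le_norm_inf h.UW_norm_U (le_norm_cent (h.UW_le.trans h.norm_H))

theorem Hyp9.s11_C_le (h : Hyp9 M W₁ U W₂) : U ⊓ C[MF[M]] ≤ pC M U := fun x hx =>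
  h.mem_C.2 ⟨hx.1, fun y hy => by
    rw [← hx.2 y hy, mul_inv_cancel_right, mul_inv_cancel]; exact one_mem _⟩

theorem Hyp9.s11_norm_H0C (h : Hyp9 M W₁ U W₂) : M ≤ N[pH0 M U ⊔ (U ⊓ C[MF[M]])] :=
  h.norm_H0_sup h.s11_C_le h.s11_normC

theorem Hyp9.s11_norm_HC (h : Hyp9 M W₁ U W₂) : M ≤ N[MF[M] ⊔ (U ⊓ C[MF[M]])] :=
  h.norm_H_sup h.s11_normC

theorem Hyp9.s11_HC_le (h : Hyp9 M W₁ U W₂) : MF[M] ⊔ (U ⊓ C[MF[M]]) ≤ ⁅M, M⁆ :=
  h.sup_HU ▸ sup_le_sup_left inf_le_left _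

theorem Hyp9.s11_one_lt_u (h : Hyp9 M W₁ U W₂) : 1 < (U ⊓ C[MF[M]]).relIndex U :=
  one_lt_relIndex fun e => typeP_not_cent h.typeP h.U_ne (e.trans inf_le_right)

theorem Hyp9.s11_relIndex_HC (h : Hyp9 M W₁ U W₂) :
    (MF[M] ⊔ (U ⊓ C[MF[M]])).relIndex M = (U ⊓ C[MF[M]]).relIndex U * Nat.card W₁ := by
  rw [← relIndex_mul_relIndex _ _ _ h.s11_HC_le (der_le M), h.relIndex_H_sup inf_le_left,
    (typeP_sdprod h.typeP).relIndex]

theorem Hyp9.s11_relIndex_H0C (h : Hyp9 M W₁ U W₂) :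
    (pH0 M U ⊔ (U ⊓ C[MF[M]])).relIndex (MF[M] ⊔ (U ⊓ C[MF[M]])) = pP M U ^ Nat.card W₁ := by
  have h1 := card_mul_relIndex (show pH0 M U ⊔ (U ⊓ C[MF[M]]) ≤ MF[M] ⊔ (U ⊓ C[MF[M]]) from
    sup_le_sup_right h.H0_le _)
  rw [h.card_sup h.H0_le inf_le_left (inf_le_left.trans (h.U_le.trans h.norm_H0)),
    h.card_sup le_rfl inf_le_left (inf_le_left.trans (h.U_le.trans h.norm_H)),
    ← card_mul_relIndex h.H0_le, h.relIndex_H, mul_right_comm] at h1
  exact Nat.eq_of_mul_eq_mul_left (card_pos' _) (Nat.eq_of_mul_eq_mul_right (card_pos' _) h1)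

/-- (11.3) -/
theorem FTtype34_noncoherence (h : Hyp10 M W₁ U W₂) :
    ¬ Coh (seqIndD ⁅M, M⁆ M ⁅M, M⁆ (pH0 M U ⊔ (U ⊓ C[MF[M]]))) (tau0 M) := by
  intro hc
  have h9 := h.hyp9
  obtain ⟨Q, hQ⟩ := h.s11_scoh
  have hcti := typeP_cycTI h.typeP
  refine FTtype345_noncoherence h.max h.gt2 (bounded_seqIndD_coherence (der_le M) (le_norm_der M)
    (sub_mmax_sol h.max (der_le M)) hQ (norm_bot (G := G) ▸ le_top) h9.s11_norm_HC h9.s11_norm_H0C bot_le
    (sup_le_sup_right h9.H0_le _) h9.s11_HC_le (nilpotent_im ?_) hc ?_)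
  · rw [(typeP_Fitting h.typeP).sup_eq]; exact fittingOf_nilpotent M
  · rw [h9.s11_relIndex_H0C, h.pP_eq, (typeP_sdprod h.typeP).relIndex]
    exact s11_arith hcti.two_lt₂ hcti.two_lt₁ hcti.card_ne.symm

/-- (11.4) -/
theorem bounded_proper_coherent (h : Hyp10 M W₁ U W₂) (hn : M ≤ N[H₁]) (hlt : H₁ < ⁅M, M⁆)
    (hc : Coh (seqIndD ⁅M, M⁆ M ⁅M, M⁆ H₁) (tau0 M)) :
    H₁.relIndex ⁅M, M⁆ ≤ 2 * Nat.card W₁ * (U ⊓ C[MF[M]]).relIndex U + 1 := by
  have h9 := h.hyp9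
  obtain ⟨Q, hQ⟩ := h.s11_scoh
  have nH := h9.H_le.trans h9.s11_norm_H0C
  have nC : U ⊓ C[MF[M]] ≤ N[pH0 M U ⊔ (U ⊓ C[MF[M]])] := le_norm_self le_sup_right
  have hCH : ⁅U ⊓ C[MF[M]], MF[M]⁆ = ⊥ := le_cent_iff_commutator_eq_bot.1 inf_le_right
  have h1 := coherent_seqIndD_bound (der_le M) (le_norm_der M)
    (sub_mmax_sol h.max (der_le M)) hQ hn h9.s11_norm_H0C h9.s11_norm_HC h9.s11_norm_HC hlt
    (sup_le_sup_right h9.H0_le _) le_rfl h9.s11_HC_le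
    (PG.commutator_sup_le nH nC
      (PG.commutator_sup_le' nH nC (h9.der_le_H0.trans le_sup_left)
        (by rw [commutator_comm, hCH]; exact bot_le))
      (PG.commutator_sup_le' nH nC (by rw [hCH]; exact bot_le)
        ((der_le _).trans le_sup_right))) hc (FTtype34_noncoherence h)
  rw [relIndex_self, h9.s11_relIndex_HC, mul_one] at h1
  have h2 : H₁.relIndex ⁅M, M⁆ - 1 ≤ 2 * Nat.card W₁ * (U ⊓ C[MF[M]]).relIndex U :=
    (Nat.pow_le_pow_iff_left two_ne_zero).1 (h1.trans_eq (by ring))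
  omega

/-- (11.5) -/
theorem FTtype34_der2 (h : Hyp10 M W₁ U W₂) :
    ⁅⁅M, M⁆, ⁅M, M⁆⁆ = MF[M] ⊔ (U ⊓ C[MF[M]]) := by
  have h9 := h.hyp9
  obtain ⟨Q, hQ⟩ := h.s11_scoh
  have hle : ⁅⁅M, M⁆, ⁅M, M⁆⁆ ≤ MF[M] ⊔ (U ⊓ C[MF[M]]) := by
    rw [(typeP_Fitting h.typeP).sup_eq]; exact typeP_der2_le_Fitting h.typeP
  by_contra hne
  have hn : M ≤ N[⁅⁅M, M⁆, ⁅M, M⁆⁆] := le_norm_commutator (le_norm_der M) (le_norm_der M)
  have hlt : ¬ MF[M] ⊔ (U ⊓ C[MF[M]]) ≤ ⁅⁅M, M⁆, ⁅M, M⁆⁆ := fun e => hne (le_antisymm hle e)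
  have h1 := bounded_proper_coherent h hn
    (lt_of_le_of_ne (der_le _) fun e => hlt (e.symm ▸ h9.s11_HC_le))
    (hQ.cohProp.coh_der (der_le M) le_rfl)
  have hreg := regular_quo_of_cent (typeP_sdprod h.typeP) (typeP_coprime h.typeP) hn
    fun x hx hx1 => (h.typeP.W₂_centralizer x hx hx1).le.trans (typeP_W₂_le_der2 h.typeP)
  have h2 := two_mul_add_one_le (mFT_odd W₁) ((mFT_odd _).of_dvd_nat (relIndex_dvd_card' _ _))
    (one_lt_relIndex hlt) (card_dvd_pred_of_regular (h9.W₁_le.trans hn)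
      (h9.W₁_le.trans h9.s11_norm_HC) ((h9.s11_HC_le.trans (der_le M)).trans hn)
      fun x hx hx1 y hy => hreg x hx hx1 y (h9.s11_HC_le hy))
  rw [← relIndex_mul_relIndex _ _ _ hle h9.s11_HC_le, h9.relIndex_H_sup inf_le_left] at h1
  have h3 := h9.s11_one_lt_u
  nlinarith

/-- (11.6) -/
theorem FTtype34_facts (h : Hyp10 M W₁ U W₂) :
    IsPGroup (Nat.card W₂) MF[M] ∧ U ≤ C[pH0 M U] ∧ pH0 M U = ⁅MF[M], MF[M]⁆ ∧
    U ⊓ C[MF[M]] = ⁅U, U⁆ := by
  have h9 := h.hyp9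
  have hp := FTtype345_core_prime h
  have e0 : MF[M] ⊓ C[U] = pH0 M U := by
    refine eq_of_le_of_card_ge h9.cent_le_H0 (le_of_eq ?_)
    have h1 := card_mul_relIndex h9.H0_le
    rw [h9.relIndex_H, h.pP_eq, (typeIII_IV_core h9 h.not2).2.2, mul_comm] at h1
    exact Nat.eq_of_mul_eq_mul_left (pow_pos hp.pos _) h1
  have nUH : U ≤ N[MF[M]] := h9.U_le.trans h9.norm_H
  have hU' := typeP_der_cent h.typeP
  set N₀ := ⁅MF[M], MF[M]⁆ ⊔ ⁅MF[M], U⁆ with hN₀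
  have hN₀H : N₀ ≤ MF[M] := sup_le (der_le _) (commutator_le_of_le_norm_left nUH)
  have nHN : MF[M] ≤ N[N₀] := le_norm_of_commutator_le_of_le hN₀H le_sup_left
  have nUN : U ≤ N[N₀] := le_norm_of_commutator_le_of_le hN₀H le_sup_right
  have nH : MF[M] ≤ N[N₀ ⊔ ⁅U, U⁆] := le_norm_sup nHN (le_norm_of_cent (le_cent_symm hU'))
  have nU : U ≤ N[N₀ ⊔ ⁅U, U⁆] := le_norm_sup nUN (le_norm_der U)
  have hd : MF[M] ⊔ (U ⊓ C[MF[M]]) ≤ N₀ ⊔ ⁅U, U⁆ := by
    rw [← FTtype34_der2 h, ← h9.sup_HU]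
    exact PG.commutator_sup_le nH nU
      (PG.commutator_sup_le' nH nU (le_sup_left.trans le_sup_left)
        (le_sup_right.trans le_sup_left))
      (PG.commutator_sup_le' nH nU (by rw [commutator_comm]; exact le_sup_right.trans le_sup_left)
        le_sup_right)
  have e1 : N₀ = MF[M] := by
    refine le_antisymm hN₀H ?_
    have h1 : MF[M] ≤ (N₀ ⊔ ⁅U, U⁆) ⊓ MF[M] := le_inf (le_sup_left.trans hd) le_rfl
    rw [dedekind (Or.inr ((der_le U).trans nUN)) hN₀H] at h1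
    refine h1.trans (sup_le le_rfl ?_)
    exact (inf_le_inf_right _ (der_le U)).trans (by rw [inf_comm, h9.inf_HU]; exact bot_le)
  have e2 : pH0 M U = ⁅MF[M], MF[M]⁆ := by
    refine le_antisymm ?_ h9.der_le_H0
    have nH' : MF[M] ≤ N[⁅MF[M], MF[M]⁆] := le_norm_der _
    have nU' : U ≤ N[⁅MF[M], MF[M]⁆] := le_norm_commutator nUH nUH
    have h1 := coprime_comm_commutator_inf_cent ((comm_quo_iff nH').2 le_rfl)
      (im_norm (f := coset ⁅MF[M], MF[M]⁆) nUH) (coprime_im (typeP_coprime_U h.typeP))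
    have h2 : quo MF[M] ⁅MF[M], MF[M]⁆ = ⁅quo MF[M] ⁅MF[M], MF[M]⁆, quo U ⁅MF[M], MF[M]⁆⁆ := by
      rw [← im_commutator nH' nU']
      refine Eq.trans ?_ (quo_self_sup ((commutator_le_of_le_norm_left nUH).trans nH'))
      rw [← hN₀, e1]
    rw [← h2] at h1
    rw [← e0, ← quo_eq_bot_iff (inf_le_left.trans nH'), eq_bot_iff, ← h1]
    exact im_inf_cent_le
  refine ⟨?_, e0 ▸ le_cent_symm inf_le_right, e2, le_antisymm ?_ (le_inf (der_le U) hU')⟩
  · have h1 := isPi_of_nil_of_der (π := {pP M U}) (fittingHallOf_nilpotent M) (e2 ▸ h9.elem.2.2.2)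
    rw [h.pP_eq] at h1
    exact (isPiSubgroup_single_iff hp).1 h1
  · have h1 : U ⊓ C[MF[M]] ≤ (MF[M] ⊔ ⁅U, U⁆) ⊓ U :=
      le_inf (le_sup_right.trans (hd.trans (sup_le_sup_right hN₀H _))) inf_le_left
    rwa [dedekind' (Or.inr ((der_le U).trans nUH)) (der_le U), h9.inf_HU, bot_sup_eq] at h1

theorem Hyp10.H0_eq_bot (h : Hyp10 M W₁ U W₂) : pH0 M U = ⊥ := by
  classical
  have h9 := h.hyp9
  obtain ⟨hH, hc, e0, -⟩ := FTtype34_facts h
  rw [← h.pP_eq] at hH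
  have : Fact (pP M U).Prime := ⟨h9.p_prime⟩
  have nU : U ≤ N[MF[M]] := h9.U_le.trans h9.norm_H
  by_contra hne
  by_cases hg : TypePGalois M U
  · obtain ⟨S⟩ := h9.secLin
    obtain ⟨b, hb0, -, hb1, hb2⟩ := s11_form hH (e0 ▸ hne) nU (e0 ▸ hc) S.hom
      (fun v => let ⟨x, hx, e⟩ := S.f_surj v.toAdd
        ⟨⟨x, hx⟩, congrArg Multiplicative.ofAdd e⟩)
      fun x hx => e0 ▸ (S.f_eq_zero _ x.2).1 (congrArg Multiplicative.toAdd hx)
    have hinv : S.Inv U (LinearMap.ker b) := fun g hg v hv => by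
      obtain ⟨a, ha, rfl⟩ := S.f_surj v
      refine LinearMap.ext fun w => ?_
      obtain ⟨c, hc', rfl⟩ := S.f_surj w
      have h1 := hb2 g hg ⟨a, ha⟩ ⟨_, conj_mem_of_le_norm nU hg ha⟩
        ⟨_, conj_mem_of_le_norm' nU hg hc'⟩ ⟨c, hc'⟩ rfl (by simp [mul_assoc])
      rw [← S.conj g (h9.U_le hg) a ha]
      refine h1.trans ?_
      change b (S.f a) _ = _
      rw [LinearMap.mem_ker.1 hv]; rfl
    rcases S.inv_cases h9.U_le hg hinv with e | e
    · exact s11_degenerate (PG.ne_two_of_odd_of_dvd (mFT_odd _) h9.p_dvd) (mFT_odd W₁) b hb1 e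
    · exact hb0 (LinearMap.ker_eq_top.1 e)
  · obtain ⟨D⟩ := typeP_Galois_Pn h9 hg
    obtain ⟨b, hb0, hb1, -, hb2⟩ := s11_form hH (e0 ▸ hne) nU (e0 ▸ hc) D.phi D.surj
      fun x hx => e0 ▸ (D.ker x).1 hx
    have hn := h.typeP.U_normal
    obtain ⟨v, w, hvw⟩ : ∃ v w : W₁, b (Pi.single v 1) (Pi.single w 1) ≠ 0 := by
      by_contra! hz
      refine hb0 ((Pi.basisFun _ _).ext fun v => (Pi.basisFun _ _).ext fun w => ?_)
      simpa using hz v w
    have act : ∀ (x : U) (a : MF[M]) (t : W₁), (D.phi a).toAdd = Pi.single t 1 →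
        (D.phi ⟨_, conj_mem_of_le_norm nU x.2 a.2⟩).toAdd =
          (D.lamw hn t x : ZMod (pP M U)) • Pi.single t 1 := fun x a t e => by
      funext r
      rw [D.actU' hn x a _ rfl r, e]
      by_cases hr : r = t
      · subst hr; simp
      · simp [Pi.single_eq_of_ne hr]
    have k1 : ∀ x : U, D.lamw hn v x * D.lamw hn w x = 1 := fun x => by
      obtain ⟨a, ha⟩ := D.surj (Multiplicative.ofAdd (Pi.single v 1))
      obtain ⟨c, hc'⟩ := D.surj (Multiplicative.ofAdd (Pi.single w 1))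
      have h1 := hb2 x x.2 a ⟨_, conj_mem_of_le_norm nU x.2 a.2⟩ c
        ⟨_, conj_mem_of_le_norm nU x.2 c.2⟩ rfl rfl
      rw [act x a v (by rw [ha]; rfl), act x c w (by rw [hc']; rfl), ha, hc'] at h1
      simp only [map_smul, LinearMap.smul_apply, smul_eq_mul, toAdd_ofAdd, ← mul_assoc] at h1
      refine Units.ext ?_
      rw [Units.val_mul, mul_comm]
      exact (mul_left_eq_self₀.1 h1).resolve_right hvw
    have k2 : ∀ (r : W₁) (x : U), D.lamw hn r x * D.lamw hn (r * (v⁻¹ * w)) x = 1 := fun r x => by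
      have h1 := k1 ⟨_, conj_mem_of_le_norm hn (v * r⁻¹ : W₁).2 x.2⟩
      rw [D.lamw_conj hn v (v * r⁻¹) (x := x) rfl, D.lamw_conj hn w (v * r⁻¹) (x := x) rfl] at h1
      simpa [mul_assoc] using h1
    have k3 : ∀ (x : U) (k : ℕ), D.lamw hn ((v⁻¹ * w) ^ (2 * k)) x = D.lam x := fun x k => by
      induction k with
      | zero => rw [mul_zero, pow_zero, D.lamw_one]
      | succ k ih =>
        rw [← ih, mul_add, mul_one, pow_succ, pow_succ]
        exact (eq_inv_of_mul_eq_one_right (k2 _ x)).trans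
          (eq_inv_of_mul_eq_one_left (k2 _ x)).symm
    have k4 : ∀ x : U, D.lam x = 1 := fun x => by
      obtain ⟨k, hk⟩ := mFT_odd W₁
      obtain ⟨l, hl⟩ := mFT_odd U
      have h1 := k3 x (k + 1)
      rw [show 2 * (k + 1) = Nat.card W₁ + 1 by omega, pow_succ, pow_card_eq_one', one_mul] at h1
      have h2 := k2 1 x
      rw [one_mul, h1, D.lamw_one, ← sq] at h2
      have h3 : D.lam x ^ Nat.card U = 1 := by rw [← map_pow, pow_card_eq_one', map_one]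
      rwa [hl, pow_succ, pow_mul, h2, one_pow, one_mul] at h3
    have h1 := (nonGal_facts h9 D).1
    rw [NonGalData.a, MonoidHom.range_eq_bot_iff.2 (MonoidHom.ext k4), card_bot] at h1
    exact lt_irrefl _ h1

/-- (11.7) -/
theorem FTtype34_Fcore_kernel_trivial (h : Hyp10 M W₁ U W₂) :
    IsElementaryAbelian (Nat.card W₂) MF[M] ∧ Nat.card MF[M] = Nat.card W₂ ^ Nat.card W₁ ∧
    pH0 M U = ⊥ := by
  have h9 := h.hyp9
  have e := h.H0_eq_bot
  refine ⟨?_, ?_, e⟩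
  · refine ⟨isMulCommutative_iff_le_cent.2 (le_cent_iff_commutator_eq_bot.2
      (le_bot_iff.1 (e ▸ h9.der_le_H0))), fun a ha => ?_⟩
    have h1 := h9.pow_mem_H0 ha
    rwa [e, h.pP_eq, mem_bot] at h1
  · rw [← h.pP_eq, ← h9.relIndex_H, e, relIndex_bot_left]

end Cfsg.Agent.PF
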