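import Cfsg.Agent.PF.S12b

set_option autoImplicit false
set_option linter.unusedSectionVars false
set_option linter.unusedVariables false

namespace Cfsg.Agent.PF

open Subgroup Cfsg.Agent.GT Cfsg.Agent.BG Cfsg.Agent.Char

universe u v w

/-! Peterfalvi §12 (type I); (12.1)–(12.6) are in `PF/S12a`, (12.8)–(12.12) in `PF/S12b`. -/

private theorem a_eq_zero {a : ℤ} {p e h : ℕ} (hp : 3 ≤ p) (he : 2 * e ≤ p + 1) (he0 : 0 < e)
    (hh : p ^ 2 ≤ h) (H : (a : ℝ) ^ 2 * (((h : ℝ) - 1) / e) + 1 - 2 * a ≤ e) : a = 0 := by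
  have he0' : (0 : ℝ) < e := Nat.cast_pos.2 he0
  have hp' : (3 : ℝ) ≤ p := by exact_mod_cast hp
  have he' : 2 * (e : ℝ) ≤ p + 1 := by exact_mod_cast he
  have hh' : (p : ℝ) ^ 2 ≤ h := by exact_mod_cast hh
  have h1 : 2 * ((p : ℝ) - 1) ≤ ((h : ℝ) - 1) / e := by
    rw [le_div_iff₀ he0']; nlinarith
  have h2 : (a : ℝ) ^ 2 * (2 * ((p : ℝ) - 1)) + 1 - 2 * a ≤ e :=
    le_trans (by nlinarith [sq_nonneg (a : ℝ)]) H
  by_contra h0
  rcases lt_or_gt_of_ne h0 with h3 | h3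
  · have : (a : ℝ) ≤ -1 := by exact_mod_cast Int.le_sub_one_of_lt h3
    have h4 : 1 ≤ (a : ℝ) ^ 2 := by nlinarith
    nlinarith [mul_nonneg (sub_nonneg.2 h4) (sub_nonneg.2 hp')]
  · have : (1 : ℝ) ≤ a := by exact_mod_cast Int.add_one_le_of_lt h3
    nlinarith [mul_nonneg (sub_nonneg.2 this) (sub_nonneg.2 this),
      mul_nonneg (sub_nonneg.2 this) (sub_nonneg.2 hp'),
      mul_nonneg (mul_nonneg (sub_nonneg.2 this) (sub_nonneg.2 this)) (sub_nonneg.2 hp')]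

private theorem sq_le_of_dvd {n : ℤ} {p e : ℕ} (he : 2 * e ≤ p + 1) (he0 : 0 < e)
    (h : (p : ℤ) ∣ e - n) : ((e : ℝ) - 1) ^ 2 ≤ (n : ℝ) ^ 2 := by
  obtain ⟨k, hk⟩ := h
  have : ((e : ℤ) - 1) ^ 2 ≤ n ^ 2 := by
    have he' : 2 * (e : ℤ) ≤ p + 1 := by exact_mod_cast he
    have he0' : (1 : ℤ) ≤ e := by exact_mod_cast he0
    rcases le_or_gt k 0 with h | h
    · have : (e : ℤ) ≤ n := by nlinarith
      nlinarith
    · have : n ≤ 1 - (e : ℤ) := by nlinarith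
      nlinarith
  exact_mod_cast this

variable {G : Type u} [Group G] [Fintype G] [MFT G] {L L₁ L₂ M N P E : Subgroup G} {p : ℕ} {x : G}
  {ν : (L → ℂ) →ₗ[ℂ] (G → ℂ)} {χ : L → ℂ}

theorem s12_coh_ortho (hL : IsCoatom L) (ht : FTtype L = 1)
    (hν : CohWith (seqIndD MF[L] L MF[L] ⊥) (tauF L) ν) (hχ : χ ∈ seqIndD MF[L] L MF[L] ⊥)
    (hN : IsCoatom N) (tN : FTtype N = 1) (hc : ¬ Conjg L N) {Q R : (N → ℂ) → Finset (G → ℂ)}
    (b : Type1Base N Q R) : ∀ φ ∈ seqIndD MF[N] N MF[N] ⊥, ∀ α ∈ R φ, ⟪ν χ, α⟫ = 0 := by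
  intro φ hφ α hα
  obtain ⟨Q', R', b'⟩ := FTtype1_subcoherent hL ht
  obtain ⟨E, hE, e, -⟩ := ((s12_cohF_iff hL).1 hν).exists_eq_sum b'.2.1 hχ (mem_zspan_of_mem hχ)
    (mem_zspan_of_mem (conj_seqIndD hχ))
  rw [e, ci_sum_left]
  exact Finset.sum_eq_zero fun β hβ => FTtype1_seqInd_ortho hL hN ht tN hc b' b hχ hφ β (hE hβ) α hα

theorem s12_coh_const (hL : IsCoatom L) (ht : FTtype L = 1)
    (hν : CohWith (seqIndD MF[L] L MF[L] ⊥) (tauF L) ν) (hχ : χ ∈ seqIndD MF[L] L MF[L] ⊥)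
    (hN : IsCoatom N) (tN : FTtype N = 1) (hc : ¬ Conjg L N) {z y : G} (hz : z ∈ N)
    (hz' : z ∉ MF[N]) (hy : y ∈ MF[N]) : ν χ (z * y) = ν χ z := by
  obtain ⟨Q, R, b⟩ := FTtype1_subcoherent hN tN
  exact FTtype1_ortho_constant hN tN b (hν.virt_mem hχ).isClassFunction
    (s12_coh_ortho hL ht hν hχ hN tN hc b) hz hz' hy

theorem s12_rho_eq (hL : IsCoatom L) (hF : FrobKer L MF[L])
    (hν : CohWith (seqIndD MF[L] L MF[L] ⊥) (tauF L) ν) (hχ : χ ∈ seqIndD MF[L] L MF[L] ⊥)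
    (h1 : χ 1 = MF[L].relIndex L) (hp : 3 ≤ p) (he : 2 * MF[L].relIndex L ≤ p + 1)
    (hh : p ^ 2 ≤ Nat.card MF[L]) :
    (∀ z : L, (z : G) ∈ sharp MF[L] → dadeRho (sharp MF[L]) L (FTsignalizer L) (ν χ) z = χ z) ∧
    1 - (MF[L].relIndex L : ℝ) / Nat.card MF[L] ≤
      nsq (dadeRho (sharp MF[L]) L (FTsignalizer L) (ν χ)) := by
  classical
  have hHL := fittingHallOf_le L
  have hn := (norm_Fcore hL).ge
  have hD := FT_DadeF_hyp hL
  have irr := (FT_Frobenius_coherence hL hF).1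
  obtain ⟨⟨o1, -, -⟩, ⟨Γ, o2, o3, ⟨a, hβ⟩, o4⟩, -⟩ := Dade_Ind1_sub_lin hD hν
    ⟨_, conj_seqIndD hχ, _, hχ, seqIndD_conj_ne hHL hn (mFT_odd L) hχ⟩ (irr χ hχ) hχ h1 rfl
  refine ⟨?_, (o4 (by nlinarith)).1⟩
  set e := MF[L].relIndex L with he'
  have e0 : 0 < e := relIndex_pos _ _
  have e0' : (e : ℂ) ≠ 0 := Nat.cast_ne_zero.2 e0.ne'
  set S := (seqIndD_finite MF[L] L MF[L] ⊥).toFinset with hS
  have mS : ∀ ξ, ξ ∈ S ↔ ξ ∈ seqIndD MF[L] L MF[L] ⊥ := fun ξ => Set.Finite.mem_toFinset _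
  have on : ∀ ξ ∈ S, ∀ μ ∈ S, ⟪ν ξ, ν μ⟫ = if ξ = μ then 1 else 0 := fun ξ h μ h' => by
    rw [hν.ci_mem ((mS _).1 h) ((mS _).1 h'), (irr _ ((mS _).1 h)).ci_eq_ite (irr _ ((mS _).1 h'))]
  set Y := ∑ ξ ∈ S, (ξ 1 / (e : ℂ) / (nsq ξ : ℂ)) • ν ξ with hY
  set I := cInd L (fun _ : MF[L] => (1 : ℂ)) with hI
  have IT : I ∈ seqIndT MF[L] L := cInd_mem_seqIndT isIrrCharacter_one
  have I1 : I 1 = e := by rw [hI, cInd_one hHL, mul_one]
  have cI : I - χ ∈ CF L (sharp MF[L]) := zspan_seqIndT_on hHL hn subset_rfl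
    (sub_mem_zspanOn_one (mem_zspan_of_mem IT) (mem_zspan_of_mem (seqIndD_subset_T hχ))
      (I1.trans h1.symm))
  have Y1 : ⟪Y, ν χ⟫ = 1 := by
    rw [hY, ci_sum_smul_orthonormal S ν on _ ((mS _).2 hχ), h1, (irr χ hχ).nsq, div_self e0']; simp
  have Y2 : nsq Y = ((Nat.card MF[L] : ℝ) - 1) / e := by
    have := sum_seqIndD_square hHL hn le_rfl hn (by rw [norm_bot]; exact le_top) bot_le
    rw [relIndex_self, relIndex_bot_left, Nat.cast_one, mul_one, ← he', ← hS] at this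
    have e1 : (e : ℝ) ≠ 0 := Nat.cast_ne_zero.2 e0.ne'
    rw [hY, nsq_sum_smul_orthonormal S ν on, Finset.sum_congr rfl
      (g := fun ξ => (ξ 1).re ^ 2 / nsq ξ / (e : ℝ) ^ 2), ← Finset.sum_div, this]
    · field_simp
    intro ξ h
    obtain ⟨d, -, hd⟩ := (irr _ ((mS _).1 h)).exists_degree
    simp [(irr _ ((mS _).1 h)).nsq, hd, div_pow]
  have Y3 : ⟪Y, fun _ => 1⟫ = 0 := by
    rw [hY, ci_sum_left]
    exact Finset.sum_eq_zero fun ξ h => by rw [ci_smul_left, o1 ξ ((mS _).1 h), mul_zero]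
  have Y4 : ⟪Y, Γ⟫ = 0 := by
    rw [hY, ci_sum_left]
    exact Finset.sum_eq_zero fun ξ h => by
      rw [ci_smul_left, ci_eq_zero_symm (o2 ξ ((mS _).1 h)), mul_zero]
  have ψn : nsq (ν χ) = 1 := (hν.isSIrr hχ (irr χ hχ)).nsq
  have a0 : a = 0 := by
    refine a_eq_zero hp he e0 hh ?_
    have b1 : nsq (dadeL (sharp MF[L]) L (FTsignalizer L) (I - χ)) = e + 1 := by
      rw [dadeL_apply, hD.nsq_dade cI.1 cI.2,
        nsq_sub_of_orth (ci_eq_zero_symm (seqIndD_ortho_Ind1 hHL hn hχ)), nsq_Ind1 hHL hn,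
        (irr χ hχ).nsq]
    rw [hβ, show (fun _ => 1) - ν χ + (a : ℂ) • Y + Γ = ((a : ℂ) • Y - ν χ) + ((fun _ => 1) + Γ) by
      abel, nsq_add_of_orth (by
        simp only [ci_sub_left, ci_add_right, ci_smul_left, Y3, Y4, o1 χ hχ,
          ci_eq_zero_symm (o2 χ hχ)]; simp),
      nsq_add_of_orth (ci_eq_zero_symm o3), isIrrCharacter_one.nsq, nsq_sub, nsq_smul, ci_smul_left,
      Y1, Y2, ψn] at b1
    have := nsq_nonneg Γ
    simp only [Complex.norm_intCast, sq_abs, mul_one, Complex.intCast_re] at b1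
    linarith
  have b2 : ⟪dadeL (sharp MF[L]) L (FTsignalizer L) (I - χ), ν χ⟫ = -1 := by
    rw [hβ, a0, ci_add_left, ci_add_left, ci_sub_left, ci_eq_zero_symm (o1 χ hχ), o2 χ hχ,
      (hν.isSIrr hχ (irr χ hχ)).ci_self]; simp
  intro z hz
  rw [(invDade_seqInd_sum hD IT (hν.virt_mem hχ).isClassFunction
    (fun ξ => if ξ = χ then 1 else 0) S (fun ξ => ?_) fun ξ h => ?_).1 z hz]
  · rw [Finset.sum_eq_single χ (fun ξ _ h => by simp [h]) fun h => absurd ((mS _).2 hχ) h]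
    simp [(irr χ hχ).nsq]
  · rw [mS, seqIndT_eq hHL hn]
    exact ⟨fun h => ⟨Or.inr h, fun e => cInd_one_not_mem_seqIndD hHL hn (e ▸ h :)⟩,
      fun h => h.1.resolve_left h.2⟩
  · obtain ⟨d, -, hd⟩ := seqIndT_one hHL (seqIndD_subset_T ((mS _).1 h))
    rw [I1, hd, ← he', mul_div_cancel_left₀ _ e0',
      show ξ - (d : ℂ) • I = (ξ - (d : ℂ) • χ) - (d : ℂ) • (I - χ) by rw [smul_sub]; abel, map_sub,
      map_smul, ci_sub_left, ci_smul_left, b2, ← hν.eq (sub_mem_zspan (mem_zspan_of_mem ((mS _).1 h))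
        (natCast_smul_mem_zspan d (mem_zspan_of_mem hχ))) (by simp [hd, h1, mul_comm, he']),
      map_sub, map_smul, ci_sub_left, ci_smul_left, on ξ h χ ((mS _).2 hχ),
      (hν.isSIrr hχ (irr χ hχ)).ci_self]
    ring

namespace H12
variable (h : H12 p M P L x) (hν : CohWith (seqIndD MF[L] L MF[L] ⊥) (tauF L) ν)
  (hχ : χ ∈ seqIndD MF[L] L MF[L] ⊥)
include h hν hχ

/-- (12.15), first part -/
theorem rhoM {g : M} (hg : (g : G) ∈ sharp MF[M]) :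
    dadeRho (sharp MF[M]) M (FTsignalizer M) (ν χ) g = ν χ g := by
  rw [dadeRho_of_mem _ hg]
  refine cosAvg_of_forall fun u hu => ?_
  by_cases hc : C1[(g : G)] ≤ M
  · rw [FTsignalizer, if_pos hc, mem_bot] at hu
    rw [hu, mul_one]
  rw [FTsignalizer, if_neg hc] at hu
  obtain ⟨-, h1, -, -, -, ⟨h2, h3⟩, h4, h5⟩ :=
    (FTsupport_facts h.maxM (Or.inr (Or.inr rfl))).2 g (s12_sharp_sub h.maxM hg) hc
  have tN : FTtype (sigN (g : G)) = 1 := by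
    have := (FTtype_range (sigN (g : G))).1
    by_contra h6
    obtain ⟨E, hE⟩ := h5 (by omega)
    obtain ⟨k, hk, hk1⟩ := exists_ne_one_of_ne_bot fun e => h.nC (e.le.trans bot_le)
    exact h.xK (frob_cent1_le hE hk.1 hk1 ⟨h.xM, mem_cent1_comm.1 hk.2⟩)
  rw [s12_supp1 tN] at h3
  refine s12_coh_const h.maxL h.tL hν hχ h1.1 tN ?_ (FTder_le _ (FTsupp_sub_der _ h2).1)
    (fun e => h3 ⟨e, hg.2⟩) hu.1
  rintro ⟨z, e⟩
  obtain ⟨E, hE⟩ := h.frobL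
  have := hE.conj z
  rw [conj_fittingHallOf, ← e] at this
  exact h3 (FTsupp_Frobenius h1.1 this.frobKer ▸ h2)

theorem const {g g' : G} (hg : g ∈ MF[M]) (hd : g ∉ ⁅MF[M], MF[M]⁆) (hg' : g' ∈ MF[M])
    (hd' : g' ∉ ⁅MF[M], MF[M]⁆) : ν χ g = ν χ g' := by
  obtain ⟨Q, R, b⟩ := FTtype1_subcoherent h.maxM h.tM
  have := FtypeI_invDade_ortho_constant h.maxM h.tM b (hν.virt_mem hχ).isClassFunction
    (s12_coh_ortho h.maxL h.tL hν hχ h.maxM h.tM h.not_conj b)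
    (x := ⟨g, fittingHallOf_le M hg⟩) (y := ⟨g', fittingHallOf_le M hg'⟩) hg hd hg' hd'
  rwa [h.rhoM hν hχ ⟨hg, fun e => hd (by rw [show g = 1 from e]; exact one_mem _)⟩,
    h.rhoM hν hχ ⟨hg', fun e => hd' (by rw [show g' = 1 from e]; exact one_mem _)⟩] at this

theorem int {g : G} (hg : g ∈ MF[M]) (hd : g ∉ ⁅MF[M], MF[M]⁆) : ∃ n : ℤ, ν χ g = n := by
  have hv := hν.virt_mem hχ
  refine exists_int_of_forall_ringEquiv (hv.isIntegral g) fun σ => ?_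
  obtain ⟨k, hk, e⟩ := exists_pow_of_ringHom (σ : ℂ →+* ℂ) (orderOf_pos g)
  exact (hv.ringHom_apply (σ : ℂ →+* ℂ) e).trans (h.const hν hχ (pow_mem hg k)
    (fun e => hd (PG.mem_of_pow_mem_of_coprime_orderOf e hk.symm)) hg hd)

end H12

/-- (12.16) -/
theorem H12.false (h : H12 p M P L x) : False := by
  classical
  obtain ⟨E, hF⟩ := h.frobL
  obtain ⟨irr, ν, hν⟩ := FT_Frobenius_coherence h.maxL hF.frobKer
  obtain ⟨χ, hχ, h1⟩ := FTtype1_ref_irr h.maxL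
  have hp3 : 3 ≤ p := by have := h.prime.two_le; have := h.p2; omega
  have he := h.two_mul_le hF
  have e3 : 3 ≤ Nat.card E := by
    have := ne_bot_iff_one_lt_card.1 hF.compl_ne_bot
    obtain ⟨k, hk⟩ := mFT_odd E
    omega
  rw [← hF.sdprod.relIndex] at he e3
  obtain ⟨r1, r2⟩ := s12_rho_eq h.maxL hF.frobKer hν hχ h1 hp3 he h.sq_le
  set e := MF[L].relIndex L
  set ψ := ν χ with hψ
  have hs : IsSIrr G ψ := hν.isSIrr hχ (irr χ hχ)
  have xL : x ∈ L := fittingHallOf_le L h.xH.1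
  have c1 : ∀ g ∈ MF[M], ψ (x * g) = ψ x := fun g hg =>
    s12_coh_const h.maxL h.tL hν hχ h.maxM h.tM h.not_conj h.xM h.xK hg
  have c2 : ψ x = χ ⟨x, xL⟩ := by
    rw [← r1 ⟨x, xL⟩ h.xH, dadeRho_of_mem _ h.xH]
    refine (cosAvg_of_forall fun u hu => c1 u ?_).symm
    rw [FTsignalizer, if_neg h.nL, h.sigN_eq] at hu
    exact hu.1
  obtain ⟨g, hg, hg'⟩ := SetLike.not_le_iff_exists.1 h.nC
  obtain ⟨n, hn⟩ := h.int hν hχ hg.1 hg'
  have hε := Complex.isPrimitiveRoot_exp p h.prime.ne_zero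
  obtain ⟨ω₁, i₁, e₁⟩ := hs.virt.exists_sub_eq_one_sub_mul (mem_cent1.1 hg.2).symm hε h.prime.pos h.xp
  obtain ⟨ω₂, i₂, e₂⟩ := (irr χ hχ).virt.exists_sub_eq_one_sub_mul (x := ⟨x, xL⟩) (y := 1) (by simp)
    hε h.prime.pos (Subtype.ext h.xp)
  rw [c1 g hg.1, c2, show ψ g = n from hn] at e₁
  rw [mul_one, h1] at e₂
  have b1 := sq_le_of_dvd he (by omega) (prime_dvd_of_eq_one_sub_mul h.prime (k := 1)
    (by rw [pow_one, hε.pow_eq_one]) (i₁.sub i₂) (n := e - n) (by push_cast; linear_combination e₁ - e₂))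
  have hKM := fittingHallOf_le M
  have cnt : ∀ K, K ≤ M → ∑ z : M, (if (z : G) ∈ K then (1 : ℝ) else 0) = Nat.card K := fun K hK => by
    rw [← natCard_subtype_eq_sum_ite, ← card_subgroupOf hK]; rfl
  have b2 : (Nat.card M : ℝ)⁻¹ * ((n : ℝ) ^ 2 * (Nat.card MF[M] - Nat.card ↥⁅MF[M], MF[M]⁆)) ≤
      nsq (dadeRho (sharp MF[M]) M (FTsignalizer M) ψ) := by
    refine mul_le_mul_of_nonneg_left ?_ (inv_nonneg.2 (Nat.cast_nonneg _))
    rw [← cnt _ hKM, ← cnt _ ((der_le _).trans hKM), ← Finset.sum_sub_distrib, Finset.mul_sum]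
    refine Finset.sum_le_sum fun z _ => ?_
    by_cases a : (z : G) ∈ ⁅MF[M], MF[M]⁆
    · rw [if_pos a, if_pos (der_le _ a), sub_self, mul_zero]; positivity
    by_cases b : (z : G) ∈ MF[M]
    · rw [if_pos b, if_neg a, h.rhoM hν hχ ⟨b, fun e => a (e ▸ one_mem _)⟩,
        h.const hν hχ b a hg.1 hg', hn]
      simp
    · rw [if_neg a, if_neg b, sub_self, mul_zero]; positivity
  have b3 : nsq (dadeRho (sharp MF[M]) M (FTsignalizer M) ψ) +
      nsq (dadeRho (sharp MF[L]) L (FTsignalizer L) ψ) ≤ 1 := by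
    have hd := FT_Dade1_support_disjoint h.maxL h.maxM h.not_conj
    rw [FTDadeSupp_eq, FTDadeSupp_eq, s12_supp1 h.tL, s12_supp1 h.tM] at hd
    refine (add_le_add ((FT_DadeF_hyp h.maxM).nsq_rho_le_sum hs.isClassFunction)
      ((FT_DadeF_hyp h.maxL).nsq_rho_le_sum hs.isClassFunction)).trans ?_
    rw [← hs.nsq, ← mul_add, ← Finset.sum_add_distrib]
    refine mul_le_mul_of_nonneg_left (Finset.sum_le_sum fun z _ => ?_)
      (inv_nonneg.2 (Nat.cast_nonneg _))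
    split_ifs with a b
    · exact (Set.disjoint_left.1 hd b a).elim
    all_goals simp
  have k7 : (7 : ℝ) ≤ ⁅MF[M], MF[M]⁆.relIndex MF[M] := by exact_mod_cast h.seven_le
  have n1 : (Nat.card MF[M] : ℝ) = Nat.card ↥⁅MF[M], MF[M]⁆ * ⁅MF[M], MF[M]⁆.relIndex MF[M] := by
    exact_mod_cast (card_mul_relIndex (der_le _)).symm
  have n2 : (Nat.card M : ℝ) = Nat.card MF[M] * Nat.card ↥(L ⊓ M) := by
    exact_mod_cast h.defM.card_mul.symm
  have n3 : (Nat.card ↥(L ⊓ M) : ℝ) ≤ Nat.card MF[L] := by exact_mod_cast card_le_of_le h.inf_le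
  have n4 := card_pos_real ↥(L ⊓ M)
  have n5 := card_pos_real ↥⁅MF[M], MF[M]⁆
  have n6 : (3 : ℝ) ≤ e := by exact_mod_cast e3
  rw [n2, n1] at b2
  generalize (⁅MF[M], MF[M]⁆.relIndex MF[M] : ℝ) = k at *
  generalize (Nat.card ↥⁅MF[M], MF[M]⁆ : ℝ) = c at *
  generalize (Nat.card ↥(L ⊓ M) : ℝ) = u at *
  have b4 : (c * k * u)⁻¹ * ((n : ℝ) ^ 2 * (c * k - c)) ≤ e / u :=
    le_trans (by linarith) (div_le_div_of_nonneg_left (by linarith) n4 n3)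
  have b5 : (n : ℝ) ^ 2 * (k - 1) ≤ e * k := by
    have k0 : 0 < k := by linarith
    rw [show (c * k * u)⁻¹ * ((n : ℝ) ^ 2 * (c * k - c)) = (n : ℝ) ^ 2 * (k - 1) / k / u by
      field_simp, div_le_div_iff_of_pos_right n4, div_le_iff₀ k0] at b4
    exact b4
  have b6 : ((e : ℝ) - 1) ^ 2 * (k - 1) ≤ e * k :=
    (mul_le_mul_of_nonneg_right b1 (by linarith)).trans b5
  nlinarith [mul_nonneg (sub_nonneg.2 n6) (sub_nonneg.2 k7), mul_nonneg (sub_nonneg.2 n6) (sub_nonneg.2 n6),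
    mul_nonneg (mul_nonneg (sub_nonneg.2 n6) (sub_nonneg.2 n6)) (sub_nonneg.2 k7)]

/-- (12.7) -/
theorem FTtype1_Frobenius (hM : IsCoatom M) (ht : FTtype M = 1) : FrobKer M MF[M] := by
  have key : ∀ p : ℕ, p.Prime → ∀ N : Subgroup G, IsCoatom N → FTtype N = 1 → ¬ PRankLE p 1 N →
      p ∣ Nat.card MF[N] := by
    intro p
    induction p using Nat.strong_induction_on with
    | _ p ih =>
      intro hp N hN tN hr
      by_contra hd
      obtain ⟨P, L, x, h⟩ := non_Frobenius_FTtype1_witness hp ih hN tN hr hd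
      exact h.false
  obtain ⟨U, hU, -⟩ := FTtype1_witness hM ht
  refine ⟨U, (typeF_Frobenius_iff (mFT_odd M) (mmax_sol hM) hU).2
    (PG.isZGroup_of_rankLE_one (mFT_odd U) fun q hq => by_contra fun hr => ?_)⟩
  have := Fact.mk hq
  exact hr (PG.pRankLE_of_not_dvd (not_dvd_of_coprime (Fcore_sdprod_coprime hU.1.2.2) hq
    (key q hq M hM ht (PG.not_pRankLE_of_le hr hU.1.2.2.right_le))))

/-- (12.17) -/
theorem not_all_FTtype1 : ¬ ∀ M : Subgroup G, IsCoatom M → FTtype M = 1 := by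
  intro all
  let r : Setoid {M : Subgroup G // IsCoatom M} :=
    ⟨fun a b => Conjg a.1 b.1, fun a => Conjg.refl _, Conjg.symm, Conjg.trans⟩
  letI := Fintype.ofFinite (Quotient r)
  have core : ∀ M : Subgroup G, IsCoatom M → FTcore M = MF[M] := fun M hM =>
    FTcore_type12 (by rw [all M hM]; omega)
  have TI : ∀ M : Subgroup G, IsCoatom M → NormedTI (sharp MF[M]) ⊤ M := fun M hM => by
    refine ⟨sharp_nonempty.2 (mmax_Fcore_neq1 hM), le_top, fun a ha g _ =>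
      ⟨(FT_DadeF_hyp hM).mem_L_of_bot ha (if_pos (by_contra fun hc => ?_)),
        fun hg => s12_sharp_norm hM g hg a ha⟩⟩
    obtain ⟨-, h1, -, -, -, ⟨h2, h3⟩, -⟩ :=
      (FTsupport_facts hM (Or.inr (Or.inr rfl))).2 a (s12_sharp_sub hM ha) hc
    rw [s12_supp1 (all _ h1.1), ← FTsupp_Frobenius h1.1 (FTtype1_Frobenius h1.1 (all _ h1.1))] at h3
    exact h3 h2
  refine no_Frobenius_partition mFT_odd_top (ι := Quotient r) ?_ (fun i => i.out.1)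
    (fun i => MF[i.out.1]) (fun i => FTtype1_Frobenius i.out.2 (all _ i.out.2))
    (fun i => fittingHallOf_nilpotent _) (fun i => TI _ i.out.2) (fun i j hij => ?_) fun g hg => ?_
  · obtain ⟨M, hM⟩ := any_mmax (G := G)
    obtain ⟨U, hU⟩ := FTtype1_Frobenius hM (all M hM)
    obtain ⟨p, hp, hd⟩ := exists_prime_dvd_card hU.compl_ne_bot
    obtain ⟨L, hL, hd'⟩ := exists_FTcore_dvd hp (hd.trans (card_subgroup_dvd_card U))
    refine Fintype.one_lt_card_iff_nontrivial.2 ⟨⟦⟨M, hM⟩⟧, ⟦⟨L, hL⟩⟧, fun e => ?_⟩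
    obtain ⟨g, hg⟩ := Quotient.exact e
    rw [show L = cj[g] M from hg, FTcore_conj, card_conj, core M hM] at hd'
    exact not_dvd_of_coprime (Fcore_sdprod_coprime hU.sdprod) hp hd' hd
  · rw [← core _ i.out.2, ← core _ j.out.2]
    exact coprime_FTcore i.out.2 j.out.2 fun e => hij (Quotient.out_equiv_out.1 e)
  · obtain ⟨M, hM, hg⟩ := FT_Dade1_cover_type1 all hg
    refine ⟨⟦⟨M, hM⟩⟧, ?_⟩
    obtain ⟨z, hz⟩ := Quotient.mk_out (s := r) ⟨M, hM⟩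
    have hL := (Quotient.out (s := r) ⟦⟨M, hM⟩⟧).2
    rw [show M = _ from hz, FTDadeSupp1_conj hL, s12_supp1 (all _ hL),
      FTDadeSupp_of_TI hL (TI _ hL)] at hg
    exact hg

end Cfsg.Agent.PF
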