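import Cfsg.Agent.PF.S08

set_option autoImplicit false
set_option linter.unusedSectionVars false
set_option linter.unusedVariables false

namespace Cfsg.Agent.PF

open Subgroup Cfsg.Agent.GT Cfsg.Agent.BG Cfsg.Agent.Char

universe u v w

/-! Peterfalvi (12.1)–(12.6). `calS = seqIndD H L H ⊥` with `H = MF[L]`. -/

section Abstract
variable {X : Type u} [Group X] [Fintype X]

theorem s12_ci_ne_zero {χ χ' φ : X → ℂ} (hχ : IsCharacter X χ) (hχ' : IsCharacter X χ')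
    (hφ : IsIrrCharacter X φ) (h : ⟪χ, φ⟫ ≠ 0) (h' : ⟪χ', φ⟫ ≠ 0) : ⟪χ, χ'⟫ ≠ 0 := by
  obtain ⟨n, hn⟩ := (hχ.sub_irr hφ h).ci_nat hχ'
  obtain ⟨m, hm⟩ := hφ.isCharacter.ci_nat hχ'
  have e : ⟪χ, χ'⟫ = ((n + m : ℕ) : ℂ) := by
    rw [Nat.cast_add, ← hn, ← hm, ← ci_add_left, sub_add_cancel]
  rw [e, Nat.cast_ne_zero]
  intro h0
  have : m = 0 := by omega
  rw [this, Nat.cast_zero] at hm
  exact h' (ci_eq_zero_symm hm)

theorem s12_ci_sum_irr {C : Finset (X → ℂ)} (hC : ∀ φ ∈ C, IsIrrCharacter X φ) {ψ : X → ℂ}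
    (hψ : IsIrrCharacter X ψ) [Decidable (ψ ∈ C)] :
    ⟪∑ φ ∈ C, φ, ψ⟫ = if ψ ∈ C then 1 else 0 := by
  classical
  rw [ci_sum_left, Finset.sum_congr rfl fun φ h => (hC φ h).ci_eq_ite hψ, Finset.sum_ite_eq']
  congr

/-- a class function whose multiplicities only depend on the degree is constant off `X'` -/
theorem s12_const_off_der {f : X → ℂ} (hf : IsClassFunction X f)
    (h : ∀ θ θ', IsIrrCharacter X θ → IsIrrCharacter X θ' → θ ≠ (fun _ => 1) → θ' ≠ (fun _ => 1) →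
      θ 1 = θ' 1 → ⟪f, θ⟫ = ⟪f, θ'⟫) {x y : X} {l m : X →* ℂˣ} (hl : l x ≠ 1) (hm : m y ≠ 1) :
    f x = f y := by
  classical
  have hl1 : lc l ≠ fun _ => 1 := fun e => hl (Units.ext (congrFun e x))
  set c : (X → ℂ) → ℂ := fun θ => if θ = (fun _ => 1) then ⟪f, lc l⟫ else ⟪f, θ⟫ with hc
  have hc1 : ∀ θ θ', IsIrrCharacter X θ → IsIrrCharacter X θ' → θ 1 = θ' 1 → c θ = c θ' := by
    intro θ θ' h1 h2 h3
    simp only [hc]
    split_ifs with e e' e'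
    · rfl
    · exact h _ _ (lc_irr l) h2 hl1 e' (by rw [← h3, e, lc_apply_one])
    · exact h _ _ h1 (lc_irr l) e hl1 (by rw [h3, e', lc_apply_one])
    · exact h _ _ h1 h2 e e' h3
  have key : ∀ (z : X) (k : X →* ℂˣ), k z ≠ 1 → f z = ⟪f, fun _ => 1⟫ - ⟪f, lc l⟫ := by
    intro z k hk
    have e1 : ∑ θ ∈ Irr X, c θ * θ z = (k z : ℂ) * ∑ θ ∈ Irr X, c θ * θ z := by
      rw [Finset.mul_sum]
      symm
      refine Finset.sum_nbij' (fun θ g => (k g : ℂ) * θ g) (fun θ g => (k⁻¹ g : ℂ) * θ g)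
        (fun θ hθ => mem_Irr.2 ((mem_Irr.1 hθ).unitsHom_mul k))
        (fun θ hθ => mem_Irr.2 ((mem_Irr.1 hθ).unitsHom_mul k⁻¹)) (fun θ _ => ?_) (fun θ _ => ?_)
        fun θ hθ => ?_
      · funext g; simp
      · funext g; simp
      · rw [hc1 _ θ ((mem_Irr.1 hθ).unitsHom_mul k) (mem_Irr.1 hθ) (by simp)]; ring
    have e2 : ∑ θ ∈ Irr X, c θ * θ z = 0 := by
      by_contra h0
      exact hk (Units.ext (mul_right_cancel₀ h0 (e1.symm.trans (one_mul _).symm)))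
    have h1 : (fun _ => 1 : X → ℂ) ∈ Irr X := mem_Irr.2 isIrrCharacter_one
    rw [hf.apply_eq_sum_irr z, ← Finset.add_sum_erase _ _ h1]
    rw [← Finset.add_sum_erase _ _ h1,
      Finset.sum_congr rfl (g := fun θ => ⟪f, θ⟫ * θ z) fun θ hθ => by
        simp only [hc, if_neg (Finset.ne_of_mem_erase hθ)]] at e2
    simp only [hc, if_true, mul_one] at e2 ⊢
    linear_combination e2
  rw [key x l hl, key y m hm]

variable {Y : Type v} [Group Y] [Fintype Y] {S : Set (X → ℂ)} {T : (X → ℂ) →ₗ[ℂ] (Y → ℂ)}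
  {R : (X → ℂ) → Finset (Y → ℂ)}

theorem s12_ortho_sub (h : IsCoherenceSystem S T R) {χ φ : X → ℂ} (hχ : χ ∈ S) (hφ : φ ∈ S)
    (hd : χ 1 = φ 1) {ψ : Y → ℂ} (h1 : ∀ α ∈ R χ, ⟪ψ, α⟫ = 0) (h2 : ∀ α ∈ R φ, ⟪ψ, α⟫ = 0) :
    ⟪ψ, T (χ - φ)⟫ = 0 := by
  by_cases e : φ = χ
  · rw [e, sub_self, map_zero, ci_zero_right]
  by_cases e' : φ = conjFun χ
  · rw [e', h.sum_eq χ hχ, ci_sum_right]; exact Finset.sum_eq_zero h1
  obtain ⟨E, hE, E', hE', he, -⟩ := h.exists_decomp hχ hφ e e' hd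
  rw [he, ci_sub_right, ci_sum_right, ci_sum_right, Finset.sum_eq_zero fun α a => h1 α (hE a),
    Finset.sum_eq_zero fun α a => h2 α (hE' a), sub_zero]

end Abstract

variable {G : Type u} [Group G] [Fintype G]

section
variable {L H K : Subgroup G}

theorem s12_exists_lin {x : K} (hx : (x : G) ∉ ⁅K, K⁆) : ∃ l : K →* ℂˣ, l x ≠ 1 := by
  classical
  by_contra hc
  push Not at hc
  have h := sum_IrrKer_apply (M := ⁅K, K⁆) (le_norm_der K) x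
  have h1 := sum_IrrKer_apply (M := ⁅K, K⁆) (le_norm_der K) 1
  rw [if_neg hx] at h
  rw [if_pos (by exact one_mem _)] at h1
  have e : (∑ θ ∈ IrrKer (⁅K, K⁆.subgroupOf K), θ 1 • θ) x =
      (∑ θ ∈ IrrKer (⁅K, K⁆.subgroupOf K), θ 1 • θ) 1 := by
    rw [Finset.sum_apply, Finset.sum_apply]
    refine Finset.sum_congr rfl fun θ hθ => ?_
    obtain ⟨h1, h2⟩ := mem_IrrKer_subgroupOf.1 hθ
    obtain ⟨l, rfl⟩ := h1.isCharacter.exists_hom_of_degree_one (irr_one_of_inKer_der h1 h2)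
    simp [hc l]
  rw [e, h1] at h
  exact (relIndex_pos _ _).ne' (Nat.cast_eq_zero.1 h)

theorem s12_not_inKer (h : H ≤ L) {χ φ : L → ℂ} (hχ : χ ∈ seqIndD H L H ⊥)
    (hφ : IsIrrCharacter L φ) (hne : ⟪χ, φ⟫ ≠ 0) : φ ∈ IrrKerD L H ⊥ := by
  obtain ⟨θ, ⟨hθ, hk, -⟩, rfl⟩ := hχ
  refine ⟨hφ, fun hk' => hk ?_, inKer_bot _⟩
  rw [ci_cInd_left h θ hφ.isClassFunction] at hne
  exact InKer.of_ci_ne_zero (hφ.isCharacter.cRes h) hθ (fun e => hne (ci_eq_zero_symm e))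
    (hk'.cRes h)

theorem s12_exists_seqInd (h : H ≤ L) (hn : L ≤ N[H]) {φ : L → ℂ} (hφ : φ ∈ IrrKerD L H ⊥) :
    ∃ χ ∈ seqIndD H L H ⊥, ⟪χ, φ⟫ ≠ 0 := by
  obtain ⟨θ, hθ, hne⟩ := exists_constt_cRes h hφ.1
  refine ⟨cInd L θ, ⟨θ, ⟨hθ, fun hk => hφ.2.1 ?_, inKer_bot _⟩, rfl⟩, ?_⟩
  · obtain rfl := (inKer_self_iff hθ).1 hk
    rw [cRes_eq h] at hne
    have := (nEmb h hn).clifford_invariant hφ.1 hθ hne fun g => NormalEmb.cj_const _ _ _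
    intro x hx
    exact (congrFun this ⟨x, hx⟩).trans (congrFun this 1).symm
  · rw [ci_cInd_left h θ hφ.1.isClassFunction]
    exact fun e => hne (ci_eq_zero_symm e)

theorem s12_frob_quo {E : Subgroup G} (hF : Frob H E L) (hK : K < H) (hn : L ≤ N[K]) :
    Frob (quo H K) (quo E K) (quo L K) := by
  have h1 := hF.sdprod.left_le.trans hn
  have h2 := hF.sdprod.right_le.trans hn
  have hr := semiregular_im (f := coset K) hF.reg hF.sdprod.right_norm h1 h2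
  have := frob_sup (im_norm hF.sdprod.right_norm)
    (fun e => hK.not_ge ((quo_eq_bot_iff h1).1 e))
    (fun e => hF.compl_ne_bot (le_bot_iff.1 (hF.sdprod.inf_eq ▸
      le_inf (((quo_eq_bot_iff h2).1 e).trans hK.le) le_rfl))) hr
  rwa [← im_sup h1 h2, hF.sdprod.sup_eq] at this

end

variable [MFT G] {L L₁ L₂ M : Subgroup G}

theorem FTtype1_ref_irr (hL : IsCoatom L) :
    ∃ φ ∈ seqIndD MF[L] L MF[L] ⊥, φ 1 = (MF[L]).relIndex L :=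
  exists_linInd (fittingHallOf_le L) (bot_lt_iff_ne_bot.2 (mmax_Fcore_neq1 hL))
    (by rw [norm_bot]; exact le_top) (sub_mmax_sol hL (fittingHallOf_le L))

theorem s12_irr_supp (hL : IsCoatom L) (ht : FTtype L = 1) {φ : L → ℂ}
    (hφ : φ ∈ IrrKerD L MF[L] ⊥) : SuppOn (insert 1 (FTsupp L)) φ := by
  intro x hx
  refine irr_reg_off_ker_0 hφ.1 (fittingHallOf_le L) (norm_Fcore hL).ge hφ.2.1 ?_
  by_contra h
  obtain ⟨y, hy, hy1⟩ := exists_ne_one_of_ne_bot h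
  refine hx (Or.inr ⟨by rw [FTder_type1 ht]; exact x.2, fun e => hx (Or.inl e), y,
    by rw [FTcore_type12 (by omega)]; exact hy.1, hy1, mem_cent1_comm.1 hy.2⟩)

/-- (12.2)(a), first part -/
theorem FTtype1_seqInd_facts (hL : IsCoatom L) (ht : FTtype L = 1) {χ : L → ℂ}
    (hχ : χ ∈ seqIndD MF[L] L MF[L] ⊥) :
    ∃ C : Finset (L → ℂ), (∀ φ, φ ∈ C ↔ IsIrrCharacter L φ ∧ ⟪χ, φ⟫ ≠ 0) ∧ χ = ∑ φ ∈ C, φ ∧
      (∀ φ ∈ C, ∀ ψ ∈ C, φ 1 = ψ 1) ∧ ∀ φ ∈ C, SuppOn (insert 1 (FTsupp L)) φ := by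
  classical
  have hχ' := hχ
  obtain ⟨θ, ⟨hθ, hk, -⟩, rfl⟩ := hχ
  obtain ⟨U, hU, -⟩ := FTtype1_witness hL ht
  obtain ⟨U₁, h1, -, hab, hreg⟩ := hU.2.1
  have defL := hU.1.2.2
  have hHL := fittingHallOf_le L
  have hHT := le_cInertia hHL hθ.isClassFunction
  have hT : cInertia L θ ≤ MF[L] ⊔ U₁ := by
    have := (defL.inf_of_left_le hHT).sup_eq
    rw [inf_eq_right.2 (cInertia_le θ)] at this
    refine this.ge.trans (sup_le_sup_left (le_trans (fun y hy => ?_)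
      (typeF_inertia hU hreg hθ (ne_one_of_not_inKer hk))) _)
    exact mem_cInertia.2 ⟨hy.1, (mem_cInertia.1 hy.2).2⟩
  obtain ⟨C, hC, -, he, hd⟩ := cInd_Hall_central_inertia hHL defL.norm hθ
    ((commutator_mono hT hT).trans ((defL.subr h1).commutator_le hab))
    ((fittingHallOf_coprime L).coprime_dvd_right
      ⟨_, (relIndex_mul_relIndex _ _ _ hHT (cInertia_le θ)).symm⟩)
  have hC' : ∀ φ, φ ∈ C ↔ IsIrrCharacter L φ ∧ ⟪cInd L θ, φ⟫ ≠ 0 := fun φ =>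
    ⟨fun h => ⟨hC φ h, by rw [he, s12_ci_sum_irr hC (hC φ h), if_pos h]; exact one_ne_zero⟩,
      fun h => by_contra fun h' => h.2 (by rw [he, s12_ci_sum_irr hC h.1, if_neg h'])⟩
  exact ⟨C, hC', he, fun φ h ψ h' => (hd φ h).trans (hd ψ h').symm, fun φ h =>
    s12_irr_supp hL ht (s12_not_inKer hHL hχ' (hC φ h) ((hC' φ).1 h).2)⟩

/-- a coherence base as in (12.2)(b): `R χ` is the union of the `R₁ φ`, `φ` a constituent of `χ` -/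
def Type1Base (L : Subgroup G) (R₁ R : (L → ℂ) → Finset (G → ℂ)) : Prop :=
  IsCoherenceSystem (IrrKerD L MF[L] ⊥) (tau0 L) R₁ ∧
  IsCoherenceSystem (seqIndD MF[L] L MF[L] ⊥) (tau0 L) R ∧
  ∀ χ ∈ seqIndD MF[L] L MF[L] ⊥, ∀ α,
    α ∈ R χ ↔ ∃ φ, IsIrrCharacter L φ ∧ ⟪χ, φ⟫ ≠ 0 ∧ α ∈ R₁ φ

theorem s12_irr_subcoherent (hL : IsCoatom L) (ht : FTtype L = 1) :
    ∃ R₁, IsCoherenceSystem (IrrKerD L MF[L] ⊥) (tau0 L) R₁ := by
  refine exists_coherenceSystem_irr (exists_irr_inKer_not_inKer (fittingHallOf_le L)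
      (by rw [norm_bot]; exact le_top) fun h => mmax_Fcore_neq1 hL (le_bot_iff.1 h))
    (fun χ h => h.1) (fun χ h => ⟨h.1.conjFun, by rw [inKer_conjFun_iff]; exact h.2.1, inKer_bot _⟩)
    (fun χ h e => ne_one_of_not_inKer h.2.1 (h.1.eq_one_of_odd_of_real (mFT_odd L) e))
    (dade_isometry_zspan (FT_Dade0_hyp hL) (fun φ h => h.1.isCharacter) fun φ h => ?_)
    fun α _ => (FT_Dade0_hyp hL).dade_one α
  rw [FTsupp0_type1 ht]; exact s12_irr_supp hL ht h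

/-- (12.2) -/
theorem FTtype1_subcoherent (hL : IsCoatom L) (ht : FTtype L = 1) :
    ∃ R₁ R, Type1Base L R₁ R := by
  classical
  obtain ⟨R₁, h₁⟩ := s12_irr_subcoherent hL ht
  have hHL := fittingHallOf_le L
  have hn := (norm_Fcore hL).ge
  set C : (L → ℂ) → Finset (L → ℂ) := fun χ => (Irr L).filter fun φ => ⟪χ, φ⟫ ≠ 0 with hC
  have mC : ∀ χ φ, φ ∈ C χ ↔ IsIrrCharacter L φ ∧ ⟪χ, φ⟫ ≠ 0 := fun χ φ => by simp [hC]
  have sC : ∀ χ ∈ seqIndD MF[L] L MF[L] ⊥, χ = ∑ φ ∈ C χ, φ := fun χ hχ => by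
    obtain ⟨C', h1, h2, -⟩ := FTtype1_seqInd_facts hL ht hχ
    rwa [show C χ = C' from Finset.ext fun φ => (mC χ φ).trans (h1 φ).symm]
  have iC : ∀ χ ∈ seqIndD MF[L] L MF[L] ⊥, ∀ φ ∈ C χ, φ ∈ IrrKerD L MF[L] ⊥ := fun χ hχ φ h =>
    s12_not_inKer hHL hχ ((mC χ φ).1 h).1 ((mC χ φ).1 h).2
  have ch : ∀ χ ∈ seqIndD MF[L] L MF[L] ⊥, IsCharacter L χ := fun χ hχ =>
    seqIndT_char hHL (seqIndD_subset_T hχ)
  have oC : ∀ χ ∈ seqIndD MF[L] L MF[L] ⊥, ∀ χ' ∈ seqIndD MF[L] L MF[L] ⊥,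
      ⟪χ', conjFun χ⟫ = 0 → ∀ φ ∈ C χ, ∀ φ' ∈ C χ', φ' ≠ conjFun φ := by
    intro χ hχ χ' hχ' h0 φ hφ φ' hφ' e
    refine s12_ci_ne_zero (ch _ hχ') (ch _ hχ).conjFun ((mC _ _).1 hφ').1 ((mC _ _).1 hφ').2 ?_ h0
    rw [e, ci_conjFun', Ne, ci_eq_zero_comm]; exact ((mC _ _).1 hφ).2
  have oR : ∀ χ ∈ seqIndD MF[L] L MF[L] ⊥, ∀ φ ∈ C χ, ∀ φ' ∈ C χ, φ' ≠ φ →
      ∀ α ∈ R₁ φ', ∀ β ∈ R₁ φ, ⟪α, β⟫ = 0 := fun χ hχ φ hφ φ' hφ' hne =>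
    h₁.orth_R (iC χ hχ φ hφ) (iC χ hχ φ' hφ') hne (oC χ hχ χ hχ
      (ci_eq_zero_symm (seqIndD_conj_ortho hHL hn (mFT_odd L) hχ)) φ hφ φ' hφ')
  have hz : zspanOn (seqIndD MF[L] L MF[L] ⊥) {1}ᶜ ⊆ zspanOn (IrrKerD L MF[L] ⊥) {1}ᶜ :=
    fun α hα => ⟨zspan_subset_of_subset (fun χ hχ => by
      rw [sC χ hχ]; exact sum_mem_zspan fun φ h => mem_zspan_of_mem (iC χ hχ φ h)) hα.1, hα.2⟩
  refine ⟨R₁, fun χ => (C χ).biUnion R₁, h₁, ⟨?_, ch, fun χ h => conj_seqIndD h,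
    fun χ h => seqIndD_conj_ne hHL hn (mFT_odd L) h, h₁.isometry.mono hz,
    fun α h => h₁.map_one α (hz h), fun χ h φ h' => seqIndT_ortho hHL hn (seqIndD_subset_T h)
      (seqIndD_subset_T h'), ?_, ?_, ?_, ?_⟩, fun χ hχ α => ?_⟩
  · exact let ⟨φ, h, _⟩ := FTtype1_ref_irr hL; ⟨φ, h⟩
  · intro χ hχ α hα β hβ
    obtain ⟨φ, hφ, hα⟩ := Finset.mem_biUnion.1 hα
    obtain ⟨φ', hφ', hβ⟩ := Finset.mem_biUnion.1 hβ
    by_cases e : φ = φ'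
    · subst e; exact h₁.orthonormal φ (iC χ hχ φ hφ) α hα β hβ
    have h0 := oR χ hχ φ' hφ' φ hφ e α hα β hβ
    rw [if_neg, h0]
    rintro rfl
    exact one_ne_zero ((h₁.isSIrr_R (iC χ hχ φ hφ) hα).ci_self.symm.trans h0)
  · intro χ hχ α hα
    obtain ⟨φ, hφ, hα⟩ := Finset.mem_biUnion.1 hα
    exact h₁.virtual φ (iC χ hχ φ hφ) α hα
  · intro χ hχ
    rw [Finset.sum_biUnion, ← Finset.sum_congr rfl fun φ h => h₁.sum_eq φ (iC χ hχ φ h), ← map_sum,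
      Finset.sum_sub_distrib, ← conjFun_sum, ← sC χ hχ]
    intro φ hφ φ' hφ' hne
    refine Finset.disjoint_left.2 fun α hα hα' => ?_
    exact one_ne_zero ((h₁.isSIrr_R (iC χ hχ φ hφ) hα).ci_self.symm.trans
      (oR χ hχ φ' hφ' φ hφ hne α hα α hα'))
  · intro χ hχ χ' hχ' h1 h2 α hα β hβ
    obtain ⟨φ', hφ', hα⟩ := Finset.mem_biUnion.1 hα
    obtain ⟨φ, hφ, hβ⟩ := Finset.mem_biUnion.1 hβ
    refine h₁.orth_R (iC χ hχ φ hφ) (iC χ' hχ' φ' hφ') ?_ (oC χ hχ χ' hχ' h2 φ hφ φ' hφ') α hα β hβ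
    rintro rfl
    exact s12_ci_ne_zero (ch _ hχ') (ch _ hχ) ((mC _ _).1 hφ).1 ((mC _ _).1 hφ').2
      ((mC _ _).1 hφ).2 h1
  · simp only [Finset.mem_biUnion, mC, and_assoc]

theorem s12_supp1 (ht : FTtype L = 1) : FTsupp1 L = sharp MF[L] := FTsupp1_type12 (by omega)

theorem s12_sharp_sub (hL : IsCoatom L) : sharp MF[L] ⊆ FTsupp0 L :=
  (Fcore_sub_FTsupp1 hL).trans ((FTsupp1_sub hL).trans (FTsupp_sub0 L))

theorem s12_sharp_norm (hL : IsCoatom L) : ∀ x ∈ L, ∀ a ∈ sharp MF[L], x * a * x⁻¹ ∈ sharp MF[L] :=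
  (FT_DadeF_hyp hL).conj_mem

theorem s12_sub_CF (hL : IsCoatom L) {χ φ : L → ℂ} (hχ : χ ∈ seqIndD MF[L] L MF[L] ⊥)
    (hφ : φ ∈ seqIndD MF[L] L MF[L] ⊥) (hd : χ 1 = φ 1) : χ - φ ∈ CF L (sharp MF[L]) :=
  zspan_seqIndT_on (fittingHallOf_le L) (norm_Fcore hL).ge seqIndD_subset_T
    (sub_mem_zspanOn_one (mem_zspan_of_mem hχ) (mem_zspan_of_mem hφ) hd)

private theorem ortho_aux (h₁ : IsCoatom L₁) (h₂ : IsCoatom L₂) (t₁ : FTtype L₁ = 1)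
    (t₂ : FTtype L₂ = 1)
    (hd : Disjoint (FTDadeSupp L₂ (FTsupp1 L₂)) (FTDadeSupp L₁ (FTsupp L₁)))
    {Q₁ R₁ : (L₁ → ℂ) → Finset (G → ℂ)}
    {Q₂ R₂ : (L₂ → ℂ) → Finset (G → ℂ)} (b₁ : Type1Base L₁ Q₁ R₁) (b₂ : Type1Base L₂ Q₂ R₂)
    {χ₁ : L₁ → ℂ} {χ₂ : L₂ → ℂ} (s₁ : χ₁ ∈ seqIndD MF[L₁] L₁ MF[L₁] ⊥)
    (s₂ : χ₂ ∈ seqIndD MF[L₂] L₂ MF[L₂] ⊥) : ∀ α ∈ R₁ χ₁, ∀ β ∈ R₂ χ₂, ⟪α, β⟫ = 0 := by
  classical
  intro α hα β hβ
  obtain ⟨φ, hφ, hne, hα'⟩ := (b₁.2.2 χ₁ s₁ α).1 hα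
  have hφI := s12_not_inKer (fittingHallOf_le L₁) s₁ hφ hne
  have hαs := b₁.1.isSIrr_R hφI hα'
  obtain ⟨μ, hμ, e⟩ := Dade_irr_sub_conjC (FT_Dade0_hyp h₁) hφ
    (by rw [FTsupp0_type1 t₁]; exact s12_irr_supp h₁ t₁ hφI)
  have one : ∀ {S : Finset (G → ℂ)},
      (∀ a ∈ S, ∀ b ∈ S, ⟪a, b⟫ = if a = b then 1 else 0) → ∀ a ∈ S, ⟪∑ b ∈ S, b, a⟫ = 1 := by
    intro S hS a ha
    rw [ci_sum_left, Finset.sum_congr rfl fun b hb => hS b hb a ha, Finset.sum_ite_eq', if_pos ha]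
  have e1 : ⟪μ - conjFun μ, α⟫ = 1 := by
    rw [← e]
    exact (congrArg (⟪·, α⟫) (b₁.1.sum_eq φ hφI)).trans
      (one (fun a ha b hb => by convert b₁.1.orthonormal φ hφI a ha b hb) α hα')
  have e2 : α - conjFun α = μ - conjFun μ := by
    rw [ci_sub_left] at e1
    rcases hμ.isSIrr.ci_cases hαs with ⟨h, -⟩ | ⟨-, h⟩ | ⟨-, -, h⟩
    · rw [h]
    · rcases hμ.conjFun.isSIrr.ci_cases hαs with ⟨-, h'⟩ | ⟨-, h'⟩ | ⟨-, -, h'⟩ <;>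
      · rw [h, h'] at e1; norm_num at e1
    · rw [h, zero_sub, neg_eq_iff_eq_neg] at e1
      have := hμ.conjFun.isSIrr.eq_neg_of_ci_eq_neg_one hαs e1
      rw [← neg_neg α, ← this, conjFun_neg, conjFun_conjFun]; abel
  set ψ := tau0 L₂ (χ₂ - conjFun χ₂) with hψ
  have hv : IsGeneralizedCharacter G ψ := b₂.2.1.isometry.virt (b₂.2.1.sub_conj_mem s₂)
  have e3 : ⟪ψ, α - conjFun α⟫ = 0 := by
    rw [e2, ← e, hψ, ← FT_DadeE h₂ (s12_sharp_sub h₂) (s12_sharp_norm h₂)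
      (s12_sub_CF h₂ s₂ (conj_seqIndD s₂) (b₂.2.1.conj_one s₂).symm)]
    rw [FTDadeSupp_eq, FTDadeSupp_eq, s12_supp1 t₂, ← FTsupp0_type1 t₁] at hd
    exact disjoint_Dade_ortho hd _ _
  have e4 : conjFun ψ = -ψ := by
    rw [hψ, ← map_neg, neg_sub]
    exact (conjFun_dade _ _ _ _).trans (by rw [conjFun_sub, conjFun_conjFun]; rfl)
  have e5 : ⟪ψ, α⟫ = 0 := by
    rw [ci_sub_right, ← conjFun_conjFun ψ, ci_conjFun', conjFun_conjFun, e4, ci_neg_right,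
      hαs.virt.ci_comm hv] at e3
    linear_combination e3 / 2
  by_contra h0
  have e6 : ⟪ψ, β⟫ = 1 := (congrArg (⟪·, β⟫) (b₂.2.1.sum_eq χ₂ s₂)).trans
    (one (fun a ha b hb => by convert b₂.2.1.orthonormal χ₂ s₂ a ha b hb) β hβ)
  rcases hαs.eq_or_eq_neg_of_ci_ne_zero (b₂.2.1.isSIrr_R s₂ hβ) h0 with h | h
  · rw [h, e6] at e5; exact one_ne_zero e5
  · rw [h, ci_neg_right, e6] at e5; norm_num at e5

/-- (12.3) -/
theorem FTtype1_seqInd_ortho (h₁ : IsCoatom L₁) (h₂ : IsCoatom L₂) (t₁ : FTtype L₁ = 1)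
    (t₂ : FTtype L₂ = 1) (hc : ¬ Conjg L₁ L₂) {Q₁ R₁ : (L₁ → ℂ) → Finset (G → ℂ)}
    {Q₂ R₂ : (L₂ → ℂ) → Finset (G → ℂ)} (b₁ : Type1Base L₁ Q₁ R₁) (b₂ : Type1Base L₂ Q₂ R₂)
    {χ₁ : L₁ → ℂ} {χ₂ : L₂ → ℂ} (s₁ : χ₁ ∈ seqIndD MF[L₁] L₁ MF[L₁] ⊥)
    (s₂ : χ₂ ∈ seqIndD MF[L₂] L₂ MF[L₂] ⊥) : ∀ α ∈ R₁ χ₁, ∀ β ∈ R₂ χ₂, ⟪α, β⟫ = 0 := by
  rcases (FT_Dade_support_disjoint h₁ h₂ hc).2.2 with h | h
  · exact fun α hα β hβ => ci_eq_zero_symm (ortho_aux h₂ h₁ t₂ t₁ h b₂ b₁ s₂ s₁ β hβ α hα)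
  · exact ortho_aux h₁ h₂ t₁ t₂ h b₁ b₂ s₁ s₂

/-- (12.4) -/
theorem FTtype1_ortho_constant (hL : IsCoatom L) (ht : FTtype L = 1)
    {Q R : (L → ℂ) → Finset (G → ℂ)} (b : Type1Base L Q R) {ψ : G → ℂ}
    (hψ : IsClassFunction G ψ) (ho : ∀ φ ∈ seqIndD MF[L] L MF[L] ⊥, ∀ α ∈ R φ, ⟪ψ, α⟫ = 0)
    {x y : G} (hx : x ∈ L) (hxH : x ∉ MF[L]) (hy : y ∈ MF[L]) : ψ (x * y) = ψ x := by
  classical
  have hHL := fittingHallOf_le L
  have hn := (norm_Fcore hL).ge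
  set f : L → ℂ := fun z => ψ z with hf
  have cf : IsClassFunction L f := hψ.restrict L
  set C : (L → ℂ) → Finset (L → ℂ) := fun χ => (Irr L).filter fun φ => ⟪χ, φ⟫ ≠ 0 with hC
  have mC : ∀ χ φ, φ ∈ C χ ↔ IsIrrCharacter L φ ∧ ⟪χ, φ⟫ ≠ 0 := fun χ φ => by simp [hC]
  have key : ∀ χ ∈ seqIndD MF[L] L MF[L] ⊥, ∀ z : L, (z : G) ∉ MF[L] →
      ∑ φ ∈ C χ, ⟪f, φ⟫ * φ z = 0 := by
    intro χ hχ z hz
    obtain ⟨C', h1, h2, h3, h4⟩ := FTtype1_seqInd_facts hL ht hχ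
    rw [show C χ = C' from Finset.ext fun φ => (mC χ φ).trans (h1 φ).symm]
    have hI : ∀ φ ∈ C', φ ∈ IrrKerD L MF[L] ⊥ := fun φ h =>
      s12_not_inKer hHL hχ ((h1 φ).1 h).1 ((h1 φ).1 h).2
    obtain ⟨θ, ⟨hθ, -⟩, e⟩ := id hχ
    have hr : ∀ φ ∈ C', (Nat.card ((nEmb hHL hn).inertia θ) : ℂ) • cRes MF[L] φ =
        ∑ x : L, (nEmb hHL hn).cj θ x := by
      intro φ h
      have e1 : ⟪cRes MF[L] φ, θ⟫ = 1 := by
        rw [← ci_cInd_right hHL (hI φ h).1.isClassFunction, e]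
        refine ci_symm_of_nat (n := 1) ?_ |>.trans Nat.cast_one
        rw [h2, s12_ci_sum_irr (fun φ h => (hI φ h).1) (hI φ h).1, if_pos h, Nat.cast_one]
      rw [cRes_eq hHL] at e1 ⊢
      have := (nEmb hHL hn).clifford (hI φ h).1 hθ (by rw [nEmb_f, e1]; exact one_ne_zero)
      rw [nEmb_f, e1, one_smul] at this
      exact this
    have hc : ∀ φ ∈ C', ∀ φ' ∈ C', ⟪f, φ⟫ = ⟪f, φ'⟫ := by
      intro φ h φ' h'
      have e1 : cRes MF[L] φ = cRes MF[L] φ' := smul_right_injective _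
        (card_ne_zero_complex _) ((hr φ h).trans (hr φ' h').symm)
      have e2 : ∀ w : L, (w : G) ∈ MF[L] → (φ - φ') w = 0 := fun w hw => by
        have := congrFun e1 ⟨w, hw⟩
        rw [cRes_apply hHL, cRes_apply hHL] at this
        exact sub_eq_zero.2 this
      have e3 : tau0 L (φ - φ') = indFun L (φ - φ') := by
        refine (FT_Dade0_hyp hL).dade_eq_indFun
          ((hI φ h).1.isClassFunction.sub (hI φ' h').1.isClassFunction) (fun w hw => ?_)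
          fun w hw hne => ?_
        · by_cases h1 : (w : G) = 1
          · exact e2 w (h1 ▸ one_mem _)
          rw [FTsupp0_type1 ht] at hw
          have hw' : (w : G) ∉ insert 1 (FTsupp L) := fun h => h.elim h1 hw
          rw [Pi.sub_apply, h4 φ h w hw', h4 φ' h' w hw', sub_zero]
        · refine if_pos (by_contra fun hc => hne (e2 w ?_))
          have := ((FTsupport_facts hL (Or.inr (Or.inr rfl))).2 w hw hc).1
          rw [s12_supp1 ht] at this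
          exact this.1
      have e4 := s12_ortho_sub b.1 (hI φ h) (hI φ' h') (h3 φ h φ' h') (ψ := ψ)
        (fun α a => ho χ hχ α ((b.2.2 χ hχ α).2 ⟨φ, ((h1 φ).1 h).1, ((h1 φ).1 h).2, a⟩))
        (fun α a => ho χ hχ α ((b.2.2 χ hχ α).2 ⟨φ', ((h1 φ').1 h').1, ((h1 φ').1 h').2, a⟩))
      rw [e3, ci_indFun_right L hψ, ci_sub_right] at e4
      exact sub_eq_zero.1 e4
    rcases C'.eq_empty_or_nonempty with h0 | ⟨φ₀, h0⟩
    · rw [h0, Finset.sum_empty]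
    rw [Finset.sum_congr rfl fun φ h => by rw [hc φ h φ₀ h0], ← Finset.mul_sum, ← Finset.sum_apply,
      ← h2, seqIndT_on hHL hn (seqIndD_subset_T hχ) z hz, mul_zero]
  have key2 : ∀ z : L, (z : G) ∉ MF[L] →
      ∑ φ ∈ (Irr L).filter (fun φ => ¬ InKer MF[L] φ), ⟪f, φ⟫ * φ z = 0 := by
    intro z hz
    have : (Irr L).filter (fun φ => ¬ InKer MF[L] φ) =
        (seqIndD_finite MF[L] L MF[L] ⊥).toFinset.biUnion C := by
      ext φ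
      simp only [Finset.mem_filter, mem_Irr, Finset.mem_biUnion, Set.Finite.mem_toFinset, mC]
      exact ⟨fun h => let ⟨χ, h1, h2⟩ := s12_exists_seqInd hHL hn ⟨h.1, h.2, inKer_bot _⟩
        ⟨χ, h1, h.1, h2⟩, fun ⟨χ, h1, h2, h3⟩ => ⟨h2, (s12_not_inKer hHL h1 h2 h3).2.1⟩⟩
    rw [this, Finset.sum_biUnion]
    · exact Finset.sum_eq_zero fun χ h => key χ ((Set.Finite.mem_toFinset _).1 h) z hz
    · intro χ h χ' h' hne
      have h := seqIndD_subset_T ((Set.Finite.mem_toFinset _).1 h)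
      have h' := seqIndD_subset_T ((Set.Finite.mem_toFinset _).1 h')
      refine Finset.disjoint_left.2 fun φ a a' => ?_
      exact s12_ci_ne_zero (seqIndT_char hHL h) (seqIndT_char hHL h') ((mC _ _).1 a).1
        ((mC _ _).1 a).2 ((mC _ _).1 a').2 (seqIndT_ortho hHL hn h h' hne)
  change f (⟨x, hx⟩ * ⟨y, hHL hy⟩) = f ⟨x, hx⟩
  rw [cf.apply_eq_sum_irr, cf.apply_eq_sum_irr ⟨x, hx⟩,
    ← Finset.sum_filter_add_sum_filter_not _ (fun φ => InKer MF[L] φ),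
    ← Finset.sum_filter_add_sum_filter_not (Irr L) (fun φ => InKer MF[L] φ), key2 ⟨x, hx⟩ hxH,
    key2 _ fun h => hxH ((mul_mem_cancel_right hy).1 h)]
  congr 1
  refine Finset.sum_congr rfl fun φ h => ?_
  obtain ⟨h1, h2⟩ := Finset.mem_filter.1 h
  rw [(mem_Irr.1 h1).isClassFunction.mul_comm, h2.mul (mem_Irr.1 h1).isCharacter hy]

/-- (12.5) -/
theorem FtypeI_invDade_ortho_constant (hL : IsCoatom L) (ht : FTtype L = 1)
    {Q R : (L → ℂ) → Finset (G → ℂ)} (b : Type1Base L Q R) {ψ : G → ℂ}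
    (hψ : IsClassFunction G ψ) (ho : ∀ φ ∈ seqIndD MF[L] L MF[L] ⊥, ∀ α ∈ R φ, ⟪ψ, α⟫ = 0)
    {x y : L} (hx : (x : G) ∈ MF[L]) (hx' : (x : G) ∉ ⁅MF[L], MF[L]⁆) (hy : (y : G) ∈ MF[L])
    (hy' : (y : G) ∉ ⁅MF[L], MF[L]⁆) :
    dadeRho (sharp MF[L]) L (FTsignalizer L) ψ x = dadeRho (sharp MF[L]) L (FTsignalizer L) ψ y := by
  have hHL := fittingHallOf_le L
  have hD := FT_DadeF_hyp hL
  have cr := hD.isClassFunction_rho hψ
  obtain ⟨l, hl⟩ := s12_exists_lin (K := MF[L]) (x := ⟨(x : G), hx⟩) hx'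
  obtain ⟨m, hm⟩ := s12_exists_lin (K := MF[L]) (x := ⟨(y : G), hy⟩) hy'
  have := s12_const_off_der (cr.cRes hHL) (fun θ θ' h h' n n' d => ?_) hl hm
  · rwa [cRes_apply hHL, cRes_apply hHL] at this
  have s : cInd L θ ∈ seqIndD MF[L] L MF[L] ⊥ :=
    ⟨θ, ⟨h, fun k => n ((inKer_self_iff h).1 k), inKer_bot _⟩, rfl⟩
  have s' : cInd L θ' ∈ seqIndD MF[L] L MF[L] ⊥ :=
    ⟨θ', ⟨h', fun k => n' ((inKer_self_iff h').1 k), inKer_bot _⟩, rfl⟩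
  have d' : cInd L θ 1 = cInd L θ' 1 := by rw [cInd_one hHL, cInd_one hHL, d]
  have c := s12_sub_CF hL s s' d'
  have e := s12_ortho_sub b.2.1 s s' d' (ho _ s) (ho _ s')
  rw [← FT_DadeE hL (s12_sharp_sub hL) (s12_sharp_norm hL) c, ci_eq_zero_comm] at e
  rw [← ci_cInd_right hHL cr, ← ci_cInd_right hHL cr, ← sub_eq_zero, ← ci_sub_right,
    ci_eq_zero_comm, ← hD.ci_dade_rho c.1 c.2 hψ]
  exact e

theorem s12_cohF_iff (hL : IsCoatom L) {ν : (L → ℂ) →ₗ[ℂ] (G → ℂ)} :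
    CohWith (seqIndD MF[L] L MF[L] ⊥) (tauF L) ν ↔ CohWith (seqIndD MF[L] L MF[L] ⊥) (tau0 L) ν :=
  CohWith.dade_congr (FT_Dade0_hyp hL) (s12_sharp_sub hL) (s12_sharp_norm hL) fun φ h =>
    ⟨seqIndT_class (seqIndD_subset_T h), (seqIndT_on (fittingHallOf_le L) (norm_Fcore hL).ge
      (seqIndD_subset_T h)).insert_sharp⟩

/-- (12.6) -/
theorem FT_Frobenius_coherence (hL : IsCoatom L) (hF : FrobKer L MF[L]) :
    (∀ φ ∈ seqIndD MF[L] L MF[L] ⊥, IsIrrCharacter L φ) ∧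
    Coh (seqIndD MF[L] L MF[L] ⊥) (tauF L) := by
  have hHL := fittingHallOf_le L
  have hn := (norm_Fcore hL).ge
  have ht := FT_Frobenius_type1 hL hF
  refine ⟨fun φ ⟨θ, h, e⟩ => e ▸ irr_induced_Frobenius_ker hF h.1 (ne_one_of_not_inKer h.2.1), ?_⟩
  obtain ⟨U, hU⟩ := hF
  obtain ⟨Q, R, -, b, -⟩ := FTtype1_subcoherent hL ht
  have hnil := fittingHallOf_nilpotent L
  rcases (compl_of_typeI hL ht hU.sdprod).2 with h | ⟨h, -⟩ | ⟨h, -⟩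
  · obtain ⟨ν, hν⟩ := Sibley_coherence (W₁ := U) (mFT_odd L) hnil h (Or.inl hU)
    refine ⟨ν, hν.congr fun α hα => ?_⟩
    have c := zspan_seqIndT_on hHL hn seqIndD_subset_T hα
    exact ((FT_DadeF_hyp hL).dade_eq_indFun c.1 c.2 fun x hx _ =>
      if_pos (le_trans (by rw [top_inf_eq]) (h.cent1_le hx))).symm
  · obtain ⟨ν, hν⟩ := uniform_degree_coherence b ⟨subset_rfl, b.conj_mem⟩ (by
      rintro _ ⟨θ, a, rfl⟩ _ ⟨θ', a', rfl⟩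
      rw [cInd_one hHL, cInd_one hHL, a.1.degree_one_of_comm, a'.1.degree_one_of_comm])
    exact ⟨ν, (s12_cohF_iff hL).2 hν⟩
  · by_contra hc
    have hs : Group.IsSolvable MF[L] := sub_mmax_sol hL hHL
    have hb : MF[L] ≤ N[(⊥ : Subgroup G)] := by rw [norm_bot]; exact le_top
    obtain ⟨-, -, p, hp, h1, h2, h3⟩ := non_coherent_chief (M := ⊥) hHL hn hs b
      ⟨mFT_odd L, by rw [norm_bot]; exact le_top, bot_le, nilpotent_im hnil,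
        (s12_frob_quo hU (der_sup_lt_of_solvable (bot_lt_iff_ne_bot.2 hU.ker_ne_bot) hb hs)
          (by rw [sup_bot_eq]; exact le_norm_commutator hn hn)).frobKer⟩
      fun ⟨ν, hν⟩ => hc ⟨ν, (s12_cohF_iff hL).2 hν⟩
    refine h3 ?_
    rw [hU.sdprod.relIndex, typeF_card_compl (mFT_odd L) (mmax_sol hL) (Frobenius_of_typeF hU)
      le_rfl rfl (by rw [hU.sdprod.sup_eq]; exact hU)]
    refine h p hp ((prime_dvd_card_of_isPGroup hp h1 fun e => ?_).trans card_im_dvd)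
    exact hU.ker_ne_bot (le_bot_iff.1 ((quo_eq_bot_iff hb).1 e))

end Cfsg.Agent.PF
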