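import Cfsg.Agent.PF.S11
import Cfsg.Agent.PF.S12a

set_option autoImplicit false
set_option linter.unusedSectionVars false
set_option linter.unusedVariables false

namespace Cfsg.Agent.PF

open Subgroup Cfsg.Agent.GT Cfsg.Agent.BG Cfsg.Agent.Char

universe u v w

/-! Peterfalvi (12.8)–(12.12). -/

section Group
variable {G : Type u} [Group G] [Finite G] {E T U U₀ : Subgroup G} {p : ℕ}

theorem s12_two_mul_le {e n : ℕ} (he : Odd e) (hn : Even n) (h0 : 0 < n) (h : e ∣ n) :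
    2 * e ≤ n := Nat.le_of_dvd h0 (Nat.Coprime.mul_dvd_of_dvd_of_dvd
      (Nat.coprime_two_left.2 he) hn.two_dvd h)

theorem s12_dvd_of_exponent (hp : p.Prime) (h : p ∣ Nat.card U) : p ∣ Monoid.exponent U := by
  have := Fact.mk hp
  obtain ⟨y, hy⟩ := exists_prime_orderOf_dvd_card' p h
  exact hy ▸ Monoid.order_dvd_exponent y

theorem s12_exists_prime_sub (hp : p.Prime) (h : p ∣ Nat.card U)
    (he : Monoid.exponent U₀ = Monoid.exponent U) : ∃ B, B ≤ U₀ ∧ Nat.card B = p :=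
  exists_le_card_eq_prime hp ((he ▸ s12_dvd_of_exponent hp h).trans Group.exponent_dvd_nat_card)

theorem s12_dvd_succ_of_free (hp : p.Prime) (hT : ∀ t ∈ T, t ^ p = 1) (hc : Nat.card T = p ^ 2)
    (hn : E ≤ N[T]) (h : ∀ t ∈ T, t ≠ 1 → ∀ y ∈ E, y ∈ N[zpowers t] → y = 1) :
    Nat.card E ∣ p + 1 := by
  have := Fact.mk hp
  have ho : ∀ t : sharp T, orderOf (t : G) = p := fun t => PG.orderOf_eq_prime' hp (hT _ t.2.1) t.2.2
  letI : MulAction (E × (ZMod p)ˣ) (sharp T) :=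
    { smul := fun a t => ⟨a.1 * t.1 ^ (a.2 : ZMod p).val * (a.1 : G)⁻¹,
        conj_mem_of_le_norm hn a.1.2 (pow_mem t.2.1 _), s16_conj_ne_one.2 fun e =>
          hp.one_lt.ne' ((ZMod.val_coe_unit_coprime a.2).symm.eq_one_of_dvd
            ((ho t).symm.dvd.trans (orderOf_dvd_of_pow_eq_one e)))⟩
      one_smul := fun t => Subtype.ext (by
        change ((1 : E) : G) * t.1 ^ (((1 : (ZMod p)ˣ) : ZMod p)).val * ((1 : E) : G)⁻¹ = t.1
        simp [ZMod.val_one])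
      mul_smul := fun a b t => Subtype.ext (by
        change ((a.1 * b.1 : E) : G) * t.1 ^ (((a.2 * b.2 : (ZMod p)ˣ) : ZMod p)).val *
          ((a.1 * b.1 : E) : G)⁻¹ = a.1 * (b.1 * t.1 ^ (b.2 : ZMod p).val * (b.1 : G)⁻¹) ^
            (a.2 : ZMod p).val * (a.1 : G)⁻¹
        rw [Units.val_mul, ZMod.val_mul, ← pow_eq_pow_mod _ (hT _ t.2.1), conj_pow, ← pow_mul,
          mul_comm (b.2 : ZMod p).val, coe_mul]
        group) }
  have e := MulAction.selfEquivOrbitsQuotientProd (G := E × (ZMod p)ˣ) (X := sharp T) fun t => by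
    rw [eq_bot_iff]
    rintro ⟨a, k⟩ hk
    have hk' : (a : G) * t.1 ^ (k : ZMod p).val * (a : G)⁻¹ = t.1 := congrArg Subtype.val hk
    have h1 : (a : G)⁻¹ = 1 := h t t.2.1 t.2.2 _ (inv_mem a.2) (mem_normalizer_of_conj_le (by
      rw [conj_zpowers, zpowers_le]
      exact ⟨((k : ZMod p).val : ℤ), by
        simp only [zpow_natCast]; conv_rhs => rw [← hk']
        group⟩))
    rw [inv_eq_one] at h1
    rw [h1, one_mul, inv_one, mul_one] at hk'
    have h2 : (k : ZMod p).val ≡ 1 [MOD p] := by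
      have := pow_eq_pow_iff_modEq.1 (hk'.trans (pow_one _).symm)
      rwa [ho t] at this
    have h3 : (k : ZMod p) = 1 := by
      rw [← ZMod.natCast_zmod_val (k : ZMod p), (ZMod.natCast_eq_natCast_iff _ _ _).2 h2, Nat.cast_one]
    exact mem_bot.2 (Prod.ext (Subtype.ext h1) (Units.ext h3))
  have h0 : Nat.card (sharp T) = p ^ 2 - 1 := by
    rw [sharp_eq, Nat.card_coe_set_eq, Set.ncard_diff_singleton_of_mem T.one_mem,
      ← Nat.card_coe_set_eq, SetLike.coe_sort_coe, hc]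
  have h1 := Nat.card_congr e
  rw [Nat.card_prod, Nat.card_prod, Nat.card_eq_fintype_card (α := (ZMod p)ˣ), ZMod.card_units,
    h0, ← mul_assoc,
    show p ^ 2 - 1 = (p + 1) * (p - 1) by rw [← Nat.sq_sub_sq, one_pow]] at h1
  exact Dvd.intro_left _ (Nat.eq_of_mul_eq_mul_right (Nat.sub_pos_of_lt hp.one_lt) h1).symm

theorem s12_rank2_bound (hp : p.Prime) (hp2 : p ≠ 2) (hT : IsElementaryAbelian p T) (h1 : T ≠ ⊥)
    (hc : Nat.card T ≤ p ^ 2) (hn : E ≤ N[T]) (hr : Semiregular T E) (ho : Odd (Nat.card E))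
    (hs : Group.IsSolvable E)
    (hx : Nat.card T = p ^ 2 → ∃ x ∈ T, ∀ y ∈ E, y ∈ N[zpowers x] → y = 1) :
    2 * Nat.card E ≤ p + 1 := by
  have := Fact.mk hp
  have hpo := hp.odd_of_ne_two hp2
  by_cases hX : ∃ X, X ≤ T ∧ Nat.card X = p ∧ E ≤ N[X]
  · obtain ⟨X, h1, h2, h3⟩ := hX
    have := s12_two_mul_le ho (Nat.Odd.sub_odd hpo odd_one) (Nat.sub_pos_of_lt hp.one_lt)
      (s15_card_dvd_of_reg hp h2 h3 (hr.mono h1 le_rfl))
    omega
  have hTp := PG.elemAb_isPGroup hT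
  have hc2 : Nat.card T = p ^ 2 := le_antisymm hc (PG.pow_succ_le_card_of_lt hTp (n := 1) (by
    rw [pow_one]
    exact lt_of_le_of_ne (PG.p_le_card_of_ne_bot hTp h1) fun e => hX ⟨T, le_rfl, e.symm, hn⟩))
  obtain ⟨x, hxT, hx⟩ := hx hc2
  have hab : IsMulCommutative E := by
    rw [comm_iff_le_cent, le_cent_iff_commutator_eq_bot]
    by_contra h
    refine h1 (le_bot_iff.1 ((hr.inf_cent (der_le E) h).le.trans' (le_inf le_rfl (le_cent_symm ?_))))
    exact PG.commutator_le_cent_of_elemAb_sq hp2 hT hc hn hs ho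
      ((semiregular_coprime hr hn).symm.coprime_dvd_right (PG.dvd_card_of_ne_bot hTp h1))
  refine s12_two_mul_le ho (hpo.add_odd odd_one) (Nat.succ_pos p)
    (s12_dvd_succ_of_free hp hT.2 hc2 hn fun t ht ht1 y hy hyt => hx y hy ?_)
  have hct := PG.card_zpowers_eq_prime hp (hT.2 t ht) ht1
  obtain ⟨z, hz, hzt⟩ : ∃ z ∈ E, z ∉ N[zpowers t] := by
    by_contra hc
    push Not at hc
    exact hX ⟨_, zpowers_le.2 ht, hct, hc⟩
  have ht' := conj_mem_of_le_norm hn hz ht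
  have hT' := PG.eq_sup_zpowers_of_card_eq_mul hp (zpowers_le.2 ht) (by rw [hct, hc2, sq]) ht'
    fun e => hzt (mem_normalizer_of_conj_le (by rwa [conj_zpowers, zpowers_le]))
  have hcm := isMulCommutative_iff_forall.1 hT.1
  obtain ⟨i, hi⟩ := conj_mem_of_mem_norm hyt (mem_zpowers t)
  have hi : t ^ i = y * t * y⁻¹ := hi
  have hi' : (z * t * z⁻¹) ^ i = y * (z * t * z⁻¹) * y⁻¹ := by
    have := isMulCommutative_iff_forall.1 hab y hy z hz
    rw [conj_zpow, hi]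
    calc z * (y * t * y⁻¹) * z⁻¹ = (z * y) * t * (z * y)⁻¹ := by group
      _ = (y * z) * t * (y * z)⁻¹ := by rw [this]
      _ = _ := by group
  rw [hT'] at hxT
  obtain ⟨_, ⟨m, rfl⟩, n, rfl⟩ := (PG.mem_sup_zpowers (cent_le_norm _ (by
    rw [cent_zpowers, mem_cent1]; exact hcm _ ht' _ ht))).1 hxT
  refine mem_normalizer_of_conj_le ?_
  rw [conj_zpowers, zpowers_le]
  refine ⟨i, ?_⟩
  have hco : Commute (t ^ m) ((z * t * z⁻¹) ^ n) := hcm _ (zpow_mem ht m) _ (zpow_mem ht' n)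
  simp only
  rw [hco.mul_zpow, ← zpow_mul, ← zpow_mul, mul_comm m, mul_comm n, zpow_mul, zpow_mul, hi, hi',
    conj_zpow, conj_zpow (a := y)]
  group

end Group

variable {G : Type u} [Group G] [Fintype G] [MFT G] {L M P E : Subgroup G} {p : ℕ} {x : G}

/-- (12.8) and the conclusion of (12.9) -/
structure H12 (p : ℕ) (M P L : Subgroup G) (x : G) : Prop where
  prime : p.Prime
  ih : ∀ q < p, q.Prime → ∀ N : Subgroup G, IsCoatom N → FTtype N = 1 → ¬ PRankLE q 1 N →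
    q ∣ Nat.card MF[N]
  maxM : IsCoatom M
  tM : FTtype M = 1
  syl : IsPiHallOf {p} P M
  ndvd : ¬ p ∣ Nat.card MF[M]
  ab : IsMulCommutative P
  rk2 : PRankLE p 2 P
  rk1 : ¬ PRankLE p 1 P
  maxL : IsCoatom L
  PL : P ≤ FTcore L
  xP : x ∈ P
  x1 : x ≠ 1
  xp : x ^ p = 1
  nC : ¬ MF[M] ⊓ C1[x] ≤ ⁅MF[M], MF[M]⁆
  NM : N[zpowers x] ≤ M
  nL : ¬ C1[x] ≤ L

/-- (12.9) -/
theorem non_Frobenius_FTtype1_witness (hp : p.Prime)
    (ih : ∀ q < p, q.Prime → ∀ N : Subgroup G, IsCoatom N → FTtype N = 1 → ¬ PRankLE q 1 N →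
      q ∣ Nat.card MF[N]) (hM : IsCoatom M) (ht : FTtype M = 1) (hr : ¬ PRankLE p 1 M)
    (hd : ¬ p ∣ Nat.card MF[M]) : ∃ P L x, H12 p M P L x := by
  have := Fact.mk hp
  obtain ⟨P, hP⟩ := exists_syl hp M
  have hPp := syl_isPGroup hp hP
  obtain ⟨U, hU, hPU⟩ := exists_hall_ge (π := (piOf (Nat.card MF[M]))ᶜ) (mmax_sol hM) hP.le
    (isPi_of_isPGroup_mem hp hPp fun h => hd h.2)
  have defM := IsPiHallOf.sdprod (isPiHallOf_fittingHallOf M) (norm_Fcore hM).ge hU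
  obtain ⟨h1, h2, -⟩ := FTtypeI_II_facts hM (by omega) (by rw [FTder_type1 ht]; exact defM)
  obtain ⟨hab, hr2⟩ := h1 p hp P (syl_of_le hP hPU hU.le)
  have hr1 : ¬ PRankLE p 1 P := by rwa [PG.pRankLE_iff_of_isPiHallOf hP rfl]
  have hP1 : p ∣ Nat.card P := by_contra fun h => hr1 (PG.pRankLE_of_not_dvd h)
  obtain ⟨L, hL, hdL⟩ := exists_FTcore_dvd hp (hP1.trans (card_subgroup_dvd_card P))
  obtain ⟨S, hS⟩ := exists_syl hp (FTcore L)
  obtain ⟨g, -, hg⟩ := syl_exists_le_conj hp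
    (IsPiHallOf.trans_single hS (FTcore_Hall hL) ⟨hp, hdL⟩) hPp le_top
  have hPL : P ≤ FTcore (cj[g] L) := by rw [FTcore_conj]; exact hg.trans (conj_mono g hS.le)
  have hA := PG.elemAb_omegaOne (p := p) hab
  have hAP := PG.omegaOne_le p P
  obtain ⟨x, hx, hx1, hxC⟩ := coprime_abelian_exists_cent1 hA.1
    (PG.not_isCyclic_of_not_pRankLE hp le_rfl (by rwa [PG.pRankLE_omegaOne_iff]))
    ((hAP.trans hP.le).trans defM.norm)
    ((Fcore_sdprod_coprime defM).coprime_dvd_right (card_dvd_of_le (hAP.trans hPU)))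
    (commutator_lt_of_solvable (sub_mmax_sol hM (fittingHallOf_le M)) (mmax_Fcore_neq1 hM)).not_ge
  have hu := h2 {x} (Set.singleton_nonempty x) (Set.singleton_subset_iff.2 ⟨hPU (hAP hx), hx1⟩)
    fun e => hxC (e.le.trans bot_le)
  refine ⟨P, _, x, hp, ih, hM, ht, hP, hd, hab, hr2, hr1, isCoatom_conj g hL, hPL, hAP hx, hx1,
    hA.2 x hx, hxC, (norm_le_norm_cent _).trans (by rw [cent_zpowers]; exact hu.norm_le), fun h => ?_⟩
  rw [hu.eq (isCoatom_conj g hL) h, FTcore_type12 (by omega)] at hPL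
  exact hd (hP1.trans (card_dvd_of_le hPL))

namespace H12
variable (h : H12 p M P L x)
include h

theorem pP : IsPGroup p P := syl_isPGroup h.prime h.syl
theorem ne_bot : P ≠ ⊥ := ne_bot_of_mem h.xP h.x1
theorem dvdP : p ∣ Nat.card P := prime_dvd_card_of_isPGroup h.prime h.pP h.ne_bot
theorem p2 : p ≠ 2 := mFT_prime_ne_two h.dvdP
theorem xM : x ∈ M := h.syl.le h.xP
theorem CM : C1[x] ≤ M := by rw [← cent_zpowers]; exact (cent_le_norm _).trans h.NM
theorem xK : x ∉ MF[M] := fun e =>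
  h.ndvd (PG.orderOf_eq_prime' h.prime h.xp h.x1 ▸ orderOf_dvd_card_of_mem e)

theorem PH : P ≤ MF[L] := by
  by_cases ht : FTtype L ≤ 2
  · exact FTcore_type12 ht ▸ h.PL
  have hPL := h.PL
  rw [FTcore_type_gt2 (by omega)] at hPL
  by_cases hd : p ∣ Nat.card MF[L]
  · exact (isPiHallOf_fittingHallOf L).le_of_normal (norm_Fcore h.maxL).ge (hPL.trans (der_le L))
      (isPi_of_isPGroup_mem h.prime h.pP ⟨h.prime, hd⟩)
  obtain ⟨W₁, U, W₂, hP⟩ := FTtypeP_witness h.maxL (by omega)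
  have h10 : Hyp10 L W₁ U W₂ := ⟨h.maxL, hP, by omega⟩
  obtain ⟨-, -, t3, gal⟩ := FTtype34_structure h10
  have hc := (typeP_Galois_P h10.hyp9 gal).2.1
  rw [h10.hyp9.C_eq_of_H0 (FTtype34_Fcore_kernel_trivial h10).2.2, (FTtype34_facts h10).2.2.2,
    le_cent_iff_commutator_eq_bot.1 (comm_iff_le_cent.1 (compl_of_typeIII h.maxL hP t3).2.1)] at hc
  obtain ⟨e⟩ := nonempty_equiv_quo_of_inf_eq_bot (H := U) (K := ⊥) (by rw [norm_bot]; exact le_top)
    (inf_bot_eq U)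
  obtain ⟨g, -, hg⟩ := (typeP_U_hall hP).exists_conj_le (sub_mmax_sol h.maxL (der_le L)) hPL
    (isPi_of_isPGroup_mem h.prime h.pP fun e => hd e.2)
  exact absurd (PG.isCyclic_conj_iff.1 (cyc_of_le (e.isCyclic.2 hc) hg))
    (PG.not_isCyclic_of_not_pRankLE h.prime le_rfl h.rk1)

theorem xH : x ∈ sharp MF[L] := ⟨h.PH h.xP, h.x1⟩
theorem dvdH : p ∣ Nat.card MF[L] := h.dvdP.trans (card_dvd_of_le h.PH)

theorem tL : FTtype L = 1 := by
  by_contra ht
  obtain ⟨W₁, U, W₂, hP⟩ := FTtypeP_witness h.maxL ht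
  refine h.nL (le_trans (by rw [top_inf_eq]) ((compl_of_typeII_IV h.maxL hP
    (FTtype5_exclusion h.maxL)).2.2.2.cent1_le ⟨fittingHallOf_le_fittingOf L h.xH.1, h.x1⟩))

theorem P_le : P ≤ O[{p}](L) :=
  le_piCoreOf_of_le_fittingOf (h.PH.trans (fittingHallOf_le_fittingOf L)) h.syl.isPi

theorem O_le : O[{p}](L) ≤ MF[L] := piCoreOf_fittingHallOf h.prime h.dvdH ▸ piCoreOf_le _ _

theorem O_inf : O[{p}](L) ⊓ M = P :=
  h.syl.eq_of_le (le_inf h.P_le h.syl.le) inf_le_right (piCoreOf_isPi _ _).inf_left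

/-- (12.10) -/
theorem frobL : FrobKer L MF[L] := by
  have := Fact.mk h.prime
  obtain ⟨U, hU, hc⟩ := FTtype1_witness h.maxL h.tL
  refine ⟨U, (typeF_Frobenius_iff (mFT_odd L) (mmax_sol h.maxL) hU).2
    (PG.isZGroup_of_rankLE_one (mFT_odd U) fun q hq => by_contra fun hr => ?_)⟩
  have := Fact.mk hq
  have hqU : q ∣ Nat.card U := by_contra fun e => hr (PG.pRankLE_of_not_dvd e)
  have hqH : ¬ q ∣ Nat.card MF[L] :=
    not_dvd_of_coprime (Fcore_sdprod_coprime hU.1.2.2).symm hq hqU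
  refine hqH (h.ih q ?_ hq L h.maxL h.tL (PG.not_pRankLE_of_le hr hU.1.2.2.right_le))
  rcases hc with hc | ⟨-, hc, -⟩ | ⟨hc, -⟩
  · exact absurd (le_trans (by rw [top_inf_eq]) (hc.cent1_le h.xH)) h.nL
  · obtain ⟨U₀, h1, h2, h3⟩ := hU.2.2
    obtain ⟨B, hB, hBq⟩ := s12_exists_prime_sub hq hqU h2
    refine (PG.prime_lt_of_dvd_sq_sub_one h.prime h.p2 hq (PG.dvd_sq_sub_one_of_rank_two h.p2
      ((piCoreOf_isPi {p} L).isPGroup h.prime) (PG.pRankLE_of_le (hc p h.prime) h.O_le) hq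
      (fun e => hqH (e ▸ h.dvdH)) (isPGroup_of_card_eq_prime hBq)
      (((hB.trans h1).trans hU.1.2.2.right_le).trans (self_le_norm_piCoreOf _ _)) fun e => ?_)).1
    exact h.ne_bot (le_bot_iff.1 ((h3.reg.inf_cent hB (ne_bot_of_card_prime (hBq ▸ hq))).le.trans'
      (le_inf h.PH (h.P_le.trans (le_cent_symm e)))))
  · have := Nat.le_of_dvd (Nat.sub_pos_of_lt h.prime.one_lt)
      ((s12_dvd_of_exponent hq hqU).trans (hc p h.prime h.dvdH))
    have := h.prime.one_lt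
    omega

theorem sigN_eq : sigN x = M :=
  (((FTsupport_facts h.maxL (Or.inr (Or.inr rfl))).2 x (s12_sharp_sub h.maxL h.xH) h.nL).2.1.eq
    h.maxM h.CM).symm

/-- (12.11), first part -/
theorem defM : Sdprod MF[M] (L ⊓ M) M := by
  have := ((FTsupport_facts h.maxL (Or.inr (Or.inr rfl))).2 x (s12_sharp_sub h.maxL h.xH) h.nL).2.2.1
  rwa [h.sigN_eq] at this

theorem P_le_inf : P ≤ L ⊓ M := le_inf (h.PH.trans (fittingHallOf_le L)) h.syl.le

theorem exists_reg : ∃ B, B ≤ M ∧ Nat.card B = p ∧ Semiregular MF[M] B := by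
  obtain ⟨U₀, h1, h2, h3⟩ := (compl_of_typeI h.maxM h.tM h.defM).1.2.2
  obtain ⟨B, hB, hBp⟩ := s12_exists_prime_sub h.prime (h.dvdP.trans (card_dvd_of_le h.P_le_inf)) h2
  exact ⟨B, (hB.trans h1).trans inf_le_right, hBp, h3.reg.mono le_rfl hB⟩

/-- (12.11), second part -/
theorem inf_le : L ⊓ M ≤ MF[L] := by
  refine (isPiHallOf_fittingHallOf L).le_of_normal (norm_Fcore h.maxL).ge inf_le_left
    fun q hq hd => ⟨hq, by_contra fun hqH => ?_⟩
  obtain ⟨A, hA, hAq⟩ := exists_le_card_eq_prime hq hd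
  have hA1 := ne_bot_of_card_prime (hAq ▸ hq)
  obtain ⟨E, hF⟩ := h.frobL
  have hr : Semiregular P A := Semiregular.symm fun z hz hz1 =>
    eq_bot_of_le_of_coprime inf_le_left
      ((inf_le_inf_right _ (hA.trans inf_le_left)).trans (frob_cent1_le hF (h.PH hz) hz1))
      (hAq ▸ (Nat.Prime.coprime_iff_not_dvd hq).2 hqH)
  have hn : A ≤ N[P] := h.O_inf ▸ le_norm_inf
    ((hA.trans inf_le_left).trans (self_le_norm_piCoreOf _ _)) (le_norm_self (hA.trans inf_le_right))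
  have hPA : P ⊔ A ≤ L ⊓ M := sup_le h.P_le_inf hA
  have hK : MF[M] ⊓ C[A] ≠ ⊥ := fun e => by
    have h1 := (Frobenius_Wielandt_fixpoint (frob_sup hn h.ne_bot hA1 hr)
      (hPA.trans h.defM.right_norm)
      ((Fcore_sdprod_coprime h.defM).coprime_dvd_right (card_dvd_of_le hPA))
      (sub_mmax_sol h.maxM (fittingHallOf_le M))).2.1 e
    obtain ⟨B, hB, hBp, hBr⟩ := h.exists_reg
    obtain ⟨g, hg, hBg⟩ := syl_exists_le_conj h.prime h.syl (isPGroup_of_card_eq_prime hBp) hB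
    have h2 := hBg.trans (conj_mono g h1)
    rw [conj_centralizer, conj_eq_self (h.defM.norm hg)] at h2
    exact mmax_Fcore_neq1 h.maxM (le_bot_iff.1 ((hBr.inf_cent le_rfl
      (ne_bot_of_card_prime (hBp ▸ h.prime))).le.trans' (le_inf le_rfl (le_cent_symm h2))))
  obtain ⟨U₁, -, -, hab, hU₁⟩ := (compl_of_typeI h.maxM h.tM h.defM).1.2.1
  obtain ⟨k, hk, hk1⟩ := exists_ne_one_of_ne_bot hK
  obtain ⟨k', hk', hk1'⟩ := exists_ne_one_of_ne_bot fun e => h.nC (e.le.trans bot_le)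
  obtain ⟨y, hy, hy1⟩ := exists_ne_one_of_ne_bot hA1
  have h1 : y ∈ U₁ := hU₁ k hk.1 hk1 ⟨hA hy, mem_cent_iff_le_cent1.1 hk.2 hy⟩
  have h2 : x ∈ U₁ := hU₁ k' hk'.1 hk1' ⟨h.P_le_inf h.xP, mem_cent1_comm.1 hk'.2⟩
  exact h.x1 (semiregular_iff.1 hr y hy hy1 x h.xP (isMulCommutative_iff_forall.1 hab x h2 y h1))

/-- (12.12) -/
theorem two_mul_le (hF : Frob MF[L] E L) : 2 * Nat.card E ≤ p + 1 := by
  have := Fact.mk h.prime
  have hO := (piCoreOf_isPi {p} L).isPGroup h.prime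
  have hT := PG.elemAb_omegaOne_center (p := p) (H := O[{p}](L))
  have hTZ := PG.omegaOne_le p (O[{p}](L) ⊓ C[O[{p}](L)])
  have hTx := (hTZ.trans inf_le_right).trans (cent_le_cent1 (h.P_le h.xP))
  have hTP := (le_inf (hTZ.trans inf_le_left) (hTx.trans h.CM)).trans h.O_inf.le
  have hn := hF.sdprod.right_le.trans (self_le_norm_piCoreOf {p} L)
  refine s12_rank2_bound h.prime h.p2 hT (PG.omegaOne_ne_bot (hO.to_le inf_le_left)
      (PG.center_ne_bot hO (ne_bot_of_le h.ne_bot h.P_le))) (PG.card_le_of_pRankLE h.rk2 hT hTP)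
    (PG.le_norm_omegaOne (le_norm_inf hn (le_norm_cent hn))) (hF.reg.mono (hTP.trans h.PH) le_rfl)
    (mFT_odd E) (sub_mmax_sol h.maxL hF.sdprod.right_le) fun hc => ⟨x, ?_, fun y hy hy' => ?_⟩
  · have := eq_of_le_of_card_ge (le_sup_left (b := zpowers x)) (hc ▸ PG.card_le_of_pRankLE h.rk2
      (PG.elemAb_sup_zpowers hT h.xp (mem_cent_iff_le_cent1.2 hTx))
      (sup_le hTP (zpowers_le.2 h.xP)))
    exact this.ge (mem_sup_right (mem_zpowers x))
  · exact mem_bot.1 (hF.sdprod.inf_eq ▸ mem_inf.2 ⟨h.inf_le ⟨hF.sdprod.right_le hy, h.NM hy'⟩, hy⟩)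

theorem sq_le : p ^ 2 ≤ Nat.card MF[L] := by
  have := Fact.mk h.prime
  obtain ⟨A, h1, -, h2⟩ := PG.not_pRankLE_iff.1 h.rk1
  exact h2 ▸ card_le_of_le (h1.trans h.PH)

theorem not_conj : ¬ Conjg L M := by
  rintro ⟨g, e⟩
  have := h.ndvd
  rw [e, ← conj_fittingHallOf, card_conj] at this
  exact this h.dvdH

theorem seven_le : 7 ≤ ⁅MF[M], MF[M]⁆.relIndex MF[M] := by
  have := Fact.mk h.prime
  obtain ⟨B, hB, hBp, hr⟩ := h.exists_reg
  have hn := hB.trans h.defM.norm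
  have hF := s12_frob_quo (frob_sup hn (mmax_Fcore_neq1 h.maxM)
    (ne_bot_of_card_prime (hBp ▸ h.prime)) hr)
    (commutator_lt_of_solvable (sub_mmax_sol h.maxM (fittingHallOf_le M)) (mmax_Fcore_neq1 h.maxM))
    (sup_le (le_norm_der _) (le_norm_commutator hn hn))
  have h1 := PG.card_modEq_card_inf_cent (isPGroup_im (isPGroup_of_card_eq_prime hBp))
    hF.sdprod.right_norm
  have h2 := ne_bot_iff_one_lt_card.1 hF.ker_ne_bot
  have h3 := mFT_odd_im (coset ⁅MF[M], MF[M]⁆) MF[M]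
  rw [hF.reg.inf_cent le_rfl hF.compl_ne_bot, card_bot] at h1
  rw [card_quo (le_norm_der _)] at h1 h2 h3
  have h4 := s12_two_mul_le (h.prime.odd_of_ne_two h.p2) (Nat.Odd.sub_odd h3 odd_one)
    (Nat.sub_pos_of_lt h2) ((Nat.modEq_iff_dvd' h2.le).1 h1.symm)
  have := h.prime.two_le
  have := h.p2
  omega

end H12

end Cfsg.Agent.PF
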