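import Cfsg.Agent.PF.S13e

set_option autoImplicit false
set_option linter.unusedSectionVars false
set_option linter.unusedVariables false

namespace Cfsg.Agent.PF

open Subgroup Cfsg.Agent.GT Cfsg.Agent.BG Cfsg.Agent.Char

universe u v w

/-! Peterfalvi §13, (13.18) and (13.19). Notation of the text: `P = MF[S]`, `PU = ⁅S, S⁆`,
`p = Nat.card W₂`, `q = Nat.card W₁`, `u = Nat.card U`, `τ = tau0 S`. -/

section Defs
variable {G : Type u} [Group G] [Fintype G] {K L M : Subgroup G}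

/-- `β_j` of (13.18) -/
noncomputable def bridgeP (S W₁ W₂ : Subgroup G) (j : Lin W₂) : S → ℂ :=
  cInd S (fun _ : ↥(MF[S] ⊔ W₁) => (1 : ℂ)) - mu2 S W₁ W₂ 1 j

/-- `Γ` of (13.18) (it does not depend on `j ≠ 1`) -/
noncomputable def bridgeGap (S W₁ W₂ : Subgroup G) (j : Lin W₂) : G → ℂ :=
  tau0 S (bridgeP S W₁ W₂ j) - (fun _ => 1) + etaG W₁ W₂ 1 j

theorem inKer_cInd_one (hM : M ≤ K) (hn : L ≤ N[M]) : InKer M (cInd L fun _ : K => (1 : ℂ)) := by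
  intro x hx
  unfold cInd indFun
  congr 1
  refine Finset.sum_congr rfl fun y _ => ?_
  rw [extendByZero_of_mem _ _ (mem_subgroupOf.2 (hM (conj_mem_of_le_norm' hn y.2 hx))),
    extendByZero_of_mem _ _ (by simp)]

theorem cInd_eq_zero_of_forall (θ : K → ℂ) {x : L} (h : ∀ y ∈ L, y⁻¹ * x * y ∉ K) :
    cInd L θ x = 0 := indFun_eq_zero_of_forall _ fun y hy => absurd hy (h y y.2)

theorem cInd_one_of_TI {x : L} (hx : (x : G) ∈ K) (h : ∀ y ∈ L, y⁻¹ * x * y ∈ K → y ∈ K) :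
    cInd L (fun _ : K => (1 : ℂ)) x = 1 :=
  indFun_apply_of_TI (K.subgroupOf L) (isClassFunction_const 1) ⟨x, hx⟩ fun y hy _ => h y y.2 hy

end Defs

variable {G : Type u} [Group G] [Fintype G] [MFT G] {S T U V W₁ W₂ L : Subgroup G}
  {i : Lin W₁} {j k : Lin W₂} {ν : (S → ℂ) →ₗ[ℂ] (G → ℂ)} {lam : S → ℂ}

theorem typeP_sdprod_PW (h : IsTypePWith S W₁ U W₂) : Sdprod MF[S] W₁ (MF[S] ⊔ W₁) :=
  (typeP_sdprod_Fcore h).subr le_sup_right

theorem typeP_PW_le (h : IsTypePWith S W₁ U W₂) : MF[S] ⊔ W₁ ≤ S :=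
  sup_le (fittingHallOf_le S) (typeP_W₁_le h)

theorem typeP_PW_inf_der (h : IsTypePWith S W₁ U W₂) : (MF[S] ⊔ W₁) ⊓ ⁅S, S⁆ = MF[S] := by
  rw [dedekind (.inr (typeP_sdprod_PW h).right_norm) (typeP_Fcore_le_der h), inf_comm,
    (typeP_sdprod h).inf_eq, sup_bot_eq]

theorem typeP_PW_relIndex (h : IsTypePWith S W₁ U W₂) : (MF[S] ⊔ W₁).relIndex S = Nat.card U := by
  refine Nat.eq_of_mul_eq_mul_left (card_pos' (MF[S] ⊔ W₁)) ?_
  rw [card_mul_relIndex (typeP_PW_le h), typeP_card_eq h, ← (typeP_sdprod_der h).card_mul,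
    ← (typeP_sdprod_PW h).card_mul]; ring

theorem typeP_Ind_PW_one (h : IsTypePWith S W₁ U W₂) {x : S} (hx : (x : G) ∈ MF[S] ⊔ W₁)
    (hx' : (x : G) ∉ MF[S]) : cInd S (fun _ : ↥(MF[S] ⊔ W₁) => (1 : ℂ)) x = 1 := by
  refine cInd_one_of_TI hx fun y hy hm => ?_
  obtain ⟨a, ha, z, hz, rfl⟩ := (typeP_sdprod_Fcore h).exists_mul hy
  obtain ⟨b, hb, c, hc, rfl⟩ := (typeP_sdprod_UW h).exists_mul hz
  have ha' : a ∈ MF[S] ⊔ W₁ := mem_sup_left ha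
  have hc' : c ∈ MF[S] ⊔ W₁ := mem_sup_right hc
  obtain ⟨d, hd, e, he, h1⟩ := (typeP_sdprod_PW h).exists_mul (mul_mem (mul_mem (inv_mem ha') hx) ha')
  have he1 : e ≠ 1 := by
    rintro rfl
    refine hx' ?_
    convert mul_mem (mul_mem ha hd) (inv_mem ha) using 1
    rw [← mul_one d, ← h1]; group
  have h2 : b⁻¹ * d * b ∈ MF[S] ⊔ W₁ := mem_sup_left
    (conj_mem_of_le_norm' (self_le_norm_fittingHallOf S) (typeP_U_le h hb) hd)
  have h3 : b⁻¹ * (e * b * e⁻¹) ∈ (MF[S] ⊔ W₁) ⊓ U := by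
    refine mem_inf.2 ⟨?_, mul_mem (inv_mem hb) (conj_mem_of_le_norm h.U_normal he hb)⟩
    convert mul_mem (mul_mem (inv_mem h2) (mul_mem (mul_mem hc' hm) (inv_mem hc')))
      (inv_mem (mem_sup_right he)) using 1
    rw [show d = a⁻¹ * x * a * e⁻¹ by rw [h1]; group]; group
  rw [inf_eq_bot_of_coprime_card (by
    rw [← (typeP_sdprod_PW h).card_mul]
    exact (typeP_coprime_U h).mul_left (typeP_coprime_UW h).symm), mem_bot, inv_mul_eq_one,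
    eq_mul_inv_iff_mul_eq] at h3
  rw [semiregular_iff.1 (typeP_regular_U h) e he he1 b hb h3, one_mul]
  exact mul_mem ha' hc'

theorem typeP_Ind_PW_ker (h : IsTypePWith S W₁ U W₂) {x : S} (hx : (x : G) ∈ MF[S]) :
    cInd S (fun _ : ↥(MF[S] ⊔ W₁) => (1 : ℂ)) x = Nat.card U := by
  rw [inKer_cInd_one le_sup_left (self_le_norm_fittingHallOf S) x hx, cInd_one (typeP_PW_le h),
    typeP_PW_relIndex h, mul_one]

theorem bridgeP_virt (h : IsTypePWith S W₁ U W₂) (j : Lin W₂) :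
    IsGeneralizedCharacter S (bridgeP S W₁ W₂ j) :=
  (virt_one.cInd (typeP_PW_le h)).sub ((FT_primeTI_hyp h).mu2_irr 1 j).virt

/-- (13.18)(a) -/
theorem FTtypeP_bridge_on (hS : IsCoatom S) (h : IsTypePWith S W₁ U W₂) (hj : j ≠ 1) :
    bridgeP S W₁ W₂ j ∈ CF S (FTsupp0 S) ∧
    bridgeP S W₁ W₂ j ∈ CF S (sharp MF[S] ∪ classSupp (cycTI W₁ W₂) S) := by
  have hP := FT_primeTI_hyp h
  have hc := (bridgeP_virt h j).isClassFunction
  suffices H : bridgeP S W₁ W₂ j ∈ CF S (sharp MF[S] ∪ classSupp (cycTI W₁ W₂) S) from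
    ⟨CF_mono (Set.union_subset (Fcore_sub_FTsupp0 hS) (FT_prDade_hypF hS h).classSupp_subset) H, H⟩
  refine ⟨hc, fun x hx => ?_⟩
  rw [Set.mem_union, not_or] at hx
  by_cases hd : (x : G) ∈ ⁅S, S⁆
  · by_cases h1 : (x : G) ∈ MF[S]
    · obtain rfl : x = 1 := Subtype.ext (not_not.1 fun e => hx.1 ⟨h1, e⟩)
      rw [bridgeP, Pi.sub_apply, typeP_Ind_PW_ker h h1, FTprTIirr1 hS h 1 hj, FTtypeP_u_eq hS h,
        sub_self]
    have h2 := congrFun (hP.cRes_muR j) ⟨x, hd⟩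
    rw [cRes_apply' _ (⟨x, hd⟩ : ↥⁅S, S⁆) x.2, seqIndT_on (fittingOf_le S) (self_le_norm_fittingOf S)
      (FTprTIred_Ind_Fitting hS h hj) _ (by rwa [FTtypeP_Fitting_eq hS h]), Pi.smul_apply,
      smul_eq_mul, ← hP.mu2_eq_chiR 1 j hd] at h2
    rw [bridgeP, Pi.sub_apply, (mul_eq_zero.1 h2.symm).resolve_left (card_ne_zero_complex W₁),
      sub_zero]
    refine cInd_eq_zero_of_forall _ fun y hy hm => h1 ?_
    have : y⁻¹ * x * y ∈ MF[S] :=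
      (typeP_PW_inf_der h).le ⟨hm, conj_mem_of_le_norm' (le_norm_der S) hy hd⟩
    convert conj_mem_of_le_norm (self_le_norm_fittingHallOf S) hy this using 1; group
  · obtain ⟨a, b, g, ha, rfl⟩ := hP.exists_conj hd
    obtain rfl : b = 1 := not_not.1 fun hb => hx.2 ⟨_, hP.wL_mem_cycTI ha hb, g, g.2, rfl⟩
    rw [hc, bridgeP, Pi.sub_apply, hP.mu2_apply 1 j 1 ha, FTprTIsign hS h, typeP_Ind_PW_one h
      (by rw [hP.coe_wL_apply]; exact mul_mem (mem_sup_right a.2) (one_mem _))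
      fun hm => ha (hP.wL_mem_K_iff.1 (typeP_Fcore_le_der h hm))]
    simp

theorem typeP_Ind_PW_ortho (hS : IsCoatom S) (h : IsTypePWith S W₁ U W₂) (hj : j ≠ 1) :
    ⟪cInd S (fun _ : ↥(MF[S] ⊔ W₁) => (1 : ℂ)), mu2 S W₁ W₂ 1 j⟫ = 0 := by
  have hP := FT_primeTI_hyp h
  by_contra hne
  have := (hP.inKer_mu2_iff (typeP_Fcore_le_der h) (self_le_norm_fittingHallOf S) 1 j).1
    ((inKer_cInd_one le_sup_left (self_le_norm_fittingHallOf S)).of_ci_ne_zero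
      (isCharacter_one.cInd (typeP_PW_le h)) (hP.mu2_irr 1 j) hne)
  exact hj (MonoidHom.ext fun x => this x (typeP_W₂_le_Fcore h x.2))

/-- (13.18)(b) -/
theorem FTtypeP_bridge_norm (hS : IsCoatom S) (h : IsTypePWith S W₁ U W₂) (hj : j ≠ 1) :
    nsq (bridgeP S W₁ W₂ j) = ((Nat.card U - 1) / Nat.card W₁ + 2 : ℕ) := by
  classical
  obtain ⟨n, hn⟩ := FTtypeP_q_dvd hS h
  have hle := typeP_PW_le h
  have hsd := typeP_sdprod_PW h
  have e : cRes (MF[S] ⊔ W₁) (cInd S (fun _ : ↥(MF[S] ⊔ W₁) => (1 : ℂ))) =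
      (fun _ => 1) + (n : ℂ) • cInd (MF[S] ⊔ W₁) (fun _ : MF[S] => (1 : ℂ)) := by
    funext x
    rw [cRes_apply hle, Pi.add_apply, Pi.smul_apply]
    by_cases hx : (x : G) ∈ MF[S]
    · rw [typeP_Ind_PW_ker h hx, Ind1_apply le_sup_left hsd.norm hx, hsd.relIndex,
        show Nat.card U = Nat.card W₁ * n + 1 by have := card_pos' U; omega]
      push_cast; rw [smul_eq_mul]; ring
    · rw [typeP_Ind_PW_one h x.2 hx, cInd_apply_of_not_mem le_sup_left hsd.norm _ hx]; simp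
  rw [bridgeP, nsq_sub_of_orth (typeP_Ind_PW_ortho hS h hj), ((FT_primeTI_hyp h).mu2_irr 1 j).nsq,
    nsq_eq_of_ci (r := 1 + n) (by
      rw [ci_cInd_right hle (isClassFunction_cInd _), e, ci_add_left, ci_smul_left, ci_one_one,
        ci_Ind1_one le_sup_left]; simp), hn, Nat.mul_div_cancel_left _ (card_pos' W₁)]
  push_cast; ring

/-- (13.18)(c) -/
theorem FTtypeP_bridge_gap (hS : IsCoatom S) (h : IsTypePWith S W₁ U W₂) (hj : j ≠ 1) :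
    (∀ k, k ≠ 1 → bridgeGap S W₁ W₂ k = bridgeGap S W₁ W₂ j) ∧
    ⟪bridgeGap S W₁ W₂ j, fun _ => 1⟫ = 0 ∧ conjFun (bridgeGap S W₁ W₂ j) = bridgeGap S W₁ W₂ j ∧
    IsGeneralizedCharacter G (bridgeGap S W₁ W₂ j) := by
  have hP := FT_primeTI_hyp h
  have hC := typeP_cycTI h
  have hD := FT_Dade0_hyp hS
  have hon := (FTtypeP_bridge_on hS h hj).1
  have h1 : ∀ k, k ≠ 1 → bridgeGap S W₁ W₂ k = bridgeGap S W₁ W₂ j := fun k hk => by
    have := (FT_prDade_hypF hS h).dade_sub_mu2 1 hj hk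
      (by rw [FTprTIirr1 hS h 1 hj, FTprTIirr1 hS h 1 hk])
    rw [FTprTIsign hS h, Int.cast_one, one_smul, map_sub] at this
    simp only [bridgeGap, bridgeP, map_sub]
    linear_combination this
  refine ⟨h1, ?_, ?_, ((dadeL_virt hD (bridgeP_virt h j) hon.2).sub virt_one).add (hC.eta_virt 1 j)⟩
  · rw [bridgeGap, ci_add_left, ci_sub_left, dadeL_ci_one hD hon.1 hon.2, bridgeP, ci_sub_left,
      ci_Ind1_one (typeP_PW_le h), ci_one_one, hC.ci_eta_one, ← hP.mu2_one_one, hP.ci_mu2]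
    simp [hj]
  · rw [← h1 j⁻¹ (mt linv_eq_one.1 hj)]
    conv_lhs => rw [h1 j⁻¹ (mt linv_eq_one.1 hj)]
    rw [bridgeGap, bridgeGap, bridgeP, bridgeP, conjFun_add, conjFun_sub, conjFun_dadeL,
      conjFun_sub, conjFun_cInd, hP.conj_mu2, hC.conj_eta, conjFun_one, conjFun_one, linv_one]

/-- (13.18)(d) -/
theorem FTtypeP_bridge_bound (hS : IsCoatom S) (h : IsTypePWith S W₁ U W₂) (hj : j ≠ 1)
    {X Y : G → ℂ} (he : bridgeGap S W₁ W₂ j = X + Y) (ho : ⟪X, Y⟫ = 0)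
    (hY : ∀ i j, ⟪Y, etaG W₁ W₂ i j⟫ = 0) :
    nsq Y ≤ ((Nat.card U - 1) / Nat.card W₁ : ℕ) := by
  classical
  have hC := typeP_cycTI h
  have hon := (FTtypeP_bridge_on hS h hj).1
  obtain ⟨-, g1, g2, g3⟩ := FTtypeP_bridge_gap hS h hj
  have h1 := dadeL_nsq (FT_Dade0_hyp hS) hon.1 hon.2
  have e : tau0 S (bridgeP S W₁ W₂ j) = (X + etaG W₁ W₂ 1 1 - etaG W₁ W₂ 1 j) + Y := by
    rw [bridgeGap, ← hC.eta_one] at he
    linear_combination he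
  rw [FTtypeP_bridge_norm hS h hj, e, nsq_add_of_orth (by
    rw [ci_sub_left, ci_add_left, ho, ci_eq_zero_symm (hY _ _), ci_eq_zero_symm (hY _ _)]; simp)] at h1
  have hX : ∀ k, ⟪X, etaG W₁ W₂ 1 k⟫ = ⟪bridgeGap S W₁ W₂ j, etaG W₁ W₂ 1 k⟫ := fun k => by
    rw [he, ci_add_left, hY, add_zero]
  obtain ⟨a, ha⟩ := g3.ci_int (hC.eta_virt 1 j)
  have ha' : ⟪bridgeGap S W₁ W₂ j, etaG W₁ W₂ 1 j⁻¹⟫ = a := by
    rw [← linv_one, etaG, ← hC.conj_eta, ← g2, ci_conjFun, ha, map_intCast]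
  have hj' := hC.inv_ne₂ hj
  have hj1 : j⁻¹ ≠ 1 := mt linv_eq_one.1 hj
  have hb := bessel_orthonormal {1, j, j⁻¹} (etaG W₁ W₂ 1)
    (fun k _ l _ => by rw [hC.eta_ci]; simp) (X + etaG W₁ W₂ 1 1 - etaG W₁ W₂ 1 j)
  rw [Finset.sum_insert (by simp [hj.symm, hj1.symm]), Finset.sum_pair hj'.symm] at hb
  simp only [ci_sub_left, ci_add_left, hX, ha, ha', hC.eta_ci, true_and, if_true, if_neg hj,
    if_neg hj.symm, if_neg hj1.symm, if_neg hj'.symm] at hb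
  rw [← hC.eta_one] at g1
  rw [g1, norm_sq_of_eq_int (n := 1) (by simp),
    norm_sq_of_eq_int (n := a - 1) (by simp), norm_sq_of_eq_int (n := a) (by simp)] at hb
  have := int_le_sq a
  push_cast at h1 hb ⊢
  nlinarith

theorem FTtype1_coherence (hL : IsCoatom L) (ht : FTtype L = 1) :
    Coh (seqIndD MF[L] L MF[L] ⊥) (tauF L) :=
  (FT_Frobenius_coherence hL (FTtype1_Frobenius hL ht)).2
theorem FTtype1_Ind_irr (hL : IsCoatom L) (ht : FTtype L = 1) :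
    ∀ φ ∈ seqIndD MF[L] L MF[L] ⊥, IsIrrCharacter L φ :=
  (FT_Frobenius_coherence hL (FTtype1_Frobenius hL ht)).1

theorem FTtype1_coprime (hS : IsCoatom S) (h : IsTypePWith S W₁ U W₂) (hL : IsCoatom L)
    (ht : FTtype L = 1) : (Nat.card MF[L]).Coprime (Nat.card MF[S]) := by
  have := coprime_FTcore hL hS fun ⟨g, e⟩ => FTtypeP_neq1 hS h (by rw [e, FTtype_conj, ht])
  rw [FTcore_type12 (by omega : FTtype L ≤ 2)] at this
  exact coprime_card_of_le this le_rfl (Fcore_sub_FTcore hS)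

/-- (13.19)(a) -/
theorem FTtype1_support_disjoint (hS : IsCoatom S) (h : IsTypePWith S W₁ U W₂) (hL : IsCoatom L)
    (ht : FTtype L = 1) : Disjoint (dadeSupp (sharp MF[L]) (FTsignalizer L))
      (classSupp (MF[S] : Set G) ⊤ ∪ classSupp ((W₁ ⊔ W₂ : Subgroup G) : Set G) ⊤) := by
  obtain ⟨T, hST⟩ := FTtypeP_pair_witness hS h
  obtain ⟨V, h'⟩ := hST.typeT
  have c1 := FTtype1_coprime hS h hL ht
  have c2 : (Nat.card MF[L]).Coprime (Nat.card ↥(W₁ ⊔ W₂)) := by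
    rw [← (typeP_dprod h).card_mul]
    exact (coprime_card_of_le (FTtype1_coprime hST.maxT h' hL ht) le_rfl
      (typeP_W₂_le_Fcore h')).mul_right (coprime_card_of_le c1 le_rfl (typeP_W₂_le_Fcore h))
  have hD := FT_DadeF_hyp hL
  rw [← FTDadeSupp_eq, Set.disjoint_left]
  rintro _ ⟨a, ha, r, hr, y, rfl⟩ hx
  have h1 : (Nat.card MF[L]).Coprime (orderOf (y * (a * r) * y⁻¹)) := by
    rcases hx with ⟨b, hb, g, -, e⟩ | ⟨b, hb, g, -, e⟩ <;> rw [e, orderOf_conj]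
    · exact c1.coprime_dvd_right (orderOf_dvd_card_of_mem hb)
    · exact c2.coprime_dvd_right (orderOf_dvd_card_of_mem hb)
  rw [orderOf_conj, Commute.orderOf_mul_eq_mul_orderOf_of_coprime (hD.comm ha hr)
    (((hD.coprime a ha a ha).symm.coprime_dvd_left (hD.orderOf_dvd ha)).coprime_dvd_right
      (orderOf_dvd_card_of_mem hr))] at h1
  exact ha.2 (orderOf_eq_one_iff.1 ((Nat.coprime_self _).1
    ((h1.coprime_dvd_left (orderOf_dvd_card_of_mem ha.1)).coprime_dvd_right (dvd_mul_right _ _))))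

/-- (13.19) -/
theorem FTtypeI_bridge_facts (hS : IsCoatom S) (h : IsTypePWith S W₁ U W₂) (hL : IsCoatom L)
    (ht : FTtype L = 1) {τ₁ : (L → ℂ) →ₗ[ℂ] (G → ℂ)}
    (hc : CohWith (seqIndD MF[L] L MF[L] ⊥) (tauF L) τ₁) {φ : L → ℂ}
    (hφ : φ ∈ seqIndD MF[L] L MF[L] ⊥) (hφ1 : φ 1 = (MF[L]).relIndex L) (hj : j ≠ 1) :
    Disjoint (FTDadeSupp L (FTsupp L))
      (classSupp (MF[S] : Set G) ⊤ ∪ classSupp ((W₁ ⊔ W₂ : Subgroup G) : Set G) ⊤) ∧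
    (∀ ψ ∈ seqIndD MF[L] L MF[L] ⊥, ∀ i j, ⟪τ₁ ψ, etaG W₁ W₂ i j⟫ = 0) ∧
    (∀ k, k ≠ 1 → ⟪tauF L (cInd L (fun _ : MF[L] => (1 : ℂ)) - φ), etaG W₁ W₂ 1 k⟫ =
      ⟪tauF L (cInd L (fun _ : MF[L] => (1 : ℂ)) - φ), etaG W₁ W₂ 1 j⟫) ∧
    (((∃ n : ℤ, ⟪tau0 S (bridgeP S W₁ W₂ j), τ₁ φ⟫ = 2 * n + 1) ∧
        ((Nat.card MF[L] : ℝ) - 1) / (MF[L]).relIndex L ≤ ((Nat.card U - 1) / Nat.card W₁ : ℕ)) ∨
      ((∃ n : ℤ, ⟪tauF L (cInd L (fun _ : MF[L] => (1 : ℂ)) - φ), etaG W₁ W₂ 1 j⟫ = 2 * n + 1) ∧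
        Nat.card W₂ ≤ (MF[L]).relIndex L)) := by
  classical
  have hF := FTtype1_Frobenius hL ht
  have hirr := FTtype1_Ind_irr hL ht
  have hD := FT_DadeF_hyp hL
  have hC := typeP_cycTI h
  have hHL := fittingHallOf_le L
  have hn := self_le_norm_fittingHallOf L
  have hd := FTtype1_support_disjoint hS h hL ht
  have hne := fun {ψ} (hψ : ψ ∈ seqIndD MF[L] L MF[L] ⊥) => seqIndD_conj_ne hHL hn (mFT_odd L) hψ
  have hV : ∀ ζ, ∀ x ∈ tiSet (wG W₁ W₂), tauF L ζ x = 0 := fun ζ x hx =>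
    dadeL_of_not_mem ζ fun hx' => Set.disjoint_left.1 hd hx'
      (.inr (subset_classSupp _ _ (hC.tiSet_eq ▸ hx).1))
  have hb : ∀ ψ ∈ seqIndD MF[L] L MF[L] ⊥, ∀ i j, ⟪τ₁ ψ, etaG W₁ W₂ i j⟫ = 0 := by
    intro ψ hψ i j
    have hψ' := conj_seqIndD hψ
    have s1 := hc.isSIrr hψ (hirr _ hψ)
    have s2 := hc.isSIrr hψ' (hirr _ hψ')
    have o : ⟪τ₁ ψ, τ₁ (conjFun ψ)⟫ = 0 := by
      rw [hc.ci_mem hψ hψ', (hirr _ hψ).ci_of_ne (hirr _ hψ') (hne hψ).symm]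
    have h1 := hC.orth_of_nsq_two (s1.virt.sub s2.virt)
      (by rw [nsq_sub_of_orth o, s1.nsq, s2.nsq]; norm_num) (by
        rw [← map_sub, hc.eq (sub_mem_zspan (mem_zspan_of_mem hψ) (mem_zspan_of_mem hψ')) (by
          rw [Pi.sub_apply, conjFun_apply, (hirr _ hψ).isCharacter.conj_one, sub_self])]
        exact hV _) i j
    by_contra h2
    rw [ci_sub_left, sub_eq_zero] at h1
    rcases s1.eq_or_eq_neg_of_ci_ne_zero (hC.eta_sirr i j) h2 with e | e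
    · rw [← e, ci_eq_zero_symm o] at h1; exact h2 (e ▸ h1)
    · rw [← neg_eq_iff_eq_neg] at e
      rw [← e, ci_neg_right, ci_neg_right, ci_eq_zero_symm o, s1.ci_self] at h1
      simp at h1
  have hb1 : ∀ ψ ∈ seqIndD MF[L] L MF[L] ⊥, ⟪τ₁ ψ, fun _ => 1⟫ = 0 := fun ψ hψ =>
    hC.eta_one ▸ hb ψ hψ 1 1
  have hS0 : ∀ ζ k, k ≠ 1 → ⟪tauF L ζ, tau0 S (bridgeP S W₁ W₂ k)⟫ = 0 := fun ζ k hk => by
    obtain ⟨h1, h2⟩ := FTtypeP_bridge_on hS h hk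
    rw [FTtypeP_tau_eq hS h h1]
    refine ci_eq_zero_of_disjoint hd (fun _ => dadeL_of_not_mem ζ) fun x hx =>
      indFun_eq_zero_of_supp h2.2 ?_
    rintro ⟨a, ha | ⟨b, hb, g', -, rfl⟩, g, -, rfl⟩
    · exact hx (.inl ⟨a, ha.1, g, trivial, rfl⟩)
    · exact hx (.inr ⟨b, hb.1, g * g', trivial, by group⟩)
  obtain ⟨g0, g1, g2, g3⟩ := FTtypeP_bridge_gap hS h hj
  obtain ⟨⟨-, b1, b2⟩, ⟨Γ, b3, b4, ⟨a, b5⟩, b6⟩, -⟩ := Dade_Ind1_sub_lin hD hc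
    ⟨_, conj_seqIndD hφ, _, hφ, hne hφ⟩ (hirr _ hφ) hφ hφ1 rfl
  set β := tauF L (cInd L (fun _ : MF[L] => (1 : ℂ)) - φ) with hβ
  have hcc : ∀ k, k ≠ 1 → ⟪β, etaG W₁ W₂ 1 k⟫ = ⟪β, bridgeGap S W₁ W₂ j⟫ + 1 := fun k hk => by
    rw [← g0 k hk, bridgeGap, ci_add_right, ci_sub_right, hS0 _ k hk, b1]; ring
  refine ⟨by rwa [FTsupp_Frobenius hL hF, FTDadeSupp_eq], hb,
    fun k hk => (hcc k hk).trans (hcc j hj).symm, ?_⟩
  have vφ := hc.virt_mem hφ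
  have hG : ∀ ψ ∈ seqIndD MF[L] L MF[L] ⊥,
      ⟪bridgeGap S W₁ W₂ j, τ₁ ψ⟫ = ⟪tau0 S (bridgeP S W₁ W₂ j), τ₁ ψ⟫ := fun ψ hψ => by
    rw [bridgeGap, ci_add_left, ci_sub_left, ci_eq_zero_symm (hb1 ψ hψ),
      ci_eq_zero_symm (hb ψ hψ 1 j)]; ring
  obtain ⟨m, hm⟩ := g3.ci_int vφ
  obtain ⟨n, hn'⟩ := cfdot_real_vchar_even mFT_odd_top ((b2.add vφ).sub virt_one) (by
    rw [conjFun_sub, conjFun_add, conjFun_one, cfConjC_Dade_coherent hD hc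
      (fun _ => conj_seqIndD) (hirr _ hφ) hφ (hne hφ), hβ, conjFun_dadeL, conjFun_sub, conjFun_cInd,
      conjFun_one, sub_left_inj, ← sub_eq_iff_eq_add, add_sub_assoc, ← map_sub,
      hc.eq (sub_mem_zspan (mem_zspan_of_mem (conj_seqIndD hφ)) (mem_zspan_of_mem hφ)) (by
        rw [Pi.sub_apply, conjFun_apply, (hirr _ hφ).isCharacter.conj_one, sub_self]), ← map_add]
    congr 1; abel) g3 g2
  rw [g1, mul_zero, zero_add, ci_sub_left, ci_add_left, ci_eq_zero_symm g1,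
    ci_symm_of_int hm] at hn'
  have e0 : ((MF[L]).relIndex L : ℝ) ≠ 0 := by exact_mod_cast (relIndex_pos _ _).ne'
  have e0' : ((MF[L]).relIndex L : ℂ) ≠ 0 := by exact_mod_cast (relIndex_pos _ _).ne'
  rcases Int.even_or_odd' m with ⟨m, rfl | rfl⟩
  · have h1 : ∀ k, k ≠ 1 → ⟪β, etaG W₁ W₂ 1 k⟫ = (2 * (n - m) + 1 : ℤ) := fun k hk => by
      rw [hcc k hk]; push_cast at hn' ⊢; linear_combination hn'
    refine .inr ⟨⟨n - m, by rw [h1 j hj]; push_cast; rfl⟩, ?_⟩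
    obtain ⟨E, hE⟩ := hF
    have h2 := (b6 (two_mul_add_one_le (hE.sdprod.relIndex ▸ mFT_odd E) (mFT_odd _)
      (ne_bot_iff_one_lt_card.1 hE.ker_ne_bot) (hE.sdprod.relIndex ▸ frob_card_dvd_pred hE))).2
    have h3 := bessel_orthonormal (Finset.univ.erase 1) (etaG W₁ W₂ 1)
      (fun k _ l _ => by rw [hC.eta_ci]; simp) Γ
    have h4 : ∀ k ∈ Finset.univ.erase 1, (1 : ℝ) ≤ ‖⟪Γ, etaG W₁ W₂ 1 k⟫‖ ^ 2 := fun k hk => by
      have hk := Finset.ne_of_mem_erase hk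
      have := h1 k hk
      rw [b5, ci_add_left, ci_add_left, ci_sub_left, ci_smul_left, ci_sum_left, hb φ hφ,
        Finset.sum_eq_zero fun ξ hξ => by
          rw [ci_smul_left, hb ξ ((Set.Finite.mem_toFinset _).1 hξ), mul_zero],
        ← hC.eta_one, hC.eta_ci_of_ne₂ _ _ hk.symm] at this
      rw [norm_sq_of_eq_int (n := 2 * (n - m) + 1) (by linear_combination this)]
      exact_mod_cast (one_le_sq_iff_one_le_abs _).2 (Int.one_le_abs (by omega))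
    have h5 := (Finset.card_nsmul_le_sum _ _ _ h4).trans (h3.trans h2)
    rw [Finset.card_erase_of_mem (Finset.mem_univ _), Finset.card_univ, hC.card_Lin₂, nsmul_eq_mul,
      mul_one, Nat.cast_pred (card_pos' _), sub_le_sub_iff_right] at h5
    exact_mod_cast h5
  · refine .inl ⟨⟨m, by rw [← hG φ hφ, hm]; push_cast; rfl⟩, ?_⟩
    set s := (seqIndD_finite MF[L] L MF[L] ⊥).toFinset
    have hs : ∀ {ψ}, ψ ∈ s → ψ ∈ seqIndD MF[L] L MF[L] ⊥ := (Set.Finite.mem_toFinset _).1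
    have ho : ∀ ψ ∈ s, ∀ ξ ∈ s, ⟪τ₁ ψ, τ₁ ξ⟫ = if ψ = ξ then 1 else 0 := fun ψ hψ ξ hξ => by
      rw [hc.ci_mem (hs hψ) (hs hξ), (hirr _ (hs hψ)).ci_eq_ite (hirr _ (hs hξ))]
    have h1 := FTtypeP_bridge_bound hS h hj (sub_add_cancel _ _).symm (Y := ∑ ψ ∈ s,
      ⟪bridgeGap S W₁ W₂ j, τ₁ ψ⟫ • τ₁ ψ) (by
        rw [ci_sum_right, Finset.sum_eq_zero fun ψ hψ => by
          rw [ci_smul_right, ci_sub_proj_orthonormal s τ₁ ho _ hψ, mul_zero]]) fun i k => by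
      rw [ci_sum_left, Finset.sum_eq_zero fun ψ hψ => by rw [ci_smul_left, hb ψ (hs hψ), mul_zero]]
    refine le_trans ?_ h1
    have h2 := sum_seqIndD_square hHL hn le_rfl hn (norm_bot (G := G) ▸ le_top) bot_le
    rw [relIndex_self, relIndex_bot_left, Nat.cast_one, mul_one] at h2
    rw [nsq_sum_smul_orthonormal s τ₁ ho, ← mul_div_mul_left _ _ e0, ← h2, Finset.sum_div]
    refine Finset.sum_le_sum fun ψ hψ => ?_
    obtain ⟨d, -, hd1⟩ := seqIndT_one hHL (seqIndD_subset_T (hs hψ))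
    have h3 := hS0 (ψ - (d : ℂ) • φ) j hj
    rw [← hc.eq (sub_mem_zspan (mem_zspan_of_mem (hs hψ)) (natCast_smul_mem_zspan d
      (mem_zspan_of_mem hφ))) (by rw [Pi.sub_apply, Pi.smul_apply, hd1, hφ1, smul_eq_mul]; ring),
      ci_eq_zero_comm, map_sub, map_smul, ci_sub_right, ci_smul_right, ← hG ψ (hs hψ), ← hG φ hφ, hm,
      map_natCast, sub_eq_zero] at h3
    rw [norm_sq_of_eq_int (n := d * (2 * m + 1)) (by rw [h3]; push_cast; rfl), hd1,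
      (hirr _ (hs hψ)).nsq, ← Nat.cast_mul, Complex.natCast_re]
    have h4 : (1 : ℝ) ≤ ((2 * m + 1 : ℤ) : ℝ) ^ 2 := by
      exact_mod_cast (one_le_sq_iff_one_le_abs _).2 (Int.one_le_abs (by omega))
    push_cast at h4 ⊢
    field_simp
    nlinarith [sq_nonneg (d : ℝ)]

end Cfsg.Agent.PF
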