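import Cfsg.Agent.PF.S12

set_option autoImplicit false
set_option linter.unusedSectionVars false
set_option linter.unusedVariables false

namespace Cfsg.Agent.PF

open Subgroup Cfsg.Agent.GT Cfsg.Agent.BG Cfsg.Agent.Char

universe u v w

/-! Peterfalvi §13, (13.2) and (13.3). Notation of the text: `P = MF[S]`, `PU = ⁅S, S⁆`,
`C = U ⊓ C[P]`, `H = F[S]`, `p = Nat.card W₂`, `q = Nat.card W₁`, `u = C.relIndex U`
(`= Nat.card U` after (13.12)), `calS = pS S ⊥`, `τ = tau0 S`. -/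

section Defs
variable {G : Type u} [Group G] [Fintype G]

/-- `irr_Ind_Fitting` -/
def IrrIndH (S : Subgroup G) (φ : S → ℂ) : Prop := IsIrrCharacter S φ ∧ φ ∈ seqIndT F[S] S

/-- `typeP_TIred_coherent` -/
def TIredCoh (S W₁ W₂ : Subgroup G) (ν : (S → ℂ) →ₗ[ℂ] (G → ℂ)) : Prop :=
  (∀ j, j ≠ 1 → ν (muR S W₁ W₂ j) = ∑ i, etaG W₁ W₂ i j) ∨
  (∀ j, j ≠ 1 → ν (muR S W₁ W₂ j) = -∑ i, etaG W₁ W₂ i j⁻¹)

/-- `∑ x ∈ A, |χ x|²` -/
noncomputable def sumSq (A : Set G) (χ : G → ℂ) : ℝ := ∑ x ∈ (Set.toFinite A).toFinset, ‖χ x‖ ^ 2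

end Defs

variable {G : Type u} [Group G] [Fintype G] [MFT G] {S T U V W₁ W₂ L : Subgroup G}
  {i : Lin W₁} {j k : Lin W₂} {ν : (S → ℂ) →ₗ[ℂ] (G → ℂ)} {lam : S → ℂ}

/-- (13.2)(a) -/
theorem FTtypeP_type23 (hS : IsCoatom S) (h : IsTypePWith S W₁ U W₂) :
    (FTtype S = 2 ∨ FTtype S = 3) ∧ (Nat.card W₁ < Nat.card W₂ → FTtype S = 2) ∧
    Frob U W₁ (U ⊔ W₁) ∧ IsMulCommutative U := by
  have h23 : FTtype S = 2 ∨ FTtype S = 3 :=
    (em _).imp_right fun h2 => (FTtype34_structure ⟨hS, h, h2⟩).2.2.1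
  refine ⟨h23, fun hlt => not_not.1 fun h2 => hlt.not_gt (FTtype34_structure ⟨hS, h, h2⟩).2.1,
    (hyp9_of_typeP hS h).frobUW, ?_⟩
  exact h23.elim (fun t => (compl_of_typeII hS h t).2.1) fun t => (compl_of_typeIII hS h t).2.1

theorem FTtypeP_U_comm (hS : IsCoatom S) (h : IsTypePWith S W₁ U W₂) : IsMulCommutative U :=
  (FTtypeP_type23 hS h).2.2.2

/-- (13.2)(b) -/
theorem FTtypeP_abelem (hS : IsCoatom S) (h : IsTypePWith S W₁ U W₂) :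
    IsElementaryAbelian (Nat.card W₂) MF[S] ∧ Nat.card MF[S] = Nat.card W₂ ^ Nat.card W₁ := by
  by_cases h2 : FTtype S = 2
  · exact ⟨(FTtypeII_prime_facts hS h h2).1, (FTtypeII_prime_facts hS h h2).2.1⟩
  · exact ⟨(FTtype34_Fcore_kernel_trivial ⟨hS, h, h2⟩).1,
      (FTtype34_Fcore_kernel_trivial ⟨hS, h, h2⟩).2.1⟩

theorem FTtypeP_H0 (hS : IsCoatom S) (h : IsTypePWith S W₁ U W₂) :
    pH0 S U = ⊥ ∧ pC S U = U ⊓ C[MF[S]] ∧ pP S U = Nat.card W₂ := by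
  have h9 := hyp9_of_typeP hS h
  have hp := h9.p_eq (FTtypeP_primes hS h).2
  have h0 : pH0 S U = ⊥ := by
    have e := card_mul_relIndex h9.chief.lt.le
    rw [h9.relIndex_H, hp, ← (FTtypeP_abelem hS h).2] at e
    exact card_eq_one.1 (Nat.eq_of_mul_eq_mul_right (card_pos' _) (by rw [e, one_mul]))
  exact ⟨h0, h9.C_eq_of_H0 h0, hp⟩

theorem FTtypeP_pU (hS : IsCoatom S) (h : IsTypePWith S W₁ U W₂) :
    pU S U = (U ⊓ C[MF[S]]).relIndex U := by rw [pU, (FTtypeP_H0 hS h).2.1]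

theorem FTtypeP_p_gt2 (h : IsTypePWith S W₁ U W₂) : 2 < Nat.card W₂ := (typeP_cycTI h).two_lt₂
theorem FTtypeP_q_gt2 (h : IsTypePWith S W₁ U W₂) : 2 < Nat.card W₁ := (typeP_cycTI h).two_lt₁

/-- (13.2)(c) -/
theorem FTtypeP_u_le (hS : IsCoatom S) (h : IsTypePWith S W₁ U W₂) :
    (U ⊓ C[MF[S]]).relIndex U ≤ (Nat.card W₂ ^ Nat.card W₁ - 1) / (Nat.card W₂ - 1) := by
  have h9 := hyp9_of_typeP hS h
  have hp := FTtypeP_p_gt2 h
  have hq := FTtypeP_q_gt2 h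
  have key : (Nat.card W₂ - 1) ^ (Nat.card W₁ - 1) ≤
      (Nat.card W₂ ^ Nat.card W₁ - 1) / (Nat.card W₂ - 1) := by
    rw [Nat.le_div_iff_mul_le (by omega), ← pow_succ, Nat.sub_add_cancel (by omega)]
    exact Nat.le_sub_one_of_lt (Nat.pow_lt_pow_left (by omega) (by omega))
  rw [← FTtypeP_pU hS h]
  by_cases hg : TypePGalois S U
  · have := (typeP_Galois_P h9 hg).2.2.2
    rw [(FTtypeP_H0 hS h).2.2] at this
    exact Nat.le_of_dvd (lt_of_lt_of_le (pow_pos (by omega) _) key) this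
  · obtain ⟨D⟩ := typeP_Galois_Pn h9 hg
    obtain ⟨-, h1, -, h2, -⟩ := nonGal_facts h9 D
    generalize D.a = a at h1 h2
    rw [(FTtypeP_H0 hS h).2.2] at h1
    exact (Nat.le_of_dvd (pow_pos (by omega) _) (h2.trans (pow_dvd_pow_of_dvd h1 _))).trans key

theorem FTtypeP_two_u_le (hS : IsCoatom S) (h : IsTypePWith S W₁ U W₂) :
    2 * (U ⊓ C[MF[S]]).relIndex U + 1 ≤ Nat.card MF[S] := by
  have h1 := FTtypeP_u_le hS h
  have hp := FTtypeP_p_gt2 h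
  rw [Nat.le_div_iff_mul_le (by omega)] at h1
  have h2 : 0 < Nat.card W₂ ^ Nat.card W₁ := pow_pos (by omega) _
  have h3 := Nat.mul_le_mul_left ((U ⊓ C[MF[S]]).relIndex U) (show 2 ≤ Nat.card W₂ - 1 by omega)
  rw [(FTtypeP_abelem hS h).2]
  omega

theorem FTtypeP_H0C' (hS : IsCoatom S) (h : IsTypePWith S W₁ U W₂) :
    pH0 S U ⊔ ⁅pC S U, pC S U⁆ = ⊥ := by
  rw [(FTtypeP_H0 hS h).1, (FTtypeP_H0 hS h).2.1, bot_sup_eq, ← le_cent_iff_commutator_eq_bot]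
  exact isMulCommutative_iff_le_cent.1 (isMulCommutative_of_le (FTtypeP_U_comm hS h) inf_le_left)

theorem FTtypeP_HC (hS : IsCoatom S) (h : IsTypePWith S W₁ U W₂) : MF[S] ⊔ pC S U = F[S] := by
  rw [(FTtypeP_H0 hS h).2.1, (typeP_Fitting h).sup_eq]

/-- (13.2)(d) -/
theorem FTtypeP_coherent (hS : IsCoatom S) (h : IsTypePWith S W₁ U W₂) :
    Coh (pS S ⊥) (tau0 S) := FTtypeP_H0C' hS h ▸ Ptype_core_coherence (hyp9_of_typeP hS h)

theorem FTtypeP_cent1_le (hS : IsCoatom S) (h : IsTypePWith S W₁ U W₂) {x : G}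
    (hx : x ∈ FTsupp0 S) : C1[x] ≤ S := by
  by_contra hc
  obtain ⟨-, h1, -, -, -, ⟨h2, h3⟩, h4, h5⟩ :=
    (FTsupport_facts hS (Or.inr (Or.inr rfl))).2 x hx hc
  have h6 : FTtype (sigN x) = 1 := by
    have := (FTtype_range (sigN x)).1
    by_contra h7
    exact FTtypeP_neq1 hS h (FT_Frobenius_type1 hS (h5 (by omega)))
  rw [FTsupp_Frobenius h1.1 (FTtype1_Frobenius h1.1 h6)] at h2
  exact h3 (FTsupp1_type12 h4 ▸ h2)

/-- (13.2)(e) -/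
theorem FTtypeP_normedTI (hS : IsCoatom S) (h : IsTypePWith S W₁ U W₂) :
    NormedTI (FTsupp0 S) ⊤ S := by
  refine ⟨(sharp_nonempty.2 (typeP_Fcore_ne h)).mono (Fcore_sub_FTsupp0 hS), le_top,
    fun a ha g _ => ⟨fun hg => ?_, FTsupp0_norm ha⟩⟩
  obtain ⟨y, hy, e⟩ := (FTsupport_facts hS (Or.inr (Or.inr rfl))).1 a ha g hg
  have : y⁻¹ * g ∈ C1[a] := mem_cent1.2 (by
    calc y⁻¹ * g * a = y⁻¹ * (g * a * g⁻¹) * g := by group
      _ = _ := by rw [← e]; group)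
  simpa using mul_mem hy (FTtypeP_cent1_le hS h ha this)

theorem Fitting_sub_FTsupp0 (hS : IsCoatom S) : sharp F[S] ⊆ FTsupp0 S :=
  (Fitting_sub_FTsupp hS).trans (FTsupp_sub0 S)

theorem FTtypeP_Fitting_TI (hS : IsCoatom S) (h : IsTypePWith S W₁ U W₂) :
    NormedTI (sharp F[S]) ⊤ S := (compl_of_typeII_IV hS h (FTtype5_exclusion hS)).2.2.2

theorem FTtypeP_tau_eq (hS : IsCoatom S) (h : IsTypePWith S W₁ U W₂) {φ : S → ℂ}
    (hφ : φ ∈ CF S (FTsupp0 S)) : tau0 S φ = indFun S φ :=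
  tau0_eq_ind hS (FTtypeP_normedTI hS h) hφ

theorem FTseqInd_TIred (hS : IsCoatom S) (h : IsTypePWith S W₁ U W₂) (hj : j ≠ 1) :
    muR S W₁ W₂ j ∈ pS S ⊥ := (FT_prDade_hypF hS h).muR_mem hj

theorem FTtypeP_Fitting_abelian (hS : IsCoatom S) (h : IsTypePWith S W₁ U W₂) :
    IsMulCommutative F[S] := (typeP_Fitting h).comm (FTtypeP_abelem hS h).1.1
  (isMulCommutative_of_le (FTtypeP_U_comm hS h) inf_le_left)

theorem typeP_relIndex_Fitting_der (h : IsTypePWith S W₁ U W₂) :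
    (F[S]).relIndex ⁅S, S⁆ = (U ⊓ C[MF[S]]).relIndex U := by
  have e1 := card_mul_relIndex h.fitting_le
  rw [← (typeP_Fitting h).card_mul, ← (typeP_sdprod_der h).card_mul,
    ← card_mul_relIndex (inf_le_left : U ⊓ C[MF[S]] ≤ U), mul_assoc] at e1
  exact Nat.eq_of_mul_eq_mul_left (card_pos' _) (Nat.eq_of_mul_eq_mul_left (card_pos' _) e1)

theorem typeP_relIndex_Fitting (h : IsTypePWith S W₁ U W₂) :
    (F[S]).relIndex S = (U ⊓ C[MF[S]]).relIndex U * Nat.card W₁ := by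
  rw [← relIndex_mul_relIndex _ _ _ h.fitting_le (der_le S), typeP_relIndex_Fitting_der h,
    (typeP_sdprod h).relIndex]

theorem FTtypeP_Ind_Fitting_1 (hS : IsCoatom S) (h : IsTypePWith S W₁ U W₂)
    (hl : lam ∈ seqIndT F[S] S) :
    lam 1 = ((U ⊓ C[MF[S]]).relIndex U * Nat.card W₁ : ℕ) := by
  obtain ⟨θ, hθ, rfl⟩ := hl
  have := FTtypeP_Fitting_abelian hS h
  rw [cInd_one (fittingOf_le S), IsIrrCharacter.degree_one_of_comm hθ, mul_one,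
    typeP_relIndex_Fitting h]

omit [MFT G] in
theorem mem_seqIndT_of_eq {K K' : Subgroup G} (e : K = K') {ξ : K → ℂ} (hξ : IsIrrCharacter K ξ) :
    cInd S ξ ∈ seqIndT K' S := e ▸ cInd_mem_seqIndT hξ

/-- (13.3)(a) -/
theorem FTprTIred_Ind_Fitting (hS : IsCoatom S) (h : IsTypePWith S W₁ U W₂) (hj : j ≠ 1) :
    muR S W₁ W₂ j ∈ seqIndT F[S] S := by
  have h9 := hyp9_of_typeP hS h
  obtain ⟨-, -, ξ, hξ, -, e⟩ := (typeP_reducible_core_Ind h9).2.2.2 _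
    (muR_mem_pRed h9 (FTtypeP_primes hS h).2 hj)
  exact e ▸ mem_seqIndT_of_eq (FTtypeP_HC hS h) hξ

theorem FTprTIred1 (hS : IsCoatom S) (h : IsTypePWith S W₁ U W₂) (hj : j ≠ 1) :
    muR S W₁ W₂ j 1 = ((U ⊓ C[MF[S]]).relIndex U * Nat.card W₁ : ℕ) :=
  FTtypeP_Ind_Fitting_1 hS h (FTprTIred_Ind_Fitting hS h hj)

theorem FTprTIirr1 (hS : IsCoatom S) (h : IsTypePWith S W₁ U W₂) (i : Lin W₁) (hj : j ≠ 1) :
    mu2 S W₁ W₂ i j 1 = (U ⊓ C[MF[S]]).relIndex U := by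
  have e := (FT_primeTI_hyp h).muR_one i j
  rw [FTprTIred1 hS h hj, Nat.cast_mul, mul_comm] at e
  exact (mul_left_cancel₀ (card_ne_zero_complex W₁) e).symm

/-- (13.3)(c), first assertion -/
theorem FTprTIsign (hS : IsCoatom S) (h : IsTypePWith S W₁ U W₂) (j : Lin W₂) :
    dl S W₁ W₂ j = 1 := by
  by_cases hj : j = 1
  · rw [hj, (FT_primeTI_hyp h).dl_one]
  refine (dl_cases S W₁ W₂ j).resolve_right fun hd => ?_
  obtain ⟨n, hn⟩ := (FT_primeTI_hyp h).mu2_one_mod 1 j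
  obtain ⟨m, hm⟩ := (hyp9_of_typeP hS h).q_dvd
  rw [FTtypeP_pU hS h] at hm
  rw [FTprTIirr1 hS h 1 hj, hd] at hn
  have h1 : (((U ⊓ C[MF[S]]).relIndex U : ℕ) : ℤ) = -1 + n * (Nat.card W₁ : ℕ) := by
    exact_mod_cast hn
  have h2 := relIndex_pos (U ⊓ C[MF[S]]) U
  have h3 : ((Nat.card W₁ : ℕ) : ℤ) ∣ 2 := ⟨n - m, by
    have : (((U ⊓ C[MF[S]]).relIndex U : ℕ) : ℤ) = 1 + (Nat.card W₁ : ℕ) * m := by
      rw [← Nat.cast_mul, ← hm]; omega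
    linarith⟩
  have h4 := Int.le_of_dvd two_pos h3
  have := FTtypeP_q_gt2 h
  omega

/-- (13.3)(b) -/
theorem FTtypeP_no_Ind_Fitting_facts (hS : IsCoatom S) (h : IsTypePWith S W₁ U W₂)
    (hn : ∀ φ ∈ pS S ⊥, ¬ IrrIndH S φ) :
    TypePGalois S U ∧ U ⊓ C[MF[S]] = ⊥ ∧
    (U ⊓ C[MF[S]]).relIndex U = (Nat.card W₂ ^ Nat.card W₁ - 1) / (Nat.card W₂ - 1) := by
  have h9 := hyp9_of_typeP hS h
  rcases typeP_reducible_core_cases h9 with ⟨ζ, h1, h2, -, ξ, hξ, -, e⟩ | ⟨h1, h2, -, h3, -⟩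
  · rw [FTtypeP_H0C' hS h] at h2
    exact absurd ⟨h1, e ▸ mem_seqIndT_of_eq (FTtypeP_HC hS h) hξ⟩ (hn ζ h2)
  have hC : U ⊓ C[MF[S]] = ⊥ := by
    rw [(FTtypeP_H0 hS h).1] at h2
    have n1 : ∀ X : Subgroup G, X ≤ N[(⊥ : Subgroup G)] := fun X => norm_bot (G := G) ▸ le_top
    by_contra hc
    have h4 := h2.reg.inf_cent (A := quo (U ⊓ C[MF[S]]) ⊥) (im_mono inf_le_left)
      fun e => hc (le_bot_iff.1 ((quo_eq_bot_iff (n1 _)).1 e))
    exact h2.ker_ne_bot (le_bot_iff.1 (h4 ▸ le_inf le_rfl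
      (im_cent (le_cent_symm inf_le_right))))
  refine ⟨h1, hC, ?_⟩
  rw [hC, relIndex_bot_left, h3, (FTtypeP_H0 hS h).2.2]

theorem FTtypeP_conjSub (hS : IsCoatom S) : ConjSub (pS S ⊥) (seqIndD ⁅S, S⁆ S (FTcore S) ⊥) :=
  conjSub_seqIndD (Fcore_sub_FTcore hS) le_rfl

/-- (13.3)(c) -/
theorem FTtypeP_coherence (hS : IsCoatom S) (h : IsTypePWith S W₁ U W₂) :
    ∃ ν, CohWith (pS S ⊥) (tau0 S) ν ∧ TIredCoh S W₁ W₂ ν := by
  have hd := FTprTIsign hS h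
  have hP := FT_primeTI_hyp h
  by_cases hi : ∃ φ ∈ pS S ⊥, IsIrrCharacter S φ
  · obtain ⟨φ, hφ, hi⟩ := hi
    obtain ⟨ν, hν⟩ := FTtypeP_coherent hS h
    refine ⟨ν, hν, (em _).imp_right fun hn => ?_⟩
    push Not at hn
    obtain ⟨k, hk, hn⟩ := hn
    have key := fun j (hj : j ≠ 1) =>
      FTtypeP_coherent_TIred hS h (FTtypeP_conjSub hS) hν hφ hi (FTseqInd_TIred hS h hj)
    simp only [hd, Int.cast_one, one_smul] at key
    obtain ⟨h1, h2⟩ := (key k hk).resolve_left hn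
    intro j hj
    rcases h2 j (FTseqInd_TIred hS h hj) (by rw [FTprTIred1 hS h hj, FTprTIred1 hS h hk])
      with rfl | rfl
    · exact h1
    refine ((key _ hj).resolve_left fun h3 => ?_).1
    have h4 := hν.ci_mem (FTseqInd_TIred hS h hk) (FTseqInd_TIred hS h hj)
    rw [h1, h3, ci_neg_left, (typeP_cycTI h).ci_col_col, hP.ci_muR, if_pos rfl,
      if_neg ((typeP_cycTI h).inv_ne₂ hk).symm, neg_eq_zero] at h4
    exact card_ne_zero_complex W₁ h4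
  · obtain ⟨k, hk, -⟩ := (typeP_cycTI h).exists_ne_ne₂ 1 1
    obtain ⟨ν, hν, e⟩ := (FT_prDade_hypF hS h).uniform_coherent hk
    refine ⟨ν, hν.subset fun φ hφ => ?_, Or.inl fun j _ => by rw [e, hd, Int.cast_one, one_smul]⟩
    obtain ⟨j, rfl⟩ := (hP.seqIndT_cases (seqIndD_subset_T hφ)).resolve_right
      fun h' => hi ⟨φ, hφ, h'.1⟩
    have hj := hP.ne_one_of_muR_mem hφ
    exact ⟨j, hj, by rw [FTprTIred1 hS h hj, FTprTIred1 hS h hk], rfl⟩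

end Cfsg.Agent.PF
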