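import Cfsg.Agent.PF.S13a

set_option autoImplicit false
set_option linter.unusedSectionVars false
set_option linter.unusedVariables false

namespace Cfsg.Agent.PF

open Subgroup Cfsg.Agent.GT Cfsg.Agent.BG Cfsg.Agent.Char

universe u v w

/-! Peterfalvi (13.5)–(13.8). -/

section General
variable {G : Type u} [Group G] [Fintype G] {S H K P : Subgroup G}

theorem sumSq_sharp {χ : G → ℂ} {f : H → ℂ} (h : ∀ x : H, x ≠ 1 → χ x = f x) :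
    sumSq (sharp H) χ = Nat.card H * nsq f - ‖f 1‖ ^ 2 := by
  classical
  rw [nsq, mul_inv_cancel_left₀ (card_ne_zero_real H), eq_sub_iff_add_eq',
    ← Finset.add_sum_erase _ _ (Finset.mem_univ (1 : H)), add_right_inj, sumSq]
  symm
  refine Finset.sum_bij (fun x _ => (x : G)) (fun x hx => ?_) (fun x _ y _ e => Subtype.ext e)
    (fun y hy => ?_) fun x hx => by rw [h x (Finset.ne_of_mem_erase hx)]
  · simpa using Finset.ne_of_mem_erase hx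
  · rw [Set.Finite.mem_toFinset, mem_sharp] at hy
    exact ⟨⟨y, hy.1⟩, by simpa [Subtype.ext_iff] using hy.2, rfl⟩

theorem card_mul_nsq_cRes (hH : H ≤ S) {ζ : S → ℂ} (hs : SuppOn (H : Set G) ζ) :
    Nat.card H * nsq (cRes H ζ) = Nat.card S * nsq ζ := by
  rw [nsq, nsq, mul_inv_cancel_left₀ (card_ne_zero_real H),
    mul_inv_cancel_left₀ (card_ne_zero_real S)]
  refine Fintype.sum_of_injective (inclusion hH) (inclusion_injective hH) _ _ (fun x hx => ?_)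
    fun x => by rw [cRes_apply hH]
  rw [hs x fun hx' => hx ⟨⟨x, hx'⟩, rfl⟩]; simp

theorem card_mul_le_nsq_of_inKer (hP : P ≤ H) {α : H → ℂ} (hk : InKer P α) :
    Nat.card P * ‖α 1‖ ^ 2 ≤ Nat.card H * nsq α := by
  rw [nsq, mul_inv_cancel_left₀ (card_ne_zero_real H)]
  calc (Nat.card P : ℝ) * ‖α 1‖ ^ 2 = ∑ x : P, ‖α (inclusion hP x)‖ ^ 2 := by
        rw [Finset.sum_congr rfl fun x _ => by rw [hk (inclusion hP x) x.2]]
        simp [Nat.card_eq_fintype_card]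
    _ = ∑ y ∈ Finset.univ.map ⟨inclusion hP, inclusion_injective hP⟩, ‖α y‖ ^ 2 :=
        (Finset.sum_map _ ⟨inclusion hP, inclusion_injective hP⟩ fun y => ‖α y‖ ^ 2).symm
    _ ≤ _ := Finset.sum_le_univ_sum_of_nonneg fun _ => by positivity

theorem inKer_of_ci {α : H → ℂ} (hα : IsClassFunction H α)
    (h : ∀ θ, IsIrrCharacter H θ → ¬ InKer P θ → ⟪α, θ⟫ = 0) : InKer P α := by
  intro x hx
  rw [hα.apply_eq_sum_irr x, hα.apply_eq_sum_irr 1]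
  refine Finset.sum_congr rfl fun θ hθ => ?_
  by_cases hk : InKer P θ
  · rw [hk x hx]
  · rw [h θ (mem_Irr.1 hθ) hk, zero_mul, zero_mul]

theorem seqIndD_subset_zspan (hH : H ≤ K) (hK : K ≤ S) :
    seqIndD H S P ⊥ ⊆ zspan (seqIndD K S P ⊥) := by
  rintro _ ⟨θ, ⟨hθ, hk, -⟩, rfl⟩
  have hv := (hθ.isCharacter.cInd hH).virt
  rw [← cInd_cInd hH hK, hv.isClassFunction.eq_sum_irr, cInd_sum]
  refine sum_mem_zspan fun ψ hψ => ?_
  have hψ := mem_Irr.1 hψ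
  rw [cInd_smul]
  by_cases hk' : InKer P ψ
  · have : ⟪cInd K θ, ψ⟫ = 0 := by
      rw [ci_cInd_left hH _ hψ.isClassFunction]
      by_contra hne
      exact hk ((hk'.cRes hH).of_ci_ne_zero (hψ.isCharacter.cRes hH) hθ
        fun h => hne (ci_eq_zero_symm h))
    rw [this, zero_smul]; exact zero_mem_zspan _
  · exact smul_mem_zspan_of_int (hv.ci_int hψ.virt) (mem_zspan_of_mem ⟨ψ, ⟨hψ, hk', inKer_bot _⟩, rfl⟩)

open scoped Classical in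
/-- the algebraic part of (13.5) -/
theorem split_abelian_normal (hH : H ≤ S) (hn : S ≤ N[H]) (hc : IsMulCommutative H) (hP : P ≤ H)
    (hPn : S ≤ N[P]) {ρ ζ₁ : S → ℂ} (hρ : IsGeneralizedCharacter S ρ)
    (h₁ : ζ₁ ∈ seqIndD H S P ⊥) {c a : ℤ}
    (h0 : ∀ ζ ∈ seqIndD H S P ⊥, ζ ≠ ζ₁ → ⟪ζ, ρ⟫ = c) (ha : ⟪ζ₁, ρ⟫ = c + a) :
    ∃ α : H → ℂ, IsGeneralizedCharacter H α ∧ InKer P α ∧ ⟪cRes H ζ₁, α⟫ = 0 ∧
      ∀ x : H, x ≠ 1 → cRes H ρ x = (((a : ℂ) / nsq ζ₁) • cRes H ζ₁ + α) x := by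
  have hT := seqIndD_subset_T h₁
  have hζ := seqIndT_char hH hT
  have hn0 : (nsq ζ₁ : ℂ) ≠ 0 := by exact_mod_cast (nsq_pos (seqIndT_ne_zero hH hT)).ne'
  set r : H → ℂ := ∑ θ ∈ Irr H, θ 1 • θ with hr
  set α : H → ℂ := cRes H ρ - ((a : ℂ) / nsq ζ₁) • cRes H ζ₁ - (c : ℂ) • r with hα
  have cα : IsClassFunction H α := ((hρ.isClassFunction.cRes hH).sub
    ((hζ.isClassFunction.cRes hH).smul _)).sub ((isClassFunction_sum_smul_irr _).smul _)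
  have key : ∀ θ, IsIrrCharacter H θ →
      ⟪α, θ⟫ = ⟪cInd S θ, ρ⟫ - (if cInd S θ = ζ₁ then a else 0 : ℤ) - c := by
    intro θ hθ
    rw [hα, ci_sub_left, ci_sub_left, ci_smul_left, ci_smul_left, hr,
      ci_sum_smul_irr (fun θ => θ 1) hθ, hθ.degree_one_of_comm, mul_one,
      ← ci_cInd_right hH hρ.isClassFunction, ← ci_cInd_right hH hζ.isClassFunction,
      hρ.ci_comm (hθ.isCharacter.cInd hH).virt]
    split_ifs with e
    · rw [e, ci_self, div_mul_cancel₀ _ hn0]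
    · rw [seqIndT_ortho hH hn hT (cInd_mem_seqIndT hθ) (Ne.symm e)]; simp
  have k0 : ∀ θ, IsIrrCharacter H θ → ¬ InKer P θ → ⟪α, θ⟫ = 0 := by
    intro θ hθ hk
    rw [key θ hθ]
    split_ifs with e
    · rw [e, ha]; ring
    · rw [h0 _ ⟨θ, ⟨hθ, hk, inKer_bot _⟩, rfl⟩ e]; simp
  refine ⟨α, virt_of_ci_int cα fun θ hθ => ?_, inKer_of_ci cα k0, ?_, fun x hx => ?_⟩
  · obtain ⟨m, hm⟩ := (hθ.isCharacter.cInd hH).virt.ci_int hρ
    exact ⟨m - (if cInd S θ = ζ₁ then a else 0 : ℤ) - c, by rw [key θ hθ, hm]; push_cast; rfl⟩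
  · by_contra hne
    obtain ⟨θ, hθ, h1, h2⟩ := (hζ.isClassFunction.cRes hH).exists_irr_common hne
    rw [← ci_cInd_right hH hζ.isClassFunction] at h1
    have e : ζ₁ = cInd S θ := not_not.1 fun e =>
      h1 (seqIndT_ortho hH hn hT (cInd_mem_seqIndT hθ) e)
    rw [e, cInd_mem_seqIndD hH hn hPn (norm_bot (G := G) ▸ le_top) hθ] at h₁
    exact h2 (k0 θ hθ h₁.1)
  · have : r x = 0 := by
      have := sum_irr_degree_mul x
      rw [if_neg hx] at this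
      simpa [hr, Finset.sum_apply] using this
    simp [hα, this]

theorem ci_map_zspan {X : Type v} [Group X] [Fintype X] {ν : (S → ℂ) →ₗ[ℂ] (X → ℂ)}
    {T : Set (S → ℂ)} {χ : X → ℂ} {μ : S → ℂ} {c e : ℂ}
    (h : ∀ φ ∈ T, c * ⟪ν φ, χ⟫ = e * ⟪φ, μ⟫) {φ : S → ℂ} (hφ : φ ∈ zspan T) :
    c * ⟪ν φ, χ⟫ = e * ⟪φ, μ⟫ := by
  refine zspan_induction (P := fun φ => c * ⟪ν φ, χ⟫ = e * ⟪φ, μ⟫) h (by simp)
    (fun α β _ _ h1 h2 => ?_) (fun n α _ h1 => ?_) hφ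
  · rw [map_add, ci_add_left, ci_add_left, mul_add, mul_add, h1, h2]
  · rw [map_zsmul, ci_zsmul_left, ci_zsmul_left, mul_left_comm, h1, mul_left_comm]

theorem ci_map_zspan_eq_zero {X : Type v} [Group X] [Fintype X] {ν : (S → ℂ) →ₗ[ℂ] (X → ℂ)}
    {T : Set (S → ℂ)} {χ : X → ℂ} (h : ∀ φ ∈ T, ⟪ν φ, χ⟫ = 0) {φ : S → ℂ} (hφ : φ ∈ zspan T) :
    ⟪ν φ, χ⟫ = 0 := by
  simpa using ci_map_zspan (c := 1) (e := 0) (μ := 0) (by simpa using h) hφ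

theorem int_mul_le_sq {a b : ℤ} (ha : a = 1 ∨ a = -1) : (a : ℝ) * b ≤ (b : ℝ) ^ 2 := by
  rcases ha with rfl | rfl
  · simpa using int_le_sq b
  · simpa using int_le_sq (-b)

end General

variable {G : Type u} [Group G] [Fintype G] [MFT G] {S T U V W₁ W₂ L : Subgroup G}
  {i : Lin W₁} {j k : Lin W₂} {ν : (S → ℂ) →ₗ[ℂ] (G → ℂ)} {lam ζ ζ₀ ζ₁ : S → ℂ}

/-- `S₁` of (13.5) -/
abbrev calS1 (S : Subgroup G) : Set (S → ℂ) := seqIndD F[S] S MF[S] ⊥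

theorem mem_calS1 (hl : ζ ∈ seqIndT F[S] S) (h : IsTypePWith S W₁ U W₂) (hζ : ζ ∈ pS S ⊥) :
    ζ ∈ calS1 S :=
  have nb : S ≤ N[(⊥ : Subgroup G)] := norm_bot (G := G) ▸ le_top
  (mem_seqIndD_iff (fittingOf_le S) (self_le_norm_fittingOf S) (fittingHallOf_le_fittingOf S)
    (self_le_norm_fittingHallOf S) bot_le nb).2 ⟨hl, ((mem_seqIndD_iff (der_le S) (le_norm_der S)
      (typeP_Fcore_le_der h) (self_le_norm_fittingHallOf S) bot_le nb).1 hζ).2⟩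

theorem muR_mem_calS1 (hS : IsCoatom S) (h : IsTypePWith S W₁ U W₂) (hj : j ≠ 1) :
    muR S W₁ W₂ j ∈ calS1 S := mem_calS1 (FTprTIred_Ind_Fitting hS h hj) h (FTseqInd_TIred hS h hj)

theorem calS1_zspan (h : IsTypePWith S W₁ U W₂) (hζ : ζ ∈ calS1 S) : ζ ∈ zspan (pS S ⊥) :=
  seqIndD_subset_zspan h.fitting_le (der_le S) hζ

theorem seqIndT_Fitting_sub_CF (hS : IsCoatom S) (h : IsTypePWith S W₁ U W₂)
    (hζ : ζ ∈ seqIndT F[S] S) (h₀ : ζ₀ ∈ seqIndT F[S] S) : ζ - ζ₀ ∈ CF S (sharp F[S]) :=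
  zspan_seqIndT_on (fittingOf_le S) (self_le_norm_fittingOf S) subset_rfl
    (sub_mem_zspanOn_one (mem_zspan_of_mem hζ) (mem_zspan_of_mem h₀)
      (by rw [FTtypeP_Ind_Fitting_1 hS h hζ, FTtypeP_Ind_Fitting_1 hS h h₀]))

theorem calS1_sub_eq (hS : IsCoatom S) (h : IsTypePWith S W₁ U W₂)
    (hν : CohWith (pS S ⊥) (tau0 S) ν) (hζ : ζ ∈ calS1 S) (h₀ : ζ₀ ∈ calS1 S) :
    ν ζ - ν ζ₀ = indFun S (ζ - ζ₀) := by
  have h1 := seqIndD_subset_T hζ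
  have h2 := seqIndD_subset_T h₀
  rw [← map_sub, hν.eq (sub_mem_zspan (calS1_zspan h hζ) (calS1_zspan h h₀))
    (by rw [Pi.sub_apply, FTtypeP_Ind_Fitting_1 hS h h1, FTtypeP_Ind_Fitting_1 hS h h2, sub_self]),
    FTtypeP_tau_eq hS h (CF_mono (Fitting_sub_FTsupp0 hS) (seqIndT_Fitting_sub_CF hS h h1 h2))]

/-- (13.5) -/
theorem calS1_split1 (hS : IsCoatom S) (h : IsTypePWith S W₁ U W₂)
    (hν : CohWith (pS S ⊥) (tau0 S) ν) (h₁ : ζ₁ ∈ calS1 S) {χ : G → ℂ}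
    (hχ : IsGeneralizedCharacter G χ) (h0 : ∀ ζ ∈ calS1 S, ζ ≠ ζ₁ → ⟪ν ζ, χ⟫ = 0) {a : ℤ}
    (ha : ⟪ν ζ₁, χ⟫ = a) :
    ∃ (b : ℤ) (N : ℕ), (∀ x : S, (x : G) ∈ MF[S] → (x : G) ≠ 1 → χ x = a / nsq ζ₁ * ζ₁ x + b) ∧
      sumSq (sharp F[S]) χ = (a : ℝ) ^ 2 * Nat.card S / nsq ζ₁ -
        (a * ((U ⊓ C[MF[S]]).relIndex U * Nat.card W₁) / nsq ζ₁ + b) ^ 2 + Nat.card F[S] * N ∧
      Nat.card MF[S] * (b : ℝ) ^ 2 ≤ Nat.card F[S] * N ∧ (N = 1 → (b : ℝ) ^ 2 = 1) := by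
  have hH := fittingOf_le S
  have hn := self_le_norm_fittingOf S
  have hc := FTtypeP_Fitting_abelian hS h
  have hP := fittingHallOf_le_fittingOf S
  have hT := seqIndD_subset_T h₁
  have h₀ := conj_seqIndD h₁
  have hne := seqIndD_conj_ne hH hn (mFT_odd S) h₁
  have hρ := hχ.restrict S
  obtain ⟨c, hc₀⟩ := (seqIndT_char hH (seqIndD_subset_T h₀)).virt.ci_int hρ
  have key : ∀ ζ ∈ calS1 S, ⟪ζ, fun x : S => χ x⟫ = c + ⟪ν ζ, χ⟫ := by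
    intro ζ hζ
    have := ci_indFun_left S (ζ - conjFun ζ₁) hχ.isClassFunction
    rw [← calS1_sub_eq hS h hν hζ h₀, ci_sub_left, ci_sub_left, h0 _ h₀ hne, hc₀] at this
    linear_combination -this
  obtain ⟨α, hα, hk, ho, he⟩ := split_abelian_normal hH hn hc hP (self_le_norm_fittingHallOf S) hρ h₁
    (c := c) (a := a) (fun ζ hζ e => by rw [key ζ hζ, h0 ζ hζ e, add_zero]) (by rw [key _ h₁, ha])
  obtain ⟨b, hb⟩ := hα.exists_int_one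
  obtain ⟨N, hN⟩ := hα.nsq_nat
  have hb2 : ‖α 1‖ ^ 2 = (b : ℝ) ^ 2 := norm_sq_of_eq_int hb
  have hn0 := nsq_pos (seqIndT_ne_zero hH hT)
  refine ⟨b, N, fun x hx hx1 => ?_, ?_, ?_, fun h1 => ?_⟩
  · have := he ⟨x, hP hx⟩ fun e => hx1 (congrArg Subtype.val e)
    rw [cRes_apply hH, Pi.add_apply, Pi.smul_apply, cRes_apply hH, hk _ hx, hb] at this
    exact this
  · rw [sumSq_sharp (f := ((a : ℂ) / nsq ζ₁) • cRes F[S] ζ₁ + α) fun x hx => by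
      rw [← he x hx, cRes_apply hH]; rfl, nsq_add_of_orth (by rw [ci_smul_left, ho, mul_zero]),
      nsq_smul, hN, mul_add, mul_left_comm, card_mul_nsq_cRes hH (seqIndT_on hH hn hT),
      Pi.add_apply, Pi.smul_apply, cRes_one, FTtypeP_Ind_Fitting_1 hS h hT, hb]
    have e1 : ‖(a : ℂ) / nsq ζ₁‖ ^ 2 = (a / nsq ζ₁) ^ 2 := by
      rw [← Complex.ofReal_intCast, ← Complex.ofReal_div, Complex.norm_real, Real.norm_eq_abs, sq_abs]
    have e2 : ((a : ℂ) / nsq ζ₁) • (((U ⊓ C[MF[S]]).relIndex U * Nat.card W₁ : ℕ) : ℂ) + b =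
        ((a * ((U ⊓ C[MF[S]]).relIndex U * Nat.card W₁) / nsq ζ₁ + b : ℝ) : ℂ) := by
      push_cast; rw [smul_eq_mul]; ring
    rw [e1, e2, Complex.norm_real, Real.norm_eq_abs, sq_abs]
    field_simp
    ring
  · rw [← hb2, ← hN]; exact card_mul_le_nsq_of_inKer hP hk
  · obtain ⟨ε, θ, hε, hθ, e⟩ := (hα.isSIrr_of_nsq (by rw [hN, h1, Nat.cast_one])).exists_sign
    rw [e, Pi.smul_apply, hθ.degree_one_of_comm, smul_eq_mul, mul_one, Int.cast_inj] at hb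
    rcases hε with rfl | rfl <;> simp [← hb]

theorem coherent_irr_ortho_eta (hS : IsCoatom S) (h : IsTypePWith S W₁ U W₂)
    (hν : CohWith (pS S ⊥) (tau0 S) ν) (hl : IsIrrCharacter S lam) (hlS : lam ∈ pS S ⊥)
    (i : Lin W₁) (j : Lin W₂) : ⟪ν lam, etaG W₁ W₂ i j⟫ = 0 :=
  coherent_ortho_cycTIiso hS h (FTtypeP_conjSub hS) hν hlS hl i j

theorem exists_W_congr (hS : IsCoatom S) (h : IsTypePWith S W₁ U W₂) :
    ∃ (y : W₁) (x : W₂) (ε : ℂ), y ≠ 1 ∧ x ≠ 1 ∧ IsPrimitiveRoot ε (Nat.card W₁) ∧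
      ∀ n : ℤ, ∀ ω : ℂ, IsIntegral ℤ ω → (n : ℂ) = (1 - ε) * ω → (Nat.card W₁ : ℤ) ∣ n := by
  have := (typeP_cycTI h).nt₁
  have := (typeP_cycTI h).nt₂
  obtain ⟨y, hy⟩ := exists_ne (1 : W₁)
  obtain ⟨x, hx⟩ := exists_ne (1 : W₂)
  have hε := Complex.isPrimitiveRoot_exp _ (card_pos' W₁).ne'
  exact ⟨y, x, _, hy, hx, hε, fun n ω hω e => prime_dvd_of_eq_one_sub_mul (k := 1)
    (FTtypeP_primes hS h).1 (by rw [pow_one, hε.pow_eq_one]) hω e⟩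

/-- (13.6) -/
theorem FTtypeP_sum_Ind_Fitting_lb (hS : IsCoatom S) (h : IsTypePWith S W₁ U W₂)
    (hν : CohWith (pS S ⊥) (tau0 S) ν) (hl : IrrIndH S lam) (hlS : lam ∈ pS S ⊥) :
    (Nat.card S : ℝ) - (lam 1).re ^ 2 ≤ sumSq (sharp F[S]) (ν lam) := by
  have h₁ := mem_calS1 hl.2 h hlS
  have hv := hν.virt_mem hlS
  obtain ⟨b, N, h1, h2, h3, -⟩ := calS1_split1 hS h hν h₁ hv (a := 1) (fun ζ hζ e => by
    rw [hν.ci_eq (calS1_zspan h hζ) (mem_zspan_of_mem hlS), seqIndT_ortho (fittingOf_le S)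
      (self_le_norm_fittingOf S) (seqIndD_subset_T hζ) hl.2 e]) (by
    rw [hν.ci_mem hlS hlS, hl.1.ci_self, Int.cast_one])
  obtain ⟨y, x, ε, hy, hx, hε, hd⟩ := exists_W_congr hS h
  have hP := FT_primeTI_hyp h
  have hxy : (y : G) * x = x * y := (hP.dprod.cent y.2 x x.2).symm
  have hyq : (y : G) ^ Nat.card W₁ = 1 := by rw [← coe_pow, pow_card_eq_one', coe_one]
  obtain ⟨ω₁, i₁, e₁⟩ := hv.exists_sub_eq_one_sub_mul hxy hε (card_pos' W₁) hyq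
  obtain ⟨ω₂, i₂, e₂⟩ := hl.1.virt.exists_sub_eq_one_sub_mul (x := ⟨y, hP.W₁_le y.2⟩)
    (y := ⟨x, hP.W₂_le x.2⟩) (Subtype.ext hxy) hε (card_pos' W₁) (Subtype.ext hyq)
  have z₁ : ν lam (y * x) = 0 := by
    rw [← wG_apply hP.dprod.cent]
    exact (typeP_cycTI h).vanish_of_orth hv.isClassFunction
      (coherent_irr_ortho_eta hS h hν hl.1 hlS) _ (mem_tiSet hy hx)
  have z₂ : lam (⟨y, hP.W₁_le y.2⟩ * ⟨x, hP.W₂_le x.2⟩) = 0 :=
    seqIndT_on (der_le S) (le_norm_der S) (seqIndD_subset_T hlS) _ fun hm =>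
      hy (hP.wL_mem_K_iff.1 (by rw [hP.coe_wL_apply y x]; exact hm))
  have e₃ := h1 ⟨x, hP.W₂_le x.2⟩ (typeP_W₂_le_Fcore h x.2) fun e => hx (Subtype.ext e)
  rw [hl.1.nsq] at e₃ h2
  obtain ⟨b, rfl⟩ := hd b (ω₂ - ω₁) (i₂.sub i₁) (by
    rw [z₁] at e₁; rw [z₂] at e₂
    simp only [Int.cast_one, Complex.ofReal_one, div_one, one_mul] at e₃
    linear_combination e₂ - e₁ - e₃)
  have h4 : (2 * (U ⊓ C[MF[S]]).relIndex U + 1 : ℝ) ≤ Nat.card MF[S] := by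
    exact_mod_cast FTtypeP_two_u_le hS h
  rw [h2, FTtypeP_Ind_Fitting_1 hS h hl.2, Complex.natCast_re]
  push_cast at h3 ⊢
  have h5 := int_le_sq b
  have h6 := int_le_sq (-b)
  have h7 : (0 : ℝ) ≤ (U ⊓ C[MF[S]]).relIndex U := by positivity
  generalize ((U ⊓ C[MF[S]]).relIndex U : ℝ) = u at *
  push_cast at h6
  have h8 : 0 ≤ u * ((b : ℝ) ^ 2 - b) := mul_nonneg h7 (by linarith)
  have h9 := mul_le_mul_of_nonneg_right h4 (sq_nonneg (b : ℝ))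
  have h10 := mul_le_mul_of_nonneg_left (show 2 * u * b + b ^ 2 ≤ Nat.card MF[S] * (b : ℝ) ^ 2 by
    nlinarith) (sq_nonneg (Nat.card W₁ : ℝ))
  nlinarith

theorem TIredCoh.ci_eta (hT : TIredCoh S W₁ W₂ ν) (hS : IsCoatom S) (h : IsTypePWith S W₁ U W₂)
    (hν : CohWith (pS S ⊥) (tau0 S) ν) (j : Lin W₂) :
    ∃ (ε : ℤ) (k : Lin W₂), (ε = 1 ∨ ε = -1) ∧ (k = j ∨ k = j⁻¹) ∧ ∀ φ ∈ zspan (pS S ⊥), ∀ i,
      (Nat.card W₁ : ℂ) * ⟪ν φ, etaG W₁ W₂ i j⟫ = ε * ⟪φ, muR S W₁ W₂ k⟫ := by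
  have hP := FT_primeTI_hyp h
  have hc := typeP_cycTI h
  have key : ∀ (ε : ℤ) (k : Lin W₂), (∀ l, l ≠ 1 → ∀ i, (Nat.card W₁ : ℂ) *
      ⟪ν (muR S W₁ W₂ l), etaG W₁ W₂ i j⟫ = ε * ⟪muR S W₁ W₂ l, muR S W₁ W₂ k⟫) →
      ∀ φ ∈ zspan (pS S ⊥), ∀ i,
      (Nat.card W₁ : ℂ) * ⟪ν φ, etaG W₁ W₂ i j⟫ = ε * ⟪φ, muR S W₁ W₂ k⟫ := by
    intro ε k H φ hφ i
    refine ci_map_zspan (fun φ hφ => ?_) hφ
    rcases hP.seqIndT_cases (seqIndD_subset_T hφ) with ⟨l, rfl⟩ | ⟨hi, -⟩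
    · exact H l (hP.ne_one_of_muR_mem hφ) i
    · rw [coherent_irr_ortho_eta hS h hν hi hφ, seqIndT_ortho (der_le S) (le_norm_der S)
        (seqIndD_subset_T hφ) (hP.muR_mem_T k) fun e => hP.muR_not_irr k (e ▸ hi)]
      simp
  rcases hT with hT | hT
  · refine ⟨1, j, .inl rfl, .inl rfl, key 1 j fun l hl i => ?_⟩
    rw [hT l hl, hc.ci_col_eta, hP.ci_muR]
    split_ifs <;> simp
  · refine ⟨-1, j⁻¹, .inr rfl, .inr rfl, key (-1) j⁻¹ fun l hl i => ?_⟩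
    rw [hT l hl, ci_neg_left, hc.ci_col_eta, hP.ci_muR]
    by_cases e : l = j⁻¹
    · simp [e, linv_inv]
    · rw [if_neg e, if_neg fun e' => e (by rw [← e', linv_inv])]; simp

theorem TIredCoh.ci_eta_one (hT : TIredCoh S W₁ W₂ ν) (hS : IsCoatom S)
    (h : IsTypePWith S W₁ U W₂) (hν : CohWith (pS S ⊥) (tau0 S) ν) {φ : S → ℂ}
    (hφ : φ ∈ zspan (pS S ⊥)) (i : Lin W₁) : ⟪ν φ, etaG W₁ W₂ i 1⟫ = 0 := by
  obtain ⟨ε, k, -, hk, H⟩ := hT.ci_eta hS h hν 1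
  have hk : k = 1 := hk.elim id fun e => e.trans linv_one
  have := H φ hφ i
  rw [hk, (FT_primeTI_hyp h).muR_zero, ci_eq_zero_of_mem_zspan (fun ψ hψ =>
    seqIndD_ortho_Ind1 (der_le S) (le_norm_der S) hψ) hφ, mul_zero] at this
  exact (mul_eq_zero.1 this).resolve_left (card_ne_zero_complex W₁)

theorem exists_lin_ne_one₂ (h : IsTypePWith S W₁ U W₂) : ∃ j : Lin W₂, j ≠ 1 :=
  ((typeP_cycTI h).exists_ne_ne₂ 1 1).imp fun _ h => h.1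

theorem exists_lin_ne_one₁ (h : IsTypePWith S W₁ U W₂) : ∃ i : Lin W₁, i ≠ 1 :=
  ((typeP_cycTI h).exists_ne_ne₁ 1 1).imp fun _ h => h.1

/-- (13.7) -/
theorem FTtypeP_sum_cycTIiso10_lb (hS : IsCoatom S) (h : IsTypePWith S W₁ U W₂) (hi : i ≠ 1) :
    (Nat.card F[S] : ℝ) - 1 ≤ sumSq (sharp F[S]) (etaG W₁ W₂ i 1) := by
  obtain ⟨ν, hν, hT⟩ := FTtypeP_coherence hS h
  obtain ⟨j, hj⟩ := exists_lin_ne_one₂ h
  have hc := typeP_cycTI h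
  have hv := hc.eta_virt i 1
  have h₁ := muR_mem_calS1 hS h hj
  obtain ⟨b, N, h1, h2, h3, h4⟩ := calS1_split1 hS h hν h₁ hv (a := 0)
    (fun ζ hζ _ => hT.ci_eta_one hS h hν (calS1_zspan h hζ) i)
    (by rw [hT.ci_eta_one hS h hν (calS1_zspan h h₁) i, Int.cast_zero])
  obtain ⟨y, x, ε, hy, hx, hε, hd⟩ := exists_W_congr hS h
  have hP := FT_primeTI_hyp h
  have hxy : (y : G) * x = x * y := (hP.dprod.cent y.2 x x.2).symm
  have hyq : (y : G) ^ Nat.card W₁ = 1 := by rw [← coe_pow, pow_card_eq_one', coe_one]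
  obtain ⟨ω₁, i₁, e₁⟩ := hv.exists_sub_eq_one_sub_mul hxy hε (card_pos' W₁) hyq
  obtain ⟨ω₂, i₂, e₂⟩ := (lc_virt i).exists_sub_eq_one_sub_mul (x := y) (y := 1) (by simp) hε
    (card_pos' W₁) pow_card_eq_one'
  have e₃ := h1 ⟨x, hP.W₂_le x.2⟩ (typeP_W₂_le_Fcore h x.2) fun e => hx (Subtype.ext e)
  have e₄ := hc.etaG_apply i 1 hy hx
  have hb : b ≠ 0 := by
    rintro rfl
    have := hd 1 (ω₁ - ω₂) (i₁.sub i₂) (by
      simp only [Int.cast_zero, zero_div, zero_mul, add_zero, mul_one, lc_apply_one,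
        MonoidHom.one_apply, Units.val_one] at e₂ e₃ e₄
      rw [e₃] at e₁
      push_cast
      linear_combination e₁ - e₂ - e₄)
    have := Int.le_of_dvd one_pos this
    have := FTtypeP_q_gt2 h
    omega
  have hb1 : (1 : ℝ) ≤ (b : ℝ) ^ 2 := by exact_mod_cast (one_le_sq_iff_one_le_abs b).2 (Int.one_le_abs hb)
  have hP2 : (2 : ℝ) ≤ Nat.card MF[S] := by
    exact_mod_cast (one_lt_card_iff_ne_bot _).2 (typeP_Fcore_ne h)
  have hH := card_pos_real F[S]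
  rw [h2]
  simp only [Int.cast_zero, zero_mul, zero_div, zero_add, ne_eq, OfNat.ofNat_ne_zero,
    not_false_eq_true, zero_pow, zero_sub]
  rcases N with _ | _ | N
  · push_cast at h3; nlinarith
  · rw [h4 rfl]; push_cast; linarith
  · push_cast at h3 ⊢
    nlinarith [mul_nonneg hH.le (Nat.cast_nonneg N : (0 : ℝ) ≤ N)]

theorem typeP_card_eq (h : IsTypePWith S W₁ U W₂) :
    Nat.card S = Nat.card ↥⁅S, S⁆ * Nat.card W₁ := (typeP_sdprod h).card_mul.symm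

/-- (13.8) -/
theorem FTtypeP_sum_cycTIiso01_lb (hS : IsCoatom S) (h : IsTypePWith S W₁ U W₂) (hj : j ≠ 1) :
    (Nat.card ↥⁅S, S⁆ : ℝ) - ((U ⊓ C[MF[S]]).relIndex U : ℝ) ^ 2 ≤
      sumSq (sharp F[S]) (etaG W₁ W₂ 1 j) := by
  obtain ⟨ν, hν, hT⟩ := FTtypeP_coherence hS h
  have hP := FT_primeTI_hyp h
  obtain ⟨ε, k, hε, hk, H⟩ := hT.ci_eta hS h hν j
  have hk1 : k ≠ 1 := hk.elim (fun e => e ▸ hj) fun e => e ▸ mt linv_eq_one.1 hj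
  have h₁ := muR_mem_calS1 hS h hk1
  have hq := card_ne_zero_complex W₁
  obtain ⟨b, N, -, h2, h3, -⟩ := calS1_split1 hS h hν h₁ ((typeP_cycTI h).eta_virt 1 j) (a := ε)
    (fun ζ hζ e => by
      have := H ζ (calS1_zspan h hζ) 1
      rw [seqIndT_ortho (fittingOf_le S) (self_le_norm_fittingOf S) (seqIndD_subset_T hζ)
        (seqIndD_subset_T h₁) e, mul_zero] at this
      exact (mul_eq_zero.1 this).resolve_left hq)
    (mul_left_cancel₀ hq (by rw [H _ (calS1_zspan h h₁) 1, hP.ci_muR, if_pos rfl, mul_comm]))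
  have h4 : (2 * (U ⊓ C[MF[S]]).relIndex U + 1 : ℝ) ≤ Nat.card MF[S] := by
    exact_mod_cast FTtypeP_two_u_le hS h
  have hq' := card_ne_zero_real W₁
  have e2 : (ε : ℝ) ^ 2 = 1 := by rcases hε with rfl | rfl <;> simp
  rw [h2, hP.nsq_muR, typeP_card_eq h, e2, ← mul_assoc, mul_div_cancel_right₀ _ hq', Nat.cast_mul,
    one_mul, mul_div_cancel_right₀ _ hq']
  have h5 := int_mul_le_sq (b := b) hε
  have h7 : (0 : ℝ) ≤ (U ⊓ C[MF[S]]).relIndex U := by positivity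
  generalize ((U ⊓ C[MF[S]]).relIndex U : ℝ) = u at *
  have h8 : 0 ≤ u * ((b : ℝ) ^ 2 - ε * b) := mul_nonneg h7 (by linarith)
  have h9 := mul_le_mul_of_nonneg_right h4 (sq_nonneg (b : ℝ))
  have : (ε * u + b : ℝ) ^ 2 = u ^ 2 + 2 * u * (ε * b) + b ^ 2 := by
    rw [add_sq, mul_pow, e2]; ring
  nlinarith

end Cfsg.Agent.PF
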