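import Cfsg.Agent.PF.S13b

set_option autoImplicit false
set_option linter.unusedSectionVars false
set_option linter.unusedVariables false

namespace Cfsg.Agent.PF

open Subgroup Cfsg.Agent.GT Cfsg.Agent.BG Cfsg.Agent.Char

universe u v w

/-! Peterfalvi (13.4), (13.9), (13.10). -/

section General
variable {G : Type u} [Group G] [Fintype G] {S H K L : Subgroup G} {A B : Set G} {χ ψ : G → ℂ}

theorem indFun_eq_zero_of_supp {φ : S → ℂ} (hφ : SuppOn A φ) {x : G} (hx : x ∉ classSupp A ⊤) :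
    indFun S φ x = 0 :=
  indFun_eq_zero_of_forall S fun y hy => hφ _ fun hA => hx ⟨_, hA, y, trivial, by group⟩

theorem ci_eq_zero_of_disjoint (hd : Disjoint A B) (h₁ : ∀ x, x ∉ A → χ x = 0)
    (h₂ : ∀ x, x ∉ B → ψ x = 0) : ⟪χ, ψ⟫ = 0 := by
  rw [ci_def, Finset.sum_eq_zero fun x _ => ?_, mul_zero]
  by_cases hx : x ∈ A
  · rw [h₂ x (Set.disjoint_left.1 hd hx), map_zero, mul_zero]
  · rw [h₁ x hx, zero_mul]

theorem ci_indFun_of_disjoint {φ : S → ℂ} {θ : L → ℂ} (hφ : SuppOn A φ) (hθ : SuppOn B θ)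
    (hd : Disjoint (classSupp A ⊤) (classSupp B ⊤)) : ⟪indFun S φ, indFun L θ⟫ = 0 :=
  ci_eq_zero_of_disjoint hd (fun _ => indFun_eq_zero_of_supp hφ) fun _ => indFun_eq_zero_of_supp hθ

open scoped Classical in
theorem sumSq_eq (A : Set G) (χ : G → ℂ) :
    sumSq A χ = ∑ x, if x ∈ A then ‖χ x‖ ^ 2 else 0 := by
  rw [sumSq, ← Finset.sum_filter]; congr 1; ext; simp

theorem sumSq_nonneg (A : Set G) (χ : G → ℂ) : 0 ≤ sumSq A χ :=
  Finset.sum_nonneg fun _ _ => by positivity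

theorem sumSq_mono (h : A ⊆ B) (χ : G → ℂ) : sumSq A χ ≤ sumSq B χ :=
  Finset.sum_le_sum_of_subset_of_nonneg (by simpa using h) fun _ _ _ => by positivity

theorem sumSq_union (hd : Disjoint A B) (χ : G → ℂ) :
    sumSq (A ∪ B) χ = sumSq A χ + sumSq B χ := by
  classical
  simp only [sumSq_eq, ← Finset.sum_add_distrib]
  refine Finset.sum_congr rfl fun x _ => ?_
  by_cases hA : x ∈ A
  · simp [hA, Set.disjoint_left.1 hd hA]
  · simp [hA]

theorem sumSq_univ (χ : G → ℂ) : sumSq Set.univ χ = Nat.card G * nsq χ := by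
  rw [nsq, mul_inv_cancel_left₀ (card_ne_zero_real G), sumSq_eq]; simp

theorem sumSq_singleton (x : G) (χ : G → ℂ) : sumSq {x} χ = ‖χ x‖ ^ 2 := by
  simp [sumSq]

theorem sumSq_one (A : Set G) : sumSq A (fun _ => 1) = Nat.card A := by
  simp [sumSq, ← Set.ncard_eq_toFinset_card A, Nat.card_coe_set_eq]

theorem sumSq_sharp_one (H : Subgroup G) : sumSq (sharp H) (fun _ => 1) = Nat.card H - 1 := by
  rw [sumSq_sharp (f := fun _ => 1) fun _ _ => rfl, isIrrCharacter_one.nsq]; simp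

theorem sumSq_classSupp (hA : NormedTI A ⊤ L) (hχ : IsClassFunction G χ) :
    Nat.card L * sumSq (classSupp A ⊤) χ = Nat.card G * sumSq A χ := by
  classical
  have e1 : Nat.card G * sumSq A χ = ∑ g : G, ∑ x, if g⁻¹ * x * g ∈ A then ‖χ x‖ ^ 2 else 0 := by
    rw [Finset.sum_congr rfl (g := fun _ => sumSq A χ) fun g _ => ?_]
    · simp [Nat.card_eq_fintype_card]
    · rw [sumSq_eq]
      refine Fintype.sum_equiv (MulAut.conj g⁻¹).toEquiv _ _ fun x => ?_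
      simp [hχ.conj']
  rw [e1, Finset.sum_comm, sumSq_eq, Finset.mul_sum]
  refine Finset.sum_congr rfl fun x _ => ?_
  split_ifs with hx
  · obtain ⟨a, ha, g, -, rfl⟩ := hx
    rw [← Finset.sum_filter, Finset.sum_const, nsmul_eq_mul, Nat.card_eq_fintype_card,
      Fintype.card_subtype]
    congr 2
    refine Finset.card_bij (fun y _ => g * y⁻¹) (fun y hy => ?_) (fun _ _ _ _ e => by simpa using e)
      fun y hy => ⟨y⁻¹ * g, ?_, by group⟩
    · simp only [Finset.mem_filter, Finset.mem_univ, true_and] at hy ⊢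
      convert hA.conj_mem ha hy using 1; group
    · simp only [Finset.mem_filter, Finset.mem_univ, true_and] at hy ⊢
      exact hA.mem_of_conj_mem ha trivial (by convert hy using 1; group)
  · rw [mul_zero, Finset.sum_eq_zero fun g _ => if_neg fun h => hx ⟨_, h, g, trivial, by group⟩]

theorem pow_card_of_pow_orderOf {z : ℂ} {x : G} (h : z ^ orderOf x = 1) : z ^ Nat.card G = 1 := by
  obtain ⟨m, hm⟩ := orderOf_dvd_natCard x
  rw [hm, pow_mul, h, one_pow]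

theorem virt_pow_eq_zero_iff (hχ : IsGeneralizedCharacter G χ) (x : G) {k : ℕ}
    (hk : k.Coprime (Nat.card G)) : χ (x ^ k) = 0 ↔ χ x = 0 := by
  obtain ⟨σ, hσ⟩ := exists_ringEquiv_pow (Nat.card_pos (α := G)) hk
  rw [← hχ.ringHom_apply (σ : ℂ →+* ℂ) fun z hz => hσ z (pow_card_of_pow_orderOf hz)]
  simp

/-- the product of the values on a Galois-stable set is an integer; then use AM-GM -/
theorem card_le_sumSq (hχ : IsGeneralizedCharacter G χ)
    (hA : ∀ x ∈ A, ∀ k : ℕ, k.Coprime (Nat.card G) → x ^ k ∈ A) (h0 : ∀ x ∈ A, χ x ≠ 0) :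
    sumSq A (fun _ => 1) ≤ sumSq A χ := by
  set s := (Set.toFinite A).toFinset with hs
  have hm : ∀ {x}, x ∈ s ↔ x ∈ A := Set.Finite.mem_toFinset _
  obtain ⟨n, hn⟩ := exists_int_of_forall_ringEquiv (x := ∏ x ∈ s, χ x)
    (IsIntegral.prod _ fun x _ => hχ.isIntegral x) fun σ => by
      obtain ⟨k, hk, hσ⟩ := exists_pow_of_ringHom (σ : ℂ →+* ℂ) (Nat.card_pos (α := G))
      rw [map_prod]
      refine Finset.prod_bij (fun x _ => x ^ k) (fun x hx => hm.2 (hA x (hm.1 hx) k hk))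
        (fun x _ y _ e => (powCoprime hk.symm).injective e) (fun y hy => ?_) fun x _ =>
          hχ.ringHom_apply (σ : ℂ →+* ℂ) fun z hz =>
            hσ z (pow_card_of_pow_orderOf hz)
      obtain ⟨x, hx, e⟩ := Finset.surj_on_of_inj_on_of_card_le (s := s) (t := s) (fun x _ => x ^ k)
        (fun x hx => hm.2 (hA x (hm.1 hx) k hk))
        (fun x y _ _ e => (powCoprime hk.symm).injective e) le_rfl y hy
      exact ⟨x, hx, e.symm⟩
  have hn0 : n ≠ 0 := by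
    rintro rfl
    obtain ⟨x, hx, e⟩ := Finset.prod_eq_zero_iff.1 (hn.trans Int.cast_zero)
    exact h0 x (hm.1 hx) e
  have h1 : (1 : ℝ) ≤ ∏ x ∈ s, ‖χ x‖ ^ 2 := by
    rw [Finset.prod_pow, ← norm_prod, norm_sq_of_eq_int hn]
    exact_mod_cast (one_le_sq_iff_one_le_abs n).2 (Int.one_le_abs hn0)
  have hp : ∀ x ∈ s, 0 < ‖χ x‖ ^ 2 := fun x hx => by have := h0 x (hm.1 hx); positivity
  have h2 := Real.log_nonneg h1
  rw [Real.log_prod fun x hx => (hp x hx).ne'] at h2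
  have h3 := Finset.sum_le_sum fun x hx => Real.log_le_sub_one_of_pos (hp x hx)
  rw [Finset.sum_sub_distrib] at h3
  simp only [sumSq, norm_one, one_pow, ← hs]
  linarith

theorem card_le_sumSq_add (hχ : IsGeneralizedCharacter G χ) (hψ : IsGeneralizedCharacter G ψ)
    (hA : ∀ x ∈ A, ∀ k : ℕ, k.Coprime (Nat.card G) → x ^ k ∈ A)
    (h0 : ∀ x ∈ A, χ x ≠ 0 ∨ ψ x ≠ 0) : sumSq A (fun _ => 1) ≤ sumSq A χ + sumSq A ψ := by
  have e : A = {x ∈ A | χ x ≠ 0} ∪ {x ∈ A | χ x = 0} := by ext x; simp [← and_or_left, em']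
  have h1 := card_le_sumSq (A := {x ∈ A | χ x ≠ 0}) hχ (fun x hx k hk =>
    ⟨hA x hx.1 k hk, mt (virt_pow_eq_zero_iff hχ x hk).1 hx.2⟩) fun x hx => hx.2
  have h2 := card_le_sumSq (A := {x ∈ A | χ x = 0}) hψ (fun x hx k hk =>
    ⟨hA x hx.1 k hk, (virt_pow_eq_zero_iff hχ x hk).2 hx.2⟩) fun x hx =>
      (h0 x hx.1).resolve_left (not_not.2 hx.2)
  have h3 := sumSq_mono (A := {x ∈ A | χ x ≠ 0}) (B := A) (fun x hx => hx.1) χ
  have h4 := sumSq_mono (A := {x ∈ A | χ x = 0}) (B := A) (fun x hx => hx.1) ψ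
  conv_lhs => rw [e, sumSq_union (Set.disjoint_left.2 fun x h h' => h.2 h'.2)]
  linarith

theorem mem_classSupp_sharp_of_pow {x : G} {k : ℕ} (hk : k.Coprime (Nat.card G))
    (h : x ^ k ∈ classSupp (sharp H) ⊤) : x ∈ classSupp (sharp H) ⊤ := by
  obtain ⟨a, ha, g, -, e⟩ := h
  obtain ⟨m, hm⟩ := exists_pow_eq_self_of_coprime (x := x)
    (hk.coprime_dvd_right (orderOf_dvd_natCard x))
  rw [e, conj_pow] at hm
  refine ⟨a ^ m, ⟨pow_mem ha.1 m, fun h1 => ha.2 ?_⟩, g, trivial, hm.symm⟩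
  rw [h1, mul_one, mul_inv_cancel] at hm
  rw [← hm, one_pow] at e
  simpa using e.symm

theorem sumSq_cover (hH : NormedTI (sharp H) ⊤ S) (hK : NormedTI (sharp K) ⊤ L)
    (hd : Disjoint (classSupp (sharp H) ⊤) (classSupp (sharp K) ⊤)) (hχ : IsClassFunction G χ) :
    nsq χ = (‖χ 1‖ ^ 2 + sumSq ({1} ∪ (classSupp (sharp H) ⊤ ∪ classSupp (sharp K) ⊤))ᶜ χ) /
      Nat.card G + sumSq (sharp H) χ / Nat.card S + sumSq (sharp K) χ / Nat.card L := by
  have h1 : ∀ {H : Subgroup G}, (1 : G) ∉ classSupp (sharp H) ⊤ := by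
    rintro H ⟨a, ha, g, -, e⟩
    exact ha.2 (by simpa using e.symm)
  have e := sumSq_univ χ
  rw [← Set.union_compl_self ({1} ∪ (classSupp (sharp H) ⊤ ∪ classSupp (sharp K) ⊤)),
    sumSq_union disjoint_compl_right, sumSq_union (by simp [h1]), sumSq_union hd,
    sumSq_singleton] at e
  have e1 := sumSq_classSupp hH hχ
  have e2 := sumSq_classSupp hK hχ
  have := card_ne_zero_real G
  have := card_ne_zero_real S
  have := card_ne_zero_real L
  field_simp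
  linear_combination -(Nat.card S * Nat.card L : ℝ) * e + Nat.card L * e1 + Nat.card S * e2

theorem sirr_one_le (hχ : IsSIrr G χ) : 1 ≤ ‖χ 1‖ ^ 2 := by
  obtain ⟨n, hn⟩ := hχ.virt.exists_int_one
  have : n ≠ 0 := fun e => hχ.apply_one_ne_zero (by rw [hn, e, Int.cast_zero])
  rw [norm_sq_of_eq_int hn]
  exact_mod_cast (one_le_sq_iff_one_le_abs n).2 (Int.one_le_abs this)

end General

variable {G : Type u} [Group G] [Fintype G] [MFT G] {S T U V W₁ W₂ L : Subgroup G}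
  {i : Lin W₁} {j k : Lin W₂} {ν : (S → ℂ) →ₗ[ℂ] (G → ℂ)} {lam ζ ζ₀ ζ₁ : S → ℂ}

theorem Fitting_classSupp_disjoint (hST : TypePPair S T W₁ W₂) (h : IsTypePWith S W₁ U W₂)
    (h' : IsTypePWith T W₂ V W₁) :
    Disjoint (classSupp (sharp F[S]) ⊤) (classSupp (sharp F[T]) ⊤) := by
  rw [Set.disjoint_left]
  rintro _ ⟨a, ha, g, -, rfl⟩ ⟨b, hb, g', -, e⟩
  have hle : cj[g'⁻¹ * g] MF[S] ≤ T := by
    rintro _ ⟨x, hx, rfl⟩
    refine (FTtypeP_Fitting_TI hST.maxT h').mem_of_conj_mem hb trivial ?_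
    have hc : x * a * x⁻¹ = a := by
      rw [mul_inv_eq_iff_eq_mul]
      exact congrArg Subtype.val ((FTtypeP_Fitting_abelian hST.maxS h).is_comm.comm
        ⟨x, fittingHallOf_le_fittingOf S hx⟩ ⟨a, ha.1⟩)
    have hb' : b = g'⁻¹ * g * a * (g'⁻¹ * g)⁻¹ := by
      rw [← mul_left_inj g'⁻¹, ← mul_right_inj g', ← mul_assoc, ← e]; group
    convert hb using 1
    rw [hb']
    conv_rhs => rw [← hc]
    simp only [MulEquiv.coe_toMonoidHom, MulAut.conj_apply]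
    group
  have hd := card_dvd_of_le hle
  rw [card_conj, (FTtypeP_abelem hST.maxS h).2, typeP_card_eq h'] at hd
  have h1 := ((typeP_coprime h').symm.pow_left _).dvd_of_dvd_mul_left hd
  have h2 := Nat.pow_lt_pow_right ((FTtypeP_primes hST.maxS h).2.one_lt)
    ((FTtypeP_primes hST.maxS h).1.one_lt)
  exact (Nat.le_of_dvd (card_pos' W₂) h1).not_gt (by simpa using h2)

theorem TIredCoh.exists_eq (hT : TIredCoh S W₁ W₂ ν) (hj : j ≠ 1) :
    ∃ (ε : ℤ) (k : Lin W₂), ε ≠ 0 ∧ k ≠ 1 ∧ ν (muR S W₁ W₂ j) = ε • ∑ i, etaG W₁ W₂ i k :=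
  hT.elim (fun H => ⟨1, j, one_ne_zero, hj, by rw [H j hj, one_smul]⟩) fun H =>
    ⟨-1, j⁻¹, by simp, mt linv_eq_one.1 hj, by rw [H j hj, neg_one_smul]⟩

/-- (13.4) -/
theorem T_Galois (hST : TypePPair S T W₁ W₂) (h : IsTypePWith S W₁ U W₂)
    (h' : IsTypePWith T W₂ V W₁) (hl : IrrIndH S lam) (hlS : lam ∈ pS S ⊥) :
    TypePGalois T V ∧ V ⊓ C[MF[T]] = ⊥ ∧
    (V ⊓ C[MF[T]]).relIndex V = (Nat.card W₁ ^ Nat.card W₂ - 1) / (Nat.card W₁ - 1) := by
  have hS := hST.maxS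
  have hT := hST.maxT
  refine FTtypeP_no_Ind_Fitting_facts hT h' fun θ hθS hθ => ?_
  obtain ⟨ν, hν, hc⟩ := FTtypeP_coherence hS h
  obtain ⟨ν', hν', hc'⟩ := FTtypeP_coherence hT h'
  obtain ⟨j, hj⟩ := exists_lin_ne_one₂ h
  obtain ⟨i, hi⟩ := exists_lin_ne_one₂ h'
  have key : ∀ ζ ∈ calS1 S, ∀ ζ₀ ∈ calS1 S, ∀ ξ ∈ calS1 T, ∀ ξ₀ ∈ calS1 T,
      ⟪ν ζ - ν ζ₀, ν' ξ - ν' ξ₀⟫ = 0 := fun ζ h1 ζ₀ h2 ξ h3 ξ₀ h4 => by
    rw [calS1_sub_eq hS h hν h1 h2, calS1_sub_eq hT h' hν' h3 h4]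
    exact ci_indFun_of_disjoint
      (seqIndT_Fitting_sub_CF hS h (seqIndD_subset_T h1) (seqIndD_subset_T h2)).2
      (seqIndT_Fitting_sub_CF hT h' (seqIndD_subset_T h3) (seqIndD_subset_T h4)).2
      (Fitting_classSupp_disjoint hST h h')
  have aux : ∀ {S W₁ U W₂ : Subgroup G} {ν : (S → ℂ) →ₗ[ℂ] (G → ℂ)} {lam : S → ℂ}, IsCoatom S →
      IsTypePWith S W₁ U W₂ → CohWith (pS S ⊥) (tau0 S) ν → IrrIndH S lam → lam ∈ pS S ⊥ →
      ⟪ν lam, ν (conjFun lam)⟫ = 0 ∧ ν lam 1 = ν (conjFun lam) 1 := by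
    intro S W₁ U W₂ ν lam hS h hν hl hlS
    refine ⟨?_, ?_⟩
    · rw [hν.ci_mem hlS (conj_seqIndD hlS)]
      exact ci_eq_zero_symm (seqIndD_conj_ortho (der_le S) (le_norm_der S) (mFT_odd S) hlS)
    · have h1 := mem_calS1 hl.2 h hlS
      have := congrFun (calS1_sub_eq hS h hν h1 (conj_seqIndD h1)) 1
      rwa [indFun_apply_one, Pi.sub_apply, Pi.sub_apply, conjFun_apply, hl.1.isCharacter.conj_one,
        sub_self, mul_zero, sub_eq_zero] at this
  have l1 := mem_calS1 hl.2 h hlS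
  have t1 := mem_calS1 hθ.2 h' hθS
  have h0 : ⟪ν lam, ν' θ⟫ = 0 := ci_eq_zero_of_split (s := 1) (t := 1) (u := 1) (v := 1)
    (hν.isSIrr hlS hl.1) (hν.isSIrr (conj_seqIndD hlS) hl.1.conjFun)
    (hν'.isSIrr hθS hθ.1) (hν'.isSIrr (conj_seqIndD hθS) hθ.1.conjFun) one_ne_zero one_ne_zero
    (aux hS h hν hl hlS).1 (aux hT h' hν' hθ hθS).1
    (by simpa using key _ l1 _ (conj_seqIndD l1) _ t1 _ (conj_seqIndD t1))
    (by simpa using (aux hS h hν hl hlS).2) (by simpa using (aux hT h' hν' hθ hθS).2)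
  have h1 := key _ l1 _ (muR_mem_calS1 hS h hj) _ t1 _ (muR_mem_calS1 hT h' hi)
  obtain ⟨ε, k, hε, -, e⟩ := hc.exists_eq hj
  obtain ⟨ε', l, hε', -, e'⟩ := hc'.exists_eq hi
  have sw := etaG_swap (typeP_dprod h).cent
  have h2 : ∀ i, ⟪etaG W₁ W₂ i k, ν' θ⟫ = 0 := fun i => by
    rw [← sw]; exact ci_eq_zero_symm (coherent_irr_ortho_eta hT h' hν' hθ.1 hθS _ _)
  simp only [e, e', sw, ci_sub_left, ci_sub_right, h0, ci_zsmul_left, ci_zsmul_right, ci_sum_right,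
    coherent_irr_ortho_eta hS h hν hl.1 hlS, (typeP_cycTI h).ci_col_eta] at h1
  simp [ci_sum_left, h2, hε, hε'] at h1

/-- (13.9)(a) -/
theorem FTtypeP_Ind_Fitting_or_eta_ne (hS : IsCoatom S) (h : IsTypePWith S W₁ U W₂)
    (hν : CohWith (pS S ⊥) (tau0 S) ν) (hc : TIredCoh S W₁ W₂ ν) (hl : IrrIndH S lam)
    (hlS : lam ∈ pS S ⊥) (hi : i ≠ 1) {x : G} (hx : x ∉ classSupp (sharp F[S]) ⊤) :
    ν lam x ≠ 0 ∨ etaG W₁ W₂ i 1 x ≠ 0 := by
  by_contra! H
  obtain ⟨j, hj⟩ := exists_lin_ne_one₂ h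
  have hC := typeP_cycTI h
  have H2 : eta (wG W₁ W₂) i 1 x = 0 := H.2
  have l1 := mem_calS1 hl.2 h hlS
  have m1 := muR_mem_calS1 hS h hj
  have h1 := congrFun (calS1_sub_eq hS h hν m1 l1) x
  obtain ⟨ε, k, hε, hk, e⟩ := hc.exists_eq hj
  rw [indFun_eq_zero_of_supp (seqIndT_Fitting_sub_CF hS h (seqIndD_subset_T m1) hl.2).2 hx,
    Pi.sub_apply, H.1, sub_zero, e, Pi.smul_apply, smul_eq_zero_iff_right hε,
    Finset.sum_apply] at h1
  have h2 : ∀ l, l ≠ 1 → etaG W₁ W₂ l 1 x = 0 := fun l hl => by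
    obtain ⟨n, hn, rfl⟩ := exists_linAut_of_prime (FTtypeP_primes hS h).1 hi hl
    obtain ⟨σ, h1, h2⟩ := exists_linAut_pow hC.coprime hn
    have := congrFun (hC.cfAut_eta σ i 1) x
    rw [h1, linAut_one, cfAut, H2, map_zero] at this
    exact this.symm
  have h3 : ∀ l, l ≠ 1 → etaG W₁ W₂ l k x = etaG W₁ W₂ 1 k x - 1 := fun l hl => by
    have := congrFun (hC.ind_alpha l k) x
    rw [ind_eq_zero_of_forall (f := wG W₁ W₂) (g := x) fun y ⟨a, b⟩ e => ?_] at this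
    · simp only [Pi.add_apply, Pi.sub_apply, hC.eta_one, h2 l hl] at this
      linear_combination -this
    · by_cases ha : a = 1
      · simp [om_apply, ha]
      by_cases hb : b = 1
      · simp [om_apply, hb]
      have := hC.eta_on i 1 ha hb
      rw [e, (hC.eta_class i 1).conj', H2] at this
      exact absurd this.symm (mul_ne_zero (Units.ne_zero _) (Units.ne_zero _))
  have h4 : ∑ l, (etaG W₁ W₂ l k x - (etaG W₁ W₂ 1 k x - 1)) = 1 := by
    rw [Finset.sum_eq_single 1 (fun l _ hl => by rw [h3 l hl, sub_self]) (by simp)]; ring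
  rw [Finset.sum_sub_distrib, h1, Finset.sum_const, Finset.card_univ, hC.card_Lin₁] at h4
  have := int_dvd_of_isIntegral (a := -1) (b := Nat.card W₁)
    (((hC.eta_virt 1 k).isIntegral x).sub isIntegral_one) (by exact_mod_cast (card_pos' W₁).ne')
    (by push_cast; rw [nsmul_eq_mul] at h4; linear_combination h4)
  have := Int.le_of_dvd one_pos (dvd_neg.1 this)
  have := FTtypeP_q_gt2 h
  omega

theorem typeP_card_der (hS : IsCoatom S) (h : IsTypePWith S W₁ U W₂) :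
    Nat.card ↥⁅S, S⁆ = Nat.card W₂ ^ Nat.card W₁ *
      ((U ⊓ C[MF[S]]).relIndex U * Nat.card ↥(U ⊓ C[MF[S]])) := by
  rw [← (typeP_sdprod_der h).card_mul, (FTtypeP_abelem hS h).2, mul_comm (relIndex _ _),
    card_mul_relIndex inf_le_left]

theorem typeP_card_Fitting (hS : IsCoatom S) (h : IsTypePWith S W₁ U W₂) :
    Nat.card F[S] = Nat.card W₂ ^ Nat.card W₁ * Nat.card ↥(U ⊓ C[MF[S]]) := by
  rw [← (typeP_Fitting h).card_mul, (FTtypeP_abelem hS h).2]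

/-- (13.10) -/
theorem FTtypeP_compl_ker_ratio_lb (hS : IsCoatom S) (h : IsTypePWith S W₁ U W₂)
    (hl : IrrIndH S lam) (hlS : lam ∈ pS S ⊥) :
    (1 - ((Nat.card W₁ : ℝ) - 1)⁻¹ - ((Nat.card W₁ : ℝ) - 1) / (Nat.card W₁ : ℝ) ^ Nat.card W₂ +
        (((Nat.card W₁ : ℝ) - 1) * (Nat.card W₁ : ℝ) ^ Nat.card W₂)⁻¹) *
      (Nat.card W₂ : ℝ) ^ (Nat.card W₁ - 1) / Nat.card W₁ <
    ((U ⊓ C[MF[S]]).relIndex U : ℝ) / Nat.card ↥(U ⊓ C[MF[S]]) := by
  obtain ⟨T, hST⟩ := FTtypeP_pair_witness hS h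
  obtain ⟨V, h'⟩ := hST.typeT
  have hT := hST.maxT
  obtain ⟨-, hD, hv⟩ := T_Galois hST h h' hl hlS
  obtain ⟨ν, hν, hc⟩ := FTtypeP_coherence hS h
  obtain ⟨i, hi⟩ := exists_lin_ne_one₁ h
  have hC := typeP_cycTI h
  have cov := fun χ => sumSq_cover (χ := χ) (FTtypeP_Fitting_TI hS h) (FTtypeP_Fitting_TI hT h')
    (Fitting_classSupp_disjoint hST h h')
  have c1 := cov _ (hν.virt_mem hlS).isClassFunction
  have c2 := cov _ (hC.eta_class i 1)
  have c3 := cov _ (isClassFunction_const 1)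
  have a1 := sirr_one_le (hν.isSIrr hlS hl.1)
  have a2 := sirr_one_le (hC.eta_sirr i 1)
  have b1 := FTtypeP_sum_Ind_Fitting_lb hS h hν hl hlS
  have b2 := FTtypeP_sum_cycTIiso10_lb hS h hi
  have b3 := FTtypeP_sum_cycTIiso01_lb hT h' hi
  have b4 := card_le_sumSq_add (A := ({1} ∪ (classSupp (sharp F[S]) ⊤ ∪ classSupp (sharp F[T]) ⊤))ᶜ)
    (hν.virt_mem hlS) (hC.eta_virt i 1) (fun x hx k hk hx' => hx (hx'.imp
      (fun e => (powCoprime hk.symm).injective (e.trans (one_pow k).symm))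
      (Or.imp (mem_classSupp_sharp_of_pow hk) (mem_classSupp_sharp_of_pow hk))))
    fun x hx => FTtypeP_Ind_Fitting_or_eta_ne hS h hν hc hl hlS hi fun e => hx (.inr (.inl e))
  have b5 := sumSq_nonneg (sharp F[T]) (ν lam)
  rw [etaG_swap (typeP_dprod h).cent, etaG] at b3
  rw [etaG] at b2
  rw [(hν.isSIrr hlS hl.1).nsq] at c1
  rw [hC.eta_nsq] at c2
  rw [isIrrCharacter_one.nsq, sumSq_sharp_one, sumSq_sharp_one, norm_one, one_pow] at c3
  rw [FTtypeP_Ind_Fitting_1 hS h hl.2, Complex.natCast_re] at b1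
  have hG := card_pos_real G
  have hS0 := card_pos_real S
  have hT0 := card_pos_real T
  have key : ((Nat.card ↥⁅T, T⁆ : ℝ) - ((V ⊓ C[MF[T]]).relIndex V : ℝ) ^ 2 - (Nat.card F[T] - 1)) /
      Nat.card T < (((U ⊓ C[MF[S]]).relIndex U * Nat.card W₁ : ℕ) : ℝ) ^ 2 / Nat.card S := by
    have d1 := div_le_div_of_nonneg_right b1 hS0.le
    have d2 := div_le_div_of_nonneg_right b2 hS0.le
    have d3 := div_le_div_of_nonneg_right b3 hT0.le
    have d4 := div_le_div_of_nonneg_right b4 hG.le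
    have d5 := div_nonneg b5 hT0.le
    have d6 := div_le_div_of_nonneg_right a1 hG.le
    have d7 := div_le_div_of_nonneg_right a2 hG.le
    have d8 := one_div_pos.2 hG
    rw [sub_div, div_self hS0.ne'] at d1
    simp only [add_div] at c1 c2 c3 d4
    rw [sub_div]
    linarith
  have hq := FTtypeP_q_gt2 h
  have hp := FTtypeP_p_gt2 h
  have hu : 0 < (U ⊓ C[MF[S]]).relIndex U := relIndex_pos _ _
  have hv0 : 0 < (V ⊓ C[MF[T]]).relIndex V := relIndex_pos _ _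
  have hc0 := card_pos' (U ⊓ C[MF[S]])
  have hv' : ((V ⊓ C[MF[T]]).relIndex V : ℝ) * (Nat.card W₁ - 1) = Nat.card W₁ ^ Nat.card W₂ - 1 := by
    have := Nat.div_mul_cancel (Nat.sub_one_dvd_pow_sub_one (Nat.card W₁) (Nat.card W₂))
    rw [← hv] at this
    have := congrArg (Nat.cast : ℕ → ℝ) this
    rwa [Nat.cast_mul, Nat.cast_pred (by omega), Nat.cast_pred (by positivity), Nat.cast_pow] at this
  rw [typeP_card_eq h, typeP_card_eq h', typeP_card_der hS h, typeP_card_der hT h',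
    typeP_card_Fitting hT h', show Nat.card ↥(V ⊓ C[MF[T]]) = 1 by rw [hD, card_bot]] at key
  obtain ⟨r, hr⟩ : ∃ r, Nat.card W₁ = r + 1 := ⟨Nat.card W₁ - 1, by omega⟩
  rw [show Nat.card W₁ - 1 = r by omega]
  rw [show Nat.card W₂ ^ Nat.card W₁ = Nat.card W₂ ^ r * Nat.card W₂ by rw [hr, pow_succ]] at key
  have hq' : (2 : ℝ) < Nat.card W₁ := by exact_mod_cast hq
  have hp' : (2 : ℝ) < Nat.card W₂ := by exact_mod_cast hp
  have hu' : (0 : ℝ) < (U ⊓ C[MF[S]]).relIndex U := by exact_mod_cast hu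
  have hv0' : (0 : ℝ) < (V ⊓ C[MF[T]]).relIndex V := by exact_mod_cast hv0
  have hc0' : (0 : ℝ) < Nat.card ↥(U ⊓ C[MF[S]]) := by exact_mod_cast hc0
  push_cast at key
  have hQ : (0 : ℝ) < (Nat.card W₁ : ℝ) ^ Nat.card W₂ := by positivity
  have hP : (0 : ℝ) < (Nat.card W₂ : ℝ) ^ r := by positivity
  generalize (Nat.card W₁ : ℝ) ^ Nat.card W₂ = Q at *
  generalize (Nat.card W₂ : ℝ) ^ r = P at *
  generalize ((U ⊓ C[MF[S]]).relIndex U : ℝ) = u at *
  generalize ((V ⊓ C[MF[T]]).relIndex V : ℝ) = v at *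
  generalize (Nat.card ↥(U ⊓ C[MF[S]]) : ℝ) = c at *
  generalize (Nat.card W₁ : ℝ) = q at *
  generalize (Nat.card W₂ : ℝ) = p at *
  have hq1 : 0 < q - 1 := by linarith
  have e1 : (Q * (v * 1) - v ^ 2 - (Q * 1 - 1)) / (Q * (v * 1) * p) =
      (1 - (q - 1)⁻¹ - (q - 1) / Q + ((q - 1) * Q)⁻¹) / p := by
    obtain rfl : Q = v * (q - 1) + 1 := by linarith
    field_simp
    ring
  have e2 : (u * q) ^ 2 / (P * p * (u * c) * q) = u / c * q / P / p := by field_simp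
  rw [e1, e2, div_lt_div_iff_of_pos_right (by linarith), lt_div_iff₀ hP] at key
  rwa [div_lt_iff₀ (by linarith)]

end Cfsg.Agent.PF
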