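import Cfsg.Agent.PF.S13c
import Cfsg.Agent.S1546

set_option autoImplicit false
set_option linter.unusedSectionVars false
set_option linter.unusedVariables false

namespace Cfsg.Agent.PF

open Subgroup Cfsg.Agent.GT Cfsg.Agent.BG Cfsg.Agent.Char

universe u v w

/-! Peterfalvi (13.11)–(13.16). -/

section Arith

/-- (13.11) -/
theorem s13_lb {p q u c : ℕ} (hq : 2 < q) (hp : 2 < p) (hc : 0 < c)
    (h : (1 - ((q : ℝ) - 1)⁻¹ - ((q : ℝ) - 1) / (q : ℝ) ^ p + (((q : ℝ) - 1) * (q : ℝ) ^ p)⁻¹) *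
      (p : ℝ) ^ (q - 1) / q < (u : ℝ) / c) :
    (5 ≤ q → 7 * p ^ (q - 1) * c < 10 * q * u) ∧ (7 ≤ q → 8 * p ^ (q - 1) * c < 10 * q * u) ∧
    (q = 3 → 5 ≤ p → p ^ 2 * c < 6 * u + c) := by
  have hq' : (2 : ℝ) < q := by exact_mod_cast hq
  have hc' : (0 : ℝ) < c := by exact_mod_cast hc
  have hP : (0 : ℝ) < (p : ℝ) ^ (q - 1) := by positivity
  rw [div_lt_div_iff₀ (by linarith) hc'] at h
  have key : ∀ n : ℝ, 2 < n → n ≤ q → (1 - (n - 1)⁻¹ - (n ^ 2)⁻¹) * p ^ (q - 1) * c < u * q := by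
    intro n h2 hn
    refine lt_of_le_of_lt ?_ h
    gcongr
    have h1 : ((q : ℝ) - 1)⁻¹ ≤ (n - 1)⁻¹ := inv_anti₀ (by linarith) (by linarith)
    have h3 : (q : ℝ) ^ 3 ≤ q ^ p := pow_le_pow_right₀ (by linarith) hp
    have h4 : ((q : ℝ) - 1) / q ^ p ≤ (n ^ 2)⁻¹ := by
      rw [div_le_iff₀ (by positivity), inv_mul_eq_div, le_div_iff₀ (by positivity)]
      have : n ^ 2 ≤ (q : ℝ) ^ 2 := by gcongr
      nlinarith
    have h5 : 0 ≤ (((q : ℝ) - 1) * (q : ℝ) ^ p)⁻¹ := by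
      have : (0 : ℝ) < q - 1 := by linarith
      positivity
    linarith
  refine ⟨fun h5 => ?_, fun h7 => ?_, fun h3 h5 => ?_⟩
  · have := key 5 (by norm_num) (by exact_mod_cast h5)
    have : (7 : ℝ) * p ^ (q - 1) * c < 10 * q * u := by nlinarith [mul_pos hP hc']
    exact_mod_cast this
  · have := key 7 (by norm_num) (by exact_mod_cast h7)
    have : (8 : ℝ) * p ^ (q - 1) * c < 10 * q * u := by nlinarith [mul_pos hP hc']
    exact_mod_cast this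
  · subst h3
    have h1 : 3 * p ^ 2 ≤ 3 ^ p := by
      clear h hP key hp
      induction p, h5 using Nat.le_induction with
      | base => norm_num
      | succ n hn ih => rw [pow_succ 3]; nlinarith
    have h1 : (3 : ℝ) * p ^ 2 ≤ 3 ^ p := by exact_mod_cast h1
    have h2 : (0 : ℝ) < 3 ^ p := by positivity
    push_cast at h
    have e : (1 - ((3 : ℝ) - 1)⁻¹ - (3 - 1) / 3 ^ p + ((3 - 1) * 3 ^ p)⁻¹) * p ^ 2 =
        p ^ 2 / 2 - 3 * p ^ 2 / 3 ^ p / 2 := by field_simp; ring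
    rw [e] at h
    have h3 : (3 : ℝ) * p ^ 2 / 3 ^ p ≤ 1 := (div_le_one h2).2 h1
    have : (p : ℝ) ^ 2 * c < 6 * u + c := by nlinarith
    exact_mod_cast this

theorem s13_small {p q u c : ℕ} (hq : q.Prime) (hp : p.Prime) (hq2 : 2 < q) (hp2 : 2 < p)
    (hne : p ≠ q) (hc : 0 < c)
    (h : (5 ≤ q → 7 * p ^ (q - 1) * c < 10 * q * u) ∧ (7 ≤ q → 8 * p ^ (q - 1) * c < 10 * q * u) ∧
      (q = 3 → 5 ≤ p → p ^ 2 * c < 6 * u + c))
    (hu : (2 * q + 1) * u ≤ (p ^ q - 1) / (p - 1) * c) :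
    q = 3 ∧ (p = 5 ∨ p = 7) ∧ p ^ 2 * c < 6 * u + c := by
  have e := Nat.div_mul_cancel (Nat.sub_one_dvd_pow_sub_one p q)
  generalize (p ^ q - 1) / (p - 1) = N at *
  obtain ⟨p, rfl⟩ : ∃ r, p = r + 1 := ⟨p - 1, by omega⟩
  obtain ⟨q, rfl⟩ : ∃ r, q = r + 1 := ⟨q - 1, by omega⟩
  simp only [Nat.add_sub_cancel] at *
  have hP : 0 < (p + 1) ^ q := by positivity
  have e' : N * p < (p + 1) ^ q * (p + 1) := by rw [e, pow_succ]; exact Nat.sub_one_lt (by positivity)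
  have key : ∀ a, a * (p + 1) ^ q * c < 10 * (q + 1) * u →
      a * (2 * (q + 1) + 1) * p < 10 * (q + 1) * (p + 1) := by
    intro a ha
    refine lt_of_mul_lt_mul_right (a := (p + 1) ^ q * c) ?_ (Nat.zero_le _)
    calc _ = (2 * (q + 1) + 1) * p * (a * (p + 1) ^ q * c) := by ring
      _ ≤ (2 * (q + 1) + 1) * p * (10 * (q + 1) * u) := by gcongr
      _ = 10 * (q + 1) * p * ((2 * (q + 1) + 1) * u) := by ring
      _ ≤ 10 * (q + 1) * p * (N * c) := by gcongr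
      _ = 10 * (q + 1) * c * (N * p) := by ring
      _ < 10 * (q + 1) * c * ((p + 1) ^ q * (p + 1)) := by gcongr
      _ = _ := by ring
  have hq3 : q + 1 = 3 := by
    by_contra h3
    by_cases h7 : 7 ≤ q + 1
    · have := key 8 (h.2.1 h7); nlinarith
    have h5 : q + 1 = 5 := by
      have := hq.eq_two_or_odd
      omega
    have := key 7 (h.1 h5.ge)
    rw [h5] at this
    omega
  have hp5 : 5 ≤ p + 1 := by have := hp.eq_two_or_odd; omega
  have h3 := h.2.2 hq3 hp5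
  refine ⟨hq3, ?_, h3⟩
  rw [hq3] at e hu
  have e2 : N = p ^ 2 + 3 * p + 3 := by
    refine Nat.eq_of_mul_eq_mul_right (show 0 < p by omega) ?_
    rw [e, Nat.sub_eq_iff_eq_add (Nat.one_le_pow _ _ (by omega))]; ring
  have h4 : 7 * (p + 1) ^ 2 < 6 * N + 7 := lt_of_mul_lt_mul_right (a := c) (by nlinarith) hc.le
  have h5 : p < 7 := by nlinarith
  have := hp.eq_two_or_odd
  omega

theorem dvd_half_of_odd {a n : ℕ} (ha : Odd a) (hn : Odd n) (h : a ∣ n - 1) : a ∣ (n - 1) / 2 := by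
  have h2 : 2 ∣ n - 1 := (Nat.Odd.sub_odd hn odd_one).two_dvd
  rw [← Nat.div_mul_cancel h2] at h
  exact (Nat.coprime_two_right.2 ha).dvd_of_dvd_mul_right h

end Arith

variable {G : Type u} [Group G] [Fintype G] [MFT G] {S T U V W₁ W₂ L : Subgroup G}
  {i : Lin W₁} {j k : Lin W₂} {ν : (S → ℂ) →ₗ[ℂ] (G → ℂ)} {lam ζ ζ₀ ζ₁ : S → ℂ}

theorem FTtypeP_p_ne_q (h : IsTypePWith S W₁ U W₂) : Nat.card W₂ ≠ Nat.card W₁ :=
  (typeP_cycTI h).card_ne.symm

theorem FTtypeP_u_odd (S U : Subgroup G) : Odd ((U ⊓ C[MF[S]]).relIndex U) :=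
  (mFT_odd U).of_dvd_nat (relIndex_dvd_card' _ _)

theorem FTtypeP_nonGalois_dvd (hS : IsCoatom S) (h : IsTypePWith S W₁ U W₂)
    (hg : ¬ TypePGalois S U) :
    (U ⊓ C[MF[S]]).relIndex U ∣ ((Nat.card W₂ - 1) / 2) ^ (Nat.card W₁ - 1) := by
  have h9 := hyp9_of_typeP hS h
  obtain ⟨D⟩ := typeP_Galois_Pn h9 hg
  obtain ⟨-, h1, h2, h3, -⟩ := nonGal_facts h9 D
  generalize D.a = a at h1 h2 h3
  rw [FTtypeP_pU hS h] at h2 h3
  rw [(FTtypeP_H0 hS h).2.2] at h1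
  exact h3.trans (pow_dvd_pow_of_dvd
    (dvd_half_of_odd ((FTtypeP_u_odd S U).of_dvd_nat h2) (mFT_odd W₂) h1) _)

theorem FTtypeP_Galois_dvd (hS : IsCoatom S) (h : IsTypePWith S W₁ U W₂) (hg : TypePGalois S U) :
    ((U ⊓ C[MF[S]]).relIndex U).Coprime (Nat.card W₂ - 1) ∧
    (U ⊓ C[MF[S]]).relIndex U ∣ (Nat.card W₂ ^ Nat.card W₁ - 1) / (Nat.card W₂ - 1) := by
  obtain ⟨-, -, h1⟩ := typeP_Galois_P (hyp9_of_typeP hS h) hg
  rwa [FTtypeP_pU hS h, (FTtypeP_H0 hS h).2.2] at h1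

theorem FTtypeP_lb_cases (hS : IsCoatom S) (h : IsTypePWith S W₁ U W₂) :
    (TypePGalois S U ∧ U ⊓ C[MF[S]] = ⊥ ∧
      (U ⊓ C[MF[S]]).relIndex U = (Nat.card W₂ ^ Nat.card W₁ - 1) / (Nat.card W₂ - 1)) ∨
    ((5 ≤ Nat.card W₁ → 7 * Nat.card W₂ ^ (Nat.card W₁ - 1) * Nat.card ↥(U ⊓ C[MF[S]]) <
        10 * Nat.card W₁ * (U ⊓ C[MF[S]]).relIndex U) ∧
      (7 ≤ Nat.card W₁ → 8 * Nat.card W₂ ^ (Nat.card W₁ - 1) * Nat.card ↥(U ⊓ C[MF[S]]) <
        10 * Nat.card W₁ * (U ⊓ C[MF[S]]).relIndex U) ∧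
      (Nat.card W₁ = 3 → 5 ≤ Nat.card W₂ → Nat.card W₂ ^ 2 * Nat.card ↥(U ⊓ C[MF[S]]) <
        6 * (U ⊓ C[MF[S]]).relIndex U + Nat.card ↥(U ⊓ C[MF[S]]))) := by
  by_cases hn : ∀ φ ∈ pS S ⊥, ¬ IrrIndH S φ
  · exact .inl (FTtypeP_no_Ind_Fitting_facts hS h hn)
  · push Not at hn
    obtain ⟨φ, h1, h2⟩ := hn
    exact .inr (s13_lb (FTtypeP_q_gt2 h) (FTtypeP_p_gt2 h) (card_pos' _)
      (FTtypeP_compl_ker_ratio_lb hS h h2 h1))

/-- (13.12) -/
theorem FTtypeP_reg_Fcore (hS : IsCoatom S) (h : IsTypePWith S W₁ U W₂) :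
    U ⊓ C[MF[S]] = ⊥ := by
  refine (FTtypeP_lb_cases hS h).elim (fun H => H.2.1) fun H => not_not.1 fun hne => ?_
  have hn : W₁ ≤ N[U ⊓ C[MF[S]]] := le_norm_inf h.U_normal
    (le_norm_cent ((typeP_W₁_le h).trans (self_le_norm_fittingHallOf S)))
  have hc := two_mul_add_one_le (mFT_odd W₁) (mFT_odd _) ((one_lt_card_iff_ne_bot _).2 hne)
    (semiregular_card_dvd ((typeP_regular_U h).mono inf_le_left le_rfl) hn)
  obtain ⟨hq, hp, hu⟩ := s13_small (FTtypeP_primes hS h).1 (FTtypeP_primes hS h).2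
    (FTtypeP_q_gt2 h) (FTtypeP_p_gt2 h) (FTtypeP_p_ne_q h) (card_pos' _) H
    (by rw [mul_comm]; exact Nat.mul_le_mul (FTtypeP_u_le hS h) hc)
  rw [hq] at hc
  by_cases hg : TypePGalois S U
  swap
  · have := Nat.le_of_dvd (pow_pos (by omega) _) (FTtypeP_nonGalois_dvd hS h hg)
    rcases hp with hp | hp <;> rw [hp, hq] at this <;> rw [hp] at hu <;> omega
  obtain ⟨h1, h2⟩ := FTtypeP_Galois_dvd hS h hg
  rcases hp with hp | hp <;> rw [hp] at h1 hu <;> rw [hp, hq] at h2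
  · have h3 : (U ⊓ C[MF[S]]).relIndex U = 31 :=
      ((Nat.dvd_prime (by norm_num)).1 h2).resolve_left fun e => by omega
    have h4 : Nat.card ↥(U ⊓ C[MF[S]]) = 7 := by omega
    have h5 := le_fittingHallOf (isPiHallOf_piOf (fittingOf_le S) (by
      rw [typeP_card_Fitting hS h, typeP_relIndex_Fitting h, h3, h4, hp, hq]; norm_num))
      (self_le_norm_fittingOf S) (fittingOf_nilpotent S)
    have h6 := card_le_of_le h5
    rw [typeP_card_Fitting hS h, (FTtypeP_abelem hS h).2, h4, hp, hq] at h6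
    omega
  · have h3 : (U ⊓ C[MF[S]]).relIndex U ∣ 19 :=
      (h1.coprime_dvd_right (show 3 ∣ 7 - 1 by norm_num)).dvd_of_dvd_mul_left h2
    have := Nat.le_of_dvd (by norm_num) h3
    omega

theorem FTtypeP_u_eq (hS : IsCoatom S) (h : IsTypePWith S W₁ U W₂) :
    (U ⊓ C[MF[S]]).relIndex U = Nat.card U := by rw [FTtypeP_reg_Fcore hS h, relIndex_bot_left]

theorem FTtypeP_Fitting_eq (hS : IsCoatom S) (h : IsTypePWith S W₁ U W₂) : F[S] = MF[S] := by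
  rw [← (typeP_Fitting h).sup_eq, FTtypeP_reg_Fcore hS h, sup_bot_eq]

theorem Ptype_Fcompl_kernel_trivial (hS : IsCoatom S) (h : IsTypePWith S W₁ U W₂) :
    pC S U = ⊥ ∧ pU S U = Nat.card U ∧ F[S] = MF[S] :=
  ⟨(FTtypeP_H0 hS h).2.1.trans (FTtypeP_reg_Fcore hS h),
    (FTtypeP_pU hS h).trans (FTtypeP_u_eq hS h), FTtypeP_Fitting_eq hS h⟩

theorem FTtypeP_q_dvd (hS : IsCoatom S) (h : IsTypePWith S W₁ U W₂) :
    Nat.card W₁ ∣ Nat.card U - 1 :=
  semiregular_card_dvd (typeP_regular_U h) h.U_normal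

/-- (13.13) -/
theorem FTtypeP_nonGalois_facts (hS : IsCoatom S) (h : IsTypePWith S W₁ U W₂)
    (hg : ¬ TypePGalois S U) :
    Nat.card W₁ = 3 ∧ Nat.card U = ((Nat.card W₂ - 1) / 2) ^ 2 := by
  obtain ⟨h1, -, h2⟩ := (FTtypeP_lb_cases hS h).resolve_left fun H => hg H.1
  have h3 := FTtypeP_nonGalois_dvd hS h hg
  rw [FTtypeP_u_eq hS h] at h1 h2 h3
  rw [FTtypeP_reg_Fcore hS h, card_bot] at h1 h2
  have hq := FTtypeP_q_gt2 h
  have hp := FTtypeP_p_gt2 h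
  have hne := FTtypeP_p_ne_q h
  obtain ⟨r, hr⟩ := mFT_odd W₂
  have hq' := Nat.odd_iff.1 (mFT_odd W₁)
  rw [hr, show (2 * r + 1 - 1) / 2 = r by omega] at h3 ⊢
  rw [hr] at h1 h2 hp hne
  have h4 := Nat.le_of_dvd (pow_pos (by omega) _) h3
  have hq3 : Nat.card W₁ = 3 := by
    by_contra h5
    have h5 : 5 ≤ Nat.card W₁ := by omega
    have h6 : ∀ n, 5 ≤ n → 10 * n ≤ 7 * 2 ^ (n - 1) := fun n hn => by
      induction n, hn using Nat.le_induction with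
      | base => norm_num
      | succ n hn ih =>
        obtain ⟨n, rfl⟩ : ∃ m, n = m + 1 := ⟨n - 1, by omega⟩
        simp only [Nat.add_sub_cancel, pow_succ] at ih ⊢
        omega
    have h7 : (2 * r) ^ (Nat.card W₁ - 1) ≤ (2 * r + 1) ^ (Nat.card W₁ - 1) := by gcongr; omega
    have := Nat.mul_le_mul (h6 _ h5) h4
    rw [mul_pow] at h7
    have := h1 h5
    nlinarith
  refine ⟨hq3, ?_⟩
  rw [hq3] at h3 hne
  obtain ⟨d, hd⟩ := h3
  have := h2 hq3 (by omega)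
  rcases d with _ | _ | d
  · simp at hd; omega
  · simpa using hd.symm
  · simp only [Nat.add_one_sub_one] at hd; nlinarith

/-- (13.15); (13.14) is S1546 -/
theorem card_FTtypeP_Galois_compl (hS : IsCoatom S) (h : IsTypePWith S W₁ U W₂)
    (hg : TypePGalois S U) :
    Nat.card U = if Nat.card W₂ % Nat.card W₁ = 1 then
      (Nat.card W₂ ^ Nat.card W₁ - 1) / (Nat.card W₂ - 1) / Nat.card W₁
      else (Nat.card W₂ ^ Nat.card W₁ - 1) / (Nat.card W₂ - 1) := by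
  have hq := FTtypeP_q_gt2 h
  have hp := FTtypeP_p_gt2 h
  obtain ⟨hqp, hpp⟩ := FTtypeP_primes hS h
  obtain ⟨a1, a2, a3⟩ := S1546.result _ _ hpp hqp hp.ne' hq.ne'
  obtain ⟨-, b, hb⟩ := FTtypeP_Galois_dvd hS h hg
  have H := FTtypeP_lb_cases hS h
  rw [FTtypeP_u_eq hS h] at H hb
  rw [FTtypeP_reg_Fcore hS h, card_bot] at H
  have hu := card_pos' U
  have hb0 : Odd b := a1.of_dvd_nat (hb ▸ dvd_mul_left _ _)
  have key : b < 2 * Nat.card W₁ + 1 := by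
    by_contra! hlt
    rcases H with H | H
    · have := H.2.2
      rw [hb] at this
      nlinarith
    obtain ⟨h1, h2, h3⟩ := s13_small hqp hpp hq hp (FTtypeP_p_ne_q h) one_pos H
      (by rw [hb]; nlinarith)
    rw [h1] at hlt
    rcases h2 with h2 | h2 <;> rw [h1, h2] at hb <;> rw [h2] at h3 <;> norm_num at hb h3
    · rcases (Nat.dvd_prime (by norm_num)).1 (Dvd.intro _ hb.symm) with e | e <;> rw [e] at hb <;>
        omega
    · nlinarith
  split_ifs with h1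
  · have h2 : Nat.card W₁ ∣ b := by
      refine Nat.Coprime.dvd_of_dvd_mul_left ?_ (hb ▸ a2 h1)
      exact (typeP_coprime_UW h).symm
    obtain ⟨d, rfl⟩ := h2
    have hd : d = 1 := by
      have := Nat.odd_iff.1 (Nat.odd_mul.1 hb0).2
      have : d < 3 := by nlinarith
      omega
    rw [hb, hd, mul_one, Nat.mul_div_cancel _ (card_pos' W₁)]
  · have h2 := (a3 h1).2 b (hb ▸ dvd_mul_left _ _)
    have h3 : b = 1 := by
      by_contra h4
      have := two_mul_add_one_le (mFT_odd W₁) hb0 (by have := hb0.pos; omega)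
        ((Nat.modEq_iff_dvd' hb0.pos).1 (by rw [Nat.ModEq, h2, Nat.mod_eq_of_lt (by omega)]))
      omega
    rw [hb, h3, mul_one]

/-- (13.16) -/
theorem FTtypeP_norm_cent_compl (hS : IsCoatom S) (h : IsTypePWith S W₁ U W₂) :
    Sdprod MF[S] W₁ N[W₂] ∧ Sdprod MF[S] W₁ C[W₂] := by
  have hP : MF[S] ≤ C[W₂] := ((fittingHallOf_le_fittingOf S).trans
    (isMulCommutative_iff_le_cent.1 (FTtypeP_Fitting_abelian hS h))).trans
    (cent_anti ((typeP_W₂_le_Fcore h).trans (fittingHallOf_le_fittingOf S)))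
  have hW : W₁ ≤ C[W₂] := (typeP_dprod h).cent
  have hN : N[W₂] ≤ S := fun g hg => by
    obtain ⟨x, hx, hx1⟩ := (W₂.bot_or_exists_ne_one).resolve_left (typeP_W₂_ne h)
    have hF := (typeP_W₂_le_Fcore h).trans (fittingHallOf_le_fittingOf S)
    exact (FTtypeP_Fitting_TI hS h).mem_of_conj_mem ⟨hF hx, hx1⟩ trivial
      ⟨hF (conj_mem_of_mem_norm hg hx), by simpa using hx1⟩
  have hWN := hW.trans (cent_le_norm W₂)
  have hn : W₁ ≤ N[U ⊓ N[W₂]] := le_norm_inf h.U_normal (le_norm_self hWN)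
  have hreg := (typeP_regular_U h).mono (inf_le_left (b := N[W₂])) le_rfl
  have hK : U ⊓ N[W₂] ≤ C[W₂] := by
    rw [← coprime_commutator_sup_cent (.inr (sub_mmax_sol hS (typeP_W₁_le h))) hn
      (semiregular_coprime hreg hn), hreg.inf_cent le_rfl (FT_primeTI_hyp h).ne₁, sup_bot_eq]
    exact commutator_le_cent_of_norm_of_cent inf_le_right hW
  have hle : U ⊓ N[W₂] ⊔ W₁ ≤ U ⊔ W₁ := sup_le_sup_right inf_le_left _
  have hK1 : U ⊓ N[W₂] = ⊥ := by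
    rw [eq_bot_iff, ← FTtypeP_reg_Fcore hS h]
    refine le_inf inf_le_left (semiregular_cent_of_cent_le hn hreg
      (hle.trans (typeP_sdprod_Fcore h).right_norm)
      ((typeP_coprime_HU h).coprime_dvd_right (card_dvd_of_le hle))
      (sub_mmax_sol hS (fittingHallOf_le S)) ?_)
    rw [typeP_cent_core_compl h]; exact le_cent_symm hK
  have h1 := (typeP_sdprod_Fcore h).inf_of_left_le (hP.trans (cent_le_norm W₂))
  rw [inf_eq_right.2 hN, dedekind' (.inr h.U_normal) hWN, hK1, bot_sup_eq] at h1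
  refine ⟨h1, ?_⟩
  rwa [← le_antisymm (h1.sup_eq.ge.trans (sup_le hP hW)) (cent_le_norm W₂)]

end Cfsg.Agent.PF
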