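import Cfsg.Agent.PF.S13d

set_option autoImplicit false
set_option linter.unusedSectionVars false
set_option linter.unusedVariables false

namespace Cfsg.Agent.PF

open Subgroup Cfsg.Agent.GT Cfsg.Agent.BG Cfsg.Agent.Char

universe u v w

/-! Peterfalvi (13.17). -/

section General
variable {G : Type u} [Group G] [Finite G] {A E H K M X : Subgroup G}

theorem le_of_coprime_relIndex (hn : M ≤ N[K]) (hA : A ≤ M)
    (hc : (Nat.card A).Coprime (K.relIndex M)) : A ≤ K :=
  relIndex_eq_one.1 (Nat.eq_one_of_dvd_one (hc.gcd_eq_one ▸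
    Nat.dvd_gcd (relIndex_dvd_card' K A) (relIndex_dvd_of_normal hA hn)))

theorem Semiregular_commutator_eq (h : Semiregular K A) (hn : A ≤ N[K]) (hA : A ≠ ⊥)
    (hs : Group.IsSolvable A) : ⁅K, A⁆ = K := by
  conv_rhs => rw [← coprime_commutator_sup_cent (.inr hs) hn (semiregular_coprime h hn),
    h.inf_cent le_rfl hA, sup_bot_eq]

/-- a subgroup of prime order of a Frobenius complement of odd order is normal -/
theorem prime_odd_regular_normal (hreg : Semiregular H E) (hn : E ≤ N[H]) (hH : H ≠ ⊥)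
    (hs : Group.IsSolvable H) (ho : Odd (Nat.card E)) (hX : X ≤ E) (hp : (Nat.card X).Prime) :
    E ≤ N[X] := by
  have hZ := semiregular_isZGroup hreg hn hH ho
  have hc := isMulCommutative_of_isCyclic (Zgroup_der1_cyclic hZ)
  have hXn : X ≤ N[⁅E, E⁆] := hX.trans (le_norm_der E)
  have hXc : X ≤ C[⁅E, E⁆] := by
    by_cases hd : Nat.card X ∣ Nat.card ↥⁅E, E⁆
    · exact ((Zgroup_der1_Hall hZ).le_of_normal (le_norm_der E) hX
        ((piNat_piOf _).of_dvd hd)).trans (isMulCommutative_iff_le_cent.1 hc)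
    have hle : ⁅⁅E, E⁆, X⁆ ≤ E := (commutator_le_of_le_norm_left hXn).trans (der_le E)
    have h1 := semiregular_cent_of_cent_le (le_norm_commutator hXn le_normalizer)
      (semiregular_of_prime hp (coprime_comm_commutator_inf_cent hc hXn
        ((hp.coprime_iff_not_dvd.2 hd).symm))) ((sup_le hle hX).trans hn)
      (coprime_card_of_le (semiregular_coprime hreg hn) le_rfl (sup_le hle hX)) hs
      (by rw [hreg.inf_cent hX (ne_bot_of_card_prime hp)]; exact bot_le)
    exact le_cent_iff_commutator_eq_bot'.2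
      (eq_bot_iff.2 ((le_inf hle h1).trans (hreg.symm.inf_cent le_rfl hH).le))
  have hY : ⁅E, E⁆ ⊔ X ≤ E := sup_le (der_le E) hX
  exact PG.le_norm_of_isCyclic (comm_Zgroup_cyclic (isZGroup_of_le hZ hY) (isMulCommutative_sup hc
    (isMulCommutative_of_isCyclic (isCyclic_of_card_prime hp)) (le_cent_symm hXc))) le_sup_right
    (le_norm_of_commutator_le_of_le hY le_sup_left)

theorem card_dvd_of_cyclic_elem {p : ℕ} (hc : IsCyclic A) (he : IsElementaryAbelian p K)
    (h : A ≤ K) : Nat.card A ∣ p := by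
  rw [← IsCyclic.exponent_eq_card, Monoid.exponent_dvd_iff_forall_pow_eq_one]
  exact fun x => Subtype.ext (he.2 x (h x.2))

end General

variable {G : Type u} [Group G] [Fintype G] [MFT G] {S T U V W₁ W₂ L : Subgroup G}

theorem typeP_commutator_UW (hS : IsCoatom S) (h : IsTypePWith S W₁ U W₂) : ⁅U, W₁⁆ = U :=
  Semiregular_commutator_eq (typeP_regular_U h) h.U_normal (FT_primeTI_hyp h).ne₁
    (sub_mmax_sol hS (typeP_W₁_le h))

/-- (13.17) -/
theorem FTtypeII_support_facts (hST : TypePPair S T W₁ W₂) (h : IsTypePWith S W₁ U W₂)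
    (ht : FTtype S = 2) (hL : IsCoatom L) (hN : N[U] ≤ L) :
    FrobKer L MF[L] ∧ U ≤ MF[L] ∧
    (Sdprod MF[L] W₁ L ∨ ∃ y ∈ MF[T], Dprod W₁ (cj[y] W₂) (W₁ ⊔ cj[y] W₂) ∧
      Sdprod MF[L] (W₁ ⊔ cj[y] W₂) L) := by
  have hS := hST.maxS
  have hT := hST.maxT
  obtain ⟨V, h'⟩ := hST.typeT
  obtain ⟨hq, hp⟩ := FTtypeP_primes hS h
  have hUL : U ≤ L := le_normalizer.trans hN
  have hWL : W₁ ≤ L := h.U_normal.trans hN
  have hLn := self_le_norm_fittingHallOf L
  have hLs := sub_mmax_sol hL (fittingHallOf_le L)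
  have hUW := typeP_commutator_UW hS h
  have nS : ¬ Conjg S L := by
    rintro ⟨g, rfl⟩
    have hg := typeP_conj h g
    have h1 : U ≤ ⁅cj[g] S, cj[g] S⁆ := le_of_coprime_relIndex (le_norm_der _) hUL (by
      rw [(typeP_sdprod hg).relIndex, card_conj]; exact typeP_coprime_UW h)
    obtain ⟨n, hn, h2⟩ := sz_le_conj hLs (typeP_sdprod_der hg).right_norm (typeP_coprime_U hg)
      (h1.trans (typeP_sdprod_der hg).sup_eq.ge) (by simpa only [card_conj] using typeP_coprime_U hg)
    have h3 := eq_of_le_of_card_ge h2 (by rw [card_conj, card_conj])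
    refine (typeP_norm_compl hL hg (FTtype5_exclusion hL)).1 ?_ ((FTtype_conj g S).trans ht)
    rw [h3, ← conj_normalizer, conj_le_iff, conj_eq_self_of_mem (inv_mem (fittingHallOf_le _ hn))] at hN
    exact hN
  have nT : ¬ Conjg T L := by
    rintro ⟨g, rfl⟩
    have hg := typeP_conj h' g
    have h1 : W₁ ≤ MF[cj[g] T] := le_of_coprime_relIndex hLn hWL
      ((fittingHallOf_coprime _).coprime_dvd_left (by
        simpa only [card_conj] using card_dvd_of_le (typeP_W₂_le_Fcore hg)))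
    have h2 : U ≤ MF[cj[g] T] := hUW.ge.trans ((commutator_mono le_rfl h1).trans
      (commutator_le_of_le_norm_right (hUL.trans hLn)))
    refine (hyp9_of_typeP hS h).U_ne (eq_bot_of_le_of_coprime le_rfl h2 ?_)
    rw [(FTtypeP_abelem hL hg).2, card_conj]
    exact (typeP_coprime_UW h).pow_right _
  have tL : FTtype L = 1 := not_not.1 fun t => (hST.all L hL t).elim nS nT
  have hF := FTtype1_Frobenius hL tL
  obtain ⟨E₀, hF₀⟩ := hF
  have hcq : (Nat.card MF[L]).Coprime (Nat.card W₁) := by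
    have := (coprime_FTcore hT hL nT).symm
    rw [FTcore_type12 (by omega : FTtype L ≤ 2)] at this
    exact coprime_card_of_le this le_rfl ((typeP_W₂_le_Fcore h').trans (Fcore_sub_FTcore hT))
  obtain ⟨n, hn, hWE⟩ := sz_le_conj hLs hF₀.sdprod.right_norm (frob_coprime hF₀)
    (hWL.trans hF₀.sdprod.sup_eq.ge) hcq
  have hE := hF₀.conj n
  rw [conj_eq_self_of_mem hn, conj_eq_self_of_mem (fittingHallOf_le _ hn)] at hE
  generalize cj[n] E₀ = E at hE hWE
  have hEN := prime_odd_regular_normal hE.reg hE.sdprod.right_norm hE.ker_ne_bot hLs (mFT_odd E)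
    hWE hq
  have hsd := hE.sdprod.subr hWE
  refine ⟨hE.frobKer, le_of_coprime_relIndex hsd.norm ?_ (hsd.relIndex ▸ typeP_coprime_UW h), ?_⟩
  · refine hUW.ge.trans ((commutator_mono le_rfl le_sup_right).trans
      (commutator_le_of_le_norm_right (hUL.trans (hE.sdprod.sup_eq.ge.trans (sup_le
        (le_norm_self le_sup_left) (le_norm_sup hE.sdprod.right_norm hEN))))))
  obtain ⟨hN1, hC1⟩ := FTtypeP_norm_cent_compl hT h'
  have hab := (FTtypeP_abelem hT h').1
  have hEQ : W₁ = MF[T] ⊓ E := eq_of_le_of_card_ge (le_inf (typeP_W₂_le_Fcore h') hWE)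
    (Nat.le_of_dvd hq.pos (card_dvd_of_cyclic_elem (zgroup_cyclic (semiregular_isZGroup hE.reg
      hE.sdprod.right_norm hE.ker_ne_bot (mFT_odd E)) hq inf_le_right
      ((isPGroup_of_elementary hab).to_le inf_le_left)) hab inf_le_left))
  have hcE := card_inf_mul_relIndex MF[T] E
  rcases (Nat.dvd_prime hp).1 (hN1.relIndex ▸ relIndex_dvd_of_normal hEN hN1.norm) with h1 | h1
  · rw [inf_eq_right.2 (relIndex_eq_one.1 h1)] at hEQ
    exact .inl (hEQ ▸ hE.sdprod)
  rw [h1, ← hEQ] at hcE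
  obtain ⟨X, hX, hXc⟩ := exists_le_card_eq_prime hp (Dvd.intro_left _ hcE)
  obtain ⟨y, hy, h2⟩ := sz_le_conj (sub_mmax_sol hT (fittingHallOf_le T)) hN1.right_norm
    (typeP_coprime_W₁ h') ((hX.trans hEN).trans hN1.sup_eq.ge) (hXc ▸ typeP_coprime_W₁ h')
  obtain rfl := eq_of_le_of_card_ge h2 (by rw [card_conj, hXc])
  have hd : Dprod W₁ (cj[y] W₂) (W₁ ⊔ cj[y] W₂) :=
    dprod_sup (le_cent_symm ((hX.trans hEN).trans (hN1.eq hC1).le))
      (inf_eq_bot_of_coprime_card (hXc ▸ (typeP_cycTI h).coprime))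
  refine .inr ⟨y, hy, hd, ?_⟩
  rw [eq_of_le_of_card_ge (sup_le hWE hX) (by rw [← hd.card_mul, hXc, hcE])]
  exact hE.sdprod

end Cfsg.Agent.PF
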