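import Cfsg.Agent.PF.S14z

set_option autoImplicit false
set_option linter.unusedSectionVars false
set_option linter.unusedVariables false

namespace Cfsg.Agent.PF

open Subgroup Cfsg.Agent.GT Cfsg.Agent.BG Cfsg.Agent.Char

universe u v w

/-! Peterfalvi (14.11)–(14.17) and the odd order theorem; the earlier parts of §14 are in
`S14a`, `S14b`, `S14c`. -/

variable {G : Type u} [Group G] [Fintype G] [MFT G] {S T U V W₁ W₂ L M : Subgroup G}
  {τL : (L → ℂ) →ₗ[ℂ] (G → ℂ)} {τM : (M → ℂ) →ₗ[ℂ] (G → ℂ)} {φ : L → ℂ} {ψ : M → ℂ} {g : G}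

/-- (14.11) -/
theorem FT14_defK (h : Hyp13 S T U V W₁ W₂) (hlt : Nat.card W₁ < Nat.card W₂) (hM : IsCoatom M)
    (hN : N[V] ≤ M) : MF[M] = V ∧ (MF[M]).relIndex M = Nat.card W₂ * Nat.card W₁ :=
  FT14_defK' h hlt hM hN

/-- (14.12)–(14.17) -/
theorem FTtype2_exclusion (h : Hyp13 S T U V W₁ W₂) (hlt : Nat.card W₁ < Nat.card W₂) : False :=
  FTtype2_exclusion' h hlt

omit [Fintype G] [MFT G] in
/-- there is no minimal simple group of odd order -/
theorem no_minSimple_odd_group {G : Type u} [Group G] [Finite G] (hG : IsMinSimpleOddOrder G) :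
    False := by
  haveI : MFT G := ⟨hG⟩
  haveI := Fintype.ofFinite G
  rcases (FTtypeP_pair_cases (G := G)) with h | ⟨S, T, W₁, W₂, h⟩
  · exact not_all_FTtype1 h
  obtain ⟨U, hU⟩ := h.typeS
  obtain ⟨V, hV⟩ := h.typeT
  have H : Hyp13 S T U V W₁ W₂ := ⟨h, hU, hV⟩
  rcases lt_trichotomy (Nat.card W₁) (Nat.card W₂) with hlt | he | hlt
  · exact FTtype2_exclusion H hlt
  · have hc := h.cycTI.coprime
    rw [he, Nat.coprime_self] at hc
    have := h.cycTI.two_lt₂
    omega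
  · exact FTtype2_exclusion H.symm hlt

end Cfsg.Agent.PF
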