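import Cfsg.Agent.BG.AppC1

/-! Arithmetic for Peterfalvi §14. -/

set_option autoImplicit false

namespace Cfsg.Agent.PF

open Cfsg.Agent.BG Finset

theorem s14_succ_pow_le {m n : ℕ} (h : m ≤ n) : (n + 1) ^ m ≤ 3 * n ^ m := by
  rcases Nat.eq_zero_or_pos n with rfl | hn
  · obtain rfl := Nat.le_zero.1 h; simp
  have hn' : (0 : ℝ) < n := by exact_mod_cast hn
  have h1 : (1 + (n : ℝ)⁻¹) ^ m ≤ 3 :=
    calc _ ≤ (1 + (n : ℝ)⁻¹) ^ n := pow_le_pow_right₀ (by simp) h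
      _ ≤ Real.exp 1 := Real.one_add_inv_pow_le_exp
      _ ≤ 3 := Real.exp_one_lt_three.le
  have : ((n : ℝ) + 1) ^ m ≤ 3 * n ^ m := by
    rw [show (n : ℝ) + 1 = (1 + (n : ℝ)⁻¹) * n by field_simp, mul_pow]
    gcongr
  exact_mod_cast this

/-- (14.8)(a) -/
theorem s14_qp1_gt_pq1 {p q : ℕ} (hq : 3 ≤ q) (h : q + 2 ≤ p) : p ^ (q + 1) < q ^ (p + 1) := by
  induction p, h using Nat.le_induction with
  | base =>
    rcases hq.eq_or_lt with rfl | hq
    · norm_num
    have h1 := s14_succ_pow_le (le_refl (q + 1))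
    have h2 := s14_succ_pow_le (le_refl q)
    have h3 : 9 * (q + 1) < q ^ 3 := by
      have : 4 * 4 * q ≤ q * q * q := by gcongr <;> omega
      rw [pow_succ, sq]; omega
    have h4 : 0 < q ^ q := by positivity
    calc _ ≤ 3 * (q + 1) ^ (q + 1) := h1
      _ ≤ 3 * (3 * q ^ q * (q + 1)) := by rw [pow_succ]; gcongr
      _ = 9 * (q + 1) * q ^ q := by ring
      _ < q ^ 3 * q ^ q := by gcongr
      _ = _ := by ring
  | succ p hp ih =>
    calc _ ≤ 3 * p ^ (q + 1) := s14_succ_pow_le (by omega)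
      _ < q * q ^ (p + 1) := by
        calc _ < 3 * q ^ (p + 1) := by omega
          _ ≤ _ := by gcongr
      _ = _ := by ring

theorem s14_pow_lt {p q : ℕ} (hp : 2 ≤ p) (hq : 2 ≤ q) : p ^ (q - 1) < (p ^ q - 1) / (p - 1) := by
  obtain ⟨m, rfl⟩ : ∃ m, q = m + 2 := ⟨q - 2, by omega⟩
  rw [appC_geom p _ hp, sum_range_succ, sum_range_succ', pow_zero]
  simp

theorem s14_mod {p q : ℕ} (hp : 2 ≤ p) (hq : 1 ≤ q) : p ∣ (p ^ q - 1) / (p - 1) - 1 := by
  obtain ⟨m, rfl⟩ : ∃ m, q = m + 1 := ⟨q - 1, by omega⟩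
  rw [appC_geom p _ hp, sum_range_succ', pow_zero, Nat.add_sub_cancel]
  exact dvd_sum fun i _ => dvd_pow_self p i.succ_ne_zero

/-- (14.8)(b) -/
theorem s14_v1p {p q u : ℕ} (hq : 3 ≤ q) (h : q + 2 ≤ p) (hu : u ≤ (p ^ q - 1) / (p - 1))
    (hv : p ∣ (q ^ p - 1) / (q - 1) - 1) : (u - 1) / q < ((q ^ p - 1) / (q - 1) - 1) / p := by
  have h1 := s14_qp1_gt_pq1 hq h
  have h2 := s14_pow_lt (p := q) (q := p) (by omega) (by omega)
  have h3 := appC_mul p q (by omega)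
  obtain ⟨b, hb⟩ := hv
  rw [hb, Nat.mul_div_cancel_left _ (by omega), Nat.div_lt_iff_lt_mul (by omega)]
  generalize (p ^ q - 1) / (p - 1) = n at *
  have h4 : q ^ (p - 1) ≤ p * b := by omega
  have h5 : (u - 1) * q < p ^ q := by
    have : 0 < p ^ q := pow_pos (by omega) _
    calc _ ≤ n * (p - 1) := Nat.mul_le_mul (by omega) (by omega)
      _ < _ := by omega
  have h6 : q ^ (p + 1) = q ^ (p - 1) * q * q := by
    rw [← pow_succ, ← pow_succ]; congr 1; omega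
  refine Nat.lt_of_mul_lt_mul_right (a := q) (Nat.lt_of_mul_lt_mul_left (a := p) ?_)
  calc _ < p * p ^ q := by gcongr; omega
    _ < q ^ (p - 1) * q * q := by rw [← h6, ← pow_succ']; exact h1
    _ ≤ _ := by rw [← mul_assoc, ← mul_assoc]; gcongr

theorem s14_lt_three_pow {p : ℕ} (h : 3 ≤ p) : p ≤ 3 ^ (p - 2) := by
  induction p, h using Nat.le_induction with
  | base => simp
  | succ p hp ih => rw [show p + 1 - 2 = p - 2 + 1 by omega, pow_succ]; omega

theorem s14_sq_lt_three_pow {p : ℕ} (h : 7 ≤ p) : p ^ 2 < 3 ^ (p - 3) := by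
  induction p, h using Nat.le_induction with
  | base => simp
  | succ p hp ih => rw [show p + 1 - 3 = p - 3 + 1 by omega, pow_succ 3]; nlinarith

/-- the end of (14.11.4) -/
theorem s14_defK {p q u v k : ℕ} (hq : 3 ≤ q) (h : q < p) (hu : 2 * q ^ 2 < u * q)
    (hv : 2 * q ^ 2 < v * p) (hk : 2 * p * v < k) (hv' : q ^ (p - 1) < v)
    (H : (p : ℝ)⁻¹ + (q : ℝ)⁻¹ ≤
      p * q / k + 2 / (p * q) + ((u : ℝ) * q)⁻¹ + ((v : ℝ) * p)⁻¹) : False := by
  have hq' : (3 : ℝ) ≤ q := by exact_mod_cast hq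
  have h' : (q : ℝ) < p := by exact_mod_cast h
  have e1 : ((u : ℝ) * q)⁻¹ < (2 * (q : ℝ) ^ 2)⁻¹ :=
    inv_strictAnti₀ (by positivity) (by exact_mod_cast hu)
  have e2 : ((v : ℝ) * p)⁻¹ < (2 * (q : ℝ) ^ 2)⁻¹ :=
    inv_strictAnti₀ (by positivity) (by exact_mod_cast hv)
  have e3 : 2 / ((p : ℝ) * q) < 2 / (q * q) := by gcongr
  have e4 : 2 / ((q : ℝ) * q) + (2 * (q : ℝ) ^ 2)⁻¹ + (2 * (q : ℝ) ^ 2)⁻¹ ≤ (q : ℝ)⁻¹ := by
    field_simp; linarith
  have e5 : (p : ℝ)⁻¹ < p * q / k := by linarith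
  have hk0 : (0 : ℝ) < k := by exact_mod_cast (by omega : 0 < k)
  rw [inv_eq_one_div, div_lt_div_iff₀ (by linarith) hk0] at e5
  have e6 : 1 * k < p * q * p := by exact_mod_cast e5
  have e7 : 2 * v < p * q := Nat.lt_of_mul_lt_mul_left (a := p) (by nlinarith)
  have e8 : p * q ≤ q ^ (p - 1) := by
    rw [show p - 1 = p - 2 + 1 by omega, pow_succ]
    exact Nat.mul_le_mul_right _ ((s14_lt_three_pow (by omega)).trans (Nat.pow_le_pow_left hq _))
  omega

/-- (14.14)(b) -/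
theorem s14_LM {p q v : ℕ} (hp : p.Prime) (hq : q.Prime) (hq3 : 3 ≤ q) (h : q < p)
    (hv : q ^ (p - 1) < v) (H : ((v : ℝ) - 1) / (p * q) ≤ p * q - 1) : q = 3 ∧ p = 5 := by
  have h0 : (0 : ℝ) < p * q := by have := hp.pos; have := hq.pos; positivity
  rw [div_le_iff₀ h0] at H
  have h1 : (v : ℝ) < (p * q) * (p * q) := by
    have : (1 : ℝ) < p * q := by exact_mod_cast (by nlinarith : 1 < p * q)
    nlinarith
  have h2 : v < (p * q) * (p * q) := by exact_mod_cast h1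
  have h3 : q ^ (p - 3) < p ^ 2 := by
    refine Nat.lt_of_mul_lt_mul_right (a := q ^ 2) ?_
    rw [← pow_add, show p - 3 + 2 = p - 1 by omega]; nlinarith
  have h4 : p < 7 := by
    by_contra h4
    have := s14_sq_lt_three_pow (not_lt.1 h4)
    have := Nat.pow_le_pow_left hq3 (p - 3)
    omega
  have h5 : p = 5 := by interval_cases p <;> first | omega | exact absurd hp (by norm_num)
  subst h5
  interval_cases q <;> first | omega | exact absurd hq (by norm_num)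

/-- (14.15) -/
theorem s14_oU {p q u x : ℕ} (hp : p.Prime) (hq : q.Prime) (hq3 : 3 ≤ q) (h : q < p)
    (hpq : p % q = 1) (hu : q * u = (p ^ q - 1) / (p - 1)) (hx : Odd x) (hu0 : 0 < u)
    (h1 : p * q ∣ u * x - 1) (h2 : q ∣ u - 1) (H : ((u * x : ℕ) - 1 : ℝ) / (p * q) ≤ p * q - 1) :
    False := by
  have hx0 := hx.pos
  have h0 : (0 : ℝ) < p * q := by have := hp.pos; have := hq.pos; positivity
  rw [div_le_iff₀ h0] at H
  have k1 : u * x < (p * q) * (p * q) := by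
    have : (1 : ℝ) < p * q := by exact_mod_cast (by nlinarith : 1 < p * q)
    have : ((u * x : ℕ) : ℝ) < (p * q) * (p * q) := by nlinarith
    exact_mod_cast this
  have m1 : u * x ≡ 1 [MOD p * q] := ((Nat.modEq_iff_dvd' (by nlinarith)).2 h1).symm
  have m2 : u ≡ 1 [MOD q] := ((Nat.modEq_iff_dvd' hu0).2 h2).symm
  have m3 : q * u ≡ 1 [MOD p] := ((Nat.modEq_iff_dvd' (by nlinarith)).2
    (hu ▸ s14_mod hp.two_le hq.pos)).symm
  have m4 : x ≡ q [MOD p] := by
    have := (m1.of_mul_right q).mul_left q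
    rw [← mul_assoc, mul_one] at this
    simpa using (m3.mul_right x).symm.trans this
  have m5 : x ≡ 1 [MOD q] := by simpa using (m2.mul_right x).symm.trans (m1.of_mul_left p)
  obtain ⟨n, hn⟩ : ∃ n, x = q + n * p := ⟨x / p, by
    rw [← Nat.mod_eq_of_lt h, ← m4]; exact (Nat.mod_add_div' x p).symm⟩
  have m6 : n ≡ 1 [MOD q] := by
    have e1 : p ≡ 1 [MOD q] := by rw [Nat.ModEq, hpq, Nat.mod_eq_of_lt hq.one_lt]
    have e2 : q + n * p ≡ 0 + n * 1 [MOD q] := (Nat.modEq_zero_iff_dvd.2 dvd_rfl).add (e1.mul_left n)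
    simpa using e2.symm.trans (hn ▸ m5)
  have op := hp.odd_of_ne_two (by omega)
  have oq := hq.odd_of_ne_two (by omega)
  have m7 : n ≠ 1 := by
    rintro rfl
    rw [hn, one_mul] at hx
    exact (Nat.not_even_iff_odd.2 hx) (oq.add_odd op)
  have m8 : q + 1 ≤ n := by
    by_contra hc
    rw [Nat.ModEq, Nat.mod_eq_of_lt hq.one_lt] at m6
    rcases (by omega : n < q ∨ n = q) with e | rfl
    · rw [Nat.mod_eq_of_lt e] at m6; exact m7 m6
    · simp at m6
  have k2 : q + (q + 1) * p ≤ x := hn ▸ by gcongr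
  have k3 := s14_pow_lt hp.two_le hq.two_le
  have k4 : p ^ (q - 2) < q ^ 2 := by
    refine Nat.lt_of_mul_lt_mul_right (a := p ^ 2) ?_
    rw [← pow_add, show q - 2 + 2 = q - 1 + 1 by omega, pow_succ]
    calc _ ≤ q * u * p := by gcongr; omega
      _ ≤ u * x := by nlinarith
      _ < _ := by nlinarith
  have k5 : q = 3 := by
    by_contra hc
    have : q ^ 2 ≤ p ^ (q - 2) :=
      (Nat.pow_le_pow_left h.le 2).trans (Nat.pow_le_pow_right hp.pos (by omega))
    omega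
  subst k5
  have k6 : p = 7 := by
    norm_num at k4
    interval_cases p <;> first | omega | exact absurd hp (by norm_num)
  subst k6
  norm_num at hu k1 k2
  obtain rfl : u = 19 := by omega
  omega

end Cfsg.Agent.PF
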