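import Cfsg.Agent.PF.S13
import Cfsg.Agent.PF.S14n
import Cfsg.Agent.BG.AppC

set_option autoImplicit false
set_option linter.unusedSectionVars false
set_option linter.unusedVariables false

namespace Cfsg.Agent.PF

open Subgroup Cfsg.Agent.GT Cfsg.Agent.BG Cfsg.Agent.Char

universe u v w

/-! Peterfalvi §14, supplementary results. `p = Nat.card W₂`, `q = Nat.card W₁`, `P = MF[S]`,
`Q = MF[T]`, `H = MF[L]`, `K = MF[M]`. -/

section Defs
variable {G : Type u} [Group G] [Fintype G]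

/-- Hypothesis (13.1) -/
structure Hyp13 (S T U V W₁ W₂ : Subgroup G) : Prop where
  pair : TypePPair S T W₁ W₂
  typeS : IsTypePWith S W₁ U W₂
  typeT : IsTypePWith T W₂ V W₁

/-- a type I maximal subgroup with a coherent isometry and a character of degree `|L : L_F|` -/
structure Type1Data (L : Subgroup G) (τ₁ : (L → ℂ) →ₗ[ℂ] (G → ℂ)) (φ : L → ℂ) : Prop where
  max : IsCoatom L
  type1 : FTtype L = 1
  coh : CohWith (seqIndD MF[L] L MF[L] ⊥) (tauF L) τ₁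
  mem : φ ∈ seqIndD MF[L] L MF[L] ⊥
  deg : φ 1 = (MF[L]).relIndex L

/-- `β_L^τ` -/
noncomputable def betaT (L : Subgroup G) (φ : L → ℂ) : G → ℂ :=
  tauF L (cInd L (fun _ : MF[L] => (1 : ℂ)) - φ)

end Defs

variable {G : Type u} [Group G] [Fintype G] [MFT G] {S T U V W₁ W₂ L M : Subgroup G}
  {τL : (L → ℂ) →ₗ[ℂ] (G → ℂ)} {τM : (M → ℂ) →ₗ[ℂ] (G → ℂ)} {φ : L → ℂ} {ψ : M → ℂ} {g : G}

theorem Hyp13.symm (h : Hyp13 S T U V W₁ W₂) : Hyp13 T S V U W₂ W₁ := ⟨h.pair.symm, h.typeT, h.typeS⟩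

theorem exists_type1Data (hL : IsCoatom L) (ht : FTtype L = 1) : ∃ τ₁ φ, Type1Data L τ₁ φ :=
  let ⟨τ, hτ⟩ := FTtype1_coherence hL ht
  let ⟨φ, h1, h2⟩ := FTtype1_ref_irr hL
  ⟨τ, φ, hL, ht, hτ, h1, h2⟩

theorem s14_frob_two_mul {K R : Subgroup G} (h : Frob K R M) : 2 * Nat.card R + 1 ≤ Nat.card K :=
  two_mul_add_one_le (mFT_odd _) (mFT_odd _) (ne_bot_iff_one_lt_card.1 h.ker_ne_bot)
    (frob_card_dvd_pred h)

theorem FTtypeP_complV_ltr (hS : IsCoatom S) (h : IsTypePWith S W₁ U W₂) {n : ℕ} (hn0 : 0 < n)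
    (hn : n ≤ Nat.card W₁) : 2 * n ^ 2 < Nat.card U * Nat.card W₁ := by
  have := s14_frob_two_mul (FTtypeP_type23 hS h).2.2.1
  nlinarith

/-- `PU` is a Frobenius group in the Galois case -/
theorem s14_frobPU (hS : IsCoatom S) (h : IsTypePWith S W₁ U W₂) (hg : TypePGalois S U) :
    Frob MF[S] U ⁅S, S⁆ := by
  have hU := (FTtypeP_type23 hS h).2.2
  refine ⟨typeP_sdprod_der h, typeP_Fcore_ne h, hU.1.ker_ne_bot, fun x hx hx1 => ?_⟩
  have h0 := (FTtypeP_H0 hS h).1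
  have hn : U ≤ N[MF[S] ⊓ C1[x]] :=
    le_norm_inf (typeP_sdprod_der h).right_norm
      (le_norm_cent1 ((isMulCommutative_iff_le_cent.1 hU.2).trans (cent_le_cent1 hx)))
  rcases hg _ (by rw [h0]; exact bot_le) inf_le_left hn with e | e
  · rw [e, h0]
  · have : x ∈ U ⊓ C[MF[S]] := ⟨hx, mem_cent_iff_le_cent1.2 (e ▸ inf_le_right)⟩
    rw [FTtypeP_reg_Fcore hS h] at this
    exact absurd (mem_bot.1 this) hx1

theorem s14_Sylow_P (hS : IsCoatom S) (h : IsTypePWith S W₁ U W₂) :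
    IsPiHallOf {Nat.card W₂} MF[S] ⊤ := by
  have hp := (FTtypeP_primes hS h).2
  have hP := isPGroup_of_elementary (FTtypeP_abelem hS h).1
  refine (Fcore_Hall hS).of_isPi (isPi_of_isPGroup hp hP) fun r hr e => ?_
  rw [Set.mem_singleton_iff.1 e]
  exact ⟨hp, card_dvd_of_le (typeP_W₂_le_Fcore h)⟩

theorem coprime_typeP_Galois_core (hS : IsCoatom S) (h : IsTypePWith S W₁ U W₂)
    (hg : TypePGalois S U) (h₁ : g ∉ classSupp (cycTI W₁ W₂) ⊤)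
    (h₂ : g ∉ classSupp (sharp MF[S]) ⊤) : (orderOf g).Coprime (Nat.card W₂) := by
  have hp := (FTtypeP_primes hS h).2
  by_contra hc
  rw [Nat.coprime_comm, hp.coprime_iff_not_dvd, not_not] at hc
  obtain ⟨a, ha, ho⟩ := exists_mem_orderOf_eq (H := zpowers g) hp (by rwa [Nat.card_zpowers])
  obtain ⟨y, -, hy⟩ := syl_exists_conj_le hp (s14_Sylow_P hS h)
    (isPGroup_of_card_eq_prime (P := zpowers a) (by rw [Nat.card_zpowers, ho])) le_top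
  have a1 : y * a * y⁻¹ ≠ 1 := fun e => by
    rw [conj_eq_one_iff] at e
    rw [e, orderOf_one] at ho
    exact hp.one_lt.ne ho
  have aP : y * a * y⁻¹ ∈ MF[S] := hy (conj_mem_conj.2 (mem_zpowers a))
  have gc : y * g * y⁻¹ ∈ C1[y * a * y⁻¹] := by
    rw [← conj_cent1, conj_mem_conj, mem_cent1_comm, ← cent_zpowers]
    exact isMulCommutative_iff_le_cent.1 (isMulCommutative_of_isCyclic inferInstance) ha
  have gS := FTtypeP_cent1_le hS h (Fcore_sub_FTsupp0 hS ⟨aP, a1⟩) gc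
  have back : ∀ {A : Set G}, y * g * y⁻¹ ∈ classSupp A ⊤ → g ∈ classSupp A ⊤ := fun hA => by
    have := conj_mem_classSupp (mem_top y⁻¹) hA
    simpa [mul_assoc] using this
  by_cases hd : y * g * y⁻¹ ∈ ⁅S, S⁆
  · refine h₂ (back (subset_classSupp _ _ ⟨frob_cent1_le (s14_frobPU hS h hg) aP a1 ⟨hd, gc⟩, ?_⟩))
    intro e
    rw [conj_eq_one_iff] at e
    rw [e, orderOf_one] at hc
    exact hp.one_lt.ne' (Nat.dvd_one.1 hc)
  have hp' := FT_primeTI_hyp h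
  obtain ⟨b, c, z, hb, e⟩ := hp'.exists_conj (x := ⟨_, gS⟩) hd
  have e' : y * g * y⁻¹ = z * (wL S W₁ W₂ (b, c) : S) * (z : G)⁻¹ := congrArg Subtype.val e
  by_cases hc1 : c = 1
  · rw [hc1, hp'.coe_wL_apply, OneMemClass.coe_one, mul_one] at e'
    rw [← orderOf_conj y, e', orderOf_conj] at hc
    have := Nat.eq_one_of_dvd_coprimes hp'.coprime₁₂ (hc.trans (orderOf_dvd_card_of_mem b.2)) dvd_rfl
    exact hp.one_lt.ne' this
  · exact h₁ (back ⟨_, hp'.wL_mem_cycTI hb hc1, z, mem_top _, e'⟩)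

theorem s14_card_S (hS : IsCoatom S) (h : IsTypePWith S W₁ U W₂) :
    Nat.card S = Nat.card MF[S] * (Nat.card U * Nat.card W₁) := by
  rw [(typeP_sdprod_UW h).card_mul, (typeP_sdprod_Fcore h).card_mul]

theorem FTtype2_cc_core_ler (hS : IsCoatom S) (h : IsTypePWith S W₁ U W₂) (ht : FTtype S = 2) :
    (Nat.card (classSupp (sharp MF[S]) ⊤) : ℝ) / Nat.card G ≤
      ((Nat.card U : ℝ) * Nat.card W₁)⁻¹ := by
  have hTI := (FTtypeII_ker_TI hS ht).2.2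
  rw [FTsupp1_type12 ht.le] at hTI
  rw [Nat.card_coe_set_eq, BG.NormedTI.ncard_classSupp hTI, ncard_sharp, ← S.card_mul_index, s14_card_S hS h]
  have h1 : (0 : ℝ) < Nat.card MF[S] := Nat.cast_pos.2 (card_pos' _)
  have h2 : (0 : ℝ) < Nat.card U := Nat.cast_pos.2 (card_pos' _)
  have h3 : (0 : ℝ) < Nat.card W₁ := Nat.cast_pos.2 (card_pos' _)
  have h4 : (0 : ℝ) < S.index := Nat.cast_pos.2 (Nat.pos_of_ne_zero index_ne_zero_of_finite)
  rw [Nat.cast_mul, Nat.cast_pred (card_pos' _)]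
  push_cast
  rw [div_le_iff₀ (by positivity)]
  have : ((Nat.card U : ℝ) * Nat.card W₁)⁻¹ * (Nat.card MF[S] * (Nat.card U * Nat.card W₁) * S.index) =
      Nat.card MF[S] * S.index := by field_simp
  rw [this]
  nlinarith

theorem disjoint_Dade_FTtype1 (hL : IsCoatom L) (hM : IsCoatom M) (tL : FTtype L = 1)
    (tM : FTtype M = 1) (hc : ¬ Conjg M L) :
    Disjoint (dadeSupp (sharp MF[M]) (FTsignalizer M)) (dadeSupp (sharp MF[L]) (FTsignalizer L)) := by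
  have := FT_Dade1_support_disjoint hM hL hc
  rwa [s12_supp1 tL, s12_supp1 tM, FTDadeSupp_eq, FTDadeSupp_eq] at this

theorem coherent_FTtype1_ortho (hL : Type1Data L τL φ) (hM : Type1Data M τM ψ) (hc : ¬ Conjg M L) :
    ∀ α ∈ seqIndD MF[M] M MF[M] ⊥, ∀ β ∈ seqIndD MF[L] L MF[L] ⊥, ⟪τM α, τL β⟫ = 0 :=
  fun α hα β hβ => disjoint_coherent_ortho mFT_odd_top (FT_DadeF_hyp hM.max) (FT_DadeF_hyp hL.max)
    (disjoint_Dade_FTtype1 hL.max hM.max hL.type1 hM.type1 hc) hM.coh hL.coh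
    (FTtype1_Ind_irr hM.max hM.type1 α hα) hα (FTtype1_Ind_irr hL.max hL.type1 β hβ) hβ

namespace Type1Data
variable (h : Type1Data L τL φ)
include h

theorem frob : FrobKer L MF[L] := FTtype1_Frobenius h.max h.type1
theorem norm : L ≤ N[MF[L]] := (norm_Fcore h.max).ge
theorem irr {ξ : L → ℂ} (hξ : ξ ∈ seqIndD MF[L] L MF[L] ⊥) : IsIrrCharacter L ξ :=
  FTtype1_Ind_irr h.max h.type1 ξ hξ
theorem sirr {ξ : L → ℂ} (hξ : ξ ∈ seqIndD MF[L] L MF[L] ⊥) : IsSIrr G (τL ξ) :=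
  h.coh.isSIrr hξ (h.irr hξ)
theorem conj_ne {ξ : L → ℂ} (hξ : ξ ∈ seqIndD MF[L] L MF[L] ⊥) : conjFun ξ ≠ ξ :=
  seqIndD_conj_ne (fittingHallOf_le L) h.norm (mFT_odd L) hξ
theorem nontriv : (seqIndD MF[L] L MF[L] ⊥).Nontrivial :=
  ⟨_, conj_seqIndD h.mem, _, h.mem, h.conj_ne h.mem⟩
theorem two_mul : 2 * (MF[L]).relIndex L + 1 ≤ Nat.card MF[L] := by
  obtain ⟨R, hR⟩ := h.frob
  rw [hR.sdprod.relIndex]
  exact s14_frob_two_mul hR
theorem dvd : (MF[L]).relIndex L ∣ Nat.card MF[L] - 1 := by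
  obtain ⟨R, hR⟩ := h.frob
  rw [hR.sdprod.relIndex]
  exact frob_card_dvd_pred hR
theorem sub_CF : cInd L (fun _ : MF[L] => (1 : ℂ)) - φ ∈ CF L (sharp MF[L]) :=
  zspan_seqIndT_on (fittingHallOf_le L) h.norm subset_rfl (sub_mem_zspanOn_one
    (mem_zspan_of_mem (cInd_mem_seqIndT isIrrCharacter_one))
    (mem_zspan_of_mem (seqIndD_subset_T h.mem)) (by rw [cInd_one (fittingHallOf_le L), mul_one, h.deg]))
theorem facts :
    ((∀ ξ ∈ seqIndD MF[L] L MF[L] ⊥, ⟪τL ξ, fun _ => 1⟫ = 0) ∧ ⟪betaT L φ, fun _ => 1⟫ = 1 ∧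
      IsGeneralizedCharacter G (betaT L φ)) ∧
    (∃ Γ : G → ℂ, (∀ ξ ∈ seqIndD MF[L] L MF[L] ⊥, ⟪Γ, τL ξ⟫ = 0) ∧ ⟪Γ, fun _ => 1⟫ = 0 ∧
      (∃ a : ℤ, betaT L φ = (fun _ => 1) - τL φ + (a : ℂ) •
        (∑ ξ ∈ (seqIndD_finite MF[L] L MF[L] ⊥).toFinset,
          (ξ 1 / ((MF[L]).relIndex L : ℂ) / (nsq ξ : ℂ)) • τL ξ) + Γ) ∧
      1 - ((MF[L]).relIndex L : ℝ) / Nat.card MF[L] ≤
        nsq (dadeRho (sharp MF[L]) L (FTsignalizer L) (τL φ)) ∧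
      nsq Γ ≤ ((MF[L]).relIndex L : ℝ) - 1) := by
  obtain ⟨h1, ⟨Γ, h2, h3, h4, h5⟩, -⟩ := Dade_Ind1_sub_lin (FT_DadeF_hyp h.max) h.coh h.nontriv
    (h.irr h.mem) h.mem h.deg rfl
  exact ⟨h1, Γ, h2, h3, h4, h5 h.two_mul⟩
theorem beta_virt : IsGeneralizedCharacter G (betaT L φ) := h.facts.1.2.2
theorem beta_one : ⟪betaT L φ, fun _ => 1⟫ = 1 := h.facts.1.2.1
theorem tau_one {ξ : L → ℂ} (hξ : ξ ∈ seqIndD MF[L] L MF[L] ⊥) : ⟪τL ξ, fun _ => 1⟫ = 0 :=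
  h.facts.1.1 ξ hξ
theorem beta_nsq : nsq (betaT L φ) = (MF[L]).relIndex L + 1 := by
  rw [betaT, dadeL_nsq (FT_DadeF_hyp h.max) h.sub_CF.1 h.sub_CF.2,
    nsq_sub_of_orth (ci_eq_zero_symm (seqIndD_ortho_Ind1 (fittingHallOf_le L) h.norm h.mem)),
    nsq_Ind1 (fittingHallOf_le L) h.norm, (h.irr h.mem).nsq]
theorem beta_sub_conj : ⟪betaT L φ, τL φ - τL (conjFun φ)⟫ = -1 := by
  have hi := h.irr h.mem
  have hc := conj_seqIndD h.mem
  have o := fun ξ hξ => ci_eq_zero_symm (seqIndD_ortho_Ind1 (H := MF[L]) (M := ⊥) (φ := ξ)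
    (fittingHallOf_le L) h.norm hξ)
  rw [← map_sub, h.coh.eq (sub_mem_zspan (mem_zspan_of_mem h.mem) (mem_zspan_of_mem hc))
    (by rw [Pi.sub_apply, conjFun_apply, hi.virt.conj_one, sub_self]), betaT,
    dadeL_ci (FT_DadeF_hyp h.max) h.sub_CF.1 h.sub_CF.2 (hi.virt.sub hi.virt.conjFun).isClassFunction,
    ci_sub_left, ci_sub_right, ci_sub_right, o _ h.mem, o _ hc, hi.isSIrr.ci_self,
    ci_eq_zero_symm (seqIndD_conj_ortho (fittingHallOf_le L) h.norm (mFT_odd L) h.mem)]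
  ring
theorem beta_zero (hg : g ∉ dadeSupp (sharp MF[L]) (FTsignalizer L)) : betaT L φ g = 0 :=
  dadeL_of_not_mem _ hg
theorem exists_sub {ξ : L → ℂ} (hξ : ξ ∈ seqIndD MF[L] L MF[L] ⊥) :
    ∃ d : ℕ, ξ 1 = (MF[L]).relIndex L * d ∧ τL ξ - (d : ℂ) • τL φ = tauF L (ξ - (d : ℂ) • φ) := by
  obtain ⟨d, -, hd⟩ := seqIndT_one (fittingHallOf_le L) (seqIndD_subset_T hξ)
  refine ⟨d, hd, ?_⟩
  rw [← map_smul, ← map_sub, h.coh.eq (sub_mem_zspan (mem_zspan_of_mem hξ)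
    (natCast_smul_mem_zspan d (mem_zspan_of_mem h.mem)))
    (by rw [Pi.sub_apply, Pi.smul_apply, hd, h.deg, smul_eq_mul, mul_comm, sub_self])]
theorem sum_sq : ∑ ξ ∈ (seqIndD_finite MF[L] L MF[L] ⊥).toFinset, (ξ 1).re ^ 2 =
    (MF[L]).relIndex L * ((Nat.card MF[L] : ℝ) - 1) := by
  have := sum_seqIndD_square (fittingHallOf_le L) h.norm le_rfl h.norm
    (by rw [norm_bot]; exact le_top) bot_le
  rw [relIndex_self, relIndex_bot_left, Nat.cast_one, mul_one] at this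
  rw [← this]
  exact Finset.sum_congr rfl fun ξ hξ => by
    rw [(h.irr ((Set.Finite.mem_toFinset _).1 hξ)).nsq, div_one]

/-- Bessel's inequality for the family `τ₁ (calL)` -/
theorem bessel {Γ : G → ℂ} {a : ℤ} (ha : a ≠ 0)
    (hΓ : ∀ ξ ∈ seqIndD MF[L] L MF[L] ⊥, (MF[L]).relIndex L * ⟪Γ, τL ξ⟫ = ξ 1 * a) :
    ((Nat.card MF[L] : ℝ) - 1) / (MF[L]).relIndex L ≤ nsq Γ := by
  classical
  have mS : ∀ ξ, ξ ∈ (seqIndD_finite MF[L] L MF[L] ⊥).toFinset ↔ ξ ∈ seqIndD MF[L] L MF[L] ⊥ :=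
    fun ξ => Set.Finite.mem_toFinset _
  refine le_trans ?_ (bessel_orthonormal (seqIndD_finite MF[L] L MF[L] ⊥).toFinset τL
    (fun ξ h1 μ h2 => by
      rw [h.coh.ci_mem ((mS _).1 h1) ((mS _).1 h2),
        (h.irr ((mS _).1 h1)).ci_eq_ite (h.irr ((mS _).1 h2))]) Γ)
  have e0 : (0 : ℝ) < (MF[L]).relIndex L := Nat.cast_pos.2 (relIndex_pos _ _)
  rw [div_le_iff₀ e0, ← mul_le_mul_iff_right₀ e0, ← h.sum_sq, Finset.sum_mul, Finset.mul_sum]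
  refine Finset.sum_le_sum fun ξ hξ => ?_
  have e := congrArg (fun z => ‖z‖ ^ 2) (hΓ ξ ((mS _).1 hξ))
  obtain ⟨d, -, hd⟩ := (h.irr ((mS _).1 hξ)).exists_degree
  have a1 : (1 : ℝ) ≤ (a : ℝ) ^ 2 := by exact_mod_cast (one_le_sq_iff_one_le_abs a).2 (Int.one_le_abs ha)
  simp only [hd, norm_mul, Complex.norm_natCast, Complex.norm_intCast, mul_pow, sq_abs,
    Complex.natCast_re] at e ⊢
  nlinarith [sq_nonneg (d : ℝ)]

end Type1Data

theorem coherent_FTtype1_core_ltr (hL : Type1Data L τL φ) (hM : Type1Data M τM ψ)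
    (hc : ¬ Conjg M L) (ha : ⟪betaT L φ, τM ψ⟫ ≠ 0) :
    ((Nat.card MF[M] : ℝ) - 1) / (MF[M]).relIndex M ≤ ((MF[L]).relIndex L : ℝ) - 1 := by
  obtain ⟨-, Γ, -, -, ⟨b, hb⟩, -, hΓ⟩ := hL.facts
  obtain ⟨a, ha'⟩ := hL.beta_virt.ci_int (hM.sirr hM.mem).virt
  refine (hM.bessel (a := a) (by rintro rfl; exact ha (ha'.trans Int.cast_zero)) fun ξ hξ => ?_).trans hΓ
  have o := fun β hβ => ci_eq_zero_symm (coherent_FTtype1_ortho hL hM hc ξ hξ β hβ)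
  have e1 : ⟪betaT L φ, τM ξ⟫ = ⟪Γ, τM ξ⟫ := by
    rw [hb, ci_add_left, ci_add_left, ci_sub_left, ci_eq_zero_symm (hM.tau_one hξ), o _ hL.mem,
      ci_smul_left, ci_sum_left, Finset.sum_eq_zero fun β hβ => by
        rw [ci_smul_left, o _ ((Set.Finite.mem_toFinset _).1 hβ), mul_zero]]
    ring
  obtain ⟨d, hd, e2⟩ := hM.exists_sub hξ
  have e3 : ⟪betaT L φ, τM ξ - (d : ℂ) • τM ψ⟫ = 0 := by
    rw [e2]
    exact disjoint_Dade_ortho (disjoint_Dade_FTtype1 hL.max hM.max hL.type1 hM.type1 hc).symm _ _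
  rw [ci_sub_right, ci_smul_right, ha', e1, map_natCast, sub_eq_zero] at e3
  rw [e3, hd, mul_assoc]

theorem s14_beta_vanish (hS : IsCoatom S) (h : IsTypePWith S W₁ U W₂) (hL : Type1Data L τL φ) :
    ∀ x ∈ tiSet (wG W₁ W₂), betaT L φ x = 0 := by
  intro x hx
  obtain ⟨j, hj⟩ := exists_lin_ne_one₂ h
  have hd := (FTtypeI_bridge_facts hS h hL.max hL.type1 hL.coh hL.mem hL.deg hj).1
  rw [FTsupp_Frobenius hL.max hL.frob, FTDadeSupp_eq] at hd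
  rw [(typeP_cycTI h).tiSet_eq] at hx
  exact hL.beta_zero fun hx' => Set.disjoint_left.1 hd hx' (Or.inr (subset_classSupp _ _ hx.1))

theorem s14_ortho_eta (hS : IsCoatom S) (h : IsTypePWith S W₁ U W₂) (hL : Type1Data L τL φ) :
    ∀ ξ ∈ seqIndD MF[L] L MF[L] ⊥, ∀ i j, ⟪τL ξ, etaG W₁ W₂ i j⟫ = 0 := by
  obtain ⟨j, hj⟩ := exists_lin_ne_one₂ h
  exact (FTtypeI_bridge_facts hS h hL.max hL.type1 hL.coh hL.mem hL.deg hj).2.1

theorem s14_beta_odd (hS : IsCoatom S) (h : IsTypePWith S W₁ U W₂) (hL : Type1Data L τL φ)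
    (h₁ : (Nat.card U - 1) / Nat.card W₁ < (Nat.card MF[L] - 1) / (MF[L]).relIndex L)
    (j : Lin W₂) : ∃ n : ℤ, ⟪betaT L φ, etaG W₁ W₂ 1 j⟫ = 2 * n + 1 := by
  by_cases hj : j = 1
  · exact ⟨0, by rw [hj, etaG, (typeP_cycTI h).eta_one, hL.beta_one]; simp⟩
  rcases (FTtypeI_bridge_facts hS h hL.max hL.type1 hL.coh hL.mem hL.deg hj).2.2.2 with
    ⟨-, h2⟩ | ⟨h2, -⟩
  · rw [← Nat.cast_pred (card_pos' _), ← Nat.cast_div hL.dvd (Nat.cast_ne_zero.2 (relIndex_pos _ _).ne'),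
      Nat.cast_le] at h2
    omega
  · exact h2

theorem s14_card_W (h : IsTypePWith S W₁ U W₂) {y : G} (hy : Dprod W₁ (cj[y] W₂) (W₁ ⊔ cj[y] W₂)) :
    Nat.card ↥(W₁ ⊔ cj[y] W₂) = Nat.card W₂ * Nat.card W₁ := by
  rw [← hy.card_mul, card_conj, mul_comm]

/-- (14.11.2) -/
theorem FTtype2_support_coherence (h : Hyp13 S T U V W₁ W₂) (ht : FTtype S = 2)
    (hL : Type1Data L τL φ) (hN : N[U] ≤ L)
    (h₁ : (Nat.card U - 1) / Nat.card W₁ < (Nat.card MF[L] - 1) / (MF[L]).relIndex L)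
    (h₂ : (Nat.card V - 1) / Nat.card W₂ < (Nat.card MF[L] - 1) / (MF[L]).relIndex L) :
    (MF[L]).relIndex L = Nat.card W₂ * Nat.card W₁ ∧
    ∃ (ε : Lin W₁ → Lin W₂ → ℂ) (χ : G → ℂ), (∀ i j, ε i j = 1 ∨ ε i j = -1) ∧
      (χ = τL φ ∨ χ = -τL (conjFun φ)) ∧
      betaT L φ = ∑ i, ∑ j, ε i j • etaG W₁ W₂ i j - χ := by
  have hS := h.pair.maxS
  have hW := typeP_cycTI h.typeS
  have hβ := hL.beta_virt
  have odd : ∀ i j, ∃ n : ℤ, ⟪betaT L φ, etaG W₁ W₂ i j⟫ = 2 * n + 1 := fun i j => by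
    obtain ⟨m, hm⟩ := s14_beta_odd hS h.typeS hL h₁ j
    obtain ⟨n, hn⟩ := s14_beta_odd h.pair.maxT h.typeT hL h₂ i
    rw [etaG_swap hW.dprod.cent] at hn
    have := hW.exchange hβ.isClassFunction (s14_beta_vanish hS h.typeS hL) i 1 j 1
    rw [hW.eta_one, hL.beta_one, hm, hn] at this
    exact ⟨m + n, by push_cast; linear_combination this⟩
  have ge1 : ∀ x : Lin W₁ × Lin W₂, (1 : ℝ) ≤ ‖⟪betaT L φ, etaG W₁ W₂ x.1 x.2⟫‖ ^ 2 := fun x => by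
    obtain ⟨n, hn⟩ := odd x.1 x.2
    rw [norm_sq_of_eq_int (n := 2 * n + 1) (by rw [hn]; push_cast; rfl)]
    exact_mod_cast (one_le_sq_iff_one_le_abs _).2 (Int.one_le_abs (by omega))
  have e1 := nsq_eq_sum_add_nsq_orthonormal Finset.univ
    (fun x : Lin W₁ × Lin W₂ => etaG W₁ W₂ x.1 x.2) (hW.eta_orthonormal _) (betaT L φ)
  set R := betaT L φ - ∑ x : Lin W₁ × Lin W₂, ⟪betaT L φ, etaG W₁ W₂ x.1 x.2⟫ • etaG W₁ W₂ x.1 x.2
    with hR
  have vR : IsGeneralizedCharacter G R := hβ.sub (virt_sum _ _ fun x _ =>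
    (hW.eta_virt _ _).smul_of_int (hβ.ci_int (hW.eta_virt _ _)))
  have hc := conj_seqIndD hL.mem
  have e2 : ⟪R, τL φ - τL (conjFun φ)⟫ = -1 := by
    rw [hR, ci_sub_left, hL.beta_sub_conj, ci_sum_left, Finset.sum_eq_zero fun x _ => by
      rw [ci_smul_left, ci_sub_right, ci_eq_zero_symm (s14_ortho_eta hS h.typeS hL _ hL.mem _ _),
        ci_eq_zero_symm (s14_ortho_eta hS h.typeS hL _ hc _ _), sub_zero, mul_zero], sub_zero]
  have R1 := vR.one_le_nsq (by rintro e; rw [e, ci_zero_left] at e2; norm_num at e2)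
  have c : ∑ x : Lin W₁ × Lin W₂, (1 : ℝ) = Nat.card W₂ * Nat.card W₁ := by
    rw [Finset.sum_const, Finset.card_univ, Fintype.card_prod, hW.card_Lin₁, hW.card_Lin₂]
    simp [mul_comm]
  have s1 := Finset.sum_le_sum fun x (_ : x ∈ Finset.univ) => ge1 x
  rw [hL.beta_nsq] at e1
  have he : (MF[L]).relIndex L = Nat.card W₂ * Nat.card W₁ := by
    obtain ⟨-, -, h3 | ⟨y, -, h3, h4⟩⟩ := FTtypeII_support_facts h.pair h.typeS ht hL.max hN
    · have : (Nat.card W₂ * Nat.card W₁ : ℝ) ≤ Nat.card W₁ := by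
        rw [h3.relIndex] at e1; linarith
      have h4 : Nat.card W₂ * Nat.card W₁ ≤ Nat.card W₁ := by exact_mod_cast this
      have := hW.three_le₁
      have := hW.three_le₂
      nlinarith
    · rw [h4.relIndex, s14_card_W h.typeS h3]
  rw [he, Nat.cast_mul] at e1
  have eq1 := (Finset.sum_eq_sum_iff_of_le fun x (_ : x ∈ Finset.univ) => ge1 x).1
    (le_antisymm s1 (by linarith))
  have sR := (vR.isSIrr_of_nsq (by linarith)).neg
  refine ⟨he, fun i j => ⟪betaT L φ, etaG W₁ W₂ i j⟫, -R, fun i j => ?_, ?_, ?_⟩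
  · obtain ⟨n, hn⟩ := hβ.ci_int (hW.eta_virt i j)
    have := eq1 (i, j) (Finset.mem_univ _)
    rw [norm_sq_of_eq_int hn] at this
    have h3 : n ^ 2 = 1 := by exact_mod_cast this.symm
    rcases sq_eq_one_iff.1 h3 with e | e
    · exact Or.inl (hn.trans (by simp [e]))
    · exact Or.inr (hn.trans (by simp [e]))
  · rw [← neg_eq_iff_eq_neg, ← ci_neg_left, ci_sub_right] at e2
    rcases sR.ci_cases (hL.sirr hL.mem) with ⟨e, -⟩ | ⟨-, e⟩ | ⟨-, -, e⟩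
    · exact Or.inl e
    · rcases sR.ci_cases (hL.sirr hc) with ⟨-, e'⟩ | ⟨e', -⟩ | ⟨-, -, e'⟩
      · rw [e, e'] at e2; norm_num at e2
      · exact Or.inr e'
      · rw [e, e'] at e2; norm_num at e2
    · exact Or.inr (sR.eq_neg_of_ci_eq_neg_one (hL.sirr hc) (by linear_combination e - e2))
  · rw [hR, Fintype.sum_prod_type]; abel

end Cfsg.Agent.PF
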