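import Cfsg.Agent.PF.S14a

set_option autoImplicit false
set_option linter.unusedSectionVars false
set_option linter.unusedVariables false

namespace Cfsg.Agent.PF

open Subgroup Cfsg.Agent.GT Cfsg.Agent.BG Cfsg.Agent.Char

universe u v w

/-! Peterfalvi (14.2)–(14.8). -/

theorem s14_q_dvd {p q : ℕ} (hp : 2 ≤ p) (h : p % q = 1) : q ∣ (p ^ q - 1) / (p - 1) := by
  rw [appC_geom p q hp, ← ZMod.natCast_eq_zero_iff]
  have : (p : ZMod q) = 1 := by rw [← ZMod.natCast_mod, h, Nat.cast_one]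
  simp [this]

variable {G : Type u} [Group G] [Fintype G] [MFT G] {S T U V W₁ W₂ L M : Subgroup G}
  {τL : (L → ℂ) →ₗ[ℂ] (G → ℂ)} {τM : (M → ℂ) →ₗ[ℂ] (G → ℂ)} {φ : L → ℂ} {ψ : M → ℂ} {g : G}

theorem s14_frob_reg {K E : Subgroup G} (h : FrobKer L K) (hE : Sdprod K E L) : Semiregular K E := by
  obtain ⟨R, hR⟩ := h
  refine Semiregular.symm fun x hx hx1 => eq_bot_iff.2 fun z hz => ?_
  rw [← hE.inf_eq]
  exact ⟨frob_cent1_le hR hx hx1 ⟨hE.right_le hz.1, hz.2⟩, hz.1⟩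

theorem Hyp13.add_two_le (h : Hyp13 S T U V W₁ W₂) (hlt : Nat.card W₁ < Nat.card W₂) :
    Nat.card W₁ + 2 ≤ Nat.card W₂ := by
  obtain ⟨a, ha⟩ := mFT_odd W₁
  obtain ⟨b, hb⟩ := mFT_odd W₂
  omega

theorem Hyp13.type2 (h : Hyp13 S T U V W₁ W₂) (hlt : Nat.card W₁ < Nat.card W₂) : FTtype S = 2 :=
  (FTtypeP_type23 h.pair.maxS h.typeS).2.1 hlt

theorem s14_exists_max (hS : IsCoatom S) (h : IsTypePWith S W₁ U W₂) :
    ∃ L : Subgroup G, IsCoatom L ∧ N[U] ≤ L :=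
  mmax_exists (mFT_norm_proper (FTtypeP_type23 hS h).2.2.1.ker_ne_bot
    (sub_mmax_proper hS (typeP_U_le h)))

/-- (14.2) -/
theorem no_full_FT_Galois_structure (h : Hyp13 S T U V W₁ W₂) (hlt : Nat.card W₁ < Nat.card W₂)
    (hg : TypePGalois S U)
    (hU : Nat.card U = (Nat.card W₂ ^ Nat.card W₁ - 1) / (Nat.card W₂ - 1))
    {y : G} (hy : y ∈ MF[T]) (hn : cj[y] W₂ ≤ N[U]) : False := by
  classical
  have hS := h.pair.maxS
  obtain ⟨hq, hp⟩ := FTtypeP_primes hS h.typeS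
  have := Fact.mk hp
  have := Fact.mk hq
  obtain ⟨⟨F, _, _, hF, ⟨D⟩⟩, -, hc, -⟩ := typeP_Galois_P (hyp9_of_typeP hS h.typeS) hg
  obtain ⟨h0, -, hpP⟩ := FTtypeP_H0 hS h.typeS
  obtain ⟨hC, hu, -⟩ := Ptype_Fcompl_kernel_trivial hS h.typeS
  rw [hu, hpP, hU] at hc
  rw [hpP] at hF
  rw [h0, hC] at D
  have := Fintype.ofFinite F
  rw [Nat.card_eq_fintype_card] at hF
  have : CharP F (Nat.card W₂) := charP_of_card_eq_prime_pow hF
  have hUP := (typeP_sdprod_der h.typeS).right_norm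
  let f : G → F := fun x => if hx : x ∈ MF[S] then (D.phi ⟨x, hx⟩).toAdd else 0
  let ψ : G → F := fun x => if hx : x ∈ U then (D.psi ⟨x, hx⟩ : F) else 0
  have hf : ∀ x (hx : x ∈ MF[S]), f x = (D.phi ⟨x, hx⟩).toAdd := fun x hx => dif_pos hx
  have hψ : ∀ x (hx : x ∈ U), ψ x = (D.psi ⟨x, hx⟩ : F) := fun x hx => dif_pos hx
  have i1 : Function.Injective D.phi := (injective_iff_map_eq_one _).2 fun a ha =>
    Subtype.ext (mem_bot.1 ((D.ker a).1 ha))
  have i2 : Function.Injective D.psi := (injective_iff_map_eq_one _).2 fun a ha =>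
    Subtype.ext (mem_bot.1 ((D.kerU a).1 ha))
  have hW : ∀ x ∈ MF[S], f x ^ Nat.card W₂ = f x → x ∈ W₂ := fun x hx e => by
    rw [← Subfield.mem_bot_iff_pow_eq_self, ← ZMod.fieldRange_castHom_eq_bot (Nat.card W₂)] at e
    obtain ⟨k, hk⟩ := e
    obtain ⟨k, rfl⟩ := ZMod.natCast_zmod_surjective k
    rw [map_natCast] at hk
    obtain ⟨a, ha, e⟩ := (D.prime (f x)).2 ⟨k, hk.symm⟩
    rw [hf x hx] at e
    have : (a : G) = x := congrArg Subtype.val (i1 (Multiplicative.toAdd.injective e))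
    exact this ▸ ha
  obtain ⟨hQ, hQc⟩ := FTtypeP_abelem h.pair.maxT h.typeT
  refine hlt.not_ge (prime_dim_normed_finField (Nat.card W₂) (Nat.card W₁) hc F hF MF[S] U MF[T] f ψ
    ⟨fun _ _ => trivial, fun x hx z hz e => ?_, fun c _ => ?_⟩ (fun x hx z hz => ?_) hUP
    (fun x hx => ⟨by rw [hψ x hx]; exact Units.ne_zero _, fun z hz => ?_⟩) (fun x hx z hz => ?_)
    (fun x hx z hz e => ?_) (by rw [hU, appC_mul _ _ hp.two_le]) hQ.1
    (by rw [hQc]; exact ((Nat.coprime_primes hq hp).2 hlt.ne).pow_left _)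
    (fun x hx e => (norm_Fcore h.pair.maxT).ge (typeP_W₁_le h.typeT (hW x hx e))) y hy
    (fun x hx e => hn (conj_mem_conj.2 (hW x hx e))))
  · rw [hf x hx, hf z hz] at e
    exact congrArg Subtype.val (i1 (Multiplicative.toAdd.injective e))
  · obtain ⟨a, ha⟩ := D.surj (Multiplicative.ofAdd c)
    exact ⟨a, a.2, by rw [hf _ a.2, ha]; rfl⟩
  · rw [hf x hx, hf z hz, hf _ (mul_mem hx hz), ← toAdd_mul, ← map_mul]; rfl
  · rw [hψ x hx, hf z hz, hf _ (conj_mem_of_le_norm hUP hx hz)]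
    exact D.actU ⟨x, hx⟩ _ _ rfl
  · rw [hψ x hx, hψ z hz, hψ _ (mul_mem hx hz), ← Units.val_mul, ← map_mul]; rfl
  · rw [hψ x hx, hψ z hz] at e
    exact congrArg Subtype.val (i2 (Units.ext e))

/-- (14.4) -/
theorem FT14_galT (h : Hyp13 S T U V W₁ W₂) (hlt : Nat.card W₁ < Nat.card W₂) :
    TypePGalois T V ∧ Nat.card V = (Nat.card W₁ ^ Nat.card W₂ - 1) / (Nat.card W₁ - 1) := by
  have hq := FTtypeP_q_gt2 h.typeS
  have hg : TypePGalois T V := by
    by_contra hg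
    have := (FTtypeP_nonGalois_facts h.pair.maxT h.typeT hg).1
    omega
  exact ⟨hg, by rw [card_FTtypeP_Galois_compl h.pair.maxT h.typeT hg, Nat.mod_eq_of_lt hlt,
    if_neg (by omega)]⟩

/-- (14.5) -/
theorem FT14_defL (h : Hyp13 S T U V W₁ W₂) (hlt : Nat.card W₁ < Nat.card W₂) (hL : IsCoatom L)
    (hN : N[U] ≤ L) : ∃ y ∈ MF[T], Dprod W₁ (cj[y] W₂) (W₁ ⊔ cj[y] W₂) ∧
      Sdprod MF[L] (W₁ ⊔ cj[y] W₂) L := by
  have hS := h.pair.maxS
  obtain ⟨hF, hUH, h1 | h1⟩ := FTtypeII_support_facts h.pair h.typeS (h.type2 hlt) hL hN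
  swap
  · exact h1
  exfalso
  obtain ⟨τ, φ, D⟩ := exists_type1Data hL (FT_Frobenius_type1 hL hF)
  obtain ⟨j, hj⟩ := exists_lin_ne_one₂ h.typeS
  rcases (FTtypeI_bridge_facts hS h.typeS hL D.type1 D.coh D.mem D.deg hj).2.2.2 with
    ⟨-, h2⟩ | ⟨-, h2⟩
  · have q0 : (0 : ℝ) < Nat.card W₁ := Nat.cast_pos.2 (card_pos' _)
    rw [h1.relIndex, Nat.cast_div (FTtypeP_q_dvd hS h.typeS) q0.ne', Nat.cast_pred (card_pos' _),
      div_le_div_iff_of_pos_right q0, sub_le_sub_iff_right, Nat.cast_le] at h2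
    have e : U = MF[L] := eq_of_le_of_card_ge hUH h2
    refine (compl_of_typeII hS h.typeS (h.type2 hlt)).2.2.1 (hN.trans ?_)
    rw [← h1.sup_eq, ← e]
    exact sup_le (typeP_U_le h.typeS) (typeP_W₁_le h.typeS)
  · rw [h1.relIndex] at h2
    omega

/-- (14.6) -/
theorem FT14_galS (h : Hyp13 S T U V W₁ W₂) (hlt : Nat.card W₁ < Nat.card W₂) :
    TypePGalois S U := by
  by_contra hg
  have hS := h.pair.maxS
  have h9 := hyp9_of_typeP hS h.typeS
  obtain ⟨hq, hp⟩ := FTtypeP_primes hS h.typeS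
  obtain ⟨-, hu⟩ := FTtypeP_nonGalois_facts hS h.typeS hg
  obtain ⟨m, hm⟩ := mFT_odd W₂
  rw [hm, Nat.add_sub_cancel, Nat.mul_div_cancel_left _ two_pos] at hu
  have hUc := FTtypeP_U_comm hS h.typeS
  have nc : ¬ IsCyclic U := fun hc => by
    obtain ⟨D⟩ := typeP_Galois_Pn h9 hg
    obtain ⟨-, h1, -, -, -, h2, -⟩ := nonGal_facts h9 D
    generalize D.a = a at h1 h2
    rw [(Ptype_Fcompl_kernel_trivial hS h.typeS).1] at h2
    rw [(FTtypeP_H0 hS h.typeS).2.2, hm, Nat.add_sub_cancel] at h1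
    have h3 := (PG.exponent_dvd_iff.2 fun x hx => mem_bot.1 (h2 x hx)).trans h1
    rw [IsCyclic.exponent_eq_card, hu] at h3
    have h4 := ne_bot_iff_one_lt_card.1 h9.U_ne
    have h5 := mFT_odd U
    rw [hu] at h4 h5
    have m0 : 0 < m := by nlinarith
    have h6 := Nat.le_of_dvd (by omega) h3
    have : m ≤ 2 := by nlinarith
    interval_cases m
    · omega
    · exact absurd h5 (by decide)
  obtain ⟨r, hr, hrd, hR⟩ : ∃ r : ℕ, r.Prime ∧ r ∣ Nat.card U ∧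
      ∀ R, IsPiHallOf {r} R U → ¬ IsCyclic R := by
    by_contra! hc
    exact nc (comm_Zgroup_cyclic (isZGroup_iff_syl.2 hc) hUc)
  have := Fact.mk hr
  obtain ⟨R₀, hR₀⟩ := exists_syl hr U
  have ht := h.type2 hlt
  obtain ⟨f1, f2, -⟩ := FTtypeI_II_facts hS ht.le (U := U) (by
    rw [FTder, if_neg (by omega)]; exact typeP_sdprod_der h.typeS)
  obtain ⟨hab, hrk⟩ := f1 r hr R₀ hR₀
  obtain ⟨x, hx, hx1, hc⟩ := coprime_abelian_exists_cent1_ne_bot hab (hR R₀ hR₀)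
    (hR₀.le.trans (typeP_sdprod_der h.typeS).right_norm)
    ((typeP_coprime_U h.typeS).coprime_dvd_right (card_dvd_of_le hR₀.le)) (typeP_Fcore_ne h.typeS)
  have hCS := (f2 {x} (Set.singleton_nonempty x)
    (Set.singleton_subset_iff.2 ⟨hR₀.le hx, hx1⟩) hc).le
  have syl : IsPiHallOf {r} R₀ S :=
    (hR₀.trans_single (typeP_U_hall h.typeS) fun e =>
      not_dvd_of_coprime (typeP_coprime_U h.typeS) hr e.2 hrd).trans_single (typeP_der_hall h.typeS)
      ⟨hr, hrd.trans (card_dvd_of_le (typeP_U_le_der h.typeS))⟩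
  obtain ⟨L, hL, hN⟩ := s14_exists_max hS h.typeS
  obtain ⟨hF, hUH, -⟩ := FTtypeII_support_facts h.pair h.typeS ht hL hN
  obtain ⟨y, -, -, hE⟩ := FT14_defL h hlt hL hN
  set R := O[{r}](MF[L]) with hRd
  have pR : IsPGroup r R := (piCoreOf_isPi _ _).isPGroup hr
  have R₀R : R₀ ≤ R := nil_le_piCoreOf (fittingHallOf_nilpotent L) (hR₀.le.trans hUH) hR₀.isPi
  set Z := omegaOne r (R ⊓ C[R]) with hZ
  have ZR : Z ≤ R ⊓ C[R] := PG.omegaOne_le _ _
  have ZR₀ : Z ≤ R₀ := by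
    rw [← syl_eq_of_le hr syl (pR.to_le (sup_le R₀R (ZR.trans inf_le_left)))
      (sup_le syl.le ((ZR.trans inf_le_right).trans ((cent_le_cent1 (R₀R hx)).trans hCS))) le_sup_left]
    exact le_sup_right
  have eZ : IsElementaryAbelian r Z := PG.elemAb_omegaOne_center
  have c2 := pRankLE_iff_rel.1 hrk Z ZR₀ eZ
  have Z1 : Z ≠ ⊥ := PG.omegaOne_ne_bot (pR.to_le inf_le_left)
    (center_ne_bot_of_nilpotent (nilpotent_of_isPGroup hr pR) (ne_bot_of_mem (R₀R hx) hx1))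
  have nR : L ≤ N[R] := le_norm_piCoreOf (norm_Fcore hL).ge
  have hd := semiregular_card_dvd
    ((s14_frob_reg hF hE).mono (ZR.trans (inf_le_left.trans (piCoreOf_le _ _))) le_sup_right)
    ((le_sup_right.trans hE.right_le).trans (PG.le_norm_omegaOne (le_norm_inf nR (le_norm_cent nR))))
  rw [card_conj] at hd
  obtain ⟨k, hk⟩ := IsPGroup.iff_card.1 (isPGroup_of_elementary eZ)
  have rm : r ≤ m := Nat.le_of_dvd (by have := hp.two_le; omega)
    (hr.dvd_of_dvd_pow (hu ▸ hrd))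
  have r2 := hr.two_le
  rw [ne_bot_iff_one_lt_card] at Z1
  rw [hk] at hd c2 Z1
  rw [Nat.pow_le_pow_iff_right hr.one_lt] at c2
  interval_cases k
  · simp at Z1
  · rw [pow_one] at hd
    have := Nat.le_of_dvd (by omega) hd
    omega
  · rw [show r ^ 2 - 1 = (r + 1) * (r - 1) from Nat.sq_sub_sq r 1, hp.dvd_mul] at hd
    rcases hd with hd | hd <;> have := Nat.le_of_dvd (by omega) hd <;> omega

/-- (14.7) -/
theorem FT14_not_char (h : Hyp13 S T U V W₁ W₂) (hlt : Nat.card W₁ < Nat.card W₂) (hL : IsCoatom L)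
    (hN : N[U] ≤ L) : ¬ L ≤ N[U] := by
  intro hn
  have hS := h.pair.maxS
  obtain ⟨hq, hp⟩ := FTtypeP_primes hS h.typeS
  obtain ⟨hF, hUH, -⟩ := FTtypeII_support_facts h.pair h.typeS (h.type2 hlt) hL hN
  obtain ⟨y, hy, -, hE⟩ := FT14_defL h hlt hL hN
  have hg := FT14_galS h hlt
  have hu := card_FTtypeP_Galois_compl hS h.typeS hg
  have hn' := (le_sup_right.trans hE.right_le).trans hn
  split_ifs at hu with h1
  swap
  · exact no_full_FT_Galois_structure h hlt hg hu hy hn'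
  have h2 := semiregular_card_dvd ((s14_frob_reg hF hE).mono hUH le_sup_right) hn'
  rw [card_conj] at h2
  have h3 := s14_mod hp.two_le hq.one_le
  rw [← Nat.mul_div_cancel' (s14_q_dvd hp.two_le h1), ← hu, mul_comm] at h3
  have := Nat.le_of_dvd (by have := hq.two_le; omega) (dvd_pred_of_mul (card_pos' U) h2 h3)
  omega

/-- (14.8)(b) -/
theorem FT14_v1p_gt_u1q (h : Hyp13 S T U V W₁ W₂) (hlt : Nat.card W₁ < Nat.card W₂) :
    (Nat.card U - 1) / Nat.card W₁ < (Nat.card V - 1) / Nat.card W₂ := by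
  have h1 := FTtypeP_u_le h.pair.maxS h.typeS
  rw [FTtypeP_reg_Fcore h.pair.maxS h.typeS, relIndex_bot_left] at h1
  have h2 := FTtypeP_q_dvd h.pair.maxT h.typeT
  rw [(FT14_galT h hlt).2] at h2 ⊢
  exact s14_v1p (FTtypeP_q_gt2 h.typeS) (h.add_two_le hlt) h1 h2

end Cfsg.Agent.PF
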