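import Cfsg.Agent.PF.S14b

set_option autoImplicit false
set_option linter.unusedSectionVars false
set_option linter.unusedVariables false

namespace Cfsg.Agent.PF

open Subgroup Cfsg.Agent.GT Cfsg.Agent.BG Cfsg.Agent.Char

universe u v w

/-! Peterfalvi (14.9). -/

variable {G : Type u} [Group G] [Fintype G] [MFT G] {S T U V W₁ W₂ L M : Subgroup G} {g : G}

theorem s14_dvd_order (hS : IsCoatom S) (h : IsTypePWith S W₁ U W₂)
    (hg : g ∈ classSupp (sharp MF[S] ∪ classSupp (cycTI W₁ W₂) S) ⊤) : Nat.card W₂ ∣ orderOf g := by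
  have hp := (FTtypeP_primes hS h).2
  have := Fact.mk hp
  obtain ⟨a, ha | ⟨b, hb, z, -, rfl⟩, y, -, rfl⟩ := hg
  · rw [orderOf_conj, orderOf_eq_prime ((FTtypeP_abelem hS h).1.2 a ha.1) ha.2]
  · rw [orderOf_conj, orderOf_conj]
    obtain ⟨c, hc, d, hd, rfl⟩ := (typeP_dprod h).exists_mul hb.1
    have d1 : d ≠ 1 := fun e => hb.2.1 (by rwa [e, mul_one])
    have od : orderOf d = Nat.card W₂ :=
      ((Nat.dvd_prime hp).1 (orderOf_dvd_card_of_mem hd)).resolve_left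
        fun e => d1 (orderOf_eq_one_iff.1 e)
    rw [Commute.orderOf_mul_eq_mul_orderOf_of_coprime ((typeP_dprod h).cent hc d hd).symm
      (od ▸ (typeP_cycTI h).coprime.coprime_dvd_left (orderOf_dvd_card_of_mem hc)), od]
    exact dvd_mul_left _ _

/-- (14.9) -/
theorem FTtypeP_min_typeII (h : Hyp13 S T U V W₁ W₂) (hlt : Nat.card W₁ < Nat.card W₂) :
    FTtype T = 2 := by
  classical
  by_contra ne
  have hS := h.pair.maxS
  have hT := h.pair.maxT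
  have h10 : Hyp10 T W₂ V W₁ := ⟨hT, h.typeT, ne⟩
  have hW := typeP_cycTI h.typeS
  have hP := FT_primeTI_hyp h.typeT
  obtain ⟨hq, hp⟩ := FTtypeP_primes hS h.typeS
  have proj := (FTtype34_structure h10).1
  rw [FTtypeP_reg_Fcore hT h.typeT, sup_bot_eq] at proj
  have hKL := hP.K_le
  have hn := hP.norm
  have hQK := typeP_Fcore_le_der h.typeT
  have hQn := (norm_Fcore hT).ge
  have cs : ConjSub (seqIndD ⁅T, T⁆ T ⁅T, T⁆ MF[T]) (seqIndD ⁅T, T⁆ T (FTcore T) ⊥) :=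
    conjSub_seqIndD h10.core_eq.ge bot_le
  have deg : ∀ ζ ∈ seqIndD ⁅T, T⁆ T ⁅T, T⁆ MF[T], ζ 1 = Nat.card W₂ := by
    rintro _ ⟨θ, ⟨h1, -, h2⟩, rfl⟩
    rw [cInd_one hKL, hP.relIndex, irr_one_of_inKer_der h1
      (h2.mono ((typeP_der2_iff h.typeT).2 (FTtypeP_U_comm hT h.typeT))), mul_one]
  have irr : ∀ ζ ∈ seqIndD ⁅T, T⁆ T ⁅T, T⁆ MF[T], IsIrrCharacter T ζ := fun ζ hζ => by
    rcases hP.seqIndT_cases (seqIndD_subset_T hζ) with ⟨i, rfl⟩ | h1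
    · have := (hP.inKer_muR_iff hQK hQn i).1
        ((mem_seqIndD_iff hKL hn le_rfl hn hQK hQn).1 hζ).2.2
      exact absurd (MonoidHom.ext fun x => this x (typeP_W₂_le_Fcore h.typeT x.2))
        (hP.ne_one_of_muR_mem hζ)
    · exact h1.1
  obtain ⟨Q, hQ, -⟩ := FTtypeP_subcoherent hT h.typeT
  obtain ⟨ν, hν⟩ := uniform_degree_coherence hQ cs fun φ hφ ψ hψ => by rw [deg φ hφ, deg ψ hψ]
  have oη : ∀ ζ ∈ seqIndD ⁅T, T⁆ T ⁅T, T⁆ MF[T], ∀ i j, ⟪ν ζ, etaG W₁ W₂ i j⟫ = 0 :=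
    fun ζ hζ i j => by
      rw [← etaG_swap hW.dprod.cent]
      exact coherent_ortho_cycTIiso hT h.typeT cs hν hζ (irr ζ hζ) j i
  obtain ⟨j, hj⟩ := exists_lin_ne_one₂ h.typeS
  obtain ⟨-, g1, g2, g3⟩ := FTtypeP_bridge_gap hS h.typeS hj
  set Γ := bridgeGap S W₁ W₂ j with hΓ
  have hD := FT_Dade0_hyp hT
  have odd : ∀ ζ ∈ seqIndD ⁅T, T⁆ T ⁅T, T⁆ MF[T], (1 : ℝ) ≤ ‖⟪Γ, ν ζ⟫‖ ^ 2 := fun ζ hζ => by
    have hc := conj_seqIndD hζ
    have on : muR T W₂ W₁ 1 - ζ ∈ CF T (sharp ⁅T, T⁆) :=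
      zspan_seqIndT_on hKL hn subset_rfl (sub_mem_zspanOn_one (mem_zspan_of_mem (hP.muR_mem_T 1))
        (mem_zspan_of_mem (seqIndD_subset_T hζ))
        (by rw [hP.muR_one 1, hP.mu2_one_one, deg ζ hζ, mul_one]))
    have on0 : muR T W₂ W₁ 1 - ζ ∈ CF T (FTsupp0 T) :=
      CF_mono (by rw [← FTsupp1_type_gt2 h10.gt2]; exact FTsupp1_sub0 hT) on
    have v1 := dadeL_virt hD ((hP.muR_char 1).virt.sub (irr ζ hζ).virt) on0.2
    have v2 := hν.virt_mem hζ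
    have real : conjFun (tau0 T (muR T W₂ W₁ 1 - ζ) - (fun _ => 1) + ν ζ) =
        tau0 T (muR T W₂ W₁ 1 - ζ) - (fun _ => 1) + ν ζ := by
      have e := hν.eq (sub_mem_zspan (mem_zspan_of_mem hζ) (mem_zspan_of_mem hc))
        (by rw [Pi.sub_apply, deg _ hζ, deg _ hc, sub_self])
      rw [conjFun_add, conjFun_sub, conjFun_one, conjFun_dadeL, conjFun_sub, hP.conj_muR, linv_one,
        cfConjC_Dade_coherent hD hν cs.2 (irr ζ hζ) hζ (seqIndD_conj_ne hKL hn (mFT_odd T) hζ)]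
      simp only [map_sub] at e ⊢
      linear_combination (norm := abel) -e
    obtain ⟨n, hn'⟩ := cfdot_real_vchar_even mFT_odd_top ((v1.sub virt_one).add v2) real g3 g2
    have pr : ∀ k, ⟪tau0 T (muR T W₂ W₁ 1 - ζ), etaG W₁ W₂ 1 k⟫ = if 1 = k then 1 else 0 := fun k => by
      rw [← etaG_swap hW.dprod.cent, proj ζ hζ, hW.symm.ci_row_eta]
    have e1 : ⟪tau0 T (muR T W₂ W₁ 1 - ζ), Γ⟫ = -1 := by
      obtain ⟨b1, b2⟩ := FTtypeP_bridge_on hS h.typeS hj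
      rw [hΓ, bridgeGap, ci_add_right, ci_sub_right, pr, ← hW.eta_one, pr, if_pos rfl, if_neg hj.symm,
        FTtypeP_tau_eq hS h.typeS b1, FTtypeP_tau_eq hT h.typeT on0,
        ci_indFun_of_disjoint on.2 b2.2 (Set.disjoint_left.2 ?_)]
      · ring
      rintro _ ⟨a, ha, y, -, rfl⟩ hx
      have := s14_dvd_order hS h.typeS hx
      rw [orderOf_conj] at this
      exact not_dvd_of_coprime (typeP_coprime h.typeT).symm hp dvd_rfl
        (this.trans (orderOf_dvd_card_of_mem ha.1))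
    rw [g1, mul_zero, zero_add, ci_add_left, ci_sub_left, e1, ci_eq_zero_symm g1, v2.ci_comm g3] at hn'
    rw [norm_sq_of_eq_int (n := 2 * n + 1) (by push_cast; linear_combination hn')]
    exact_mod_cast (one_le_sq_iff_one_le_abs _).2 (Int.one_le_abs (by omega))
  set F := (seqIndD_finite ⁅T, T⁆ T ⁅T, T⁆ MF[T]).toFinset with hF
  have mF : ∀ ξ, ξ ∈ F ↔ ξ ∈ seqIndD ⁅T, T⁆ T ⁅T, T⁆ MF[T] := fun ξ => Set.Finite.mem_toFinset _
  have on : ∀ ξ ∈ F, ∀ μ ∈ F, ⟪ν ξ, ν μ⟫ = if ξ = μ then 1 else 0 := fun ξ h1 μ h2 => by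
    rw [hν.ci_mem ((mF _).1 h1) ((mF _).1 h2), (irr _ ((mF _).1 h1)).ci_eq_ite (irr _ ((mF _).1 h2))]
  have bd := FTtypeP_bridge_bound hS h.typeS hj (X := Γ - ∑ ξ ∈ F, ⟪Γ, ν ξ⟫ • ν ξ)
    (Y := ∑ ξ ∈ F, ⟪Γ, ν ξ⟫ • ν ξ) (sub_add_cancel _ _).symm
    (by rw [ci_sum_right]; exact Finset.sum_eq_zero fun ξ hξ => by
          rw [ci_smul_right, ci_sub_proj_orthonormal F ν on Γ hξ, mul_zero])
    fun i k => by
      rw [ci_sum_left]; exact Finset.sum_eq_zero fun ξ hξ => by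
        rw [ci_smul_left, oη ξ ((mF _).1 hξ), mul_zero]
  rw [nsq_sum_smul_orthonormal F ν on] at bd
  have c1 := (Finset.sum_le_sum fun ξ hξ => odd ξ ((mF _).1 hξ)).trans bd
  have c2 := sum_seqIndD_square hKL hn le_rfl hn hQn hQK
  rw [← hF, Finset.sum_congr rfl (g := fun _ => (Nat.card W₂ : ℝ) ^ 2) fun ξ hξ => by
      rw [(irr _ ((mF _).1 hξ)).nsq, deg _ ((mF _).1 hξ), div_one, Complex.natCast_re],
    hP.relIndex, relIndex_self, (typeP_sdprod_der h.typeT).relIndex, ← Nat.cast_pred (card_pos' _)] at c2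
  rw [Finset.sum_const, nsmul_eq_mul] at c1 c2
  have p0 : (0 : ℝ) < Nat.card W₂ := Nat.cast_pos.2 hp.pos
  have c3 : Nat.card V - 1 = F.card * Nat.card W₂ := by
    have : ((Nat.card V - 1 : ℕ) : ℝ) = F.card * Nat.card W₂ :=
      mul_left_cancel₀ p0.ne' (by linear_combination -c2)
    exact_mod_cast this
  have c4 := FT14_v1p_gt_u1q h hlt
  rw [c3, Nat.mul_div_cancel _ hp.pos] at c4
  rw [mul_one, Nat.cast_le] at c1
  omega

end Cfsg.Agent.PF
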