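import Cfsg.Agent.PF.S14c

set_option autoImplicit false
set_option linter.unusedSectionVars false
set_option linter.unusedVariables false

namespace Cfsg.Agent.PF

open Subgroup Cfsg.Agent.GT Cfsg.Agent.BG Cfsg.Agent.Char

universe u v w

/-! Peterfalvi (14.11)–(14.17). -/

theorem odd_sum_of_inv {A : Type u} [Group A] [Fintype A] (hinv : ∀ a : A, a ≠ 1 → a⁻¹ ≠ a)
    (f : A → ℤ) (h : ∀ a, Even (f a + f a⁻¹)) (h1 : Odd (f 1)) : Odd (∑ a, f a) := by
  classical
  rw [← Finset.add_sum_erase _ _ (Finset.mem_univ 1)]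
  refine h1.add_even ?_
  rw [← ZMod.intCast_eq_zero_iff_even, Int.cast_sum]
  refine Finset.sum_involution (fun a _ => a⁻¹) (fun a _ => ?_) (fun a ha _ => ?_) (fun a ha => ?_)
    (fun a _ => inv_inv a)
  · rw [← Int.cast_add, ZMod.intCast_eq_zero_iff_even]; exact h a
  · exact hinv a (Finset.ne_of_mem_erase ha)
  · simpa using ha

theorem s14_pow_lt_geom {q p : ℕ} (hq : 2 ≤ q) (hp : 2 ≤ p) : q ^ (p - 1) < (q ^ p - 1) / (q - 1) := by
  obtain ⟨p, rfl⟩ : ∃ n, p = n + 2 := ⟨p - 2, by omega⟩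
  obtain ⟨q, rfl⟩ : ∃ n, q = n + 2 := ⟨q - 2, by omega⟩
  rw [Nat.lt_iff_add_one_le, Nat.le_div_iff_mul_le (by omega)]
  have h1 : q + 2 ≤ (q + 2) ^ (p + 1) := Nat.le_self_pow (by omega) _
  simp only [show p + 2 - 1 = p + 1 by omega, show q + 2 - 1 = q + 1 by omega]
  rw [pow_succ (q + 2) (p + 1)]
  generalize (q + 2) ^ (p + 1) = x at *
  apply Nat.le_sub_one_of_lt
  nlinarith

theorem s14_le_pow {q p : ℕ} (hq : 3 ≤ q) (hp : 3 ≤ p) : p ≤ q ^ (p - 2) := by
  obtain ⟨p, rfl⟩ : ∃ n, p = n + 3 := ⟨p - 3, by omega⟩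
  refine le_trans ?_ (Nat.pow_le_pow_left hq _)
  simp only [show p + 3 - 2 = p + 1 by omega]
  induction p with
  | zero => norm_num
  | succ n ih => rw [pow_succ]; omega

theorem s14_sq_le_pow {q p : ℕ} (hq : 3 ≤ q) (hp : 7 ≤ p) : p ^ 2 ≤ q ^ (p - 3) := by
  obtain ⟨p, rfl⟩ : ∃ n, p = n + 7 := ⟨p - 7, by omega⟩
  refine le_trans ?_ (Nat.pow_le_pow_left hq _)
  simp only [show p + 7 - 3 = p + 4 by omega]
  induction p with
  | zero => norm_num
  | succ n ih => rw [show n + 1 + 4 = n + 4 + 1 by omega, pow_succ 3]; nlinarith [ih (by omega)]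

theorem s14_geom_mod {p q : ℕ} (hp : 2 ≤ p) (hq : 1 ≤ q) : p ∣ (p ^ q - 1) / (p - 1) - 1 := by
  rw [← Nat.geomSum_eq hp, show q = q - 1 + 1 by omega, Finset.sum_range_succ', pow_zero,
    Nat.add_sub_cancel]
  exact Finset.dvd_sum fun i _ => dvd_pow_self p (by omega)

variable {G : Type u} [Group G] [Fintype G] [MFT G] {S T U V W₁ W₂ L M : Subgroup G}
  {τL : (L → ℂ) →ₗ[ℂ] (G → ℂ)} {τM : (M → ℂ) →ₗ[ℂ] (G → ℂ)} {φ : L → ℂ} {ψ : M → ℂ} {g : G}

theorem s14_index_cases (hST : TypePPair S T W₁ W₂) (h : IsTypePWith S W₁ U W₂)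
    (ht : FTtype S = 2) (hL : IsCoatom L) (hN : N[U] ≤ L) :
    ((MF[L]).relIndex L = Nat.card W₁ ∧ Sdprod MF[L] W₁ L) ∨
      (MF[L]).relIndex L = Nat.card W₂ * Nat.card W₁ := by
  rcases (FTtypeII_support_facts hST h ht hL hN).2.2 with h1 | ⟨y, -, h1, h2⟩
  · exact Or.inl ⟨h1.relIndex, h1⟩
  · right
    rw [h2.relIndex, ← h1.card_mul, card_conj, mul_comm]

omit [MFT G] in
theorem s14_sum_odd (hW : CycTI (wG W₁ W₂)) {ε : Lin W₁ → Lin W₂ → ℂ}
    (hε : ∀ i j, ε i j = 1 ∨ ε i j = -1) (h₁ : (orderOf g).Coprime (Nat.card W₁))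
    (h₂ : (orderOf g).Coprime (Nat.card W₂)) :
    1 ≤ ‖(∑ i, ∑ j, ε i j • etaG W₁ W₂ i j) g‖ ^ 2 := by
  classical
  have hint : ∀ i j, ∃ n : ℤ, etaG W₁ W₂ i j g = n := fun i j => by
    refine hW.eta_int i j (Nat.Coprime.mul_right ?_ ?_)
    · exact h₁.coprime_dvd_right (hW.card_lin₁ ▸ orderOf_dvd_natCard i)
    · exact h₂.coprime_dvd_right (hW.card_lin₂ ▸ orderOf_dvd_natCard j)
  choose n hn using hint
  have hε' : ∀ i j, ∃ k : ℤ, Odd k ∧ ε i j = k := fun i j => by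
    rcases hε i j with h | h
    · exact ⟨1, odd_one, by simp [h]⟩
    · exact ⟨-1, odd_neg_one, by simp [h]⟩
  choose k hk hk' using hε'
  have hinv : ∀ i j, n i⁻¹ j⁻¹ = n i j := fun i j => by
    have := congrFun (hW.conj_eta i j) g
    rw [conjFun_apply, show eta (wG W₁ W₂) i j g = _ from hn i j,
      show eta (wG W₁ W₂) i⁻¹ j⁻¹ g = _ from hn i⁻¹ j⁻¹, map_intCast] at this
    exact_mod_cast this.symm
  have n11 : n 1 1 = 1 := by
    have := hn 1 1
    rw [etaG, hW.eta_one] at this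
    exact_mod_cast (show ((n 1 1 : ℤ) : ℂ) = 1 from this.symm)
  have hodd := odd_sum_of_inv (A := Lin W₁ × Lin W₂) (fun a ha h => by
      by_cases h1 : a.1 = 1
      · exact hW.inv_ne₂ (fun h2 => ha (Prod.ext h1 h2)) (congrArg Prod.snd h)
      · exact hW.inv_ne₁ h1 (congrArg Prod.fst h))
    (fun a => k a.1 a.2 * n a.1 a.2) (fun a => by
      simp only [Prod.fst_inv, Prod.snd_inv, hinv, ← add_mul]
      exact ((hk _ _).add_odd (hk _ _)).mul_right _) (by simpa [n11] using hk 1 1)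
  have he : (∑ i, ∑ j, ε i j • etaG W₁ W₂ i j) g =
      ((∑ a : Lin W₁ × Lin W₂, k a.1 a.2 * n a.1 a.2 : ℤ) : ℂ) := by
    simp only [Finset.sum_apply, Pi.smul_apply, smul_eq_mul, hn, hk', Fintype.sum_prod_type]
    push_cast
    rfl
  rw [norm_sq_of_eq_int he]
  exact_mod_cast (one_le_sq_iff_one_le_abs _).2 (Int.one_le_abs fun h => by simp [h] at hodd)

omit [MFT G] in
theorem nsq_rho_le_of_one_le {A X : Set G} {R : G → Subgroup G} (hD : DadeHypothesis A L R)
    {χ : G → ℂ} (hχ : IsClassFunction G χ) (h1 : nsq χ = 1)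
    (h : ∀ g, g ∉ dadeSupp A R → g ∉ X → 1 ≤ ‖χ g‖ ^ 2) :
    nsq (dadeRho A L R χ) ≤ (Nat.card A : ℝ) / Nat.card L + (Nat.card X : ℝ) / Nat.card G := by
  classical
  refine (hD.nsq_rho_le_sum hχ).trans ?_
  have e3 : ∑ g : G, ‖χ g‖ ^ 2 = Nat.card G := by
    have : (Nat.card G : ℝ)⁻¹ * ∑ g : G, ‖χ g‖ ^ 2 = 1 := h1
    have hG := card_pos_real G
    field_simp at this
    exact this
  have e4 : ∑ g : G, (1 : ℝ) = Nat.card G := by simp
  rw [← card_dadeSupp hD, ← add_div, div_eq_inv_mul,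
    show (Nat.card (dadeSupp A R) : ℝ) = _ from natCard_subtype_eq_sum_ite (· ∈ dadeSupp A R) ℝ,
    show (Nat.card X : ℝ) = _ from natCard_subtype_eq_sum_ite (· ∈ X) ℝ]
  refine mul_le_mul_of_nonneg_left ?_ (by positivity)
  have := Finset.sum_le_sum (s := Finset.univ)
    (f := fun g => (if g ∈ dadeSupp A R then ‖χ g‖ ^ 2 else 0) + 1)
    (g := fun g => ‖χ g‖ ^ 2 + ((if g ∈ dadeSupp A R then 1 else 0) + if g ∈ X then 1 else 0))
    fun g _ => by
      have := sq_nonneg ‖χ g‖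
      split_ifs with h2 h3 h3
      · linarith
      · linarith
      · linarith
      · have := h g h2 h3
        linarith
  simp only [Finset.sum_add_distrib] at this
  linarith

omit [MFT G] in
theorem card_classSupp_cycTI (hW : CycTI (wG W₁ W₂)) :
    (Nat.card (classSupp (cycTI W₁ W₂) ⊤) : ℝ) / Nat.card G =
      ((Nat.card W₁ : ℝ) - 1) * ((Nat.card W₂ : ℝ) - 1) / (Nat.card W₁ * Nat.card W₂) := by
  have := sumSq_classSupp hW.normedTI (isClassFunction_const (G := G) 1)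
  rw [sumSq_one, sumSq_one, card_cycTI hW.dprod, ← hW.dprod.card_mul] at this
  have h1 := card_pos_real G
  have h2 := card_pos_real W₁
  have h3 := card_pos_real W₂
  push_cast [Nat.cast_pred Nat.card_pos] at this
  field_simp
  linarith

theorem s14_arith11 {p q k u v : ℝ} (hq : 3 ≤ q) (hp : q < p) (hk : 2 * p * v < k)
    (hu : 2 * q ^ 2 < u * q) (hv : p * q ≤ v)
    (h : 1 - p * q / k ≤ (k - 1) / (k * (p * q)) + ((q - 1) * (p - 1) / (q * p) +
      ((u * q)⁻¹ + (v * p)⁻¹))) : False := by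
  have hq0 : 0 < q := by linarith
  have hp0 : 0 < p := by linarith
  have hv0 : 0 < v := by nlinarith
  have hk0 : 0 < k := by nlinarith
  have h1 : p * q / k ≤ 1 / (2 * p) := by
    rw [div_le_div_iff₀ hk0 (by positivity)]; nlinarith
  have h2 : (k - 1) / (k * (p * q)) ≤ 1 / q ^ 2 := by
    rw [div_le_div_iff₀ (by positivity) (by positivity)]
    have : q ^ 2 ≤ p * q := by nlinarith
    nlinarith
  have h3 : (q - 1) * (p - 1) / (q * p) = 1 - 1 / p - 1 / q + 1 / (q * p) := by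
    field_simp; ring
  have h4 : 1 / (q * p) ≤ 1 / q ^ 2 := one_div_le_one_div_of_le (by positivity) (by nlinarith)
  have h5 : (u * q)⁻¹ ≤ 1 / (2 * q ^ 2) := by
    rw [one_div]; exact inv_anti₀ (by positivity) hu.le
  have h6 : (v * p)⁻¹ ≤ 1 / (2 * q ^ 2) := by
    rw [one_div]
    refine inv_anti₀ (by positivity) ?_
    have : p * q * p ≤ v * p := by gcongr
    nlinarith [mul_pos hp0 hq0]
  have h7 : 1 / (2 * q ^ 2) = 1 / q ^ 2 / 2 := by field_simp
  have h8 : 3 * (1 / q ^ 2) ≤ 1 / q := by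
    rw [mul_one_div, div_le_div_iff₀ (by positivity) hq0]; nlinarith
  have h9 : 1 / (2 * p) < 1 / p := one_div_lt_one_div_of_lt hp0 (by linarith)
  linarith

theorem Hyp13.typeS2 (h : Hyp13 S T U V W₁ W₂) (hlt : Nat.card W₁ < Nat.card W₂) : FTtype S = 2 :=
  (FTtypeP_type23 h.pair.maxS h.typeS).2.1 hlt

theorem Hyp13.pq_le_v (h : Hyp13 S T U V W₁ W₂) (hlt : Nat.card W₁ < Nat.card W₂) :
    Nat.card W₂ * Nat.card W₁ < Nat.card V := by
  have hq := FTtypeP_q_gt2 h.typeS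
  have h1 := s14_pow_lt_geom (q := Nat.card W₁) (p := Nat.card W₂) (by omega) (by omega)
  have h2 := s14_le_pow (q := Nat.card W₁) (p := Nat.card W₂) hq (by omega)
  rw [← (FT14_galT h hlt).2, show Nat.card W₂ - 1 = Nat.card W₂ - 2 + 1 by omega, pow_succ] at h1
  exact lt_of_le_of_lt (Nat.mul_le_mul_right _ h2) h1

theorem frobKer_relIndex_dvd {K : Subgroup G} (h : FrobKer L K) : K.relIndex L ∣ Nat.card K - 1 := by
  obtain ⟨R, hR⟩ := h
  rw [hR.sdprod.relIndex]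
  exact frob_card_dvd_pred hR

theorem odd_relIndex (H K : Subgroup G) : Odd (H.relIndex K) :=
  (mFT_odd K).of_dvd_nat (relIndex_dvd_card H K)

/-- (14.11) -/
theorem FT14_defK' (h : Hyp13 S T U V W₁ W₂) (hlt : Nat.card W₁ < Nat.card W₂) (hM : IsCoatom M)
    (hN : N[V] ≤ M) : MF[M] = V ∧ (MF[M]).relIndex M = Nat.card W₂ * Nat.card W₁ := by
  have hT := FTtypeP_min_typeII h hlt
  have hS := h.typeS2 hlt
  have hW := h.pair.cycTI
  obtain ⟨hF, hVK, -⟩ := FTtypeII_support_facts h.pair.symm h.typeT hT hM hN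
  have hcases := s14_index_cases h.pair.symm h.typeT hT hM hN
  have tM := FT_Frobenius_type1 hM hF
  suffices hK : MF[M] = V by
    refine ⟨hK, ?_⟩
    rcases hcases with ⟨-, h1⟩ | h1
    · refine absurd (hN.trans ?_) ((typeP_norm_compl h.pair.maxT h.typeT (by omega)).not.2
        (not_not.2 hT))
      have h9 := hyp9_of_typeP h.pair.maxT h.typeT
      rw [← h1.sup_eq, hK]
      exact h9.UW_le
    · rw [h1, mul_comm]
  by_contra hne
  have hx := one_lt_relIndex (K := MF[M]) (H := V) fun h => hne (le_antisymm h hVK)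
  have hk := card_mul_relIndex hVK
  have hed := frobKer_relIndex_dvd hF
  have hpe : Nat.card W₂ ∣ (MF[M]).relIndex M ∧
      (MF[M]).relIndex M ≤ Nat.card W₁ * Nat.card W₂ := by
    rcases hcases with ⟨h1, -⟩ | h1 <;> rw [h1]
    · exact ⟨dvd_rfl, Nat.le_mul_of_pos_left _ Nat.card_pos⟩
    · exact ⟨dvd_mul_left _ _, le_rfl⟩
  have hpv := FTtypeP_q_dvd h.pair.maxT h.typeT
  have hx2 := two_mul_add_one_le (mFT_odd W₂) (odd_relIndex V MF[M]) hx
    (dvd_pred_of_mul Nat.card_pos hpv (by rw [hk]; exact hpe.1.trans hed))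
  have hv0 : 0 < Nat.card V := Nat.card_pos
  have h₂ : (Nat.card V - 1) / Nat.card W₂ < (Nat.card MF[M] - 1) / (MF[M]).relIndex M := by
    obtain ⟨a, ha⟩ := hpv
    obtain ⟨b, hb⟩ := hed
    rw [ha, hb, Nat.mul_div_cancel_left _ Nat.card_pos, Nat.mul_div_cancel_left _ (relIndex_pos _ _)]
    have e1 : Nat.card V = Nat.card W₂ * a + 1 := by omega
    have e2 : Nat.card V * V.relIndex MF[M] = (MF[M]).relIndex M * b + 1 := by
      have : 0 < Nat.card MF[M] := Nat.card_pos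
      omega
    by_contra hab
    have e3 : (MF[M]).relIndex M * b ≤ Nat.card W₁ * Nat.card W₂ * a :=
      Nat.mul_le_mul hpe.2 (not_lt.1 hab)
    have e4 : (Nat.card W₂ * a + 1) * (2 * Nat.card W₂ + 1) ≤ Nat.card V * V.relIndex MF[M] := by
      rw [← e1]; exact Nat.mul_le_mul_left _ hx2
    have e5 : Nat.card W₁ * Nat.card W₂ * a ≤ Nat.card W₂ * Nat.card W₂ * a := by gcongr
    nlinarith
  obtain ⟨τM, ψ, hψ⟩ := exists_type1Data hM tM
  obtain ⟨he, ε, χ, hε, hχ, hβ⟩ := FTtype2_support_coherence h.symm hT hψ hN h₂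
    ((FT14_v1p_gt_u1q h hlt).trans h₂)
  have hD := FT_DadeF_hyp hM
  have hs := hψ.sirr hψ.mem
  have hχn : ∀ g, ‖χ g‖ = ‖τM ψ g‖ := fun g => by
    rcases hχ with rfl | rfl
    · rfl
    · rw [← cfConjC_Dade_coherent hD hψ.coh (fun _ h => conj_seqIndD h) (hψ.irr hψ.mem) hψ.mem
        (seqIndD_conj_ne (fittingHallOf_le M) (self_le_norm_fittingHallOf M) (mFT_odd M) hψ.mem),
        Pi.neg_apply, norm_neg, conjFun_apply, Complex.norm_conj]
  have ub := nsq_rho_le_of_one_le (X := classSupp (cycTI W₁ W₂) ⊤ ∪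
      (classSupp (sharp MF[S]) ⊤ ∪ classSupp (sharp MF[T]) ⊤)) hD hs.isClassFunction hs.nsq
    fun g hg hX => by
      simp only [Set.mem_union, not_or] at hX
      have h0 : betaT M ψ g = 0 := dade_apply_of_not_mem _ hg
      rw [hβ, Pi.sub_apply, sub_eq_zero] at h0
      rw [← hχn, ← h0]
      exact s14_sum_odd hW.symm hε
        (coprime_typeP_Galois_core h.pair.maxS h.typeS (FT14_galS h hlt) hX.1 hX.2.1)
        (coprime_typeP_Galois_core h.pair.maxT h.typeT (FT14_galT h hlt).1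
          (cycTI_comm W₁ W₂ ▸ hX.1) hX.2.2)
  have hX : (Nat.card ↥(classSupp (cycTI W₁ W₂) ⊤ ∪
      (classSupp (sharp MF[S]) ⊤ ∪ classSupp (sharp MF[T]) ⊤)) : ℝ) ≤
      Nat.card (classSupp (cycTI W₁ W₂) ⊤) + (Nat.card (classSupp (sharp MF[S]) ⊤) +
        Nat.card (classSupp (sharp MF[T]) ⊤)) := by
    simp only [Nat.card_coe_set_eq]
    exact_mod_cast (Set.ncard_union_le _ _).trans (Nat.add_le_add_left (Set.ncard_union_le _ _) _)
  have hX' := div_le_div_of_nonneg_right hX (card_pos_real G).le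
  rw [add_div, add_div, card_classSupp_cycTI hW] at hX'
  have c1 := FTtype2_cc_core_ler h.pair.maxS h.typeS hS
  have c2 := FTtype2_cc_core_ler h.pair.maxT h.typeT hT
  obtain ⟨-, ⟨Γ, -, -, -, lb⟩, -⟩ := Dade_Ind1_sub_lin hD hψ.coh hψ.nontriv (hψ.irr hψ.mem) hψ.mem
    hψ.deg rfl
  obtain ⟨R, hR⟩ := hF
  have lb := (lb (two_mul_add_one_le (odd_relIndex _ _) (mFT_odd _)
    ((one_lt_card_iff_ne_bot _).2 hR.ker_ne_bot) hed)).1
  rw [card_sharp_real, ← card_mul_relIndex (fittingHallOf_le M), he] at ub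
  rw [he] at lb
  push_cast at ub lb
  refine s14_arith11 (p := Nat.card W₂) (q := Nat.card W₁) (k := Nat.card MF[M])
    (u := Nat.card U) (v := Nat.card V) (by exact_mod_cast FTtypeP_q_gt2 h.typeS)
    (by exact_mod_cast hlt) ?_ ?_ (by exact_mod_cast (h.pq_le_v hlt).le) ?_
  · have : 2 * Nat.card W₂ * Nat.card V < Nat.card MF[M] := by rw [← hk]; nlinarith
    exact_mod_cast this
  · exact_mod_cast FTtypeP_complV_ltr h.pair.maxS h.typeS Nat.card_pos le_rfl
  · rw [mul_comm (Nat.card W₂ : ℝ)]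
    linarith

theorem s14_arith14 {p q v : ℕ} (hp : p.Prime) (hq : q.Prime) (hq2 : 2 < q) (hlt : q < p)
    (hv : q ^ (p - 1) < v) (h : ((v : ℝ) - 1) / (p * q : ℕ) ≤ ((p * q : ℕ) : ℝ) - 1) :
    q = 3 ∧ p = 5 := by
  have h0 : (0 : ℝ) < (p * q : ℕ) := by exact_mod_cast Nat.mul_pos hp.pos hq.pos
  rw [div_le_iff₀ h0] at h
  have h1 : v < (p * q) ^ 2 := by
    have : (1 : ℝ) < (p * q : ℕ) := by exact_mod_cast (show 1 < p * q by nlinarith)
    exact_mod_cast (show (v : ℝ) < ((p * q : ℕ) : ℝ) ^ 2 by nlinarith)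
  have h7 : p < 7 := by
    by_contra h7
    have h2 := s14_sq_le_pow (q := q) hq2 (not_lt.1 h7)
    rw [show p - 1 = p - 3 + 2 by omega, pow_add] at hv
    rw [mul_pow] at h1
    nlinarith [Nat.mul_le_mul_right (q ^ 2) h2]
  obtain rfl : p = 5 := by
    rcases (show p = 4 ∨ p = 5 ∨ p = 6 by omega) with rfl | rfl | rfl
    · exact absurd hp (by norm_num)
    · rfl
    · exact absurd hp (by norm_num)
  rcases (show q = 3 ∨ q = 4 by omega) with rfl | rfl
  · exact ⟨rfl, rfl⟩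
  · exact absurd hq (by norm_num)

theorem s14_arith15 {p q u x : ℕ} (hp : p.Prime) (hq : q.Prime) (hq2 : 2 < q) (hlt : q < p)
    (hpq : p % q = 1) (hu : u = (p ^ q - 1) / (p - 1) / q) (hqu : q ∣ u - 1) (hu0 : 0 < u)
    (hx : Odd x) (hd : p * q ∣ u * x - 1) (h : u * x < (p * q) ^ 2) : False := by
  have hp2 := hp.two_le
  have hg : q ∣ (p ^ q - 1) / (p - 1) := by
    rw [← Nat.geomSum_eq hp2, Nat.dvd_iff_mod_eq_zero, Finset.sum_nat_mod]
    simp [Nat.pow_mod, hpq, Nat.mod_eq_of_lt hq.one_lt]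
  have hg1 := s14_geom_mod hp2 hq.pos
  have hg2 := s14_pow_lt_geom hp2 hq.two_le
  have e : (p ^ q - 1) / (p - 1) = u * q := by rw [hu, Nat.div_mul_cancel hg]
  rw [e] at hg1 hg2
  have hxq := dvd_pred_of_mul hu0 hqu ((dvd_mul_left q p).trans hd)
  have hx0 := hx.pos
  have hux : 0 < u * x := Nat.mul_pos hu0 hx0
  have huq : 0 < u * q := Nat.mul_pos hu0 hq.pos
  -- `x ≡ q` modulo `p`
  have h1 : (p : ℤ) ∣ (x : ℤ) - q := by
    have a1 : (p : ℤ) ∣ (u : ℤ) * x - 1 := by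
      have := Int.natCast_dvd_natCast.2 ((dvd_mul_right p q).trans hd)
      rwa [Nat.cast_pred hux, Nat.cast_mul] at this
    have a2 : (p : ℤ) ∣ (u : ℤ) * q - 1 := by
      have := Int.natCast_dvd_natCast.2 hg1
      rwa [Nat.cast_pred huq, Nat.cast_mul] at this
    have : (x : ℤ) - q = q * (u * x - 1) - x * (u * q - 1) := by ring
    rw [this]
    exact (a1.mul_left _).sub (a2.mul_left _)
  obtain ⟨n, hn⟩ := h1
  have h2 : (q : ℤ) ∣ n - 1 := by
    have a1 : (q : ℤ) ∣ (x : ℤ) - 1 := by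
      have := Int.natCast_dvd_natCast.2 hxq
      rwa [Nat.cast_pred hx0] at this
    have a2 : (q : ℤ) ∣ (p : ℤ) - 1 := by
      have := Int.natCast_dvd_natCast.2 ((Nat.modEq_iff_dvd' hp.pos).1
        (show 1 ≡ p [MOD q] by rw [Nat.ModEq, hpq, Nat.mod_eq_of_lt hq.one_lt]))
      rwa [Nat.cast_pred hp.pos] at this
    have : n - 1 = (x - 1) - q - n * (p - 1) := by linear_combination -hn
    rw [this]
    exact (a1.sub dvd_rfl).sub (a2.mul_left _)
  obtain ⟨m, hm⟩ := h2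
  have hn0 : 0 ≤ n := by
    by_contra hn0
    have : (p : ℤ) * n ≤ p * (-1) := by gcongr; omega
    omega
  have hm0 : 1 ≤ m := by
    by_contra hm0
    have : (q : ℤ) * m ≤ q * 0 := by gcongr; omega
    have hn1 : n = 1 := by
      rcases (show m = 0 ∨ m ≤ -1 by omega) with h | h
      · rw [h] at hm; omega
      · have : (q : ℤ) * m ≤ q * (-1) := by gcongr
        omega
    obtain ⟨a, ha⟩ := hx
    obtain ⟨b, hb⟩ := hp.odd_of_ne_two (by omega)
    obtain ⟨c, hc⟩ := hq.odd_of_ne_two (by omega)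
    rw [hn1] at hn
    omega
  have hxl : q + p * (q + 1) ≤ x := by
    have : (q : ℤ) * 1 ≤ q * m := by gcongr
    have : (p : ℤ) * (q + 1) ≤ p * n := by gcongr; omega
    exact_mod_cast (show (q : ℤ) + p * (q + 1) ≤ x by omega)
  have h3 : u < p * q := by
    by_contra h3
    have : p * q * (p * q) ≤ u * x := Nat.mul_le_mul (not_lt.1 h3) (by nlinarith)
    nlinarith
  have h4 : q = 3 := by
    by_contra h4
    have h5 : p ^ 3 ≤ p ^ (q - 1) := Nat.pow_le_pow_right hp.pos (by omega)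
    have h6 : u * q < p * q * q := Nat.mul_lt_mul_of_pos_right h3 hq.pos
    have h7 : p * q * q ≤ p * p * p := by gcongr
    nlinarith
  subst h4
  have h5 : p < 9 := by
    norm_num at hg2
    nlinarith
  rcases (show p = 4 ∨ p = 7 by omega) with rfl | rfl
  · exact absurd hp (by norm_num)
  · obtain rfl : u = 19 := hu
    omega

/-- (14.12)–(14.17) -/
theorem FTtype2_exclusion' (h : Hyp13 S T U V W₁ W₂) (hlt : Nat.card W₁ < Nat.card W₂) : False := by
  have hT := FTtypeP_min_typeII h hlt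
  have hS := h.typeS2 hlt
  have hW := h.pair.cycTI
  obtain ⟨pq, pp⟩ := FTtypeP_pair_primes h.pair
  have hq2 := FTtypeP_q_gt2 h.typeS
  have h9S := hyp9_of_typeP h.pair.maxS h.typeS
  have h9T := hyp9_of_typeP h.pair.maxT h.typeT
  obtain ⟨L, hL, hNL⟩ := mmax_exists (mFT_norm_proper h9S.U_ne
    (ne_top_of_le_ne_top h.pair.maxS.ne_top h9S.U_le))
  obtain ⟨M, hM, hNM⟩ := mmax_exists (mFT_norm_proper h9T.U_ne
    (ne_top_of_le_ne_top h.pair.maxT.ne_top h9T.U_le))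
  obtain ⟨hF, hUH, -⟩ := FTtypeII_support_facts h.pair h.typeS hS hL hNL
  obtain ⟨hFM, -, -⟩ := FTtypeII_support_facts h.pair.symm h.typeT hT hM hNM
  obtain ⟨τL, φ, hφ⟩ := exists_type1Data hL (FT_Frobenius_type1 hL hF)
  obtain ⟨τM, ψ, hψ⟩ := exists_type1Data hM (FT_Frobenius_type1 hM hFM)
  obtain ⟨hK, eM⟩ := FT14_defK' h hlt hM hNM
  have eL : (MF[L]).relIndex L = Nat.card W₂ * Nat.card W₁ := by
    obtain ⟨y, -, h1, h2⟩ := FT14_defL h hlt hL hNL
    rw [h2.relIndex, ← h1.card_mul, card_conj, mul_comm]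
  have hnc := FT14_not_char h hlt hL hNL
  -- (14.12)
  have hc : ¬ Conjg M L := by
    rintro ⟨x, rfl⟩
    have h1 := (typeP_Galois_P h9T (FT14_galT h hlt).1).2.1
    rw [(Ptype_Fcompl_kernel_trivial h.pair.maxT h.typeT).1] at h1
    obtain ⟨e⟩ := nonempty_equiv_quo_of_inf_eq_bot (H := V) (K := ⊥) le_norm_of_normal (inf_bot_eq _)
    have h2 : IsCyclic MF[cj[x] M] := by
      rw [← conj_fittingHallOf, isCyclic_conj_iff, hK]
      exact isCyclic_of_equiv e.symm h1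
    exact hnc (PG.le_norm_of_isCyclic h2 hUH (self_le_norm_fittingHallOf _))
  have hx := card_mul_relIndex hUH
  have hed := frobKer_relIndex_dvd hF
  rw [eL, ← hx] at hed
  -- (14.14)
  have h14 : Nat.card U * U.relIndex MF[L] < (Nat.card W₂ * Nat.card W₁) ^ 2 ∨
      (⟪betaT L φ, τM ψ⟫ ≠ 0 ∧ Nat.card W₁ = 3 ∧ Nat.card W₂ = 5) := by
    rcases Dade_sub_lin_nonorthogonal mFT_odd_top (FT_DadeF_hyp hM) (FT_DadeF_hyp hL)
      (disjoint_Dade_FTtype1 hL hM hφ.type1 hψ.type1 hc) hψ.coh hφ.coh (hψ.irr hψ.mem) hψ.mem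
      hψ.deg (hφ.irr hφ.mem) hφ.mem hφ.deg with h1 | h1
    · left
      have h2 := coherent_FTtype1_core_ltr hψ hφ (fun h => hc h.symm) h1
      have h0 : (1 : ℝ) < (Nat.card W₂ * Nat.card W₁ : ℕ) := by
        exact_mod_cast (show 1 < Nat.card W₂ * Nat.card W₁ by nlinarith)
      rw [eL, eM, div_le_iff₀ (by linarith), ← hx] at h2
      exact_mod_cast (show ((Nat.card U * U.relIndex MF[L] : ℕ) : ℝ) <
        ((Nat.card W₂ * Nat.card W₁ : ℕ) : ℝ) ^ 2 by nlinarith)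
    · right
      have h2 := coherent_FTtype1_core_ltr hφ hψ hc h1
      rw [eL, eM, hK] at h2
      refine ⟨h1, s14_arith14 pp pq hq2 hlt ?_ h2⟩
      rw [(FT14_galT h hlt).2]
      exact s14_pow_lt_geom pq.two_le pp.two_le
  have hqu := FTtypeP_q_dvd h.pair.maxS h.typeS
  -- (14.15)
  have hu : Nat.card U = (Nat.card W₂ ^ Nat.card W₁ - 1) / (Nat.card W₂ - 1) := by
    have h1 := card_FTtypeP_Galois_compl h.pair.maxS h.typeS (FT14_galS h hlt)
    split_ifs at h1 with h2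
    · rcases h14 with h3 | ⟨-, h3, h4⟩
      · exact (s14_arith15 pp pq hq2 hlt h2 h1 hqu Nat.card_pos (odd_relIndex _ _) hed h3).elim
      · rw [h3, h4] at h2; norm_num at h2
    · exact h1
  -- (14.16)
  have hH : MF[L] ≤ U := by
    by_contra hH
    have h1 := two_mul_add_one_le ((mFT_odd W₂).mul (mFT_odd W₁)) (odd_relIndex U MF[L])
      (one_lt_relIndex hH) (dvd_pred_of_mul Nat.card_pos
        (hW.coprime.symm.mul_dvd_of_dvd_of_dvd (hu ▸ s14_geom_mod pp.two_le pq.pos) hqu) hed)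
    rcases h14 with h3 | ⟨h3, h4, h5⟩
    · have h4 := s14_pow_lt_geom pp.two_le pq.two_le
      rw [← hu] at h4
      have h5 : Nat.card W₂ ^ 2 ≤ Nat.card W₂ ^ (Nat.card W₁ - 1) :=
        Nat.pow_le_pow_right pp.pos (by omega)
      have h6 : Nat.card W₂ * Nat.card W₁ ≤ Nat.card U := by nlinarith
      nlinarith [Nat.mul_le_mul h6 h1]
    · have hv := (FT14_galT h hlt).2
      rw [h4, h5] at hu hv h1
      replace hu : Nat.card U = 31 := hu
      replace hv : Nat.card V = 121 := hv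
      have h6 : 64 ≤ (Nat.card MF[L] - 1) / (MF[L]).relIndex L := by
        rw [eL, h4, h5, ← hx, hu]; omega
      obtain ⟨-, ε, χ, -, hχ, hβ⟩ := FTtype2_support_coherence h hS hφ hNL
        (by rw [hu, h4]; omega) (by rw [hv, h5]; omega)
      obtain ⟨j₀, hj₀⟩ := exists_lin_ne_one₂ h.typeS
      have b2 := (FTtypeI_bridge_facts h.pair.maxS h.typeS hM hψ.type1 hψ.coh hψ.mem hψ.deg
        hj₀).2.1 ψ hψ.mem
      have b3 := coherent_FTtype1_ortho hφ hψ hc ψ hψ.mem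
      refine h3 (ci_eq_zero_symm ?_)
      rw [hβ, ci_sub_right, ci_sum_right, Finset.sum_eq_zero fun i _ => by
        rw [ci_sum_right]
        exact Finset.sum_eq_zero fun j _ => by rw [ci_smul_right, b2, mul_zero]]
      rcases hχ with rfl | rfl
      · rw [b3 _ hφ.mem, sub_zero]
      · rw [ci_neg_right, b3 _ (conj_seqIndD hφ.mem), neg_zero, sub_zero]
  exact hnc (le_antisymm hH hUH ▸ self_le_norm_fittingHallOf L)

omit [Fintype G] [MFT G] in
/-- there is no minimal simple group of odd order -/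
theorem no_minSimple_odd_group' {G : Type u} [Group G] [Finite G] (hG : IsMinSimpleOddOrder G) :
    False := by
  haveI : MFT G := ⟨hG⟩
  haveI := Fintype.ofFinite G
  rcases (FTtypeP_pair_cases (G := G)) with h | ⟨S, T, W₁, W₂, h⟩
  · exact not_all_FTtype1 h
  obtain ⟨U, hU⟩ := h.typeS
  obtain ⟨V, hV⟩ := h.typeT
  have H : Hyp13 S T U V W₁ W₂ := ⟨h, hU, hV⟩
  rcases lt_trichotomy (Nat.card W₁) (Nat.card W₂) with hlt | he | hlt
  · exact FTtype2_exclusion' H hlt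
  · exact h.cycTI.card_ne he
  · exact FTtype2_exclusion' H.symm hlt

end Cfsg.Agent.PF
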